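import Mathlib
import Cfsg.Prelude.Def_OddOrderLocal
import Cfsg.Agent.Lib.helper1.Coprime
import Cfsg.Agent.Lib.helper28.Fitting
import Cfsg.Agent.Lib.helper65.Fitting
import Cfsg.Agent.Lib.helper29.Trans3
import Cfsg.Agent.Lib.helper31.BenderInv4
import Cfsg.Agent.Lib.helper71.BGTenB
import Cfsg.Agent.Lib.helper56.FlavLocA

/-!
# The `σ(M)'`-part of `F(M)` for a maximal subgroup of a minimal simple group of odd order

Bender–Glauberman, Corollary 12.12 flavour: the largest normal `σ(M)'`-subgroup of `F(M)` is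
cyclic, its prime divisors lie in `τ₂(M)`, and `F(M) = F(M_σ) · O_{σ(M)'}(F(M))`.  The two inputs
from the main line (B–G 10.2(a) and 12.5(b)) are explicit hypotheses here.
-/

set_option autoImplicit false

namespace Cfsg.Agent.Lib.helper80.BGFit

open Cfsg

variable {G : Type*} [Group G]

theorem isPGroup_piCoreOf_single [Finite G] {p : ℕ} (hp : p.Prime) (X : Subgroup G) :
    IsPGroup p ↥(piCoreOf {p} X) := by
  unfold piCoreOf
  exact (Cfsg.Agent.Lib.helper65.piCore_singleton_isPGroup (G := ↥X) hp).map X.subtype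

theorem fittingOf_le (M : Subgroup G) : fittingOf M ≤ M := by
  unfold fittingOf; exact Subgroup.map_subtype_le _

theorem le_normalizer_fittingOf (M : Subgroup G) :
    M ≤ Subgroup.normalizer ((fittingOf M : Subgroup G) : Set G) := by
  have h1 := Cfsg.Agent.Lib.helper28.fittingSubgroup_characteristic ↥M
  have h2 := Cfsg.Agent.Lib.helper1.normalizer_le_normalizer_map_of_characteristic M
    (fittingSubgroup ↥M)
  exact Subgroup.le_normalizer.trans h2

theorem fittingOf_isNilpotent [Finite G] (M : Subgroup G) : Group.IsNilpotent ↥(fittingOf M) := by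
  have h1 := Cfsg.Agent.Lib.helper28.fittingSubgroup_isNilpotent ↥M
  unfold fittingOf
  exact Group.nilpotent_of_mulEquiv
    (Subgroup.equivMapOfInjective (fittingSubgroup ↥M) M.subtype M.subtype_injective)

/-- A nontrivial subgroup of a maximal subgroup `M` of a simple group that is normal in `M` has
normalizer `M`. -/
theorem normalizer_le_of_coatom (hG : IsMinSimpleOddOrder G) {M : Subgroup G} (hM : IsCoatom M)
    {Ω : Subgroup G} (hΩ : Ω ≠ ⊥) (hΩM : Ω ≤ M)
    (hMΩ : M ≤ Subgroup.normalizer (Ω : Set G)) :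
    Subgroup.normalizer (Ω : Set G) ≤ M := by
  have hsimple : IsSimpleGroup G := hG.2.1
  by_contra hnot
  have hlt : M < Subgroup.normalizer (Ω : Set G) :=
    lt_of_le_of_ne hMΩ (fun h => hnot (by rw [← h]))
  have htop : Subgroup.normalizer (Ω : Set G) = ⊤ := hM.2 _ hlt
  have hnormal : Ω.Normal := Subgroup.normalizer_eq_top_iff.mp htop
  rcases hnormal.eq_bot_or_eq_top with h | h
  · exact hΩ h
  · exact hM.1 (top_le_iff.mp (h ▸ hΩM))

theorem two_not_dvd_card (hG : IsMinSimpleOddOrder G) : ¬ 2 ∣ Nat.card G := by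
  intro h
  exact (Nat.not_even_iff_odd.mpr hG.1) (even_iff_two_dvd.mpr h)

theorem prime_ne_two_of_dvd_card (hG : IsMinSimpleOddOrder G) {M : Subgroup G} {p : ℕ}
    (hdvd : p ∣ Nat.card ↥M) : p ≠ 2 := by
  rintro rfl
  exact two_not_dvd_card hG (hdvd.trans (Subgroup.card_subgroup_dvd_card M))

theorem conj_pow_eq_one {a s : G} {p : ℕ} (hs : s ^ p = 1) : (a * s * a⁻¹) ^ p = 1 := by
  rw [conj_pow, hs]; group

/-- If `O_p(M) ≠ 1` and `M` has `p`-rank one, then `p ∈ σ(M)`. -/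
theorem mem_sigma_of_prankLE_one [Finite G] (hG : IsMinSimpleOddOrder G) {M : Subgroup G}
    (hM : IsCoatom M) {p : ℕ} [hp : Fact p.Prime] (hR : piCoreOf {p} M ≠ ⊥)
    (hr : PRankLE p 1 ↥M) : p ∈ sigma M := by
  -- an element of order `p` in `O_p(M)`
  have hRm : piCore {p} ↥M ≠ ⊥ := by
    intro h
    apply hR
    unfold piCoreOf
    rw [h, Subgroup.map_bot]
  have hRpg : IsPGroup p ↥(piCore {p} ↥M) :=
    Cfsg.Agent.Lib.helper65.piCore_singleton_isPGroup (G := ↥M) hp.out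
  obtain ⟨n, hn⟩ := IsPGroup.iff_card.mp hRpg
  have hn0 : n ≠ 0 := by
    rintro rfl
    rw [pow_zero] at hn
    exact hRm ((Subgroup.card_eq_one).mp hn)
  have hpR : p ∣ Nat.card ↥(piCore {p} ↥M) := by
    rw [hn]; exact dvd_pow_self p hn0
  obtain ⟨x0, hx0⟩ := exists_prime_orderOf_dvd_card' p hpR
  obtain ⟨x, hxdef⟩ : ∃ x : ↥M, x = (x0 : ↥M) := ⟨_, rfl⟩
  have hxR : x ∈ piCore {p} ↥M := by rw [hxdef]; exact x0.2
  have hxord : orderOf x = p := by rw [hxdef, Subgroup.orderOf_coe]; exact hx0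
  have hpM : p ∣ Nat.card ↥M := by
    rw [← hxord]; exact orderOf_dvd_natCard x
  have hp2 : p ≠ 2 := prime_ne_two_of_dvd_card hG hpM
  -- a Sylow `p`-subgroup of `M`, which is cyclic
  obtain ⟨P⟩ : Nonempty (Sylow p ↥M) := inferInstance
  have hPcyc : IsCyclic ↥(P : Subgroup ↥M) :=
    Cfsg.Agent.Lib.helper71.BGA.isCyclic_of_prankLE_one p hp2 P.isPGroup'
      (Cfsg.Agent.Lib.helper26.prankLE_subgroup (P : Subgroup ↥M) hr)
  have hRP : piCore {p} ↥M ≤ (P : Subgroup ↥M) :=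
    Cfsg.Agent.Lib.helper1.normal_pgroup_le_sylow (piCore {p} ↥M) hRpg P
  have hxP : x ∈ (P : Subgroup ↥M) := hRP hxR
  -- the elements of order dividing `p` of the Sylow subgroup lie in `O_p(M)`
  have key : ∀ y : ↥M, y ∈ (P : Subgroup ↥M) → y ^ p = 1 → y ∈ piCore {p} ↥M := by
    intro y hyP hy
    obtain ⟨k, -, hk⟩ :=
      Cfsg.Agent.Lib.helper56.flA_mem_powers (P : Subgroup ↥M) hPcyc x hxP hxord y hyP hy
    rw [hk]; exact Subgroup.pow_mem _ hxR k
  have hnormalR : (piCore {p} ↥M).Normal := piCore_normal {p} ↥M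
  obtain ⟨S, hS⟩ : ∃ S : Set G,
      S = {y : G | y ∈ (P : Subgroup ↥M).map M.subtype ∧ y ^ p = 1} := ⟨_, rfl⟩
  have hSmem : ∀ y : G, y ∈ S ↔ (y ∈ (P : Subgroup ↥M).map M.subtype ∧ y ^ p = 1) := by
    intro y; rw [hS]; exact Iff.rfl
  have hSR : ∀ y ∈ S, ∃ y' : ↥M, y' ∈ piCore {p} ↥M ∧ (y' : G) = y := by
    intro y hy
    obtain ⟨⟨y', hy'P, hy'⟩, hyp⟩ := (hSmem y).mp hy
    refine ⟨y', key y' hy'P ?_, hy'⟩
    apply Subtype.ext
    rw [Subgroup.coe_pow]
    have : (y' : G) = y := hy'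
    rw [this, hyp]; rfl
  have hPM : (P : Subgroup ↥M).map M.subtype ≤ M := Subgroup.map_subtype_le _
  have hSM : S ⊆ (M : Set G) := fun y hy => hPM ((hSmem y).mp hy).1
  have hxS : (x : G) ∈ S := by
    rw [hSmem]
    refine ⟨⟨x, hxP, rfl⟩, ?_⟩
    rw [← Subgroup.coe_pow, ← hxord, pow_orderOf_eq_one]; rfl
  have hx1 : (x : G) ≠ 1 := by
    intro h
    have : x = 1 := Subtype.ext h
    rw [this, orderOf_one] at hxord
    exact hp.out.one_lt.ne hxord
  have hΩ : Subgroup.closure S ≠ ⊥ := by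
    intro h
    have : (x : G) ∈ (⊥ : Subgroup G) := h ▸ Subgroup.subset_closure hxS
    exact hx1 (Subgroup.mem_bot.mp this)
  have hΩM : Subgroup.closure S ≤ M := (Subgroup.closure_le M).mpr hSM
  have hMΩ : M ≤ Subgroup.normalizer ((Subgroup.closure S : Subgroup G) : Set G) := by
    rw [Subgroup.le_normalizer_closure_iff]
    intro a ha s hs
    apply Subgroup.subset_closure
    obtain ⟨s', hs'R, hs'⟩ := hSR s hs
    rw [hSmem]
    refine ⟨⟨⟨a, ha⟩ * s' * ⟨a, ha⟩⁻¹, hRP (hnormalR.conj_mem s' hs'R ⟨a, ha⟩), ?_⟩,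
      conj_pow_eq_one ((hSmem s).mp hs).2⟩
    simp only [Subgroup.coe_subtype, Subgroup.coe_mul, Subgroup.coe_inv]
    rw [hs']
  have hNP : Subgroup.normalizer ((((P : Subgroup ↥M).map M.subtype : Subgroup G)) : Set G)
      ≤ Subgroup.normalizer ((Subgroup.closure S : Subgroup G) : Set G) := by
    rw [Subgroup.le_normalizer_closure_iff]
    intro a ha s hs
    apply Subgroup.subset_closure
    rw [hSmem]
    exact ⟨(Subgroup.mem_normalizer_iff.mp ha s).mp ((hSmem s).mp hs).1,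
      conj_pow_eq_one ((hSmem s).mp hs).2⟩
  exact ⟨hp.out, hpM, P, hNP.trans (normalizer_le_of_coatom hG hM hΩ hΩM hMΩ)⟩

/-- For `p ∈ τ₂(M)` (with the structure of B–G 12.5(b) as a hypothesis), `O_p(M)` is cyclic. -/
theorem piCoreOf_single_isCyclic [Finite G] (hG : IsMinSimpleOddOrder G) {M : Subgroup G}
    (hM : IsCoatom M) {p : ℕ} [hp : Fact p.Prime] (hpt : p ∈ tau2 M)
    (h17 : ∀ A : Subgroup G, A ≤ M → IsElementaryAbelian p A → Nat.card A = p ^ 2 →
      ∀ P : Sylow p M, A ≤ (P : Subgroup M).map M.subtype →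
        (∀ x ∈ (P : Subgroup M).map M.subtype, x ^ p = 1 ↔ x ∈ A) ∧
          ¬ Subgroup.normalizer ((((P : Subgroup M).map M.subtype : Subgroup G)) : Set G) ≤ M) :
    IsCyclic ↥(piCoreOf {p} M) := by
  obtain ⟨-, -, hr2, hr1⟩ := hpt
  obtain ⟨A, hAM, hAe, hAlt⟩ :=
    (Cfsg.Agent.Lib.helper28.not_pRankLE_subgroup_iff p 1 M).mp hr1
  have hAle : Nat.card A ≤ p ^ 2 := by
    by_contra h
    exact (Cfsg.Agent.Lib.helper28.not_pRankLE_subgroup_iff p 2 M).mpr
      ⟨A, hAM, hAe, not_le.mp h⟩ hr2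
  have hApg : IsPGroup p ↥A := by
    intro g
    refine ⟨1, ?_⟩
    apply Subtype.ext
    rw [pow_one, Subgroup.coe_pow]
    exact hAe.2 g.1 g.2
  obtain ⟨n, hn⟩ := IsPGroup.iff_card.mp hApg
  have hp1 : 1 < p := hp.out.one_lt
  have hAcard : Nat.card A = p ^ 2 := by
    rw [hn] at hAlt hAle ⊢
    have h1 : 1 < n := (Nat.pow_lt_pow_iff_right hp1).mp hAlt
    have h2 : n ≤ 2 := (Nat.pow_le_pow_iff_right hp1).mp hAle
    have : n = 2 := by omega
    rw [this]
  have hpA : p ∣ Nat.card ↥A := by rw [hAcard]; exact dvd_pow_self p (by norm_num)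
  have hp2 : p ≠ 2 :=
    prime_ne_two_of_dvd_card hG (hpA.trans (Subgroup.card_dvd_of_le hAM))
  -- a Sylow `p`-subgroup of `M` containing `A`
  have hAsub : IsPGroup p ↥(A.subgroupOf M) := by
    intro g
    refine ⟨1, ?_⟩
    apply Subtype.ext
    apply Subtype.ext
    rw [pow_one, Subgroup.coe_pow, Subgroup.coe_pow]
    exact hAe.2 (g.1 : G) (Subgroup.mem_subgroupOf.mp g.2)
  obtain ⟨P, hP⟩ := hAsub.exists_le_sylow
  have hAP : A ≤ (P : Subgroup ↥M).map M.subtype := by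
    intro a ha
    exact ⟨⟨a, hAM ha⟩, hP (Subgroup.mem_subgroupOf.mpr ha), rfl⟩
  obtain ⟨hΩ, hN⟩ := h17 A hAM hAe hAcard P hAP
  have hRpg : IsPGroup p ↥(piCore {p} ↥M) :=
    Cfsg.Agent.Lib.helper65.piCore_singleton_isPGroup (G := ↥M) hp.out
  have hRP : piCoreOf {p} M ≤ (P : Subgroup ↥M).map M.subtype := by
    unfold piCoreOf
    exact Subgroup.map_mono
      (Cfsg.Agent.Lib.helper1.normal_pgroup_le_sylow (piCore {p} ↥M) hRpg P)
  have hA1 : A ≠ ⊥ := by
    intro h
    have h1 : Nat.card ↥A = 1 := by rw [h]; exact Subgroup.card_bot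
    rw [hAcard] at h1
    have : 1 < p ^ 2 := Nat.one_lt_pow (by norm_num) hp1
    omega
  -- `A` is not contained in `O_p(M)`
  have hAR : ¬ A ≤ piCoreOf {p} M := by
    intro hle
    have hMA : M ≤ Subgroup.normalizer (A : Set G) := by
      rw [Subgroup.le_normalizer_iff]
      intro m hm a ha
      have h1 : m * a * m⁻¹ ∈ piCoreOf {p} M := by
        have h2 := Cfsg.Agent.Lib.helper29.le_normalizer_piCoreOf {p} M hm
        exact (Subgroup.mem_normalizer_iff.mp h2 a).mp (hle ha)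
      exact (hΩ _ (hRP h1)).mp (conj_pow_eq_one (hAe.2 a ha))
    have hNA : Subgroup.normalizer (A : Set G) ≤ M :=
      normalizer_le_of_coatom hG hM hA1 hAM hMA
    apply hN
    refine le_trans ?_ hNA
    rw [Subgroup.le_normalizer_iff]
    intro g hg a ha
    have h1 : g * a * g⁻¹ ∈ (P : Subgroup ↥M).map M.subtype :=
      (Subgroup.mem_normalizer_iff.mp hg a).mp (hAP ha)
    exact (hΩ _ h1).mp (conj_pow_eq_one (hAe.2 a ha))
  -- hence `O_p(M)` has `p`-rank one
  have hrank : PRankLE p 1 ↥(piCoreOf {p} M) := by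
    intro E hEc hEp
    obtain ⟨E', hE'⟩ : ∃ E' : Subgroup G, E' = E.map (piCoreOf {p} M).subtype := ⟨_, rfl⟩
    have hcard : Nat.card ↥E' = Nat.card ↥E := by
      rw [hE']
      exact Subgroup.card_map_of_injective (Subgroup.subtype_injective _)
    have hE'R : E' ≤ piCoreOf {p} M := by rw [hE']; exact Subgroup.map_subtype_le _
    have hE'A : E' ≤ A := by
      intro e he
      have he' := he
      rw [hE'] at he'
      obtain ⟨e0, he0, rfl⟩ := he'
      refine (hΩ _ (hRP (hE'R he))).mp ?_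
      have := hEp e0 he0
      have h2 := congrArg Subtype.val this
      simpa using h2
    have hdvd : Nat.card ↥E' ∣ p ^ 2 := by
      rw [← hAcard]; exact Subgroup.card_dvd_of_le hE'A
    obtain ⟨j, hj, hcj⟩ := (Nat.dvd_prime_pow hp.out).mp hdvd
    rw [← hcard, hcj]
    apply Nat.pow_le_pow_right hp.out.pos
    by_contra hj1
    have hj2 : j = 2 := by omega
    have : E' = A := Subgroup.eq_of_le_of_card_ge hE'A (by rw [hcj, hj2, hAcard])
    exact hAR (this ▸ hE'R)
  exact Cfsg.Agent.Lib.helper71.BGA.isCyclic_of_prankLE_one p hp2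
    (isPGroup_piCoreOf_single hp.out M) hrank

/-- From B–G 10.2(a): primes outside `σ(M)` have `p`-rank at most two in `M`. -/
theorem prankLE_two_of_not_sigma [Finite G] (M : Subgroup G)
    (h5 : IsPiHallOf (alpha M) (alphaCore M) M ∧ alphaCore M ≤ sigmaCore M) :
    ∀ p : ℕ, p.Prime → p ∉ sigma M → PRankLE p 2 ↥M := by
  intro p hp hpσ
  by_contra hr
  apply hpσ
  have hpα : p ∈ alpha M := ⟨hp, hr⟩
  obtain ⟨B, hBM, hBe, hBlt⟩ := (Cfsg.Agent.Lib.helper28.not_pRankLE_subgroup_iff p 2 M).mp hr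
  have : Fact p.Prime := ⟨hp⟩
  have hBpg : IsPGroup p ↥B := by
    intro g
    refine ⟨1, ?_⟩
    apply Subtype.ext
    rw [pow_one, Subgroup.coe_pow]
    exact hBe.2 g.1 g.2
  have hidx : ¬ p ∣ (piCore (alpha M) ↥M).index := by
    have h := h5.1.2.2 p hp hpα
    unfold alphaCore at h
    rwa [Cfsg.Agent.Lib.helper71.BGA.relIndex_map_subtype] at h
  have hBα : B ≤ alphaCore M := by
    unfold alphaCore
    exact Cfsg.Agent.Lib.helper71.BGA.le_map_of_isPGroup (piCore (alpha M) ↥M) hidx hBM hBpg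
  obtain ⟨n, hn⟩ := IsPGroup.iff_card.mp hBpg
  have hn0 : n ≠ 0 := by
    rintro rfl
    rw [hn, pow_zero] at hBlt
    have : 1 ≤ p ^ 2 := Nat.one_le_pow _ _ hp.pos
    omega
  have hpB : p ∣ Nat.card ↥B := by rw [hn]; exact dvd_pow_self p hn0
  have hpσc : p ∣ Nat.card ↥(sigmaCore M) :=
    hpB.trans (Subgroup.card_dvd_of_le (hBα.trans h5.2))
  exact Cfsg.Agent.Lib.helper29.prime_mem_of_dvd_card_piCoreOf (sigma M) M p hp hpσc

theorem prime_eq_of_dvd_card_piCoreOf_single [Finite G] (X : Subgroup G) {p q : ℕ}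
    (hq : q.Prime) (h : q ∣ Nat.card ↥(piCoreOf {p} X)) : q = p := by
  have := Cfsg.Agent.Lib.helper29.prime_mem_of_dvd_card_piCoreOf {p} X q hq h
  exact this

/-- The main statement, with B–G 10.2(a) and 12.5(b) as hypotheses. -/
theorem bgfit_main [Finite G] (hG : IsMinSimpleOddOrder G) (M : Subgroup G) (hM : IsCoatom M)
    (hα : ∀ p : ℕ, p.Prime → p ∉ sigma M → PRankLE p 2 ↥M)
    (h17 : ∀ (p : ℕ) [Fact p.Prime], p ∈ tau2 M → ∀ A : Subgroup G, A ≤ M →
      IsElementaryAbelian p A → Nat.card A = p ^ 2 →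
      ∀ P : Sylow p M, A ≤ (P : Subgroup M).map M.subtype →
        (∀ x ∈ (P : Subgroup M).map M.subtype, x ^ p = 1 ↔ x ∈ A) ∧
          ¬ Subgroup.normalizer ((((P : Subgroup M).map M.subtype : Subgroup G)) : Set G) ≤ M) :
    IsCyclic ↥(piCoreOf {q | q.Prime ∧ q ∉ sigma M} (fittingOf M)) ∧
      (∀ p : ℕ, p.Prime →
        p ∣ Nat.card ↥(piCoreOf {q | q.Prime ∧ q ∉ sigma M} (fittingOf M)) → p ∈ tau2 M) ∧
      fittingOf M = fittingOf (sigmaCore M) ⊔
        piCoreOf {q | q.Prime ∧ q ∉ sigma M} (fittingOf M) := by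
  obtain ⟨π', hπ'⟩ : ∃ π' : Set ℕ, π' = {q | q.Prime ∧ q ∉ sigma M} := ⟨_, rfl⟩
  rw [← hπ']
  obtain ⟨F, hF⟩ : ∃ F : Subgroup G, F = fittingOf M := ⟨_, rfl⟩
  rw [← hF]
  obtain ⟨D, hD⟩ : ∃ D : Subgroup G, D = piCoreOf π' F := ⟨_, rfl⟩
  rw [← hD]
  have hFM : F ≤ M := by rw [hF]; exact fittingOf_le M
  have hFnil : Group.IsNilpotent ↥F := by rw [hF]; exact fittingOf_isNilpotent M
  have hMF : M ≤ Subgroup.normalizer (F : Set G) := by rw [hF]; exact le_normalizer_fittingOf M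
  have hDF : D ≤ F := by rw [hD]; exact Cfsg.Agent.Lib.helper29.piCoreOf_le π' F
  have hMD : M ≤ Subgroup.normalizer (D : Set G) := by
    rw [hD]
    exact hMF.trans (Cfsg.Agent.Lib.helper29.normalizer_le_normalizer_piCoreOf π' F)
  have hpF : ∀ p : ℕ, p.Prime → piCoreOf {p} M ≤ F := by
    intro p hp
    rw [hF]; exact Cfsg.Agent.Lib.helper31.bi_piCoreOf_singleton_le_fittingOf M hp
  have hpM : ∀ p : ℕ, piCoreOf {p} M ≤ M := fun p => Cfsg.Agent.Lib.helper29.piCoreOf_le {p} M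
  have hMp : ∀ p : ℕ, M ≤ Subgroup.normalizer ((piCoreOf {p} M : Subgroup G) : Set G) :=
    fun p => Cfsg.Agent.Lib.helper29.le_normalizer_piCoreOf {p} M
  -- (2)
  have part2 : ∀ p : ℕ, p.Prime → p ∣ Nat.card ↥D → p ∈ tau2 M := by
    intro p hp hdvd
    have hpπ : p ∈ π' := by
      rw [hD] at hdvd
      exact Cfsg.Agent.Lib.helper29.prime_mem_of_dvd_card_piCoreOf π' F p hp hdvd
    have hpσ : p ∉ sigma M := by rw [hπ'] at hpπ; exact hpπ.2
    have : Fact p.Prime := ⟨hp⟩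
    have hne : piCoreOf {p} M ≠ ⊥ := by
      intro hbot
      have hFT : F ≤ piCoreOf {q | q.Prime ∧ q ≠ p} F := by
        rw [hF]
        apply Cfsg.Agent.Lib.helper31.bi_fittingOf_le_of_forall
        intro q hq
        by_cases hqp : q = p
        · rw [hqp, hbot]; exact bot_le
        · rw [← hF]
          apply Cfsg.Agent.Lib.helper29.le_piCoreOf (hpF q hq) (hFM.trans (hMp q))
          intro r hr hrd
          exact ⟨hr, fun h => hqp ((prime_eq_of_dvd_card_piCoreOf_single M hr hrd).symm.trans h)⟩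
      have h1 : p ∣ Nat.card ↥(piCoreOf {q | q.Prime ∧ q ≠ p} F) :=
        hdvd.trans (Subgroup.card_dvd_of_le (hDF.trans hFT))
      exact (Cfsg.Agent.Lib.helper29.prime_mem_of_dvd_card_piCoreOf _ F p hp h1).2 rfl
    have hr1 : ¬ PRankLE p 1 ↥M := fun hr => hpσ (mem_sigma_of_prankLE_one hG hM hne hr)
    exact ⟨hp, hpσ, hα p hp hpσ, hr1⟩
  -- (1)
  have hDnil : Group.IsNilpotent ↥D := by
    have := hFnil
    exact Group.nilpotent_of_mulEquiv (Subgroup.subgroupOfEquivOfLe hDF)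
  have hZ : IsZGroup ↥D := by
    refine ⟨fun p hp Q => ?_⟩
    have : Fact p.Prime := ⟨hp⟩
    obtain ⟨n, hn⟩ := IsPGroup.iff_card.mp Q.isPGroup'
    by_cases hdvd : p ∣ Nat.card ↥D
    · have hcyc : IsCyclic ↥(piCoreOf {p} M) :=
        piCoreOf_single_isCyclic hG hM (part2 p hp hdvd) (h17 p (part2 p hp hdvd))
      obtain ⟨Q', hQ'⟩ : ∃ Q' : Subgroup G, Q' = (Q : Subgroup ↥D).map D.subtype := ⟨_, rfl⟩
      have hQ'D : Q' ≤ D := by rw [hQ']; exact Subgroup.map_subtype_le _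
      have hQ'card : Nat.card ↥Q' = p ^ n := by
        rw [hQ', Subgroup.card_map_of_injective (Subgroup.subtype_injective _)]; exact hn
      have hQ'prime : ∀ r : ℕ, r.Prime → r ∣ Nat.card ↥Q' → r ∈ ({p} : Set ℕ) := by
        intro r hr hrd
        rw [hQ'card] at hrd
        exact (Nat.prime_dvd_prime_iff_eq hr hp).mp (hr.dvd_of_dvd_pow hrd)
      have h1 : Q' ≤ piCoreOf {p} D :=
        Cfsg.Agent.Lib.helper31.bi_le_piCoreOf_of_nilpotent hDnil hQ'D {p} hQ'prime
      have h2 : piCoreOf {p} D ≤ piCoreOf {p} M := by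
        apply Cfsg.Agent.Lib.helper29.le_piCoreOf
          ((Cfsg.Agent.Lib.helper29.piCoreOf_le {p} D).trans (hDF.trans hFM))
          (hMD.trans (Cfsg.Agent.Lib.helper29.normalizer_le_normalizer_piCoreOf {p} D))
        intro r hr hrd
        exact prime_eq_of_dvd_card_piCoreOf_single D hr hrd
      have h3 : IsCyclic ↥Q' := Subgroup.isCyclic_of_le (h1.trans h2)
      have e : ↥(Q : Subgroup ↥D) ≃* ↥Q' := by
        rw [hQ']
        exact Subgroup.equivMapOfInjective (Q : Subgroup ↥D) D.subtype D.subtype_injective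
      exact e.isCyclic.mpr h3
    · have hn0 : n = 0 := by
        by_contra hn0
        apply hdvd
        have h1 : p ∣ Nat.card ↥(Q : Subgroup ↥D) := by rw [hn]; exact dvd_pow_self p hn0
        exact h1.trans (Subgroup.card_subgroup_dvd_card (Q : Subgroup ↥D))
      rw [hn0, pow_zero] at hn
      have : Subsingleton ↥(Q : Subgroup ↥D) := (Nat.card_eq_one_iff_unique.mp hn).1
      exact isCyclic_of_subsingleton
  have part1 : IsCyclic ↥D := by
    have := hZ
    have := hDnil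
    infer_instance
  refine ⟨part1, part2, ?_⟩
  -- (3)
  have hσM : sigmaCore M ≤ M := Cfsg.Agent.Lib.helper71.BGA.sigmaCore_le M
  have hMσ : M ≤ Subgroup.normalizer ((sigmaCore M : Subgroup G) : Set G) :=
    Cfsg.Agent.Lib.helper71.BGA.le_normalizer_sigmaCore M
  apply le_antisymm
  · rw [hF]
    apply Cfsg.Agent.Lib.helper31.bi_fittingOf_le_of_forall
    intro p hp
    by_cases hpσ : p ∈ sigma M
    · refine le_trans ?_ le_sup_left
      have h1 : piCoreOf {p} M ≤ sigmaCore M := by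
        have : sigmaCore M = piCoreOf (sigma M) M := rfl
        rw [this]
        apply Cfsg.Agent.Lib.helper29.le_piCoreOf (hpM p) (hMp p)
        intro r hr hrd
        rw [prime_eq_of_dvd_card_piCoreOf_single M hr hrd]; exact hpσ
      have h2 : piCoreOf {p} M ≤ piCoreOf {p} (sigmaCore M) := by
        apply Cfsg.Agent.Lib.helper29.le_piCoreOf h1 (hσM.trans (hMp p))
        intro r hr hrd
        exact prime_eq_of_dvd_card_piCoreOf_single M hr hrd
      exact h2.trans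
        (Cfsg.Agent.Lib.helper31.bi_piCoreOf_singleton_le_fittingOf (sigmaCore M) hp)
    · refine le_trans ?_ le_sup_right
      rw [hD]
      apply Cfsg.Agent.Lib.helper29.le_piCoreOf (hpF p hp) (hFM.trans (hMp p))
      intro r hr hrd
      rw [prime_eq_of_dvd_card_piCoreOf_single M hr hrd, hπ']
      exact ⟨hp, hpσ⟩
  · apply sup_le _ hDF
    apply Cfsg.Agent.Lib.helper31.bi_fittingOf_le_of_forall
    intro p hp
    have h1 : piCoreOf {p} (sigmaCore M) ≤ piCoreOf {p} M := by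
      apply Cfsg.Agent.Lib.helper29.le_piCoreOf
        ((Cfsg.Agent.Lib.helper29.piCoreOf_le {p} (sigmaCore M)).trans hσM)
        (hMσ.trans (Cfsg.Agent.Lib.helper29.normalizer_le_normalizer_piCoreOf {p} (sigmaCore M)))
      intro r hr hrd
      exact prime_eq_of_dvd_card_piCoreOf_single (sigmaCore M) hr hrd
    exact h1.trans (hpF p hp)

end Cfsg.Agent.Lib.helper80.BGFit
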