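import Mathlib
import Cfsg.Prelude.Def_Characters

/-!
Basic facts on `Cfsg.IrrCharacter`: orthogonality (in the bilinear form with `g⁻¹`),
linear independence, finiteness.
-/

set_option autoImplicit false

namespace Cfsg.Agent.Lib.helper80

open Cfsg

/-- Orthogonality of irreducible characters, bilinear form. -/
theorem irr_inner {G : Type*} [Group G] [Fintype G] (χ ψ : IrrCharacter G) :
    (Nat.card G : ℂ)⁻¹ * ∑ g : G, (χ : G → ℂ) g * (ψ : G → ℂ) g⁻¹ = if χ = ψ then 1 else 0 := by
  classical
  obtain ⟨n, ρ, hρ, hχ⟩ := χ.2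
  obtain ⟨m, σ, hσ, hψ⟩ := ψ.2
  haveI : Invertible (Nat.card G : ℂ) := invertibleOfNonzero (by
    exact_mod_cast (Nat.card_pos (α := G)).ne')
  have := hρ
  have := hσ
  have key := Representation.char_orthonormal ρ σ
  rw [hχ, hψ] at key
  have key2 := Representation.char_orthonormal ρ ρ
  rw [hχ] at key2
  rw [if_pos ⟨Representation.Equiv.refl _⟩] at key2
  by_cases h : χ = ψ
  · rw [if_pos h]
    subst h
    simpa using key2
  · rw [if_neg h, key, if_neg]
    rintro ⟨φ⟩
    apply h
    apply Subtype.ext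
    rw [← hχ, ← hψ]
    exact (Representation.char_iso φ).symm

/-- Irreducible characters are linearly independent functions. -/
theorem irr_linearIndependent {G : Type*} [Group G] [Fintype G] :
    LinearIndependent ℂ (fun χ : IrrCharacter G => (χ : G → ℂ)) := by
  classical
  rw [linearIndependent_iff']
  intro s c hc χ hχ
  have h1 : (Nat.card G : ℂ)⁻¹ * ∑ g : G, (∑ i ∈ s, c i • (i : G → ℂ)) g * (χ : G → ℂ) g⁻¹ = 0 := by
    rw [hc]; simp
  have h2 : (Nat.card G : ℂ)⁻¹ * ∑ g : G, (∑ i ∈ s, c i • (i : G → ℂ)) g * (χ : G → ℂ) g⁻¹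
      = ∑ i ∈ s, c i * ((Nat.card G : ℂ)⁻¹ * ∑ g : G, (i : G → ℂ) g * (χ : G → ℂ) g⁻¹) := by
    simp only [Finset.sum_apply, Pi.smul_apply, smul_eq_mul, Finset.sum_mul, Finset.mul_sum]
    rw [Finset.sum_comm]
    refine Finset.sum_congr rfl fun i _ => Finset.sum_congr rfl fun g _ => ?_
    ring
  rw [h2] at h1
  simp only [irr_inner] at h1
  simpa [Finset.sum_ite_eq', hχ] using h1

/-- A finite group has finitely many irreducible characters. -/
theorem irr_finite (G : Type*) [Group G] [Finite G] : Finite (IrrCharacter G) := by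
  have := Fintype.ofFinite G
  exact LinearIndependent.finite (R := ℂ) (M := G → ℂ) irr_linearIndependent

/-- The sum of a character over a subgroup is the order of the subgroup times a natural number. -/
theorem sum_subgroup_char {G : Type*} [Group G] [Fintype G] (H : Subgroup G) [Fintype H]
    {n : ℕ} (ρ : Representation ℂ G (Fin n → ℂ)) :
    ∃ m : ℕ, ∑ x : H, ρ.character (x : G) = (Nat.card H : ℂ) * m := by
  classical
  haveI : Invertible (Nat.card H : ℂ) := invertibleOfNonzero (by
    exact_mod_cast (Nat.card_pos (α := H)).ne')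
  let σ : Representation ℂ H (Fin n → ℂ) := ρ.comp H.subtype
  have key := Representation.card_inv_mul_sum_char_eq_finrank σ
  refine ⟨Module.finrank ℂ (Representation.invariants σ), ?_⟩
  rw [← key, ← mul_assoc, mul_inv_cancel₀ (by exact_mod_cast (Nat.card_pos (α := H)).ne'), one_mul]
  rfl

theorem sum_subgroup_irr {G : Type*} [Group G] [Fintype G] (H : Subgroup G) [Fintype H]
    (χ : IrrCharacter G) :
    ∃ m : ℕ, ∑ x : H, (χ : G → ℂ) (x : G) = (Nat.card H : ℂ) * m := by
  obtain ⟨n, ρ, -, hχ⟩ := χ.2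
  rw [← hχ]
  exact sum_subgroup_char H ρ

end Cfsg.Agent.Lib.helper80
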