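import Mathlib

set_option autoImplicit false

namespace Cfsg.Agent.Lib.helper74.TB

/-- PIECE HC.  `∏_{i=1}^{p-1} (1 - X^i) ≡ p  mod  1 + X + ... + X^(p-1)`. -/
theorem tb_cyclotomic_identity (p : ℕ) [Fact p.Prime] :
    ∃ r : Polynomial ℤ, ∏ i ∈ Finset.Ico 1 p, (1 - (Polynomial.X : Polynomial ℤ) ^ i)
      = Polynomial.C (p : ℤ) + r * ∑ i ∈ Finset.range p, (Polynomial.X : Polynomial ℤ) ^ i := by
  have hp : p.Prime := Fact.out
  have hΦ : Polynomial.cyclotomic p ℤ = ∑ i ∈ Finset.range p, Polynomial.X ^ i :=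
    Polynomial.cyclotomic_prime ℤ p
  have hprime : Prime (Polynomial.cyclotomic p ℤ) :=
    (Polynomial.cyclotomic.irreducible hp.pos).prime
  have hdom : IsDomain (AdjoinRoot (Polynomial.cyclotomic p ℤ)) :=
    AdjoinRoot.isDomain_of_prime hprime
  have hdeg : 0 < (Polynomial.cyclotomic p ℤ).natDegree := by
    rw [Polynomial.natDegree_cyclotomic]
    exact Nat.totient_pos.2 hp.pos
  have hcast : ∀ x : ℤ, AdjoinRoot.mk (Polynomial.cyclotomic p ℤ) (Polynomial.C x)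
      = (x : AdjoinRoot (Polynomial.cyclotomic p ℤ)) := by
    intro x
    rw [AdjoinRoot.mk_C]
    exact eq_intCast (AdjoinRoot.of (Polynomial.cyclotomic p ℤ)) x
  have hne : ((p : ℕ) : AdjoinRoot (Polynomial.cyclotomic p ℤ)) ≠ 0 := by
    intro h0
    have h1 : AdjoinRoot.mk (Polynomial.cyclotomic p ℤ) (Polynomial.C ((p : ℕ) : ℤ)) = 0 := by
      rw [hcast]
      exact_mod_cast h0
    rw [AdjoinRoot.mk_eq_zero] at h1
    have hC : Polynomial.C ((p : ℕ) : ℤ) ≠ 0 := by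
      rw [Ne, Polynomial.C_eq_zero]
      exact_mod_cast hp.ne_zero
    have h2 := Polynomial.natDegree_le_of_dvd h1 hC
    rw [Polynomial.natDegree_C] at h2
    omega
  have hnz : NeZero ((p : ℕ) : AdjoinRoot (Polynomial.cyclotomic p ℤ)) := ⟨hne⟩
  have hroot : Polynomial.IsRoot (Polynomial.cyclotomic p (AdjoinRoot (Polynomial.cyclotomic p ℤ)))
      (AdjoinRoot.root (Polynomial.cyclotomic p ℤ)) := by
    have h := AdjoinRoot.isRoot_root (Polynomial.cyclotomic p ℤ)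
    rw [Polynomial.map_cyclotomic] at h
    exact h
  have hμ : IsPrimitiveRoot (AdjoinRoot.root (Polynomial.cyclotomic p ℤ)) p :=
    Polynomial.isRoot_cyclotomic_iff.1 hroot
  obtain ⟨n, hn⟩ : ∃ n, p = n + 1 := ⟨p - 1, (Nat.succ_pred_eq_of_pos hp.pos).symm⟩
  have hμ' : IsPrimitiveRoot (AdjoinRoot.root (Polynomial.cyclotomic p ℤ)) (n + 1) := by
    rw [← hn]
    exact hμ
  have hprod := hμ'.prod_one_sub_pow_eq_order
  have hmk : AdjoinRoot.mk (Polynomial.cyclotomic p ℤ)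
      (∏ i ∈ Finset.Ico 1 p, (1 - (Polynomial.X : Polynomial ℤ) ^ i)
        - Polynomial.C ((p : ℕ) : ℤ)) = 0 := by
    rw [map_sub, map_prod, hcast]
    simp only [map_sub, map_one, map_pow, AdjoinRoot.mk_X]
    rw [Finset.prod_Ico_eq_prod_range]
    have e : p - 1 = n := by omega
    rw [e]
    have e2 : ∀ k ∈ Finset.range n,
        (1 - AdjoinRoot.root (Polynomial.cyclotomic p ℤ) ^ (1 + k))
          = (1 - AdjoinRoot.root (Polynomial.cyclotomic p ℤ) ^ (k + 1)) := by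
      intro k _
      rw [add_comm]
    rw [Finset.prod_congr rfl e2, hprod, hn]
    push_cast
    ring
  rw [AdjoinRoot.mk_eq_zero] at hmk
  obtain ⟨r, hr⟩ := hmk
  refine ⟨r, ?_⟩
  rw [← hΦ]
  have hpc : ((p : ℕ) : ℤ) = (p : ℤ) := rfl
  rw [hpc] at hr
  linear_combination hr

end Cfsg.Agent.Lib.helper74.TB
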