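import Cfsg.Agent.Lib.helper80.TB_HTAux
import Cfsg.Agent.Lib.helper74.TBHerbrand

/-!
# SP-B (theorem TB) piece HT: Herbrand quotient in the setting of TB
-/

set_option autoImplicit false

namespace Cfsg.Agent.Lib.helper74.TB

open Cfsg.Agent.Lib.helper84

section setting

variable {G : Type*} [Group G] [Fintype G] (p : ℕ) [Fact p.Prime] (P : Sylow p G)
  (hP : Nat.card P = p) {L : Type*} [AddCommGroup L] (ρ : Representation ℤ G L)

include hP

variable [Module.Free ℤ L] [Module.Finite ℤ L]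

/-- PIECE HT (Herbrand in the setting of TB). -/
theorem tb_herbrand_d1 :
    ∃ d0 d1 : ℕ, (tbV0 p ρ (P : Subgroup G)).toAddSubgroup.index = p ^ d0 ∧
      (tbV1 p ρ (P : Subgroup G)).toAddSubgroup.index = p ^ d1 ∧
      ((p : ℤ) - 1) * ((d0 : ℤ) - d1)
        = p * (Module.finrank ℤ (d1FixC ρ (P : Subgroup G)) : ℤ)
          - Module.finrank ℤ (d1FixK p ρ (P : Subgroup G)) :=
  tb_herbrand_d1_of p P hP ρ (fun x hx => tb_herbrand p x hx)

end setting

end Cfsg.Agent.Lib.helper74.TB
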