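import Mathlib

set_option autoImplicit false

namespace Cfsg.Agent.Lib.helper74.TB

/-- PIECE ORB.  A group of prime order acting on a finite set: the set is the fixed points plus
regular orbits. -/
theorem tb_orbit_sum {Q Ω : Type*} [Group Q] [Fintype Q] [Fintype Ω] [MulAction Q Ω]
    (p : ℕ) [Fact p.Prime] (hQ : Nat.card Q = p) {M : Type*} [AddCommMonoid M] :
    ∃ Fix R : Finset Ω, (∀ q, q ∈ Fix ↔ ∀ y : Q, y • q = q) ∧ ∀ g : Ω → M,
      ∑ q, g q = ∑ q ∈ Fix, g q + ∑ r ∈ R, ∑ y : Q, g (y • r) := by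
  classical
  -- orbit representatives
  obtain ⟨rep, hrep⟩ : ∃ rep : Ω → Ω, rep = fun ω =>
      (Quotient.mk (MulAction.orbitRel Q Ω) ω).out := ⟨_, rfl⟩
  have hrep_mem : ∀ ω : Ω, rep ω ∈ MulAction.orbit Q ω := by
    intro ω
    rw [hrep]
    have h := Quotient.mk_out (s := MulAction.orbitRel Q Ω) ω
    exact (MulAction.orbitRel_apply).1 h
  have hrep_eq : ∀ ω ω' : Ω, ω ∈ MulAction.orbit Q ω' → rep ω = rep ω' := by
    intro ω ω' h
    rw [hrep]
    have h2 : Quotient.mk (MulAction.orbitRel Q Ω) ω = Quotient.mk (MulAction.orbitRel Q Ω) ω' :=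
      Quotient.sound ((MulAction.orbitRel_apply).2 h)
    simp only [h2]
  -- being fixed is invariant along orbits
  have hfix_orb : ∀ (z : Q) (ω : Ω), (∀ y : Q, y • (z • ω) = z • ω) → ∀ y : Q, y • ω = ω := by
    intro z ω h y
    have h1 := h (z * y * z⁻¹)
    rw [← mul_smul, inv_mul_cancel_right] at h1
    have h2 := congrArg (fun x => z⁻¹ • x) h1
    simp only [← mul_smul, ← mul_assoc, inv_mul_cancel, one_mul, one_smul] at h2
    exact h2
  -- a point which is not fixed has trivial stabilizer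
  have hstab : ∀ (ω : Ω), (¬ ∀ y : Q, y • ω = ω) → ∀ y : Q, y • ω = ω → y = 1 := by
    intro ω hω y hy
    by_contra hy1
    apply hω
    intro z
    have htop : Subgroup.zpowers y = ⊤ := zpowers_eq_top_of_prime_card hQ hy1
    have hz : z ∈ Subgroup.zpowers y := by rw [htop]; exact Subgroup.mem_top z
    obtain ⟨k, rfl⟩ := Subgroup.mem_zpowers_iff.1 hz
    have hmem : y ∈ MulAction.stabilizer Q ω := hy
    exact (MulAction.stabilizer Q ω).zpow_mem hmem k
  obtain ⟨NF, hNF⟩ : ∃ NF : Finset Ω, NF = Finset.univ.filter (fun q : Ω => ¬ ∀ y : Q, y • q = q) :=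
    ⟨_, rfl⟩
  refine ⟨Finset.univ.filter (fun q : Ω => ∀ y : Q, y • q = q), NF.image rep, ?_, ?_⟩
  · intro q
    simp
  intro g
  have hsplit := Finset.sum_filter_add_sum_filter_not (Finset.univ : Finset Ω)
    (fun q : Ω => ∀ y : Q, y • q = q) g
  rw [← hsplit]
  congr 1
  rw [← hNF, ← Finset.sum_product']
  symm
  -- facts on the representatives
  have hR : ∀ r ∈ NF.image rep, (¬ ∀ y : Q, y • r = r) ∧ rep r = r := by
    intro r hr
    obtain ⟨ω, hω, rfl⟩ := Finset.mem_image.1 hr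
    rw [hNF, Finset.mem_filter] at hω
    obtain ⟨z, hz⟩ := hrep_mem ω
    refine ⟨?_, hrep_eq _ _ (hrep_mem ω)⟩
    intro hfix
    apply hω.2
    have hz' : z • ω = rep ω := hz
    rw [← hz'] at hfix
    exact hfix_orb z ω hfix
  refine Finset.sum_bij (fun x _ => x.2 • x.1) ?_ ?_ ?_ ?_
  · rintro ⟨r, y⟩ hx
    rw [Finset.mem_product] at hx
    rw [hNF, Finset.mem_filter]
    refine ⟨Finset.mem_univ _, ?_⟩
    intro hfix
    exact (hR r hx.1).1 (hfix_orb y r hfix)
  · rintro ⟨r, y⟩ hx ⟨r', y'⟩ hx' h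
    rw [Finset.mem_product] at hx hx'
    have h' : y • r = y' • r' := h
    have hrr : r = r' := by
      have h1 : r ∈ MulAction.orbit Q r' := by
        refine ⟨y⁻¹ * y', ?_⟩
        show (y⁻¹ * y') • r' = r
        rw [mul_smul, ← h', ← mul_smul, inv_mul_cancel, one_smul]
      have h2 := hrep_eq r r' h1
      rw [(hR r hx.1).2, (hR r' hx'.1).2] at h2
      exact h2
    subst hrr
    have hy : (y'⁻¹ * y) • r = r := by
      rw [mul_smul, h', ← mul_smul, inv_mul_cancel, one_smul]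
    have h1 := hstab r (hR r hx.1).1 _ hy
    have hyy : y = y' := by
      have := congrArg (fun t => y' * t) h1
      simpa using this
    rw [hyy]
  · intro ω hω
    rw [hNF, Finset.mem_filter] at hω
    obtain ⟨z, hz⟩ := hrep_mem ω
    have hz' : z • ω = rep ω := hz
    refine ⟨(rep ω, z⁻¹), ?_, ?_⟩
    · rw [Finset.mem_product]
      refine ⟨Finset.mem_image.2 ⟨ω, ?_, rfl⟩, Finset.mem_univ _⟩
      rw [hNF, Finset.mem_filter]
      exact hω
    · show z⁻¹ • rep ω = ω
      rw [← hz', ← mul_smul, inv_mul_cancel, one_smul]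
  · rintro ⟨r, y⟩ _
    rfl

end Cfsg.Agent.Lib.helper74.TB
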