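import Mathlib
import Cfsg.Agent.Lib.helper2.BFDefs
import Cfsg.Agent.Lib.helper20.D1EFinal
import Cfsg.Agent.Lib.helper4.CharDecomp
import Cfsg.Agent.Lib.helper81.Kernel

/-!
# S4503 piece B3 (helper2's split): `delta_inner`

For `φ ≠ φ'` irreducible, equal on `p`-regular elements, and `ξ ∈ X` (exceptional-free part of the
principal block for `|P| = p`): `[φ φ̄, ξ] - [φ φ̄', ξ] = εX ξ`.
-/

set_option autoImplicit false

open Cfsg Cfsg.Agent.Lib.helper20.D1E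
open scoped ComplexConjugate

namespace Cfsg.Agent.Lib.helper2.BF

variable {G : Type*} [Group G] [Fintype G]

/-- A character of `X` takes the value `εX ξ` on every `p`-singular element. -/
theorem helper80_X_val_psingular (p : ℕ) [Fact p.Prime] (P : Sylow p G) (hP : Nat.card P = p)
    (x : G) (hx : x ∈ (P : Subgroup G)) (hx1 : x ≠ 1)
    (M : Ideal AlgInt) (e : ℕ) (X Y : Set (IrrCharacter G))
    (εX : IrrCharacter G → ℤ) (ε : ℤ) (hD : PBData p M P e X Y εX ε)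
    (ξ : IrrCharacter G) (hξ : ξ ∈ X) (g : G) (hg : p ∣ orderOf g) :
    (ξ : G → ℂ) g = (εX ξ : ℂ) := by
  obtain ⟨hxp, hxu⟩ := basic_x p P hP x hx hx1
  obtain ⟨h, u, hu, k, hk, hpk, hconj⟩ :=
    Cfsg.Agent.Lib.helper46.d1_psingular_conj p P hP x hx hx1 g hg
  have hcf : (ξ : G → ℂ) (h * g * h⁻¹) = (ξ : G → ℂ) g :=
    Cfsg.Agent.Lib.helper81.irr_classFun ξ g h
  rw [← hcf, hconj]
  exact hD.valX ξ hξ (x ^ u) (pow_mem hx u) (hxu u hu) k hk hpk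

/-- B3. -/
theorem delta_inner (p : ℕ) [Fact p.Prime] (P : Sylow p G) (hP : Nat.card P = p)
    (x : G) (hx : x ∈ (P : Subgroup G)) (hx1 : x ≠ 1) (H : Subgroup (ZMod p)ˣ)
    (M : Ideal AlgInt) (X Y : Set (IrrCharacter G))
    (εX : IrrCharacter G → ℤ) (ε : ℤ) (hD : PBData p M P (Nat.card H) X Y εX ε)
    (φ φ' : IrrCharacter G) (hne : φ ≠ φ')
    (hreg : ∀ g : G, ¬ p ∣ orderOf g → (φ' : G → ℂ) g = (φ : G → ℂ) g)
    (ξ : IrrCharacter G) (hξ : ξ ∈ X) :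
    classInner (fun g => (φ : G → ℂ) g * conj ((φ : G → ℂ) g)) (ξ : G → ℂ)
      - classInner (fun g => (φ : G → ℂ) g * conj ((φ' : G → ℂ) g)) (ξ : G → ℂ)
      = (εX ξ : ℂ) := by
  classical
  have hval := helper80_X_val_psingular p P hP x hx hx1 M (Nat.card H) X Y εX ε hD ξ hξ
  have hpt : ∀ g : G,
      (φ : G → ℂ) g * conj ((φ : G → ℂ) g) * conj ((ξ : G → ℂ) g)
        - (φ : G → ℂ) g * conj ((φ' : G → ℂ) g) * conj ((ξ : G → ℂ) g)
      = (εX ξ : ℂ) * ((φ : G → ℂ) g * conj ((φ : G → ℂ) g))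
        - (εX ξ : ℂ) * ((φ : G → ℂ) g * conj ((φ' : G → ℂ) g)) := by
    intro g
    by_cases hg : p ∣ orderOf g
    · rw [hval g hg]
      have hc : conj ((εX ξ : ℤ) : ℂ) = ((εX ξ : ℤ) : ℂ) := map_intCast (starRingEnd ℂ) _
      rw [hc]
      ring
    · rw [hreg g hg]
      ring
  have h1 : classInner (φ : G → ℂ) (φ : G → ℂ) = 1 :=
    Cfsg.Agent.Lib.helper4.classInner_irr_self φ.2
  have h0 : classInner (φ : G → ℂ) (φ' : G → ℂ) = 0 :=
    Cfsg.Agent.Lib.helper4.classInner_irr_ne φ.2 φ'.2 (fun h => hne (Subtype.ext h))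
  unfold classInner at h1 h0 ⊢
  rw [← mul_sub, ← Finset.sum_sub_distrib]
  have hsum : ∑ g : G, ((φ : G → ℂ) g * conj ((φ : G → ℂ) g) * conj ((ξ : G → ℂ) g)
        - (φ : G → ℂ) g * conj ((φ' : G → ℂ) g) * conj ((ξ : G → ℂ) g))
      = (εX ξ : ℂ) * ∑ g : G, (φ : G → ℂ) g * conj ((φ : G → ℂ) g)
        - (εX ξ : ℂ) * ∑ g : G, (φ : G → ℂ) g * conj ((φ' : G → ℂ) g) := by
    rw [Finset.mul_sum, Finset.mul_sum, ← Finset.sum_sub_distrib]
    exact Finset.sum_congr rfl (fun g _ => hpt g)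
  rw [hsum]
  linear_combination (εX ξ : ℂ) * h1 - (εX ξ : ℂ) * h0

end Cfsg.Agent.Lib.helper2.BF
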