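import Mathlib
import Cfsg.Agent.Lib.helper2.BFDefs
import Cfsg.Agent.Lib.helper20.D1EFinal
import Cfsg.Agent.Lib.helper4.CharDecomp
import Cfsg.Agent.Lib.helper81.Kernel

/-!
# S4503 piece B5 (helper2's split): `dichotomy`

`ψ, ψ'` irreducible, equal on `p`-regular elements, with "disjoint spectra" on every section
`x^i k` (`hsupp`): then `ψ ψ̄'` has a constituent in `Y` or a constituent `ξ ∈ X` with `εX ξ = -1`.
-/

set_option autoImplicit false

open Cfsg Cfsg.Agent.Lib.helper20.D1E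
open scoped ComplexConjugate

namespace Cfsg.Agent.Lib.helper2.BF

variable {G : Type*} [Group G] [Fintype G]

/-- A member of a list of irreducible characters is a constituent of the sum of the list. -/
theorem helper80_classInner_list_mem_ne_zero (l : List (IrrCharacter G)) (χ : IrrCharacter G)
    (hχ : χ ∈ l) : classInner (l.map Subtype.val).sum (χ : G → ℂ) ≠ 0 := by
  obtain ⟨l₁, l₂, rfl⟩ := List.append_of_mem hχ
  obtain ⟨n₁, hn₁⟩ := Cfsg.Agent.Lib.helper4.exists_nat_classInner_list_irr l₁ χ.2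
  obtain ⟨n₂, hn₂⟩ := Cfsg.Agent.Lib.helper4.exists_nat_classInner_list_irr l₂ χ.2
  rw [List.map_append, List.sum_append, List.map_cons, List.sum_cons,
    Cfsg.Agent.Lib.helper4.classInner_add_left, Cfsg.Agent.Lib.helper4.classInner_add_left,
    hn₁, hn₂, Cfsg.Agent.Lib.helper4.classInner_irr_self χ.2]
  have h : ((n₁ : ℂ) + (1 + (n₂ : ℂ))) = ((n₁ + 1 + n₂ : ℕ) : ℂ) := by push_cast; ring
  rw [h]
  exact_mod_cast Nat.succ_ne_zero _ ∘ (by omega : n₁ + 1 + n₂ = 0 → (n₁ + n₂).succ = 0)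

/-- B5. -/
theorem dichotomy (p : ℕ) [Fact p.Prime] (P : Sylow p G) (hP : Nat.card P = p)
    (x : G) (hx : x ∈ (P : Subgroup G)) (hx1 : x ≠ 1) (H : Subgroup (ZMod p)ˣ)
    (M : Ideal AlgInt) (hM : IsPModular p M) (X Y : Set (IrrCharacter G))
    (εX : IrrCharacter G → ℤ) (ε : ℤ) (hD : PBData p M P (Nat.card H) X Y εX ε)
    (ψ ψ' : IrrCharacter G)
    (hsupp : ∀ k ∈ Subgroup.centralizer ((P : Subgroup G) : Set G), ¬ p ∣ orderOf k →
      ∑ i ∈ Finset.range p, (ψ : G → ℂ) (x ^ i * k) * conj ((ψ' : G → ℂ) (x ^ i * k)) = 0)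
    (hreg : ∀ g : G, ¬ p ∣ orderOf g → (ψ' : G → ℂ) g = (ψ : G → ℂ) g) :
    (∃ ξ ∈ X, εX ξ = -1 ∧
        classInner (fun g => (ψ : G → ℂ) g * conj ((ψ' : G → ℂ) g)) (ξ : G → ℂ) ≠ 0) ∨
      (∃ υ ∈ Y,
        classInner (fun g => (ψ : G → ℂ) g * conj ((ψ' : G → ℂ) g)) (υ : G → ℂ) ≠ 0) := by
  classical
  have hp : p.Prime := Fact.out
  obtain ⟨hxp, hxu⟩ := basic_x p P hP x hx hx1
  set Ξ : G → ℂ := fun g => (ψ : G → ℂ) g * conj ((ψ' : G → ℂ) g) with hΞdef
  by_contra hcon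
  rw [not_or] at hcon
  obtain ⟨hconX, hconY⟩ := hcon
  have hX : ∀ ξ ∈ X, εX ξ = -1 → classInner Ξ (ξ : G → ℂ) = 0 := by
    intro ξ hξ hε
    by_contra h
    exact hconX ⟨ξ, hξ, hε, h⟩
  have hY : ∀ υ ∈ Y, classInner Ξ (υ : G → ℂ) = 0 := by
    intro υ hυ
    by_contra h
    exact hconY ⟨υ, hυ, h⟩
  -- `Ξ` is a character
  have hΞ : IsCharacter G Ξ := by
    have h1 := Cfsg.Agent.Lib.helper4.isCharacter_mul
      (Cfsg.Agent.Lib.helper81.irr_isCharacter ψ)
      (Cfsg.Agent.Lib.helper4.isCharacter_conj (Cfsg.Agent.Lib.helper81.irr_isCharacter ψ'))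
    exact h1
  obtain ⟨l, hl⟩ := Cfsg.Agent.Lib.helper4.exists_irr_list_of_isCharacter hΞ
  -- the section functional
  set Kf : Finset G := Finset.univ.filter
    (fun y : G => y ∈ Subgroup.centralizer ((P : Subgroup G) : Set G) ∧ ¬ p ∣ orderOf y) with hKf
  set T : (G → ℂ) → ℂ := fun f => ∑ i ∈ Finset.Ico 1 p, ∑ y ∈ Kf, f (x ^ i * y) with hT
  have hT0 : T 0 = 0 := by simp [hT]
  have hTadd : ∀ f g : G → ℂ, T (f + g) = T f + T g := by
    intro f g
    simp only [hT, Pi.add_apply, Finset.sum_add_distrib]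
  -- each constituent contributes a nonnegative real
  have hconst : ∀ χ ∈ l, ∃ t : ℝ, 0 ≤ t ∧ T (χ : G → ℂ) = (t : ℂ) := by
    intro χ hχl
    have hne : classInner Ξ (χ : G → ℂ) ≠ 0 := by
      rw [hl]
      exact helper80_classInner_list_mem_ne_zero l χ hχl
    by_cases hPB : χ ∈ principalBlock M G
    · rw [hD.union] at hPB
      rcases hPB with hχX | hχY
      · have hε : εX χ = 1 := by
          rcases hD.signX χ hχX with h | h
          · exact h
          · exact absurd (hX χ hχX h) hne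
        refine ⟨((p - 1 : ℕ) : ℝ) * (Kf.card : ℝ), by positivity, ?_⟩
        have hval : ∀ i ∈ Finset.Ico 1 p, ∀ y ∈ Kf, (χ : G → ℂ) (x ^ i * y) = 1 := by
          intro i hi y hy
          rw [Finset.mem_Ico] at hi
          rw [hKf, Finset.mem_filter] at hy
          have hpi : ¬ p ∣ i := Nat.not_dvd_of_pos_of_lt (by omega) hi.2
          have := hD.valX χ hχX (x ^ i) (pow_mem hx i) (hxu i hpi) y hy.2.1 hy.2.2
          rw [this, hε]
          simp
        have h1 : T (χ : G → ℂ) = ∑ i ∈ Finset.Ico 1 p, ∑ y ∈ Kf, (1 : ℂ) := by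
          simp only [hT]
          exact Finset.sum_congr rfl (fun i hi => Finset.sum_congr rfl (fun y hy => hval i hi y hy))
        rw [h1]
        simp only [Finset.sum_const, Nat.card_Ico, nsmul_eq_mul, mul_one]
        push_cast
        ring
      · exact absurd (hY χ hχY) hne
    · refine ⟨0, le_refl _, ?_⟩
      have hzero : ∀ i ∈ Finset.Ico 1 p, ∑ y ∈ Kf, (χ : G → ℂ) (x ^ i * y) = 0 := by
        intro i hi
        rw [Finset.mem_Ico] at hi
        have hpi : ¬ p ∣ i := Nat.not_dvd_of_pos_of_lt (by omega) hi.2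
        have h := section_sum_eq_zero p M hM P hP (x ^ i) (pow_mem hx i) (hxu i hpi) χ hPB
        rw [hKf, Finset.sum_filter]
        have h2 : ∑ y : G, (if y ∈ Subgroup.centralizer ((P : Subgroup G) : Set G) ∧ ¬ p ∣ orderOf y
              then (χ : G → ℂ) (x ^ i * y) else 0)
            = ∑ y : G, Set.indicator
              {y : G | y ∈ Subgroup.centralizer ((P : Subgroup G) : Set G) ∧ ¬ p ∣ orderOf y}
              (fun y => (χ : G → ℂ) (x ^ i * y)) y := by
          refine Finset.sum_congr rfl (fun y _ => ?_)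
          rw [Set.indicator_apply]
          rfl
        rw [h2]
        exact h
      simp only [hT]
      rw [Finset.sum_eq_zero hzero]
      simp
  have hlist : ∀ l' : List (IrrCharacter G),
      (∀ χ ∈ l', ∃ t : ℝ, 0 ≤ t ∧ T (χ : G → ℂ) = (t : ℂ)) →
      ∃ t : ℝ, 0 ≤ t ∧ T (l'.map Subtype.val).sum = (t : ℂ) := by
    intro l'
    induction l' with
    | nil => intro _; exact ⟨0, le_refl _, by simp [hT0]⟩
    | cons a l' ih =>
      intro h
      obtain ⟨t₁, ht₁, h₁⟩ := h a (List.mem_cons_self)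
      obtain ⟨t₂, ht₂, h₂⟩ := ih (fun χ hχ => h χ (List.mem_cons_of_mem _ hχ))
      refine ⟨t₁ + t₂, add_nonneg ht₁ ht₂, ?_⟩
      rw [List.map_cons, List.sum_cons, hTadd, h₁, h₂]
      push_cast
      rfl
  obtain ⟨t, ht, hTt⟩ := hlist l hconst
  rw [← hl] at hTt
  -- the other evaluation of `T Ξ`
  have hsec : ∀ y ∈ Kf, ∑ i ∈ Finset.Ico 1 p, Ξ (x ^ i * y)
      = -((Complex.normSq ((ψ : G → ℂ) y) : ℝ) : ℂ) := by
    intro y hy
    rw [hKf, Finset.mem_filter] at hy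
    have h := hsupp y hy.2.1 hy.2.2
    rw [Finset.range_eq_Ico, Finset.sum_eq_sum_Ico_succ_bot hp.pos] at h
    have h' : ∑ i ∈ Finset.Ico 1 p, Ξ (x ^ i * y) = -(Ξ y) := by
      have e : Ξ y = (ψ : G → ℂ) (x ^ 0 * y) * conj ((ψ' : G → ℂ) (x ^ 0 * y)) := by
        simp [hΞdef]
      rw [e]
      exact eq_neg_of_add_eq_zero_right h
    rw [h']
    congr 1
    show (ψ : G → ℂ) y * conj ((ψ' : G → ℂ) y) = _
    rw [hreg y hy.2.2, Complex.mul_conj]
  have hTΞ : T Ξ = -(((∑ y ∈ Kf, Complex.normSq ((ψ : G → ℂ) y) : ℝ)) : ℂ) := by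
    simp only [hT]
    rw [Finset.sum_comm, Finset.sum_congr rfl hsec]
    rw [Finset.sum_neg_distrib]
    push_cast
    rfl
  have hpos : 0 < ∑ y ∈ Kf, Complex.normSq ((ψ : G → ℂ) y) := by
    have h1mem : (1 : G) ∈ Kf := by
      rw [hKf, Finset.mem_filter]
      refine ⟨Finset.mem_univ _, Subgroup.one_mem _, ?_⟩
      rw [orderOf_one]
      exact hp.one_lt.ne' ∘ Nat.dvd_one.mp
    have h1pos : 0 < Complex.normSq ((ψ : G → ℂ) 1) :=
      Complex.normSq_pos.mpr (Cfsg.Agent.Lib.helper4.irr_degree_ne_zero ψ.2)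
    calc 0 < Complex.normSq ((ψ : G → ℂ) 1) := h1pos
      _ ≤ ∑ y ∈ Kf, Complex.normSq ((ψ : G → ℂ) y) :=
        Finset.single_le_sum (f := fun y => Complex.normSq ((ψ : G → ℂ) y))
          (fun y _ => Complex.normSq_nonneg _) h1mem
  rw [hTΞ] at hTt
  have hreal : -(∑ y ∈ Kf, Complex.normSq ((ψ : G → ℂ) y)) = t := by
    apply Complex.ofReal_injective
    rw [← hTt]
    push_cast
    rfl
  linarith

end Cfsg.Agent.Lib.helper2.BF
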