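import Mathlib
import Cfsg.Agent.Lib.helper62.FrobExtract

/-!
# S0690 (Zassenhaus) piece B: from a fixed-point-free module of prime exponent to a
fixed-point-free linear representation over a finite field containing enough roots of unity

For `V` an `𝔽_p`-space with a fixed-point-free action of `G` (`p ∤ |G|`) we take
`F = GaloisField p m` with `|G| ∣ p ^ m - 1` and `W = Hom_{𝔽_p}(V, F)` with the action
`f ↦ f ∘ g⁻¹`.
-/

set_option autoImplicit false

namespace Cfsg.Agent.Lib.helper80

universe u v

section core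

variable (p : ℕ) {G : Type u} [Group G] {V : Type v} [AddCommGroup V]
  [Module (ZMod p) V] (F : Type) [Field F] [Algebra (ZMod p) F]

/-- The dual action on `Hom(V, F)`: `f ↦ f ∘ act g⁻¹`. -/
noncomputable def zbAct (act : G →* Module.End (ZMod p) V) (g : G) :
    (V →ₗ[ZMod p] F) →ₗ[F] (V →ₗ[ZMod p] F) where
  toFun f := f.comp (act g⁻¹)
  map_add' _ _ := rfl
  map_smul' _ _ := rfl

theorem zbAct_apply (act : G →* Module.End (ZMod p) V) (g : G) (f : V →ₗ[ZMod p] F) (x : V) :
    zbAct p F act g f x = f (act g⁻¹ x) := rfl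

theorem zbAct_mul (act : G →* Module.End (ZMod p) V) (g h : G) :
    zbAct p F act (g * h) = zbAct p F act g ∘ₗ zbAct p F act h := by
  refine LinearMap.ext (fun f => LinearMap.ext (fun x => ?_))
  rw [LinearMap.comp_apply, zbAct_apply, zbAct_apply, zbAct_apply, mul_inv_rev, map_mul,
    Module.End.mul_apply]

theorem zbAct_one (act : G →* Module.End (ZMod p) V) : zbAct p F act 1 = LinearMap.id := by
  refine LinearMap.ext (fun f => LinearMap.ext (fun x => ?_))
  rw [zbAct_apply, inv_one, map_one, Module.End.one_apply, LinearMap.id_apply]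

/-- The dual action as a homomorphism into the linear automorphisms. -/
noncomputable def zbRho (act : G →* Module.End (ZMod p) V) :
    G →* ((V →ₗ[ZMod p] F) ≃ₗ[F] (V →ₗ[ZMod p] F)) where
  toFun g := LinearEquiv.ofLinearMap (zbAct p F act g) (zbAct p F act g⁻¹)
    (by rw [← zbAct_mul, mul_inv_cancel, zbAct_one])
    (by rw [← zbAct_mul, inv_mul_cancel, zbAct_one])
  map_one' := by
    refine LinearEquiv.ext (fun f => ?_)
    show zbAct p F act 1 f = f
    rw [zbAct_one, LinearMap.id_apply]
  map_mul' g h := by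
    refine LinearEquiv.ext (fun f => ?_)
    show zbAct p F act (g * h) f = zbAct p F act g (zbAct p F act h f)
    rw [zbAct_mul, LinearMap.comp_apply]

theorem zbRho_apply (act : G →* Module.End (ZMod p) V) (g : G) (f : V →ₗ[ZMod p] F) (x : V) :
    zbRho p F act g f x = f (act g⁻¹ x) := rfl

end core

theorem zb_prod_X_sub_C (F : Type*) [Field F] [Fintype F] :
    ∏ a : F, (Polynomial.X - Polynomial.C a)
      = (Polynomial.X ^ Fintype.card F - Polynomial.X : Polynomial F) := by
  have hq : 1 < Fintype.card F := Fintype.one_lt_card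
  have hmonic : (Polynomial.X ^ Fintype.card F - Polynomial.X : Polynomial F).Monic :=
    Polynomial.monic_X_pow_sub (by rw [Polynomial.degree_X]; exact_mod_cast hq)
  have hroots := FiniteField.roots_X_pow_card_sub_X F
  have h := Polynomial.prod_multiset_X_sub_C_of_monic_of_roots_card_eq hmonic
    (by rw [hroots, FiniteField.X_pow_card_sub_X_natDegree_eq F hq]; exact Finset.card_univ)
  rw [hroots] at h
  exact h

/-- An endomorphism `T` of a nonzero space over a finite field `F` with `T ^ |F| = T` has an
eigenvector. -/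
theorem zb_exists_eigen {F : Type*} [Field F] [Fintype F] {U : Type*} [AddCommGroup U]
    [Module F U] [Nontrivial U] (T : Module.End F U) (hT : T ^ (Fintype.card F) = T) :
    ∃ w : U, w ≠ 0 ∧ ∃ c : F, T w = c • w := by
  classical
  by_contra hcon
  push Not at hcon
  have hinj : ∀ c : F, Function.Injective (T - algebraMap F (Module.End F U) c) := by
    intro c
    rw [← LinearMap.ker_eq_bot, LinearMap.ker_eq_bot']
    intro w hw
    by_contra hw0
    apply hcon w hw0 c
    rw [LinearMap.sub_apply, Module.algebraMap_end_apply, sub_eq_zero] at hw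
    exact hw
  have hlist : ∀ l : List F, Function.Injective
      ((l.map (fun c => T - algebraMap F (Module.End F U) c)).prod) := by
    intro l
    induction l with
    | nil =>
      rw [List.map_nil, List.prod_nil]
      exact Function.injective_id
    | cons c l ih =>
      rw [List.map_cons, List.prod_cons]
      exact (hinj c).comp ih
  have hprod : (Finset.univ.toList.map
      (fun c : F => T - algebraMap F (Module.End F U) c)).prod = 0 := by
    have h1 := zb_prod_X_sub_C F
    have h2 := congrArg (Polynomial.aeval T) h1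
    rw [← Finset.prod_map_toList, map_list_prod, List.map_map, map_sub, map_pow, Polynomial.aeval_X,
      hT, sub_self] at h2
    rw [← h2]
    congr 1
    apply List.map_congr_left
    intro c _
    rw [Function.comp_apply, map_sub, Polynomial.aeval_X, Polynomial.aeval_C]
  have h0 := hlist Finset.univ.toList
  rw [hprod] at h0
  obtain ⟨w, hw⟩ := exists_ne (0 : U)
  exact hw (h0 (by rw [LinearMap.zero_apply, LinearMap.zero_apply]))

/-- Piece B for an `𝔽_p`-linear action. -/
theorem lin_b_core (p : ℕ) [Fact p.Prime] {G : Type u} [Group G] [Finite G] {V : Type v}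
    [AddCommGroup V] [Module (ZMod p) V] [Finite V] [Nontrivial V]
    (act : G →* Module.End (ZMod p) V) (hpG : ¬ p ∣ Nat.card G)
    (hfpf : ∀ g : G, g ≠ 1 → ∀ x : V, act g x = x → x = 0) :
    ∃ (F : Type) (_ : Field F) (_ : Fintype F) (W : Type v) (_ : AddCommGroup W) (_ : Module F W)
      (ρ : G →* (W ≃ₗ[F] W)), Nontrivial W ∧ ((Nat.card G : ℕ) : F) ≠ 0 ∧
      (∀ g : G, g ≠ 1 → ∀ w : W, ρ g w = w → w = 0) ∧
      (∀ g : G, ∀ U : Submodule F W, U ≠ ⊥ → (∀ w ∈ U, ρ g w ∈ U) →
        ∃ w ∈ U, w ≠ 0 ∧ ∃ c : F, ρ g w = c • w) := by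
  classical
  have hp : p.Prime := Fact.out
  have hnpos : 0 < Nat.card G := Nat.card_pos
  have hmpos : 0 < Nat.totient (Nat.card G) := Nat.totient_pos.mpr hnpos
  have hcop : Nat.Coprime p (Nat.card G) := (Nat.Prime.coprime_iff_not_dvd hp).mpr hpG
  have hmod : p ^ Nat.totient (Nat.card G) ≡ 1 [MOD Nat.card G] := Nat.ModEq.pow_totient hcop
  have hdvd : Nat.card G ∣ p ^ Nat.totient (Nat.card G) - 1 :=
    (Nat.modEq_iff_dvd' (Nat.one_le_pow _ _ hp.pos)).mp hmod.symm
  generalize Nat.totient (Nat.card G) = m at hmpos hdvd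
  let _ : Fintype (GaloisField p m) := Fintype.ofFinite _
  have hcard : Fintype.card (GaloisField p m) = p ^ m := by
    rw [← Nat.card_eq_fintype_card, GaloisField.card p m hmpos.ne']
  have hq : Fintype.card (GaloisField p m) = (p ^ m - 1) + 1 := by
    rw [hcard, Nat.sub_add_cancel (Nat.one_le_pow _ _ hp.pos)]
  refine ⟨GaloisField p m, inferInstance, inferInstance, V →ₗ[ZMod p] GaloisField p m,
    inferInstance, inferInstance, zbRho p (GaloisField p m) act, ?_, ?_, ?_, ?_⟩
  · -- nontrivial
    obtain ⟨x, hx⟩ := exists_ne (0 : V)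
    let b := Module.Basis.ofVectorSpace (ZMod p) V
    have hex : ∃ i, b.repr x i ≠ 0 := by
      by_contra hcon
      push Not at hcon
      apply hx
      apply b.repr.injective
      rw [map_zero]
      exact Finsupp.ext (fun i => by rw [hcon i, Finsupp.zero_apply])
    obtain ⟨i, hi⟩ := hex
    refine ⟨⟨(Algebra.linearMap (ZMod p) (GaloisField p m)) ∘ₗ (b.coord i), 0, ?_⟩⟩
    intro h0
    have h1 := congrArg (fun f : V →ₗ[ZMod p] GaloisField p m => f x) h0
    simp only [LinearMap.comp_apply, Algebra.linearMap_apply, Module.Basis.coord_apply,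
      LinearMap.zero_apply] at h1
    apply hi
    have hinj : Function.Injective (algebraMap (ZMod p) (GaloisField p m)) :=
      (algebraMap (ZMod p) (GaloisField p m)).injective
    apply hinj
    rw [h1, map_zero]
  · -- characteristic
    intro h0
    rw [CharP.cast_eq_zero_iff (GaloisField p m) p] at h0
    exact hpG h0
  · -- fixed-point-free
    intro g hg f hf
    have hg' : g⁻¹ ≠ 1 := inv_ne_one.mpr hg
    have hinj : Function.Injective (fun x : V => act g⁻¹ x - x) := by
      intro x y hxy
      have hxy' : act g⁻¹ x - x = act g⁻¹ y - y := hxy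
      have h1 : act g⁻¹ (x - y) = x - y := by
        rw [map_sub]
        have h2 : act g⁻¹ x - act g⁻¹ y - (x - y) = (act g⁻¹ x - x) - (act g⁻¹ y - y) := by abel
        have h3 := h2.trans (sub_eq_zero.mpr hxy')
        exact sub_eq_zero.mp h3
      exact sub_eq_zero.mp (hfpf g⁻¹ hg' _ h1)
    have hsurj := Finite.injective_iff_surjective.mp hinj
    refine LinearMap.ext (fun x => ?_)
    obtain ⟨y, rfl⟩ := hsurj x
    show f (act g⁻¹ y - y) = 0
    rw [map_sub]
    have h1 := congrArg (fun f' : V →ₗ[ZMod p] GaloisField p m => f' y) hf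
    exact sub_eq_zero.mpr h1
  · -- eigenvectors
    intro g U hU hinv
    have : Nontrivial ↥U := (Submodule.nontrivial_iff_ne_bot).mpr hU
    let T : Module.End (GaloisField p m) ↥U :=
      LinearMap.restrict
        ((zbRho p (GaloisField p m) act g :
            (V →ₗ[ZMod p] GaloisField p m) ≃ₗ[GaloisField p m] (V →ₗ[ZMod p] GaloisField p m)) :
          (V →ₗ[ZMod p] GaloisField p m) →ₗ[GaloisField p m] (V →ₗ[ZMod p] GaloisField p m))
        hinv
    have hT_apply : ∀ w : ↥U, ((T w : ↥U) : V →ₗ[ZMod p] GaloisField p m)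
        = zbRho p (GaloisField p m) act g (w : V →ₗ[ZMod p] GaloisField p m) := fun w => rfl
    have hpow : ∀ (k : ℕ) (w : ↥U), (((T ^ k) w : ↥U) : V →ₗ[ZMod p] GaloisField p m)
        = zbRho p (GaloisField p m) act (g ^ k) (w : V →ₗ[ZMod p] GaloisField p m) := by
      intro k
      induction k with
      | zero =>
        intro w
        rw [pow_zero, pow_zero, map_one, Module.End.one_apply, LinearEquiv.coe_one, id_eq]
      | succ k ih =>
        intro w
        rw [pow_succ, Module.End.mul_apply, ih, hT_apply, pow_succ, map_mul, LinearEquiv.mul_apply]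
    have hgq : g ^ (p ^ m - 1) = 1 := by
      obtain ⟨k, hk⟩ := hdvd
      rw [hk, pow_mul, pow_card_eq_one', one_pow]
    have hT : T ^ Fintype.card (GaloisField p m) = T := by
      refine LinearMap.ext (fun w => Subtype.ext ?_)
      rw [hpow, hq, pow_succ, hgq, one_mul, hT_apply]
    obtain ⟨w, hw0, c, hc⟩ := zb_exists_eigen T hT
    refine ⟨(w : V →ₗ[ZMod p] GaloisField p m), w.2, ?_, c, ?_⟩
    · intro h0
      exact hw0 (Subtype.ext h0)
    · have h1 := congrArg Subtype.val hc
      rw [hT_apply] at h1
      exact h1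

/-- The action of `G` on an `𝔽_p`-space as a homomorphism into the endomorphism ring. -/
noncomputable def zbActHom (p : ℕ) (G : Type u) [Group G] (V : Type v) [AddCommGroup V]
    [Module (ZMod p) V] [DistribMulAction G V] : G →* Module.End (ZMod p) V where
  toFun g := (DistribSMul.toAddMonoidHom V g).toZModLinearMap p
  map_one' := by
    refine LinearMap.ext (fun x => ?_)
    show (1 : G) • x = x
    rw [one_smul]
  map_mul' g h := by
    refine LinearMap.ext (fun x => ?_)
    show (g * h) • x = g • (h • x)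
    rw [mul_smul]

theorem zbActHom_apply (p : ℕ) (G : Type u) [Group G] (V : Type v) [AddCommGroup V]
    [Module (ZMod p) V] [DistribMulAction G V] (g : G) (x : V) :
    zbActHom p G V g x = g • x := rfl

open Cfsg.Agent.Lib.helper62.FrobExtract in
/-- **Piece B** of S0690. -/
theorem lin_b {G : Type u} [Group G] [Finite G] (h : HasFpfMod.{u, v} G) :
    ∃ (F : Type) (_ : Field F) (_ : Fintype F) (W : Type v) (_ : AddCommGroup W) (_ : Module F W)
      (ρ : G →* (W ≃ₗ[F] W)), Nontrivial W ∧ ((Nat.card G : ℕ) : F) ≠ 0 ∧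
      (∀ g : G, g ≠ 1 → ∀ w : W, ρ g w = w → w = 0) ∧
      (∀ g : G, ∀ U : Submodule F W, U ≠ ⊥ → (∀ w ∈ U, ρ g w ∈ U) →
        ∃ w ∈ U, w ≠ 0 ∧ ∃ c : F, ρ g w = c • w) := by
  obtain ⟨p, hp, V, i1, i2, hpG, hfin, hnt, hpV, hfpf⟩ := h
  let _ : Module (ZMod p) V := AddCommGroup.zmodModule hpV
  exact lin_b_core p (zbActHom p G V) hpG (fun g hg x hx => hfpf g hg x hx)

end Cfsg.Agent.Lib.helper80
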