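import Mathlib
import Cfsg.Prelude.Def_BrauerPairs
import Cfsg.Agent.Lib.helper80.BlockIdem
import Cfsg.Agent.Lib.helper80.Brauer

/-!
The functional `brauerOmega P β ξ` (central character of `ξ` on the truncation of `β` to
`C_G(P)`): linearity, values in the local ring, congruence within a block, and multiplicativity
modulo the local ideal on functions invariant under `P` and under `C_G(P)`.
-/

set_option autoImplicit false

namespace Cfsg.Agent.Lib.helper80

open Cfsg
open scoped ComplexConjugate

universe u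

section

variable {G : Type u} [Group G]

theorem brauerOmega_eq_om (P : Subgroup G) [Fintype (Subgroup.centralizer (P : Set G))]
    (β : G → ℂ) (ξ : Subgroup.centralizer (P : Set G) → ℂ) :
    brauerOmega P β ξ = om ξ (fun x : Subgroup.centralizer (P : Set G) => β x) := by
  unfold brauerOmega om
  rw [finsum_eq_sum_of_fintype, Finset.sum_div]

theorem brauerOmega_congr (P : Subgroup G) {β₁ β₂ : G → ℂ}
    (h : ∀ x ∈ Subgroup.centralizer (P : Set G), β₁ x = β₂ x)
    (ξ : Subgroup.centralizer (P : Set G) → ℂ) : brauerOmega P β₁ ξ = brauerOmega P β₂ ξ := by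
  unfold brauerOmega
  apply finsum_congr
  intro x
  rw [h x x.2]

theorem brauerOmega_zero (P : Subgroup G) (ξ : Subgroup.centralizer (P : Set G) → ℂ) :
    brauerOmega P (fun _ => 0) ξ = 0 := by
  unfold brauerOmega
  simp

theorem brauerOmega_sum [Finite G] (P : Subgroup G) {ι : Type*} (s : Finset ι) (f : ι → G → ℂ)
    (ξ : Subgroup.centralizer (P : Set G) → ℂ) :
    brauerOmega P (fun g => ∑ i ∈ s, f i g) ξ = ∑ i ∈ s, brauerOmega P (f i) ξ := by
  have := Fintype.ofFinite (Subgroup.centralizer (P : Set G))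
  simp_rw [brauerOmega_eq_om]
  exact om_sum ξ s (fun i (x : Subgroup.centralizer (P : Set G)) => f i x)

theorem brauerOmega_sub [Finite G] (P : Subgroup G) (f₁ f₂ : G → ℂ)
    (ξ : Subgroup.centralizer (P : Set G) → ℂ) :
    brauerOmega P (fun g => f₁ g - f₂ g) ξ = brauerOmega P f₁ ξ - brauerOmega P f₂ ξ := by
  have := Fintype.ofFinite (Subgroup.centralizer (P : Set G))
  simp_rw [brauerOmega_eq_om]
  exact om_sub ξ (fun (x : Subgroup.centralizer (P : Set G)) => f₁ x) (fun x => f₂ x)

theorem brauerOmega_add [Finite G] (P : Subgroup G) (f₁ f₂ : G → ℂ)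
    (ξ : Subgroup.centralizer (P : Set G) → ℂ) :
    brauerOmega P (fun g => f₁ g + f₂ g) ξ = brauerOmega P f₁ ξ + brauerOmega P f₂ ξ := by
  have := Fintype.ofFinite (Subgroup.centralizer (P : Set G))
  simp_rw [brauerOmega_eq_om]
  exact om_add ξ (fun (x : Subgroup.centralizer (P : Set G)) => f₁ x) (fun x => f₂ x)

theorem brauerOmega_smul [Finite G] (P : Subgroup G) (c : ℂ) (f : G → ℂ)
    (ξ : Subgroup.centralizer (P : Set G) → ℂ) :
    brauerOmega P (fun g => c * f g) ξ = c * brauerOmega P f ξ := by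
  have := Fintype.ofFinite (Subgroup.centralizer (P : Set G))
  simp_rw [brauerOmega_eq_om]
  exact om_smul ξ c (fun (x : Subgroup.centralizer (P : Set G)) => f x)

open scoped Classical in
theorem brauerOmega_delta [Finite G] (P : Subgroup G)
    (ξ : Subgroup.centralizer (P : Set G) → ℂ) (h1 : ξ 1 ≠ 0) :
    brauerOmega P (fun g => if g = 1 then 1 else 0) ξ = 1 := by
  have := Fintype.ofFinite (Subgroup.centralizer (P : Set G))
  rw [brauerOmega_eq_om]
  refine (om_congr ξ ?_).trans (om_delta ξ h1)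
  intro x
  have : ((x : G) = 1) ↔ x = 1 := by
    constructor
    · intro h; exact Subtype.ext h
    · intro h; rw [h]; rfl
  by_cases hx : x = 1
  · rw [if_pos hx, if_pos (this.mpr hx)]
  · rw [if_neg hx, if_neg (fun h => hx (this.mp h))]

/-- Values in the local ring. -/
theorem memLocalRing_brauerOmega [Finite G] {M : Ideal AlgInt} (hM : M.IsPrime) (P : Subgroup G)
    (a : G → ℂ) (haC : ∀ u ∈ Subgroup.centralizer (P : Set G), ∀ x : G, a (u * x * u⁻¹) = a x)
    (haR : ∀ x, MemLocalRing M (a x)) (ξ : IrrCharacter (Subgroup.centralizer (P : Set G))) :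
    MemLocalRing M (brauerOmega P a (ξ : Subgroup.centralizer (P : Set G) → ℂ)) := by
  have := Fintype.ofFinite (Subgroup.centralizer (P : Set G))
  rw [brauerOmega_eq_om]
  apply memLocalRing_om hM ξ
  · intro g h
    exact haC h h.2 g
  · intro g
    exact haR g

/-- Values in the local ideal for functions with values in the local ideal on `C_G(P)`. -/
theorem memLocalIdeal_brauerOmega [Finite G] {M : Ideal AlgInt} (hM : M.IsPrime) (P : Subgroup G)
    (a : G → ℂ) (haC : ∀ u ∈ Subgroup.centralizer (P : Set G), ∀ x : G, a (u * x * u⁻¹) = a x)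
    (haJ : ∀ x ∈ Subgroup.centralizer (P : Set G), MemLocalIdeal M (a x))
    (ξ : IrrCharacter (Subgroup.centralizer (P : Set G))) :
    MemLocalIdeal M (brauerOmega P a (ξ : Subgroup.centralizer (P : Set G) → ℂ)) := by
  have := Fintype.ofFinite (Subgroup.centralizer (P : Set G))
  rw [brauerOmega_eq_om]
  apply memLocalIdeal_om hM ξ
  · intro g h
    exact haC h h.2 g
  · intro g
    exact haJ g g.2

/-- Characters of `C_G(P)` in the same block give congruent values. -/
theorem memLocalIdeal_brauerOmega_sub [Finite G] {M : Ideal AlgInt} (hM : M.IsPrime)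
    (P : Subgroup G) (a : G → ℂ)
    (haC : ∀ u ∈ Subgroup.centralizer (P : Set G), ∀ x : G, a (u * x * u⁻¹) = a x)
    (haR : ∀ x, MemLocalRing M (a x)) (ξ ξ' : IrrCharacter (Subgroup.centralizer (P : Set G)))
    (h : SameBlock M (ξ : Subgroup.centralizer (P : Set G) → ℂ)
      (ξ' : Subgroup.centralizer (P : Set G) → ℂ)) :
    MemLocalIdeal M (brauerOmega P a (ξ : Subgroup.centralizer (P : Set G) → ℂ)
      - brauerOmega P a (ξ' : Subgroup.centralizer (P : Set G) → ℂ)) := by
  have := Fintype.ofFinite (Subgroup.centralizer (P : Set G))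
  rw [brauerOmega_eq_om, brauerOmega_eq_om]
  apply memLocalIdeal_om_sub hM ξ ξ' h
  · intro g h
    exact haC h h.2 g
  · intro g
    exact haR g

/-- Convolution of functions invariant under conjugation by `u` is invariant under `u`. -/
theorem conv_conj_invariant [Fintype G] (a b : G → ℂ) (u : G)
    (ha : ∀ x : G, a (u * x * u⁻¹) = a x) (hb : ∀ x : G, b (u * x * u⁻¹) = b x) (x : G) :
    Cfsg.Agent.Lib.helper81.conv a b (u * x * u⁻¹) = Cfsg.Agent.Lib.helper81.conv a b x := by
  unfold Cfsg.Agent.Lib.helper81.conv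
  refine (Fintype.sum_equiv (MulAut.conj u).toEquiv _ _ (fun y => ?_)).symm
  simp only [MulEquiv.toEquiv_eq_coe, MulEquiv.coe_toEquiv, MulAut.conj_apply]
  rw [ha y]
  have : (u * y * u⁻¹)⁻¹ * (u * x * u⁻¹) = u * (y⁻¹ * x) * u⁻¹ := by group
  rw [this, hb]

/-- The Brauer homomorphism is multiplicative modulo the local ideal. -/
theorem brauerOmega_conv [Fintype G] {p : ℕ} [Fact p.Prime] {M : Ideal AlgInt}
    (hM : IsPModular p M) (P : Subgroup G) (hP : IsPGroup p P) (a b : G → ℂ)
    (ha : ∀ u ∈ P, ∀ x : G, a (u * x * u⁻¹) = a x) (hb : ∀ u ∈ P, ∀ x : G, b (u * x * u⁻¹) = b x)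
    (haC : ∀ u ∈ Subgroup.centralizer (P : Set G), ∀ x : G, a (u * x * u⁻¹) = a x)
    (hbC : ∀ u ∈ Subgroup.centralizer (P : Set G), ∀ x : G, b (u * x * u⁻¹) = b x)
    (haR : ∀ x, MemLocalRing M (a x)) (hbR : ∀ x, MemLocalRing M (b x))
    (ξ : IrrCharacter (Subgroup.centralizer (P : Set G))) :
    MemLocalIdeal M (brauerOmega P (Cfsg.Agent.Lib.helper81.conv a b)
        (ξ : Subgroup.centralizer (P : Set G) → ℂ)
      - brauerOmega P a (ξ : Subgroup.centralizer (P : Set G) → ℂ)
        * brauerOmega P b (ξ : Subgroup.centralizer (P : Set G) → ℂ)) := by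
  have hMp : M.IsPrime := Cfsg.Agent.Lib.helper20.isPrime_of_isPModular hM
  have := Fintype.ofFinite (Subgroup.centralizer (P : Set G))
  rw [brauerOmega_eq_om, brauerOmega_eq_om, brauerOmega_eq_om]
  have hA : IsClassFunction (Subgroup.centralizer (P : Set G))
      (fun x : Subgroup.centralizer (P : Set G) => a x) := fun g h => haC h h.2 g
  have hB : IsClassFunction (Subgroup.centralizer (P : Set G))
      (fun x : Subgroup.centralizer (P : Set G) => b x) := fun g h => hbC h h.2 g
  rw [← om_conv ξ hA hB, ← om_sub]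
  apply memLocalIdeal_om hMp ξ
  · intro g h
    have h1 := Cfsg.Agent.Lib.helper81.conv_classFun hA hB g h
    have h2 := conv_conj_invariant a b (h : G) (haC h h.2) (hbC h h.2) (g : G)
    show Cfsg.Agent.Lib.helper81.conv a b ((h * g * h⁻¹ : Subgroup.centralizer (P : Set G)) : G)
      - Cfsg.Agent.Lib.helper81.conv _ _ (h * g * h⁻¹) = _
    rw [h1]
    have h3 : ((h * g * h⁻¹ : Subgroup.centralizer (P : Set G)) : G) = (h : G) * g * (h : G)⁻¹ := rfl
    rw [h3, h2]
  · intro c
    exact brauer_conv hM P hP a b ha hb haR hbR c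

end

end Cfsg.Agent.Lib.helper80
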