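import Mathlib
import Cfsg.Prelude.Def_BrauerPairs
import Cfsg.Agent.Lib.helper80.BrauerOmega
import Cfsg.Agent.Lib.helper80.ConjIrr
import Cfsg.Agent.Lib.helper80.Separator

/-!
Extension by zero of functions on a subgroup, the local subalgebra of class functions of a
subgroup `K` invariant under a subgroup `X ≤ N_G(K)`, and the Brauer functional
`z ↦ brauerOmega P (extFun K z) ξ` as a local character of it.
-/

set_option autoImplicit false

namespace Cfsg.Agent.Lib.helper80

open Cfsg
open scoped ComplexConjugate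

universe u

section Ext

variable {G : Type u} [Group G]

/-- Extension by zero of a function on a subgroup. -/
noncomputable def extFun (K : Subgroup G) (z : K → ℂ) : G → ℂ :=
  fun g => by classical exact if h : g ∈ K then z ⟨g, h⟩ else 0

theorem extFun_of_mem (K : Subgroup G) (z : K → ℂ) {g : G} (hg : g ∈ K) :
    extFun K z g = z ⟨g, hg⟩ := by
  unfold extFun
  rw [dif_pos hg]

theorem extFun_of_not_mem (K : Subgroup G) (z : K → ℂ) {g : G} (hg : g ∉ K) :
    extFun K z g = 0 := by
  unfold extFun
  rw [dif_neg hg]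

theorem extFun_coe (K : Subgroup G) (z : K → ℂ) (k : K) : extFun K z (k : G) = z k :=
  extFun_of_mem K z k.2

theorem extFun_blockCoeff (K : Subgroup G) (f : Set (IrrCharacter K)) (g : G) :
    extFun K (blockCoeff f) g = subgroupBlockCoeff K f g := rfl

theorem extFun_sub (K : Subgroup G) (z z' : K → ℂ) (g : G) :
    extFun K (fun k => z k - z' k) g = extFun K z g - extFun K z' g := by
  by_cases hg : g ∈ K
  · rw [extFun_of_mem K _ hg, extFun_of_mem K _ hg, extFun_of_mem K _ hg]
  · rw [extFun_of_not_mem K _ hg, extFun_of_not_mem K _ hg, extFun_of_not_mem K _ hg, sub_zero]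

theorem extFun_smul (K : Subgroup G) (c : ℂ) (z : K → ℂ) (g : G) :
    extFun K (fun k => c * z k) g = c * extFun K z g := by
  by_cases hg : g ∈ K
  · rw [extFun_of_mem K _ hg, extFun_of_mem K _ hg]
  · rw [extFun_of_not_mem K _ hg, extFun_of_not_mem K _ hg, mul_zero]

theorem extFun_delta (K : Subgroup G) (g : G) : extFun K (delta : K → ℂ) g = delta g := by
  by_cases hg : g ∈ K
  · rw [extFun_of_mem K _ hg]
    by_cases h1 : g = 1
    · subst h1
      rw [delta_one]
      exact delta_one
    · rw [delta_of_ne h1, delta_of_ne]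
      intro h
      exact h1 (congrArg Subtype.val h)
  · rw [extFun_of_not_mem K _ hg, delta_of_ne]
    intro h
    exact hg (h ▸ K.one_mem)

theorem extFun_memLocalRing {M : Ideal AlgInt} (hM : M.IsPrime) (K : Subgroup G) (z : K → ℂ)
    (hz : ∀ k, MemLocalRing M (z k)) (g : G) : MemLocalRing M (extFun K z g) := by
  by_cases hg : g ∈ K
  · rw [extFun_of_mem K _ hg]; exact hz _
  · rw [extFun_of_not_mem K _ hg]; exact Cfsg.Agent.Lib.helper20.memLocalRing_zero hM

/-- Invariance of the extension under a normalizing element leaving the function invariant. -/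
theorem extFun_conj (K : Subgroup G) (z : K → ℂ) (x : G)
    (hx : x ∈ Subgroup.normalizer (K : Set G))
    (hz : ∀ k k' : K, (k' : G) = x * k * x⁻¹ → z k' = z k) (g : G) :
    extFun K z (x * g * x⁻¹) = extFun K z g := by
  by_cases hg : g ∈ K
  · have hg' : x * g * x⁻¹ ∈ K := conj_mem_of_mem_normalizer hx hg
    rw [extFun_of_mem K _ hg', extFun_of_mem K _ hg]
    exact hz ⟨g, hg⟩ ⟨x * g * x⁻¹, hg'⟩ rfl
  · have hg' : x * g * x⁻¹ ∉ K := by
      intro hc
      apply hg
      have := conj_inv_mem_of_mem_normalizer hx hc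
      have h2 : x⁻¹ * (x * g * x⁻¹) * x = g := by group
      rwa [h2] at this
    rw [extFun_of_not_mem K _ hg', extFun_of_not_mem K _ hg]

/-- Invariance of the extension of a class function under conjugation by elements of `K`. -/
theorem extFun_conj_mem (K : Subgroup G) (z : K → ℂ) (hz : IsClassFunction K z) (u : G)
    (hu : u ∈ K) (g : G) : extFun K z (u * g * u⁻¹) = extFun K z g := by
  apply extFun_conj K z u (Subgroup.le_normalizer hu)
  intro k k' h
  have : k' = ⟨u, hu⟩ * k * ⟨u, hu⟩⁻¹ := Subtype.ext h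
  rw [this]
  exact hz k ⟨u, hu⟩

theorem sum_extFun_mul [Fintype G] (K : Subgroup G) [Fintype K] (z : K → ℂ) (F : G → ℂ) :
    ∑ a : G, extFun K z a * F a = ∑ a : K, z a * F a := by
  classical
  rw [← Finset.sum_filter_add_sum_filter_not Finset.univ (fun x : G => x ∈ K)]
  have h0 : ∑ x ∈ Finset.univ.filter (fun x : G => ¬ x ∈ K), extFun K z x * F x = 0 := by
    apply Finset.sum_eq_zero
    intro x hx
    rw [extFun_of_not_mem K z (by simpa using hx), zero_mul]
  rw [h0, add_zero]
  rw [Finset.sum_subtype (Finset.univ.filter (fun x : G => x ∈ K))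
    (p := fun x => x ∈ K) (by simp) (fun x => extFun K z x * F x)]
  refine Finset.sum_congr rfl (fun a _ => ?_)
  rw [extFun_coe]

/-- Convolution commutes with extension by zero. -/
theorem extFun_conv [Fintype G] (K : Subgroup G) [Fintype K] (z z' : K → ℂ) (g : G) :
    Cfsg.Agent.Lib.helper81.conv (extFun K z) (extFun K z') g
      = extFun K (Cfsg.Agent.Lib.helper81.conv z z') g := by
  unfold Cfsg.Agent.Lib.helper81.conv
  rw [sum_extFun_mul K z (fun a => extFun K z' (a⁻¹ * g))]
  by_cases hg : g ∈ K
  · rw [extFun_of_mem K _ hg]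
    refine Finset.sum_congr rfl (fun a _ => ?_)
    have h1 : (a : G)⁻¹ * g ∈ K := K.mul_mem (K.inv_mem a.2) hg
    rw [extFun_of_mem K _ h1]
    rfl
  · rw [extFun_of_not_mem K _ hg]
    apply Finset.sum_eq_zero
    intro a _
    have h1 : (a : G)⁻¹ * g ∉ K := by
      intro hc
      apply hg
      have := K.mul_mem a.2 hc
      rwa [mul_inv_cancel_left] at this
    rw [extFun_of_not_mem K _ h1, mul_zero]

end Ext

section InvAlg

variable {G : Type u} [Group G]

/-- Class functions on `K` with values in the local ring, invariant under conjugation by `X`. -/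
def invAlg (M : Ideal AlgInt) (K X : Subgroup G) (z : K → ℂ) : Prop :=
  IsClassFunction K z ∧ (∀ k, MemLocalRing M (z k)) ∧
    ∀ x ∈ X, ∀ k k' : K, (k' : G) = x * (k : G) * x⁻¹ → z k' = z k

theorem isLocalSubalgebra_invAlg {M : Ideal AlgInt} (hM : M.IsPrime) (K X : Subgroup G)
    [Fintype K] (hX : X ≤ Subgroup.normalizer (K : Set G)) :
    IsLocalSubalgebra M (invAlg M K X) := by
  classical
  refine ⟨fun z hz => hz.1, fun z hz => hz.2.1, ⟨?_, ?_, ?_⟩, ?_, ?_, ?_⟩
  · intro g h
    have : (h * g * h⁻¹ = 1) ↔ g = 1 := by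
      constructor
      · intro hh
        have h2 : g = h⁻¹ * (h * g * h⁻¹) * h := by group
        rw [h2, hh]; group
      · intro hh; rw [hh]; group
    by_cases hg : g = 1
    · rw [this.mpr hg, hg]
    · rw [delta_of_ne hg, delta_of_ne (fun hc => hg (this.mp hc))]
  · intro k
    by_cases hk : k = 1
    · rw [hk, delta_one]; exact Cfsg.Agent.Lib.helper20.memLocalRing_one hM
    · rw [delta_of_ne hk]; exact Cfsg.Agent.Lib.helper20.memLocalRing_zero hM
  · intro x _ k k' h
    have : (k' = 1) ↔ k = 1 := by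
      constructor
      · intro hh
        apply Subtype.ext
        have h3 : (k' : G) = 1 := congrArg Subtype.val hh
        rw [h] at h3
        have h2 : (k : G) = x⁻¹ * (x * (k : G) * x⁻¹) * x := by group
        rw [h2, h3]
        show x⁻¹ * 1 * x = 1
        group
      · intro hh
        apply Subtype.ext
        rw [h, hh]
        show x * 1 * x⁻¹ = 1
        group
    by_cases hk : k = 1
    · rw [this.mpr hk, hk]
    · rw [delta_of_ne hk, delta_of_ne (fun hc => hk (this.mp hc))]
  · intro z z' hz hz'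
    refine ⟨Cfsg.Agent.Lib.helper81.conv_classFun hz.1 hz'.1, ?_, ?_⟩
    · intro k
      unfold Cfsg.Agent.Lib.helper81.conv
      apply Cfsg.Agent.Lib.helper20.memLocalRing_sum hM
      intro a _
      exact Cfsg.Agent.Lib.helper20.memLocalRing_mul hM (hz.2.1 a) (hz'.2.1 _)
    · intro x hx k k' h
      unfold Cfsg.Agent.Lib.helper81.conv
      refine (Fintype.sum_equiv (conjEquiv K x (hX hx)).toEquiv _ _ (fun b => ?_)).symm
      simp only [MulEquiv.toEquiv_eq_coe, MulEquiv.coe_toEquiv]
      rw [hz.2.2 x hx b (conjEquiv K x (hX hx) b) rfl]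
      congr 1
      symm
      apply hz'.2.2 x hx
      rw [Subgroup.coe_mul, Subgroup.coe_mul, Subgroup.coe_inv, Subgroup.coe_inv, h,
        conjEquiv_apply_coe]
      group
  · intro z z' hz hz'
    refine ⟨?_, ?_, ?_⟩
    · intro g h
      show z (h * g * h⁻¹) - z' (h * g * h⁻¹) = z g - z' g
      rw [hz.1 g h, hz'.1 g h]
    · intro k
      exact Cfsg.Agent.Lib.helper20.memLocalRing_sub hM (hz.2.1 k) (hz'.2.1 k)
    · intro x hx k k' h
      show z k' - z' k' = z k - z' k
      rw [hz.2.2 x hx k k' h, hz'.2.2 x hx k k' h]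
  · intro c z hc hz
    refine ⟨?_, ?_, ?_⟩
    · intro g h
      show c * z (h * g * h⁻¹) = c * z g
      rw [hz.1 g h]
    · intro k
      exact Cfsg.Agent.Lib.helper20.memLocalRing_mul hM hc (hz.2.1 k)
    · intro x hx k k' h
      show c * z k' = c * z k
      rw [hz.2.2 x hx k k' h]

/-- The Brauer functional at `P` on the `P`-invariant class functions of a subgroup `K` with
`C_G(P) ≤ K` and `P ≤ N_G(K)` is a local character. -/
theorem isLocalCharacter_brauer [Fintype G] {p : ℕ} [Fact p.Prime] {M : Ideal AlgInt}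
    (hM : IsPModular p M) (P K : Subgroup G) [Fintype K] (hP : IsPGroup p P)
    (hPK : P ≤ Subgroup.normalizer (K : Set G)) (hCK : Subgroup.centralizer (P : Set G) ≤ K)
    (ξ : IrrCharacter (Subgroup.centralizer (P : Set G))) :
    IsLocalCharacter M (invAlg M K P)
      (fun z => brauerOmega P (extFun K z) (ξ : Subgroup.centralizer (P : Set G) → ℂ)) := by
  classical
  have hMp : M.IsPrime := Cfsg.Agent.Lib.helper20.isPrime_of_isPModular hM
  have hinvP : ∀ z, invAlg M K P z → ∀ u ∈ P, ∀ x : G,
      extFun K z (u * x * u⁻¹) = extFun K z x :=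
    fun z hz u hu x => extFun_conj K z u (hPK hu) (hz.2.2 u hu) x
  have hinvC : ∀ z, invAlg M K P z → ∀ u ∈ Subgroup.centralizer (P : Set G), ∀ x : G,
      extFun K z (u * x * u⁻¹) = extFun K z x :=
    fun z hz u hu x => extFun_conj_mem K z hz.1 u (hCK hu) x
  have hloc : ∀ z, invAlg M K P z → ∀ x : G, MemLocalRing M (extFun K z x) :=
    fun z hz x => extFun_memLocalRing hMp K z hz.2.1 x
  refine ⟨?_, ?_, ?_, ?_, ?_⟩
  · intro z hz
    exact memLocalRing_brauerOmega hMp P _ (hinvC z hz) (hloc z hz) ξ
  · rw [brauerOmega_congr P (fun x _ => extFun_delta K x)]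
    exact brauerOmega_delta P _ (Cfsg.Agent.Lib.helper81.irr_one_ne_zero ξ)
  · intro z z' hz hz'
    have h := brauerOmega_conv hM P hP (extFun K z) (extFun K z') (hinvP z hz) (hinvP z' hz')
      (hinvC z hz) (hinvC z' hz') (hloc z hz) (hloc z' hz') ξ
    rw [brauerOmega_congr P (fun x _ => extFun_conv K z z' x)] at h
    exact h
  · intro z z'
    show brauerOmega P (extFun K fun k => z k - z' k) _ = _
    rw [brauerOmega_congr P (fun x _ => extFun_sub K z z' x)]
    exact brauerOmega_sub P _ _ _
  · intro c z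
    show brauerOmega P (extFun K fun k => c * z k) _ = _
    rw [brauerOmega_congr P (fun x _ => extFun_smul K c z x)]
    exact brauerOmega_smul P c _ _

end InvAlg

end Cfsg.Agent.Lib.helper80
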