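import Mathlib
import Cfsg.Prelude.Def_BrauerPairs
import Cfsg.Agent.Lib.helper81.Blocks
import Cfsg.Agent.Lib.helper80.InvAlg

/-!
Normal inclusion of Brauer pairs: for `Q ≤ P ≤ N_G(Q)` and a Brauer pair `(P, e)` there is an
irreducible character `χ` of `C_G(Q)` whose central character agrees modulo the local ideal with
the Brauer functional of `e` on all `P`-invariant class functions of `C_G(Q)`; its block is the
unique block `f` with `(Q, f) ⊴ (P, e)`.
-/

set_option autoImplicit false

namespace Cfsg.Agent.Lib.helper80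

open Cfsg
open scoped ComplexConjugate

universe u

section

variable {G : Type u} [Group G]

/-- The action of a subgroup `P ≤ N_G(K)` on sets of irreducible characters of `K`. -/
@[reducible] noncomputable def blockAction (K P : Subgroup G)
    (hPK : P ≤ Subgroup.normalizer (K : Set G)) : MulAction P (Set (IrrCharacter K)) where
  smul u f := conjSet K (u : G) (hPK u.2) f
  one_smul f := conjSet_one K _ f
  mul_smul u v f := conjSet_mul K (u : G) (v : G) _ _ _ f

variable [Fintype G] {p : ℕ} [Fact p.Prime] {M : Ideal AlgInt}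

/-- The block idempotents sum to the identity `delta`. -/
theorem sum_blocks_blockCoeff' (hM : M.IsPrime) (g : G) :
    ∑ B ∈ blocks M G, blockCoeff B g = delta g :=
  sum_blocks_blockCoeff hM g

theorem invAlg_blockCoeff (hM : M.IsPrime) (K X : Subgroup G)
    (hXK : X ≤ Subgroup.normalizer (K : Set G)) (f : Set (IrrCharacter K)) (hf : IsPBlock M f)
    (hstab : ∀ (u : G) (hu : u ∈ X), conjSet K u (hXK hu) f = f) :
    invAlg M K X (blockCoeff f) := by
  have := Fintype.ofFinite K
  refine ⟨blockCoeff_classFun f, fun k => Cfsg.Agent.Lib.helper81.memLocalRing_blockCoeff' hM hf k,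
    ?_⟩
  intro x hx k k' h
  have := blockCoeff_conjSet K x (hXK hx) f k k' h
  rwa [hstab x hx] at this

open scoped Classical in
/-- The idempotent coefficients of the blocks of `K` not fixed by the `p`-group `P` sum, at an
element centralizing `P`, to an element of the local ideal. -/
theorem sum_nonstable_memLocalIdeal (hM : IsPModular p M) (P K : Subgroup G)
    (hP : IsPGroup p P) (hPK : P ≤ Subgroup.normalizer (K : Set G)) (c : K)
    (hc : (c : G) ∈ Subgroup.centralizer (P : Set G)) :
    MemLocalIdeal M (∑ f ∈ (blocks M K).filter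
      (fun f => ¬ ∀ u : P, conjSet K (u : G) (hPK u.2) f = f), blockCoeff f c) := by
  have hMp : M.IsPrime := Cfsg.Agent.Lib.helper20.isPrime_of_isPModular hM
  let _ := blockAction K P hPK
  apply sum_orbit_induction hP _ _ _ (fun f => blockCoeff f c) _ (MemLocalIdeal M)
    (Cfsg.Agent.Lib.helper20.memLocalIdeal_zero hMp)
    (fun a b ha hb => Cfsg.Agent.Lib.helper20.memLocalIdeal_add hMp ha hb)
  · intro f hf k hk
    rw [Finset.mem_filter] at hf
    apply Cfsg.Agent.Lib.helper20.memLocalIdeal_mul_right hMp _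
      (Cfsg.Agent.Lib.helper81.memLocalRing_blockCoeff' hMp (mem_blocks.mp hf.1) c)
    exact memLocalIdeal_natCast hM (dvd_pow_self p hk.ne')
  · intro u f hf
    rw [Finset.mem_filter] at hf ⊢
    refine ⟨mem_blocks.mpr (isPBlock_conjSet K (u : G) (hPK u.2) (mem_blocks.mp hf.1)), ?_⟩
    intro hcon
    apply hf.2
    have hcon' : ∀ v : P, v • (u • f) = u • f := hcon
    have h1 : f = u • f := by
      have := hcon' u⁻¹
      rwa [inv_smul_smul] at this
    intro v
    show v • f = f
    rw [h1]
    exact hcon' v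
  · intro f hf
    rw [Finset.mem_filter] at hf
    have := hf.2
    push Not at this
    exact this
  · intro u f
    apply blockCoeff_conjSet K (u : G) (hPK u.2) f c c
    have := hc
    rw [Subgroup.mem_centralizer_iff] at this
    have h2 := this (u : G) u.2
    calc (c : G) = (c : G) * (u : G) * (u : G)⁻¹ := by group
      _ = (u : G) * (c : G) * (u : G)⁻¹ := by rw [← h2]

/-- The Brauer correspondent: an irreducible character `χ` of `K` whose block is `P`-stable and
whose central character is congruent to the Brauer functional on `P`-invariant class functions. -/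
theorem exists_irr_brauer_stable (hM : IsPModular p M) (P K : Subgroup G) [Fintype K]
    (hP : IsPGroup p P) (hPK : P ≤ Subgroup.normalizer (K : Set G))
    (hCK : Subgroup.centralizer (P : Set G) ≤ K)
    (ξ : IrrCharacter (Subgroup.centralizer (P : Set G))) :
    ∃ χ : IrrCharacter K,
      (∀ (u : G) (hu : u ∈ P), conjSet K u (hPK hu) (blockOf M (χ : K → ℂ))
        = blockOf M (χ : K → ℂ)) ∧
      ∀ z, invAlg M K P z → MemLocalIdeal M
        (brauerOmega P (extFun K z) (ξ : Subgroup.centralizer (P : Set G) → ℂ)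
          - om (χ : K → ℂ) z) := by
  classical
  have hMp : M.IsPrime := Cfsg.Agent.Lib.helper20.isPrime_of_isPModular hM
  have hA := isLocalSubalgebra_invAlg hMp K P hPK
  obtain ⟨χ, hχ⟩ := exists_irr_congr hMp hA (isLocalCharacter_brauer hM P K hP hPK hCK ξ)
  refine ⟨χ, ?_, hχ⟩
  by_contra hns
  have hzS : invAlg M K P (fun k => ∑ f ∈ (blocks M K).filter
      (fun f => ∀ u : P, conjSet K (u : G) (hPK u.2) f = f), blockCoeff f k) := by
    apply hA.sum
    intro f hf
    rw [Finset.mem_filter] at hf
    exact invAlg_blockCoeff hMp K P hPK f (mem_blocks.mp hf.1) (fun u hu => hf.2 ⟨u, hu⟩)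
  have hzN := hA.sub _ _ hA.one hzS
  have h1 := hχ _ hzN
  have hom : om (χ : K → ℂ) (fun k => delta k - ∑ f ∈ (blocks M K).filter
      (fun f => ∀ u : P, conjSet K (u : G) (hPK u.2) f = f), blockCoeff f k) = 1 := by
    rw [om_sub, om_delta' _ (Cfsg.Agent.Lib.helper81.irr_one_ne_zero χ), om_sum]
    rw [Finset.sum_eq_zero, sub_zero]
    intro f hf
    rw [Finset.mem_filter] at hf
    rw [om_blockCoeff, if_neg]
    intro hχf
    apply hns
    intro u hu
    rw [← eq_blockOf_of_mem hMp (mem_blocks.mp hf.1) hχf]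
    exact hf.2 ⟨u, hu⟩
  rw [hom] at h1
  have hΘ : MemLocalIdeal M (brauerOmega P (extFun K (fun k => delta k - ∑ f ∈ (blocks M K).filter
      (fun f => ∀ u : P, conjSet K (u : G) (hPK u.2) f = f), blockCoeff f k))
      (ξ : Subgroup.centralizer (P : Set G) → ℂ)) := by
    apply memLocalIdeal_brauerOmega hMp P _ _ _ ξ
    · intro u hu x
      exact extFun_conj_mem K _ hzN.1 u (hCK hu) x
    · intro x hx
      rw [extFun_of_mem K _ (hCK hx)]
      have h2 := sum_nonstable_memLocalIdeal hM P K hP hPK ⟨x, hCK hx⟩ hx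
      have h3 : delta (⟨x, hCK hx⟩ : K) - ∑ f ∈ (blocks M K).filter
          (fun f => ∀ u : P, conjSet K (u : G) (hPK u.2) f = f), blockCoeff f ⟨x, hCK hx⟩
          = ∑ f ∈ (blocks M K).filter
          (fun f => ¬ ∀ u : P, conjSet K (u : G) (hPK u.2) f = f), blockCoeff f ⟨x, hCK hx⟩ := by
        rw [sub_eq_iff_eq_add, add_comm, Finset.sum_filter_add_sum_filter_not,
          sum_blocks_blockCoeff' hMp]
      rw [h3]
      exact h2
  apply Cfsg.Agent.Lib.helper20.not_memLocalIdeal_one (M := M)
  have := Cfsg.Agent.Lib.helper20.memLocalIdeal_sub hMp hΘ h1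
  rwa [sub_sub_cancel] at this

/-- For `Q ≤ P ≤ N_G(Q)` and a Brauer pair `(P, e)`: the Brauer correspondent character `χ` of
`C_G(Q)`.  Its block is the unique block `f` with `(Q, f)` normal in `(P, e)`, and the Brauer
functional of every member of `e` is congruent to the central character of `χ` on `P`-invariant
class functions of `C_G(Q)`. -/
theorem exists_irr_normalSubpair (hM : IsPModular p M) (P Q : Subgroup G)
    [Fintype (Subgroup.centralizer (Q : Set G))]
    (e : Set (IrrCharacter (Subgroup.centralizer (P : Set G)))) (hPe : IsBrauerPair p M P e)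
    (hQP : Q ≤ P) (hPN : P ≤ Subgroup.normalizer (Q : Set G)) :
    ∃ χ : IrrCharacter (Subgroup.centralizer (Q : Set G)),
      IsNormalSubpair p M Q (blockOf M (χ : Subgroup.centralizer (Q : Set G) → ℂ)) P e ∧
      (∀ f, IsNormalSubpair p M Q f P e →
        f = blockOf M (χ : Subgroup.centralizer (Q : Set G) → ℂ)) ∧
      (∀ ξ ∈ e, ∀ z, invAlg M (Subgroup.centralizer (Q : Set G)) P z → MemLocalIdeal M
        (brauerOmega P (extFun (Subgroup.centralizer (Q : Set G)) z)
            (ξ : Subgroup.centralizer (P : Set G) → ℂ)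
          - om (χ : Subgroup.centralizer (Q : Set G) → ℂ) z)) := by
  classical
  have hMp : M.IsPrime := Cfsg.Agent.Lib.helper20.isPrime_of_isPModular hM
  obtain ⟨hP, ξ₀, rfl⟩ := hPe
  have hCH : Subgroup.centralizer (P : Set G) ≤ Subgroup.centralizer (Q : Set G) :=
    Subgroup.centralizer_le (SetLike.coe_subset_coe.mpr hQP)
  have hPH : P ≤ Subgroup.normalizer
      ((Subgroup.centralizer (Q : Set G) : Subgroup G) : Set G) :=
    hPN.trans (normalizer_le_normalizer_centralizer Q)
  obtain ⟨χ, hstab, hχ⟩ := exists_irr_brauer_stable hM P (Subgroup.centralizer (Q : Set G)) hP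
    hPH hCH ξ₀
  have hgen : ∀ ξ ∈ blockOf M (ξ₀ : Subgroup.centralizer (P : Set G) → ℂ), ∀ z,
      invAlg M (Subgroup.centralizer (Q : Set G)) P z → MemLocalIdeal M
        (brauerOmega P (extFun (Subgroup.centralizer (Q : Set G)) z)
            (ξ : Subgroup.centralizer (P : Set G) → ℂ)
          - om (χ : Subgroup.centralizer (Q : Set G) → ℂ) z) := by
    intro ξ hξ z hz
    have h1 := memLocalIdeal_brauerOmega_sub hMp P (extFun (Subgroup.centralizer (Q : Set G)) z)
      (fun u hu x => extFun_conj_mem _ z hz.1 u (hCH hu) x)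
      (fun x => extFun_memLocalRing hMp _ z hz.2.1 x) ξ ξ₀ (sameBlock_symm hMp hξ)
    have := Cfsg.Agent.Lib.helper20.memLocalIdeal_add hMp h1 (hχ z hz)
    rwa [sub_add_sub_cancel] at this
  have hf₀ : invAlg M (Subgroup.centralizer (Q : Set G)) P
      (blockCoeff (blockOf M (χ : Subgroup.centralizer (Q : Set G) → ℂ))) :=
    invAlg_blockCoeff hMp _ P hPH _ (isPBlock_blockOf M χ) hstab
  refine ⟨χ, ⟨⟨hP.to_le hQP, isPBlock_blockOf M χ⟩, ⟨hP, ξ₀, rfl⟩, hQP, hPN, ?_, ?_⟩, ?_, hgen⟩
  · intro x hx
    exact (stabilizesBlock_iff_eq hMp _ x (hPH hx) (isPBlock_blockOf M χ)).mpr (hstab x hx)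
  · intro ξ hξ
    have h1 := hgen ξ hξ _ hf₀
    rw [om_blockCoeff, if_pos (mem_blockOf_self hMp χ)] at h1
    exact h1
  · rintro f ⟨⟨-, hfB⟩, -, -, -, hst, hc⟩
    have hfstab : ∀ (u : G) (hu : u ∈ P), conjSet (Subgroup.centralizer (Q : Set G)) u (hPH hu) f
        = f := fun u hu => (stabilizesBlock_iff_eq hMp _ u (hPH hu) hfB).mp (hst u hu)
    have hz := invAlg_blockCoeff hMp _ P hPH f hfB hfstab
    have h1 := hχ _ hz
    have h2 : MemLocalIdeal M (brauerOmega P (extFun (Subgroup.centralizer (Q : Set G))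
        (blockCoeff f)) (ξ₀ : Subgroup.centralizer (P : Set G) → ℂ) - 1) :=
      hc ξ₀ (mem_blockOf_self hMp ξ₀)
    rw [om_blockCoeff] at h1
    by_cases hχf : χ ∈ f
    · exact eq_blockOf_of_mem hMp hfB hχf
    · exfalso
      rw [if_neg hχf, sub_zero] at h1
      apply Cfsg.Agent.Lib.helper20.not_memLocalIdeal_one (M := M)
      have := Cfsg.Agent.Lib.helper20.memLocalIdeal_sub hMp h1 h2
      rwa [sub_sub_cancel] at this

end

end Cfsg.Agent.Lib.helper80
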