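import Cfsg.Agent.Lib.helper80.FMT2
import Cfsg.Agent.Lib.helper80.NormalSubpair

/-!
# Blocks of a subgroup `H` with `P C_G(P) ≤ H ≤ N_G(P)` and `H`-orbits of blocks of `C_G(P)`

Exact idempotent class functions with local-integer values are idempotents of unions of blocks.
The idempotent of a block of `H` (extended by zero) is the idempotent of the union of an `H`-orbit
of blocks of `C_G(P)`.
-/

set_option autoImplicit false

open Cfsg

namespace Cfsg.Agent.Lib.helper80

universe u

section EIL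

variable {K : Type u} [Group K] [Fintype K] {M : Ideal AlgInt}

/-- The irreducible characters whose central character takes the value `1` at `u`. -/
def idemSet (u : K → ℂ) : Set (IrrCharacter K) := {χ | om (χ : K → ℂ) u = 1}

theorem om_idem (χ : IrrCharacter K) {u : K → ℂ} (hcf : IsClassFunction K u)
    (hid : ∀ k, Cfsg.Agent.Lib.helper81.conv u u k = u k) :
    om (χ : K → ℂ) u = 0 ∨ om (χ : K → ℂ) u = 1 := by
  have h1 := om_conv χ hcf hcf
  rw [om_congr _ hid] at h1
  have h2 : om (χ : K → ℂ) u * (om (χ : K → ℂ) u - 1) = 0 := by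
    rw [mul_sub, mul_one, ← h1, sub_self]
  rcases mul_eq_zero.mp h2 with h | h
  · exact Or.inl h
  · exact Or.inr (sub_eq_zero.mp h)

open scoped Classical in
theorem eq_blockCoeff_idemSet {u : K → ℂ} (hcf : IsClassFunction K u)
    (hid : ∀ k, Cfsg.Agent.Lib.helper81.conv u u k = u k) (k : K) :
    u k = blockCoeff (idemSet u) k := by
  apply eq_blockCoeff_of_sum (idemSet u) u hcf
  intro χ
  have h1 := Cfsg.Agent.Lib.helper81.irr_one_ne_zero χ
  by_cases hχ : χ ∈ idemSet u
  · rw [if_pos hχ]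
    have h2 : om (χ : K → ℂ) u = 1 := hχ
    unfold om at h2
    rw [div_eq_one_iff_eq h1] at h2
    exact h2
  · rw [if_neg hχ]
    have h2 : om (χ : K → ℂ) u = 0 := by
      rcases om_idem χ hcf hid with h | h
      · exact h
      · exact absurd h hχ
    unfold om at h2
    rcases div_eq_zero_iff.mp h2 with h | h
    · exact h
    · exact absurd h h1

theorem idemSet_sameBlock (hM : M.IsPrime) {u : K → ℂ} (hcf : IsClassFunction K u)
    (hR : ∀ k, MemLocalRing M (u k))
    (hid : ∀ k, Cfsg.Agent.Lib.helper81.conv u u k = u k) {χ ψ : IrrCharacter K}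
    (hχ : χ ∈ idemSet u) (hs : SameBlock M (χ : K → ℂ) (ψ : K → ℂ)) : ψ ∈ idemSet u := by
  have h1 := memLocalIdeal_om_sub hM χ ψ hs u hcf hR
  have h2 : om (χ : K → ℂ) u = 1 := hχ
  rcases om_idem ψ hcf hid with h | h
  · rw [h2, h, sub_zero] at h1
    exact absurd h1 Cfsg.Agent.Lib.helper20.not_memLocalIdeal_one
  · exact h

open scoped Classical in
theorem idemSet_blockCoeff (S : Set (IrrCharacter K)) : idemSet (blockCoeff S) = S := by
  ext χ
  show om (χ : K → ℂ) (blockCoeff S) = 1 ↔ χ ∈ S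
  rw [om_blockCoeff]
  by_cases h : χ ∈ S
  · simp [h]
  · simp [h]

theorem blockCoeff_injective {S S' : Set (IrrCharacter K)}
    (h : ∀ k, blockCoeff S k = blockCoeff S' k) : S = S' := by
  rw [← idemSet_blockCoeff S, ← idemSet_blockCoeff S']
  have : blockCoeff S = blockCoeff S' := funext h
  rw [this]

theorem blockCoeff_ne_zero_of_nonempty {S : Set (IrrCharacter K)} (hS : S.Nonempty) :
    ∃ k, blockCoeff S k ≠ 0 := by
  by_contra hcon
  push Not at hcon
  have : S = ∅ := blockCoeff_injective (fun k => by rw [hcon k, blockCoeff_empty])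
  rw [this] at hS
  exact Set.not_nonempty_empty hS

open scoped Classical in
/-- The idempotent of a union of blocks has local-integer coefficients. -/
theorem memLocalRing_blockCoeff_of_union (hM : M.IsPrime) {S : Set (IrrCharacter K)}
    (hS : ∀ χ ∈ S, blockOf M (χ : K → ℂ) ⊆ S) (k : K) : MemLocalRing M (blockCoeff S k) := by
  have hd : ∀ B ∈ (blocks M K).filter (fun B => B ⊆ S), ∀ B' ∈ (blocks M K).filter (fun B => B ⊆ S),
      B ≠ B' → Disjoint B B' := by
    intro B hB B' hB' hne
    exact blocks_disjoint hM B (Finset.mem_filter.mp hB).1 B' (Finset.mem_filter.mp hB').1 hne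
  have hU : (⋃ B ∈ (blocks M K).filter (fun B => B ⊆ S), B) = S := by
    ext χ
    simp only [Set.mem_iUnion, Finset.mem_filter, exists_prop]
    constructor
    · rintro ⟨B, ⟨-, hBS⟩, hχ⟩
      exact hBS hχ
    · intro hχ
      exact ⟨blockOf M (χ : K → ℂ), ⟨mem_blocks.mpr (isPBlock_blockOf M χ), hS χ hχ⟩,
        mem_blockOf_self hM χ⟩
  rw [← hU, ← sum_blockCoeff_of_pairwiseDisjoint _ hd]
  apply Cfsg.Agent.Lib.helper20.memLocalRing_sum hM
  intro B hB
  exact Cfsg.Agent.Lib.helper81.memLocalRing_blockCoeff' hM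
    (mem_blocks.mp (Finset.mem_filter.mp hB).1) k

end EIL

section OrbSet

variable {G : Type u} [Group G] {M : Ideal AlgInt}

/-- Restriction of a function on `G` to a subgroup. -/
def resFun (H : Subgroup G) (z : G → ℂ) : H → ℂ := fun h => z h

theorem resFun_apply (H : Subgroup G) (z : G → ℂ) (h : H) : resFun H z h = z h := rfl

theorem extFun_resFun (H : Subgroup G) (z : G → ℂ) (hz : ∀ g, g ∉ H → z g = 0) (g : G) :
    extFun H (resFun H z) g = z g := by
  by_cases hg : g ∈ H
  · rw [extFun_of_mem H _ hg]; rfl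
  · rw [extFun_of_not_mem H _ hg, hz g hg]

/-- The union of the `H`-conjugates of a set of irreducible characters of `K`. -/
def orbSet (K H : Subgroup G) (e : Set (IrrCharacter K)) : Set (IrrCharacter K) :=
  {ξ | ∃ (h : G) (hn : h ∈ Subgroup.normalizer (K : Set G)), h ∈ H ∧ ξ ∈ conjSet K h hn e}

theorem subset_orbSet (K H : Subgroup G) (e : Set (IrrCharacter K)) : e ⊆ orbSet K H e := by
  intro ξ hξ
  refine ⟨1, Subgroup.one_mem _, Subgroup.one_mem _, ?_⟩
  rw [conjSet_one]
  exact hξ

theorem conjSet_mono (K : Subgroup G) (n : G) (hn : n ∈ Subgroup.normalizer (K : Set G))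
    {f f' : Set (IrrCharacter K)} (h : f ⊆ f') : conjSet K n hn f ⊆ conjSet K n hn f' :=
  Set.image_mono h

theorem conjSet_orbSet_subset (K H : Subgroup G) (e : Set (IrrCharacter K)) (h : G)
    (hn : h ∈ Subgroup.normalizer (K : Set G)) (hh : h ∈ H) :
    conjSet K h hn (orbSet K H e) ⊆ orbSet K H e := by
  rintro ξ ⟨ξ₀, ⟨h', hn', hh', hξ₀⟩, rfl⟩
  refine ⟨h * h', Subgroup.mul_mem _ hn hn', H.mul_mem hh hh', ?_⟩
  rw [conjSet_mul K h h' hn hn']
  exact (mem_conjSet K h hn _ ξ₀).mpr hξ₀

theorem conjSet_orbSet (K H : Subgroup G) (e : Set (IrrCharacter K)) (h : G)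
    (hn : h ∈ Subgroup.normalizer (K : Set G)) (hh : h ∈ H) :
    conjSet K h hn (orbSet K H e) = orbSet K H e := by
  apply Set.Subset.antisymm (conjSet_orbSet_subset K H e h hn hh)
  intro ξ hξ
  rw [mem_conjSet_iff]
  have h1 : conjIrr K h⁻¹ (Subgroup.inv_mem _ hn) ξ ∈ conjSet K h⁻¹ (Subgroup.inv_mem _ hn)
      (orbSet K H e) := (mem_conjSet K h⁻¹ _ _ ξ).mpr hξ
  exact conjSet_orbSet_subset K H e h⁻¹ _ (H.inv_mem hh) h1

theorem orbSet_union_blocks (hM : M.IsPrime) (K H : Subgroup G) {e : Set (IrrCharacter K)}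
    (he : IsPBlock M e) : ∀ ξ ∈ orbSet K H e, blockOf M (ξ : K → ℂ) ⊆ orbSet K H e := by
  rintro ξ ⟨h, hn, hh, hξ⟩ ψ hψ
  refine ⟨h, hn, hh, ?_⟩
  have h1 := eq_blockOf_of_mem hM (isPBlock_conjSet K h hn he) hξ
  rw [h1]
  exact hψ

theorem invAlg_blockCoeff_orbSet [Finite G] (hM : M.IsPrime) (K H : Subgroup G)
    (hHK : H ≤ Subgroup.normalizer (K : Set G)) {e : Set (IrrCharacter K)} (he : IsPBlock M e) :
    invAlg M K H (blockCoeff (orbSet K H e)) := by
  have := Fintype.ofFinite K
  refine ⟨blockCoeff_classFun _, fun k =>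
    memLocalRing_blockCoeff_of_union hM (orbSet_union_blocks hM K H he) k, ?_⟩
  intro x hx k k' h
  have := blockCoeff_conjSet K x (hHK hx) (orbSet K H e) k k' h
  rwa [conjSet_orbSet K H e x (hHK hx) hx] at this

end OrbSet

section Cover

variable {G : Type u} [Group G] [Fintype G] {p : ℕ} [Fact p.Prime] {M : Ideal AlgInt}

/-- The set `c` of irreducible characters of `H` covers the set `e` of irreducible characters of
`C_G(P)`: the idempotent of `c`, extended by zero, is the idempotent of the union of the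
`H`-conjugates of `e`. -/
def Covers (P H : Subgroup G) (c : Set (IrrCharacter H))
    (e : Set (IrrCharacter (Subgroup.centralizer (P : Set G)))) : Prop :=
  ∀ g : G, extFun H (blockCoeff c) g
    = extFun (Subgroup.centralizer (P : Set G))
        (blockCoeff (orbSet (Subgroup.centralizer (P : Set G)) H e)) g

open Cfsg.Agent.Lib.helper81 in
/-- Every block of `C_G(P)` is covered by a block of `H`, for `P C_G(P) ≤ H ≤ N_G(P)`. -/
theorem exists_cover (hM : IsPModular p M) (P H : Subgroup G) [Fintype H]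
    [Fintype (Subgroup.centralizer (P : Set G))] (hP : IsPGroup p P) (hPH : P ≤ H)
    (hCH : Subgroup.centralizer (P : Set G) ≤ H) (hHN : H ≤ Subgroup.normalizer (P : Set G))
    {e : Set (IrrCharacter (Subgroup.centralizer (P : Set G)))} (he : IsPBlock M e) :
    ∃ c : Set (IrrCharacter H), IsPBlock M c ∧ Covers P H c e := by
  classical
  have hMp := Cfsg.Agent.Lib.helper20.isPrime_of_isPModular hM
  have hHC : H ≤ Subgroup.normalizer ((Subgroup.centralizer (P : Set G) : Subgroup G) : Set G) :=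
    fun h hh => normalizer_le_normalizer_centralizer P (hHN hh)
  unfold Covers
  generalize hCdef : Subgroup.centralizer (P : Set G) = C at *
  set S := orbSet C H e with hS
  have hinv := invAlg_blockCoeff_orbSet hMp C H hHC he
  set a : G → ℂ := extFun C (blockCoeff S) with ha
  have ha_supp : ∀ g, g ∉ H → a g = 0 :=
    fun g hg => extFun_of_not_mem C _ (fun hc => hg (hCH hc))
  have ha_inv : ∀ h ∈ H, ∀ g, a (h * g * h⁻¹) = a g :=
    fun h hh g => extFun_conj C _ h (hHC hh) (hinv.2.2 h hh) g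
  have ha_conv : ∀ g, conv a a g = a g := by
    intro g
    rw [ha, extFun_conv]
    congr 1
    funext k
    rw [conv_blockCoeff, Set.inter_self]
  set u : H → ℂ := resFun H a with hu
  have hu_ext : ∀ g, extFun H u g = a g := extFun_resFun H a ha_supp
  have hu_cf : IsClassFunction H u := fun k h => ha_inv h h.2 k
  have hu_R : ∀ k, MemLocalRing M (u k) :=
    fun k => extFun_memLocalRing hMp C _ hinv.2.1 _
  have hu_conv : ∀ k, conv u u k = u k := by
    intro k
    have h1 := extFun_conv H u u (k : G)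
    rw [extFun_coe] at h1
    rw [← h1]
    have : extFun H u = a := funext hu_ext
    rw [this, ha_conv]
    rfl
  have hu_eq := eq_blockCoeff_idemSet hu_cf hu_conv
  have hne : (idemSet u).Nonempty := by
    by_contra hcon
    rw [Set.not_nonempty_iff_eq_empty] at hcon
    have hu0 : ∀ k, u k = 0 := fun k => by rw [hu_eq k, hcon, blockCoeff_empty]
    have ha0 : ∀ g, a g = 0 := by
      intro g
      rw [← hu_ext g]
      by_cases hg : g ∈ H
      · rw [extFun_of_mem H _ hg, hu0]
      · rw [extFun_of_not_mem H _ hg]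
    obtain ⟨ξ, hξ⟩ := isPBlock_nonempty hMp he
    obtain ⟨k, hk⟩ := blockCoeff_ne_zero_of_nonempty (S := S) ⟨ξ, subset_orbSet C H e hξ⟩
    apply hk
    have := ha0 (k : G)
    rwa [ha, extFun_coe] at this
  obtain ⟨θ, hθ⟩ := hne
  set c := blockOf M (θ : H → ℂ) with hc
  have hcb : IsPBlock M c := isPBlock_blockOf M θ
  have hcS : c ⊆ idemSet u := fun ψ hψ => idemSet_sameBlock hMp hu_cf hu_R hu_conv hθ hψ
  refine ⟨c, hcb, ?_⟩
  set v : G → ℂ := extFun H (blockCoeff c) with hv
  have hv_supp : ∀ g, g ∉ C → v g = 0 := by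
    intro g hg
    by_cases hgH : g ∈ H
    · rw [hv, extFun_of_mem H _ hgH]
      exact blockCoeff_eq_zero_of_not_mem_centralizer hM P H hP hPH hHN hcb ⟨g, hgH⟩
        (by rw [hCdef]; exact hg)
    · exact extFun_of_not_mem H _ hgH
  have hv_inv : ∀ h ∈ H, ∀ g, v (h * g * h⁻¹) = v g :=
    fun h hh g => extFun_conj_mem H _ (blockCoeff_classFun c) h hh g
  have hva : ∀ g, conv v a g = v g := by
    intro g
    have h1 : a = extFun H u := (funext hu_ext).symm
    rw [h1, hv, extFun_conv]
    congr 1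
    funext k
    have h2 : u = blockCoeff (idemSet u) := funext hu_eq
    rw [h2, conv_blockCoeff, Set.inter_eq_left.mpr hcS]
  have hvv : ∀ g, conv v v g = v g := by
    intro g
    rw [hv, extFun_conv]
    congr 1
    funext k
    rw [conv_blockCoeff, Set.inter_self]
  set w : C → ℂ := resFun C v with hw
  have hw_ext : ∀ g, extFun C w g = v g := extFun_resFun C v hv_supp
  have hw_cf : IsClassFunction C w := fun k h => hv_inv h (hCH h.2) k
  have hw_R : ∀ k, MemLocalRing M (w k) := fun k =>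
    extFun_memLocalRing hMp H _ (fun k => memLocalRing_blockCoeff' hMp hcb k) _
  have hw_conv : ∀ k, conv w w k = w k := by
    intro k
    have h1 := extFun_conv C w w (k : G)
    rw [extFun_coe] at h1
    rw [← h1]
    have : extFun C w = v := funext hw_ext
    rw [this, hvv]
    rfl
  have hw_eq := eq_blockCoeff_idemSet hw_cf hw_conv
  set S₂ := idemSet w with hS₂
  have hS₂S : S₂ ⊆ S := by
    have h1 : ∀ k, blockCoeff (S₂ ∩ S) k = blockCoeff S₂ k := by
      intro k
      rw [← conv_blockCoeff, ← hw_eq k]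
      have h2 := extFun_conv C w (blockCoeff S) (k : G)
      rw [extFun_coe] at h2
      have h3 : w = blockCoeff S₂ := funext hw_eq
      rw [← h3, ← h2]
      have h4 : extFun C w = v := funext hw_ext
      rw [h4]
      exact hva k
    exact Set.inter_eq_left.mp (blockCoeff_injective h1)
  have hS₂ne : S₂.Nonempty := by
    by_contra hcon
    rw [Set.not_nonempty_iff_eq_empty] at hcon
    have hw0 : ∀ k, w k = 0 := fun k => by rw [hw_eq k, hcon, blockCoeff_empty]
    have hv0 : ∀ g, v g = 0 := by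
      intro g
      rw [← hw_ext g]
      by_cases hg : g ∈ C
      · rw [extFun_of_mem C _ hg, hw0]
      · rw [extFun_of_not_mem C _ hg]
    obtain ⟨k, hk⟩ := blockCoeff_ne_zero_of_nonempty (S := c) ⟨θ, mem_blockOf_self hMp θ⟩
    apply hk
    have := hv0 (k : G)
    rwa [hv, extFun_coe] at this
  have hS₂stab : ∀ h (hn : h ∈ Subgroup.normalizer (C : Set G)), h ∈ H →
      conjSet C h hn S₂ = S₂ := by
    intro h hn hh
    apply blockCoeff_injective
    intro k'
    have h1 := blockCoeff_conjSet C h hn S₂ ((conjEquiv C h hn).symm k') k' (by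
      show (k' : G) = h * (h⁻¹ * (k' : G) * h) * h⁻¹
      group)
    rw [h1, ← hw_eq, ← hw_eq]
    show v (h⁻¹ * (k' : G) * h) = v k'
    have := hv_inv h⁻¹ (H.inv_mem hh) (k' : G)
    rwa [inv_inv] at this
  have hSS₂ : S ⊆ S₂ := by
    obtain ⟨ξ₂, hξ₂⟩ := hS₂ne
    obtain ⟨h, hn, hh, hξ₂e⟩ := hS₂S hξ₂
    rw [mem_conjSet_iff] at hξ₂e
    have h3 : conjIrr C h⁻¹ (Subgroup.inv_mem _ hn) ξ₂ ∈ S₂ := by
      have := (mem_conjSet C h⁻¹ (Subgroup.inv_mem _ hn) S₂ ξ₂).mpr hξ₂
      rwa [hS₂stab h⁻¹ _ (H.inv_mem hh)] at this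
    have heS₂ : e ⊆ S₂ := by
      intro ψ hψ
      exact idemSet_sameBlock hMp hw_cf hw_R hw_conv h3 (sameBlock_of_mem hMp he hξ₂e hψ)
    rintro ξ ⟨h', hn', hh', hξ⟩
    have := conjSet_mono C h' hn' heS₂ hξ
    rwa [hS₂stab h' hn' hh'] at this
  have hSeq : S₂ = S := Set.Subset.antisymm hS₂S hSS₂
  intro g
  show v g = a g
  rw [← hw_ext g, ha]
  have h5 : w = blockCoeff S := by
    rw [← hSeq]
    exact funext hw_eq
  rw [h5]

/-- `θ ∈ Irr(H)` lies over `ξ ∈ Irr(C_G(P))` modulo the local ideal: the central character of `θ`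
is congruent to the Brauer functional of `ξ` on the `P`-invariant class functions of `H`. -/
def Linked (M : Ideal AlgInt) (P H : Subgroup G) [Fintype H]
    (ξ : Subgroup.centralizer (P : Set G) → ℂ) (θ : H → ℂ) : Prop :=
  ∀ z, invAlg M H P z → MemLocalIdeal M (brauerOmega P (extFun H z) ξ - om θ z)

theorem exists_linked (hM : IsPModular p M) (P H : Subgroup G) [Fintype H]
    (hP : IsPGroup p P) (hPH : P ≤ H) (hCH : Subgroup.centralizer (P : Set G) ≤ H)
    (ξ : IrrCharacter (Subgroup.centralizer (P : Set G))) :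
    ∃ θ : IrrCharacter H, Linked M P H (ξ : Subgroup.centralizer (P : Set G) → ℂ) (θ : H → ℂ) := by
  obtain ⟨θ, -, hθ⟩ := exists_irr_brauer_stable hM P H hP (le_trans hPH Subgroup.le_normalizer)
    hCH ξ
  exact ⟨θ, hθ⟩

theorem invAlg_of_classAlg (hM : M.IsPrime) (P H : Subgroup G) (hPH : P ≤ H) {z : H → ℂ}
    (hz : classAlg M z) : invAlg M H P z := by
  refine ⟨hz.1, hz.2, ?_⟩
  intro x hx k k' h
  have : k' = ⟨x, hPH hx⟩ * k * ⟨x, hPH hx⟩⁻¹ := Subtype.ext h
  rw [this]
  exact hz.1 k ⟨x, hPH hx⟩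

open scoped Classical in
theorem brauerOmega_cover (P H : Subgroup G) [Fintype H]
    [Fintype (Subgroup.centralizer (P : Set G))] {c : Set (IrrCharacter H)}
    {e : Set (IrrCharacter (Subgroup.centralizer (P : Set G)))} (hcov : Covers P H c e)
    (ξ : IrrCharacter (Subgroup.centralizer (P : Set G))) :
    brauerOmega P (extFun H (blockCoeff c)) (ξ : Subgroup.centralizer (P : Set G) → ℂ)
      = if ξ ∈ orbSet (Subgroup.centralizer (P : Set G)) H e then 1 else 0 := by
  rw [brauerOmega_congr P (fun x _ => hcov x), brauerOmega_eq_om, ← om_blockCoeff]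
  apply om_congr
  intro x
  rw [extFun_coe]

theorem mem_cover_of_linked (hM : M.IsPrime) (P H : Subgroup G) [Fintype H]
    [Fintype (Subgroup.centralizer (P : Set G))] (hPH : P ≤ H)
    {c : Set (IrrCharacter H)} (hc : IsPBlock M c)
    {e : Set (IrrCharacter (Subgroup.centralizer (P : Set G)))} (hcov : Covers P H c e)
    {ξ : IrrCharacter (Subgroup.centralizer (P : Set G))}
    (hξ : ξ ∈ orbSet (Subgroup.centralizer (P : Set G)) H e) {θ : IrrCharacter H}
    (hl : Linked M P H (ξ : Subgroup.centralizer (P : Set G) → ℂ) (θ : H → ℂ)) : θ ∈ c := by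
  classical
  have h1 := hl _ (invAlg_of_classAlg hM P H hPH (classAlg_blockCoeff hM hc))
  rw [brauerOmega_cover P H hcov, if_pos hξ, om_blockCoeff] at h1
  by_contra hθ
  rw [if_neg hθ, sub_zero] at h1
  exact Cfsg.Agent.Lib.helper20.not_memLocalIdeal_one h1

theorem mem_orbSet_of_linked (hM : M.IsPrime) (P H : Subgroup G) [Fintype H]
    [Fintype (Subgroup.centralizer (P : Set G))] (hPH : P ≤ H)
    {c : Set (IrrCharacter H)} (hc : IsPBlock M c)
    {e : Set (IrrCharacter (Subgroup.centralizer (P : Set G)))} (hcov : Covers P H c e)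
    {θ : IrrCharacter H} (hθ : θ ∈ c) {ξ : IrrCharacter (Subgroup.centralizer (P : Set G))}
    (hl : Linked M P H (ξ : Subgroup.centralizer (P : Set G) → ℂ) (θ : H → ℂ)) :
    ξ ∈ orbSet (Subgroup.centralizer (P : Set G)) H e := by
  classical
  have h1 := hl _ (invAlg_of_classAlg hM P H hPH (classAlg_blockCoeff hM hc))
  rw [brauerOmega_cover P H hcov, om_blockCoeff, if_pos hθ] at h1
  by_contra hξ
  rw [if_neg hξ, zero_sub] at h1
  have := Cfsg.Agent.Lib.helper20.memLocalIdeal_neg h1
  rw [neg_neg] at this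
  exact Cfsg.Agent.Lib.helper20.not_memLocalIdeal_one this

/-- If `θ` lies over `ξ` and the block of `ξ` corresponds to the block of `χ` under the Brauer
map at `P`, then so does the block of `θ`. -/
theorem brInd_of_linked (hM : M.IsPrime) (P H : Subgroup G) [Fintype H]
    [Fintype (Subgroup.centralizer (P : Set G))] (hPH : P ≤ H)
    (hCH : Subgroup.centralizer (P : Set G) ≤ H) (hHN : H ≤ Subgroup.normalizer (P : Set G))
    {ξ : IrrCharacter (Subgroup.centralizer (P : Set G))} {θ : IrrCharacter H}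
    (hl : Linked M P H (ξ : Subgroup.centralizer (P : Set G) → ℂ) (θ : H → ℂ)) {χ : G → ℂ}
    (hbr : BrInd M P (Subgroup.centralizer (P : Set G))
      (ξ : Subgroup.centralizer (P : Set G) → ℂ) χ) : BrInd M P H (θ : H → ℂ) χ := by
  intro z hz
  have h1 := hl _ (invAlg_of_classAlg hM P H hPH (classAlg_brH hM P H hHN hz))
  have h2 := hbr z hz
  have h3 : brauerOmega P (extFun H (brH P H z)) (ξ : Subgroup.centralizer (P : Set G) → ℂ)
      = om (ξ : Subgroup.centralizer (P : Set G) → ℂ)
          (brH P (Subgroup.centralizer (P : Set G)) z) := by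
    rw [brauerOmega_eq_om]
    apply om_congr
    intro x
    rw [extFun_of_mem H _ (hCH x.2), brH_of_mem P H z (h := ⟨(x : G), hCH x.2⟩) x.2,
      brH_of_mem P _ z x.2]
  rw [h3] at h1
  have := Cfsg.Agent.Lib.helper20.memLocalIdeal_sub hM h2 h1
  rwa [sub_sub_sub_cancel_left] at this

/-- A Brauer pair `(P, e)` of `B`: every member of `e` corresponds to a member of `B`. -/
theorem exists_brInd_of_isBrauerPairOf (hM : IsPModular p M) (P : Subgroup G)
    [Fintype (Subgroup.centralizer (P : Set G))] {B : Set (IrrCharacter G)}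
    {e : Set (IrrCharacter (Subgroup.centralizer (P : Set G)))}
    (h : IsBrauerPairOf p M B P e) {ξ : IrrCharacter (Subgroup.centralizer (P : Set G))}
    (hξ : ξ ∈ e) : ∃ χ ∈ B, BrInd M P (Subgroup.centralizer (P : Set G))
      (ξ : Subgroup.centralizer (P : Set G) → ℂ) (χ : G → ℂ) := by
  have hMp := Cfsg.Agent.Lib.helper20.isPrime_of_isPModular hM
  obtain ⟨χ, hχ⟩ := exists_brInd hM P (Subgroup.centralizer (P : Set G)) h.1.1 le_rfl
    (Subgroup.centralizer_le_normalizer _) ξ
  refine ⟨χ, ?_, hχ⟩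
  rw [BrInd.mem_iff hMp hχ h.2.1]
  intro hcon
  have h1 := h.2.2 ξ hξ
  have h2 : brauerOmega P (blockCoeff B) (ξ : Subgroup.centralizer (P : Set G) → ℂ)
      = om (ξ : Subgroup.centralizer (P : Set G) → ℂ)
          (brH P (Subgroup.centralizer (P : Set G)) (blockCoeff B)) := by
    rw [brauerOmega_eq_om]
    apply om_congr
    intro x
    rw [brH_of_mem P _ _ x.2]
  rw [h2] at h1
  have := Cfsg.Agent.Lib.helper20.memLocalIdeal_sub hMp hcon h1
  rw [sub_sub_cancel] at this
  exact Cfsg.Agent.Lib.helper20.not_memLocalIdeal_one this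

theorem isBrauerPairOf_of_brInd (hM : IsPModular p M) (P : Subgroup G)
    [Fintype (Subgroup.centralizer (P : Set G))] (hP : IsPGroup p P)
    {B : Set (IrrCharacter G)} (hB : IsPBlock M B)
    {ξ : IrrCharacter (Subgroup.centralizer (P : Set G))} {χ : IrrCharacter G} (hχ : χ ∈ B)
    (hbr : BrInd M P (Subgroup.centralizer (P : Set G))
      (ξ : Subgroup.centralizer (P : Set G) → ℂ) (χ : G → ℂ)) :
    IsBrauerPairOf p M B P (blockOf M (ξ : Subgroup.centralizer (P : Set G) → ℂ)) := by
  classical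
  have hMp := Cfsg.Agent.Lib.helper20.isPrime_of_isPModular hM
  refine ⟨⟨hP, isPBlock_blockOf M ξ⟩, hB, ?_⟩
  intro ξ' hξ'
  have h1 := BrInd.congr_left hMp (Subgroup.centralizer_le_normalizer _) hbr hξ' _
    (classAlg_blockCoeff hMp hB)
  rw [om_blockCoeff, if_pos hχ] at h1
  have h2 : brauerOmega P (blockCoeff B) (ξ' : Subgroup.centralizer (P : Set G) → ℂ)
      = om (ξ' : Subgroup.centralizer (P : Set G) → ℂ)
          (brH P (Subgroup.centralizer (P : Set G)) (blockCoeff B)) := by
    rw [brauerOmega_eq_om]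
    apply om_congr
    intro x
    rw [brH_of_mem P _ _ x.2]
  rw [h2]
  exact h1

end Cover

end Cfsg.Agent.Lib.helper80
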