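import Mathlib
import Cfsg.Prelude.Def_BrauerPairs
import Cfsg.Agent.Lib.helper80.BrauerH
import Cfsg.Agent.S0918

/-!
The bridge between induced blocks (`IsInducedBlock`, for `P C_G(P) ≤ H ≤ N_G(P)`) and the Brauer
correspondence `BrInd` expressed through the Brauer map on class functions.
-/

set_option autoImplicit false

namespace Cfsg.Agent.Lib.helper80

open Cfsg
open scoped ComplexConjugate

universe u

section

variable {G : Type u} [Group G] [Fintype G]

theorem brauerCentralChar_eq_om (P H : Subgroup G) [Fintype H] (ξ : H → ℂ) (g : G) :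
    brauerCentralChar P H ξ g = om ξ (brH P H (classInd g)) := by
  classical
  have h1 : om ξ (brH P H (classInd g))
      = ∑ k ∈ Finset.univ.filter (fun k : H => IsConj g (k : G)
          ∧ (k : G) ∈ Subgroup.centralizer (P : Set G)), ξ k / ξ 1 := by
    unfold om
    rw [Finset.sum_div, Finset.sum_filter]
    refine Finset.sum_congr rfl (fun k _ => ?_)
    by_cases hk : (k : G) ∈ Subgroup.centralizer (P : Set G)
    · rw [brH_of_mem P H _ hk]
      by_cases hk2 : IsConj g (k : G)
      · rw [classInd_of_isConj hk2, if_pos ⟨hk2, hk⟩, one_mul]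
      · rw [classInd_of_not_isConj hk2, if_neg (fun hc => hk2 hc.1), zero_mul, zero_div]
    · rw [brH_of_not_mem P H _ hk, if_neg (fun hc => hk hc.2), zero_mul, zero_div]
  rw [h1]
  unfold brauerCentralChar
  rw [finsum_eq_sum_of_fintype, Finset.sum_filter]
  refine Finset.sum_congr rfl (fun h _ => ?_)
  exact finsum_eq_if

/-- A class function is the combination of the class indicator functions of representatives of
the conjugacy classes, with its values as coefficients. -/
theorem classFun_eq_sum_classInd [Fintype (ConjClasses G)] {z : G → ℂ}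
    (hz : IsClassFunction G z) (y : G) :
    z y = ∑ c : ConjClasses G, z (Quotient.out c) * classInd (Quotient.out c) y := by
  classical
  have hconj : ∀ a b : G, IsConj a b → z a = z b := by
    intro a b hab
    obtain ⟨x, rfl⟩ := isConj_iff.mp hab
    exact (hz a x).symm
  have hout : ∀ c : ConjClasses G, ConjClasses.mk (Quotient.out c) = c := fun c =>
    Quotient.out_eq c
  rw [Finset.sum_eq_single (ConjClasses.mk y)]
  · have h1 : IsConj (Quotient.out (ConjClasses.mk y)) y :=
      ConjClasses.mk_eq_mk_iff_isConj.mp (hout _)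
    rw [classInd_of_isConj h1, mul_one, hconj _ _ h1]
  · intro c _ hc
    rw [classInd_of_not_isConj, mul_zero]
    intro hcon
    apply hc
    rw [← hout c]
    exact ConjClasses.mk_eq_mk_iff_isConj.mpr hcon
  · intro h
    exact absurd (Finset.mem_univ _) h

theorem brH_sum (P H : Subgroup G) {ι : Type*} (s : Finset ι) (c : ι → ℂ) (f : ι → G → ℂ)
    (h : H) :
    brH P H (fun g => ∑ i ∈ s, c i * f i g) h = ∑ i ∈ s, c i * brH P H (f i) h := by
  by_cases hh : (h : G) ∈ Subgroup.centralizer (P : Set G)
  · rw [brH_of_mem P H _ hh]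
    refine Finset.sum_congr rfl (fun i _ => ?_)
    rw [brH_of_mem P H _ hh]
  · rw [brH_of_not_mem P H _ hh]
    symm
    apply Finset.sum_eq_zero
    intro i _
    rw [brH_of_not_mem P H _ hh, mul_zero]

/-- The Brauer correspondence can be tested on class indicator functions. -/
theorem brInd_iff_classInd {M : Ideal AlgInt} (hM : M.IsPrime) (P H : Subgroup G) [Fintype H]
    (θ : H → ℂ) (χ : IrrCharacter G) :
    BrInd M P H θ (χ : G → ℂ)
      ↔ ∀ g : G, MemLocalIdeal M (om θ (brH P H (classInd g)) - centralChar (χ : G → ℂ) g) := by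
  classical
  constructor
  · intro h g
    have := h _ (classAlg_classInd hM g)
    rwa [om_classInd] at this
  · intro h z hz
    have : Fintype (ConjClasses G) := Fintype.ofFinite _
    have hexp : ∀ y, z y = ∑ c : ConjClasses G, z (Quotient.out c) * classInd (Quotient.out c) y :=
      classFun_eq_sum_classInd hz.1
    have h1 : om θ (brH P H z) = ∑ c : ConjClasses G, z (Quotient.out c)
        * om θ (brH P H (classInd (Quotient.out c))) := by
      have h2 : ∀ k : H, brH P H z k = ∑ c : ConjClasses G, z (Quotient.out c)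
          * brH P H (classInd (Quotient.out c)) k := by
        intro k
        rw [← brH_sum]
        exact brH_congr P H hexp k
      rw [om_congr _ h2, om_sum]
      refine Finset.sum_congr rfl (fun c _ => ?_)
      rw [om_smul]
    have h3 : om (χ : G → ℂ) z = ∑ c : ConjClasses G, z (Quotient.out c)
        * centralChar (χ : G → ℂ) (Quotient.out c) := by
      rw [om_congr _ hexp, om_sum]
      refine Finset.sum_congr rfl (fun c _ => ?_)
      rw [om_smul, om_classInd]
    rw [h1, h3, ← Finset.sum_sub_distrib]
    apply Cfsg.Agent.Lib.helper20.memLocalIdeal_sum hM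
    intro c _
    rw [← mul_sub]
    exact Cfsg.Agent.Lib.helper20.memLocalIdeal_mul_left hM (hz.2 _) (h _)

/-- For `P C_G(P) ≤ H ≤ N_G(P)`: the block `b` of `H` induces the block `B` of `G` if and only
if `B` is the Brauer correspondent of `b`. -/
theorem isInducedBlock_iff_brInd {p : ℕ} [Fact p.Prime] {M : Ideal AlgInt} (hM : IsPModular p M)
    (P H : Subgroup G) [Fintype H] (hP : IsPGroup p P) (hPH : P ≤ H)
    (hCH : Subgroup.centralizer (P : Set G) ≤ H) (hHN : H ≤ Subgroup.normalizer (P : Set G))
    {b : Set (IrrCharacter H)} (hb : IsPBlock M b) {B : Set (IrrCharacter G)}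
    (hB : IsPBlock M B) :
    IsInducedBlock M H b B
      ↔ ∀ ξ ∈ b, ∀ χ ∈ B, BrInd M P H (ξ : H → ℂ) (χ : G → ℂ) := by
  have hMp := Cfsg.Agent.Lib.helper20.isPrime_of_isPModular hM
  rw [Cfsg.Agent.S0918.result p M hM P H hP hPH hCH hHN b hb B hB]
  constructor
  · intro h ξ hξ χ hχ
    rw [brInd_iff_classInd hMp]
    intro g
    have := h ξ hξ χ hχ g
    rwa [brauerCentralChar_eq_om] at this
  · intro h ξ hξ χ hχ g
    have := (brInd_iff_classInd hMp P H _ χ).mp (h ξ hξ χ hχ) g
    rwa [← brauerCentralChar_eq_om] at this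

end

end Cfsg.Agent.Lib.helper80
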