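import Cfsg.Agent.Lib.helper80.CentricNormal

/-!
# Equality of Brauer pairs on the index type

* `Agree`, `pair_ext`: two pairs with the same subgroup whose members agree are equal.
* `conjPair_one`, `conjPair_mul`: conjugation of pairs is an action.
* `conjPair_eq_self_of_stabilizes`: the stabilizer of a pair fixes it.
* `eq_of_subpairLE_of_eq`: an inclusion of pairs on the same subgroup is an equality.
-/

set_option autoImplicit false

open Cfsg

namespace Cfsg.Agent.Lib.helper80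

universe u

section Ext

variable {G : Type u} [Group G]

/-- Two characters of centralizers agreeing on the common elements. -/
def Agree {Q Q' : Subgroup G} (ξ : IrrCharacter (Subgroup.centralizer (Q : Set G)))
    (ξ' : IrrCharacter (Subgroup.centralizer (Q' : Set G))) : Prop :=
  ∀ (c : Subgroup.centralizer (Q : Set G)) (c' : Subgroup.centralizer (Q' : Set G)),
    (c : G) = c' → (ξ : Subgroup.centralizer (Q : Set G) → ℂ) c
      = (ξ' : Subgroup.centralizer (Q' : Set G) → ℂ) c'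

theorem agree_self {Q : Subgroup G} (ξ : IrrCharacter (Subgroup.centralizer (Q : Set G))) :
    Agree ξ ξ := fun c c' hcc => by rw [Subtype.ext hcc]

theorem eq_of_agree {Q : Subgroup G} {ξ ξ' : IrrCharacter (Subgroup.centralizer (Q : Set G))}
    (h : Agree ξ ξ') : ξ = ξ' := Subtype.ext (funext fun c => h c c rfl)

theorem Agree.symm {Q Q' : Subgroup G} {ξ : IrrCharacter (Subgroup.centralizer (Q : Set G))}
    {ξ' : IrrCharacter (Subgroup.centralizer (Q' : Set G))} (h : Agree ξ ξ') : Agree ξ' ξ :=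
  fun c c' hcc => (h c' c hcc.symm).symm

/-- Extensionality for pairs on the index type. -/
theorem pair_ext {X Y : BrauerPairIdx G} (h1 : X.1 = Y.1)
    (h2 : ∀ ξ ∈ X.2, ∃ ξ' ∈ Y.2, Agree ξ ξ') (h3 : ∀ ξ' ∈ Y.2, ∃ ξ ∈ X.2, Agree ξ ξ') :
    X = Y := by
  obtain ⟨Q, f⟩ := X
  obtain ⟨Q', f'⟩ := Y
  dsimp only at h1 h2 h3
  subst h1
  have : f = f' := by
    ext ξ
    constructor
    · intro h
      obtain ⟨ξ', hξ', hag⟩ := h2 ξ h
      rw [eq_of_agree hag]
      exact hξ'
    · intro h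
      obtain ⟨ξ₀, hξ₀, hag⟩ := h3 ξ h
      rw [← eq_of_agree hag]
      exact hξ₀
  rw [this]

theorem agree_of_pair_eq {X Y : BrauerPairIdx G} (h : X = Y) :
    ∀ ξ ∈ X.2, ∃ ξ' ∈ Y.2, Agree ξ ξ' := by
  subst h
  intro ξ hξ
  exact ⟨ξ, hξ, agree_self ξ⟩

/-- Extensionality for pairs of blocks: the same subgroup and one agreeing member. -/
theorem pair_ext_block {M : Ideal AlgInt} (hM : M.IsPrime) {X Y : BrauerPairIdx G}
    (h1 : X.1 = Y.1) (hX : IsPBlock M X.2) (hY : IsPBlock M Y.2)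
    (h2 : ∃ ξ ∈ X.2, ∃ ξ' ∈ Y.2, Agree ξ ξ') : X = Y := by
  obtain ⟨Q, f⟩ := X
  obtain ⟨Q', f'⟩ := Y
  dsimp only at h1 h2 hX hY
  subst h1
  obtain ⟨ξ, hξ, ξ', hξ', hag⟩ := h2
  have h3 := eq_of_agree hag
  subst h3
  rw [isPBlock_eq_of_mem hM hX hY hξ hξ']

theorem map_conj_one (Q : Subgroup G) : Q.map (MulAut.conj (1 : G)).toMonoidHom = Q := by
  ext y
  rw [mem_map_conj]
  simp

theorem map_conj_mul (Q : Subgroup G) (a b : G) :
    (Q.map (MulAut.conj b).toMonoidHom).map (MulAut.conj a).toMonoidHom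
      = Q.map (MulAut.conj (a * b)).toMonoidHom := by
  ext y
  rw [mem_map_conj, mem_map_conj, mem_map_conj]
  have : b⁻¹ * (a⁻¹ * y * a) * b = (a * b)⁻¹ * y * (a * b) := by group
  rw [this]

theorem map_conj_eq_of_mem_normalizer {Q : Subgroup G} {x : G}
    (hx : x ∈ Subgroup.normalizer (Q : Set G)) : Q.map (MulAut.conj x).toMonoidHom = Q := by
  ext y
  rw [mem_map_conj]
  have h1 := (Subgroup.mem_normalizer_iff.mp hx) (x⁻¹ * y * x)
  have h2 : x * (x⁻¹ * y * x) * x⁻¹ = y := by group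
  rw [h2] at h1
  exact h1

theorem conjPair_one (X : BrauerPairIdx G) : conjPair 1 X = X := by
  obtain ⟨Q, f⟩ := X
  show (⟨Q.map (MulAut.conj (1 : G)).toMonoidHom, conjBlock Q 1 f⟩ : BrauerPairIdx G) = ⟨Q, f⟩
  apply pair_ext (map_conj_one Q)
  · intro ξ hξ
    obtain ⟨ζ, hζ, rfl⟩ := exists_irrMap_of_mem_conjBlock Q 1 f hξ
    refine ⟨ζ, hζ, ?_⟩
    intro c c' hcc
    rw [irrMap_apply]
    refine congrArg _ (Subtype.ext ?_)
    rw [centConj_symm_apply_coe, hcc]
    group
  · intro ξ' hξ'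
    refine ⟨irrMap (centConj Q 1) ξ', (mem_conjBlock_iff Q 1 f ξ').mpr hξ', ?_⟩
    intro c c' hcc
    rw [irrMap_apply]
    refine congrArg _ (Subtype.ext ?_)
    rw [centConj_symm_apply_coe, hcc]
    group

theorem conjPair_mul (a b : G) (X : BrauerPairIdx G) :
    conjPair a (conjPair b X) = conjPair (a * b) X := by
  obtain ⟨Q, f⟩ := X
  show (⟨(Q.map (MulAut.conj b).toMonoidHom).map (MulAut.conj a).toMonoidHom,
      conjBlock (Q.map (MulAut.conj b).toMonoidHom) a (conjBlock Q b f)⟩ : BrauerPairIdx G)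
    = ⟨Q.map (MulAut.conj (a * b)).toMonoidHom, conjBlock Q (a * b) f⟩
  apply pair_ext (map_conj_mul Q a b)
  · intro ξ hξ
    obtain ⟨η, hη, rfl⟩ := exists_irrMap_of_mem_conjBlock _ a _ hξ
    obtain ⟨ζ, hζ, rfl⟩ := exists_irrMap_of_mem_conjBlock Q b f hη
    refine ⟨irrMap (centConj Q (a * b)) ζ, (mem_conjBlock_iff Q (a * b) f ζ).mpr hζ, ?_⟩
    intro c c' hcc
    rw [irrMap_apply, irrMap_apply, irrMap_apply]
    refine congrArg _ (Subtype.ext ?_)
    rw [centConj_symm_apply_coe, centConj_symm_apply_coe, centConj_symm_apply_coe, hcc]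
    group
  · intro ξ' hξ'
    obtain ⟨ζ, hζ, rfl⟩ := exists_irrMap_of_mem_conjBlock Q (a * b) f hξ'
    refine ⟨irrMap (centConj _ a) (irrMap (centConj Q b) ζ),
      (mem_conjBlock_iff _ a _ _).mpr ((mem_conjBlock_iff Q b f ζ).mpr hζ), ?_⟩
    intro c c' hcc
    rw [irrMap_apply, irrMap_apply, irrMap_apply]
    refine congrArg _ (Subtype.ext ?_)
    rw [centConj_symm_apply_coe, centConj_symm_apply_coe, centConj_symm_apply_coe, hcc]
    group

theorem conjPair_inv_conjPair (a : G) (X : BrauerPairIdx G) :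
    conjPair a⁻¹ (conjPair a X) = X := by
  rw [conjPair_mul, inv_mul_cancel, conjPair_one]

theorem conjPair_conjPair_inv (a : G) (X : BrauerPairIdx G) :
    conjPair a (conjPair a⁻¹ X) = X := by
  rw [conjPair_mul, mul_inv_cancel, conjPair_one]

/-- An element stabilizing a pair fixes it. -/
theorem conjPair_eq_self_of_stabilizes {M : Ideal AlgInt} (hM : M.IsPrime) {Q : Subgroup G}
    {f : Set (IrrCharacter (Subgroup.centralizer (Q : Set G)))} (hf : IsPBlock M f) {x : G}
    (hxN : x ∈ Subgroup.normalizer (Q : Set G))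
    (hxS : StabilizesBlock (Subgroup.centralizer (Q : Set G)) f x) :
    conjPair x ⟨Q, f⟩ = ⟨Q, f⟩ := by
  obtain ⟨ζ, hζ⟩ := Cfsg.Agent.Lib.helper80.isPBlock_nonempty hM hf
  obtain ⟨χ', hχ', hconj⟩ := hxS.2 ζ hζ
  show (⟨Q.map (MulAut.conj x).toMonoidHom, conjBlock Q x f⟩ : BrauerPairIdx G) = ⟨Q, f⟩
  refine pair_ext_block hM (map_conj_eq_of_mem_normalizer hxN) (isPBlock_conjBlock Q x hf) hf
    ⟨irrMap (centConj Q x) ζ, (mem_conjBlock_iff Q x f ζ).mpr hζ, χ', hχ', ?_⟩
  intro c c' hcc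
  rw [irrMap_apply]
  refine (hconj _ c' ?_).symm
  rw [centConj_symm_apply_coe, hcc]
  group

/-- An element fixing a pair stabilizes it. -/
theorem stabilizes_of_conjPair_eq_self [Finite G] {Q : Subgroup G}
    {f : Set (IrrCharacter (Subgroup.centralizer (Q : Set G)))} {x : G}
    (h : conjPair x ⟨Q, f⟩ = ⟨Q, f⟩) :
    x ∈ Subgroup.normalizer (Q : Set G) ∧
      StabilizesBlock (Subgroup.centralizer (Q : Set G)) f x := by
  have h1 : Q.map (MulAut.conj x).toMonoidHom = Q := congrArg Sigma.fst h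
  have hxN : x ∈ Subgroup.normalizer (Q : Set G) := by
    apply mem_normalizer_of_forall_conj_mem
    intro u hu
    rw [← h1]
    exact conj_mem_map Q x hu
  refine ⟨hxN, normalizer_le_normalizer_centralizer Q hxN, ?_⟩
  intro χ hχ
  obtain ⟨χ', hχ', hag⟩ := agree_of_pair_eq h (irrMap (centConj Q x) χ)
    ((mem_conjBlock_iff Q x f χ).mpr hχ)
  refine ⟨χ', hχ', ?_⟩
  intro k k' hkk
  have h2 := hag (centConj Q x k) k' (by rw [centConj_apply_coe, hkk])
  exact h2.symm.trans (irrMap_apply' (centConj Q x) χ k)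

end Ext

section Chain

variable {G : Type u} [Group G] [Fintype G] {p : ℕ} [Fact p.Prime] {M : Ideal AlgInt}

/-- An inclusion of pairs on the same subgroup is an equality. -/
theorem eq_of_subpairLE_of_eq (hM : IsPModular p M) (a b : BrauerPairIdx G)
    (h : Relation.ReflTransGen (NormalSubpairRel p M) a b) : a.1 = b.1 → a = b := by
  induction h with
  | refl => intro _; rfl
  | @tail c d hac hcd ih =>
    intro hab
    have h1 : a.1 ≤ c.1 := subpairLE_le a c hac
    have h2 : c.1 ≤ d.1 := hcd.2.2.1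
    have h3 : a.1 = c.1 := le_antisymm h1 (hab ▸ h2)
    have h4 : c.1 = d.1 := h3 ▸ hab
    rw [ih h3]
    obtain ⟨Q, f⟩ := c
    obtain ⟨Q', f'⟩ := d
    dsimp only at h4
    subst h4
    rw [normalSubpair_same hM Q f f' hcd]

end Chain

end Cfsg.Agent.Lib.helper80
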