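import Cfsg.Agent.Lib.helper80.PairTop

/-!
# Brauer pairs of the principal block; maximal Brauer pairs above a given pair
-/

set_option autoImplicit false

open Cfsg

namespace Cfsg.Agent.Lib.helper80

universe u

section

variable {G : Type u} [Group G] [Fintype G] {p : ℕ} [Fact p.Prime] {M : Ideal AlgInt}

open Cfsg.Agent.Lib.helper81 Cfsg.Agent.Lib.helper20

/-- For a `Q`-invariant function with local-integer values summing to `1`, the Brauer functional
of the trivial character of `C_G(Q)` is `1` modulo the local ideal. -/
theorem brauerOmega_trivChar_sub_one (hM : IsPModular p M) (Q : Subgroup G) (hQ : IsPGroup p Q)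
    (β : G → ℂ) (hβQ : ∀ u ∈ Q, ∀ x : G, β (u * x * u⁻¹) = β x)
    (hβloc : ∀ x, MemLocalRing M (β x)) (hsum : ∑ x : G, β x = 1) :
    MemLocalIdeal M (brauerOmega Q β
      (trivChar (Subgroup.centralizer (Q : Set G)) : Subgroup.centralizer (Q : Set G) → ℂ)
        - 1) := by
  classical
  have : Fintype (Subgroup.centralizer (Q : Set G)) := Fintype.ofFinite _
  have h1 := sum_not_centralizer_memLocalIdeal hM Q hQ β hβQ hβloc
  have h2 : brauerOmega Q β
      (trivChar (Subgroup.centralizer (Q : Set G)) : Subgroup.centralizer (Q : Set G) → ℂ)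
      = ∑ x ∈ Finset.univ.filter (fun x : G => x ∈ Subgroup.centralizer (Q : Set G)), β x := by
    rw [brauerOmega_eq_om]
    unfold om
    simp only [trivChar_apply, mul_one, div_one]
    exact (Finset.sum_subtype (Finset.univ.filter
      (fun x : G => x ∈ Subgroup.centralizer (Q : Set G)))
      (p := fun x => x ∈ Subgroup.centralizer (Q : Set G)) (by simp) β).symm
  have h3 := Finset.sum_filter_add_sum_filter_not Finset.univ
    (fun x : G => x ∈ Subgroup.centralizer (Q : Set G)) β
  rw [hsum] at h3
  rw [h2]
  have h4 : ∑ x ∈ Finset.univ.filter (fun x : G => x ∈ Subgroup.centralizer (Q : Set G)), β x - 1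
      = -(∑ x ∈ Finset.univ.filter (fun x : G => x ∉ Subgroup.centralizer (Q : Set G)), β x) := by
    rw [← h3]
    ring
  rw [h4]
  exact memLocalIdeal_neg h1

/-- `(Q, b₀(C_G(Q)))` is a Brauer pair of the principal block. -/
theorem isBrauerPairOf_principal (hM : IsPModular p M) (Q : Subgroup G) (hQ : IsPGroup p Q) :
    IsBrauerPairOf p M (principalBlock M G) Q
      (principalBlock M (Subgroup.centralizer (Q : Set G))) := by
  classical
  have hMp := isPrime_of_isPModular hM
  refine ⟨⟨hQ, isPBlock_principalBlock⟩, isPBlock_principalBlock, ?_⟩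
  intro ξ hξ
  have hcf := blockCoeff_classFun (principalBlock M G)
  have hloc : ∀ x, MemLocalRing M (blockCoeff (principalBlock M G) x) := fun x =>
    memLocalRing_blockCoeff' hMp isPBlock_principalBlock x
  have hsum : ∑ x : G, blockCoeff (principalBlock M G) x = 1 := by
    have h0 := om_blockCoeff (principalBlock M G) (trivChar G)
    rw [if_pos (trivChar_mem_principalBlock hMp)] at h0
    unfold om at h0
    simpa using h0
  have h1 := brauerOmega_trivChar_sub_one hM Q hQ _ (fun u _ x => hcf x u) hloc hsum
  have h2 := memLocalIdeal_brauerOmega_sub hMp Q _ (fun u _ x => hcf x u) hloc (trivChar _) ξ hξ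
  have := memLocalIdeal_sub hMp h1 h2
  rwa [sub_sub_sub_cancel_left] at this

omit [Fintype G] [Fact p.Prime] in
theorem conjIrr_trivChar (K : Subgroup G) (n : G) (hn : n ∈ Subgroup.normalizer (K : Set G)) :
    conjIrr K n hn (trivChar K) = trivChar K := by
  apply Subtype.ext
  funext k
  rfl

omit [Fintype G] [Fact p.Prime] in
theorem conjSet_principalBlock (K : Subgroup G) (n : G)
    (hn : n ∈ Subgroup.normalizer (K : Set G)) :
    conjSet K n hn (principalBlock M K) = principalBlock M K := by
  rw [principalBlock_eq_blockOf, conjSet_blockOf, conjIrr_trivChar]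

/-- The principal blocks of the centralizers form normal inclusions of Brauer pairs. -/
theorem isNormalSubpair_principal (hM : IsPModular p M) (Q Q' : Subgroup G)
    (hQ' : IsPGroup p Q') (hQQ' : Q ≤ Q') (hQ'N : Q' ≤ Subgroup.normalizer (Q : Set G)) :
    IsNormalSubpair p M Q (principalBlock M (Subgroup.centralizer (Q : Set G))) Q'
      (principalBlock M (Subgroup.centralizer (Q' : Set G))) := by
  classical
  have hMp := isPrime_of_isPModular hM
  have : Fintype (Subgroup.centralizer (Q : Set G)) := Fintype.ofFinite _
  have hQ := hQ'.to_le hQQ'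
  have hCC : Subgroup.centralizer (Q' : Set G) ≤ Subgroup.centralizer (Q : Set G) :=
    Subgroup.centralizer_le (SetLike.coe_subset_coe.mpr hQQ')
  have hQ'C : Q' ≤ Subgroup.normalizer
      ((Subgroup.centralizer (Q : Set G) : Subgroup G) : Set G) :=
    fun x hx => normalizer_le_normalizer_centralizer Q (hQ'N hx)
  refine ⟨⟨hQ, isPBlock_principalBlock⟩, ⟨hQ', isPBlock_principalBlock⟩, hQQ', hQ'N, ?_, ?_⟩
  · intro x hx
    rw [stabilizesBlock_iff_eq hMp _ x (hQ'C hx) isPBlock_principalBlock]
    exact conjSet_principalBlock _ x _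
  · intro ξ hξ
    have hβQ' : ∀ u ∈ Q', ∀ x : G,
        subgroupBlockCoeff (Subgroup.centralizer (Q : Set G))
          (principalBlock M (Subgroup.centralizer (Q : Set G))) (u * x * u⁻¹)
        = subgroupBlockCoeff (Subgroup.centralizer (Q : Set G))
          (principalBlock M (Subgroup.centralizer (Q : Set G))) x := fun u hu x =>
      subgroupBlockCoeff_conj_of_eq _ u (hQ'C hu) _ (conjSet_principalBlock _ u _) x
    have hβC : ∀ u ∈ Subgroup.centralizer (Q' : Set G), ∀ x : G,
        subgroupBlockCoeff (Subgroup.centralizer (Q : Set G))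
          (principalBlock M (Subgroup.centralizer (Q : Set G))) (u * x * u⁻¹)
        = subgroupBlockCoeff (Subgroup.centralizer (Q : Set G))
          (principalBlock M (Subgroup.centralizer (Q : Set G))) x := fun u hu x =>
      subgroupBlockCoeff_conj_mem _ _ u (hCC hu) x
    have hβloc : ∀ x, MemLocalRing M (subgroupBlockCoeff (Subgroup.centralizer (Q : Set G))
          (principalBlock M (Subgroup.centralizer (Q : Set G))) x) := fun x =>
      extFun_memLocalRing hMp _ _
        (fun k => memLocalRing_blockCoeff' hMp isPBlock_principalBlock k) x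
    have hsum : ∑ x : G, subgroupBlockCoeff (Subgroup.centralizer (Q : Set G))
          (principalBlock M (Subgroup.centralizer (Q : Set G))) x = 1 := by
      have h0 := sum_extFun_mul (Subgroup.centralizer (Q : Set G))
        (blockCoeff (principalBlock M (Subgroup.centralizer (Q : Set G)))) (fun _ => 1)
      simp only [mul_one] at h0
      have h00 := om_blockCoeff (principalBlock M (Subgroup.centralizer (Q : Set G)))
        (trivChar _)
      rw [if_pos (trivChar_mem_principalBlock hMp)] at h00
      unfold om at h00
      simp only [trivChar_apply, mul_one, div_one] at h00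
      rw [← h00]
      exact h0
    have h1 := brauerOmega_trivChar_sub_one hM Q' hQ' _ hβQ' hβloc hsum
    have h2 := memLocalIdeal_brauerOmega_sub hMp Q' _ hβC hβloc (trivChar _) ξ hξ
    have := memLocalIdeal_sub hMp h1 h2
    rwa [sub_sub_sub_cancel_left] at this

/-- Below a pair with the principal block, all pairs carry the principal block. -/
theorem principal_of_subpairLE (hM : IsPModular p M) (a b : BrauerPairIdx G)
    (h : Relation.ReflTransGen (NormalSubpairRel p M) a b) :
    b.2 = principalBlock M (Subgroup.centralizer (b.1 : Set G)) →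
      a.2 = principalBlock M (Subgroup.centralizer (a.1 : Set G)) := by
  induction h with
  | refl => exact id
  | @tail b c _ hbc ih =>
    intro hc
    apply ih
    obtain ⟨Q, f⟩ := b
    obtain ⟨P, e⟩ := c
    have hc' : e = principalBlock M (Subgroup.centralizer (P : Set G)) := hc
    have hbc' : IsNormalSubpair p M Q f P e := hbc
    clear hc hbc
    subst hc'
    show f = principalBlock M (Subgroup.centralizer (Q : Set G))
    have : Fintype (Subgroup.centralizer (Q : Set G)) := Fintype.ofFinite _
    obtain ⟨χ, -, huniq, -⟩ := exists_irr_normalSubpair hM P Q _ hbc'.2.1 hbc'.2.2.1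
      hbc'.2.2.2.1
    rw [huniq f hbc', huniq _ (isNormalSubpair_principal hM Q P hbc'.2.1.1 hbc'.2.2.1
      hbc'.2.2.2.1)]

/-- Every Brauer pair of `B` lies below a maximal Brauer pair of `B`. -/
theorem exists_maximal_above (hM : IsPModular p M) {B : Set (IrrCharacter G)} :
    ∀ (n : ℕ) (Q : Subgroup G) (f : Set (IrrCharacter (Subgroup.centralizer (Q : Set G)))),
      Nat.card G - Nat.card Q = n → IsBrauerPairOf p M B Q f →
      ∃ (P : Subgroup G) (e : Set (IrrCharacter (Subgroup.centralizer (P : Set G)))),
        IsMaximalBrauerPair p M B P e ∧ SubpairLE p M Q f P e := by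
  intro n
  induction n using Nat.strong_induction_on with
  | _ n ih =>
    intro Q f hn hpair
    by_cases hmax : ∀ (R : Subgroup G)
        (g : Set (IrrCharacter (Subgroup.centralizer (R : Set G)))),
        IsBrauerPairOf p M B R g → SubpairLE p M Q f R g → R = Q
    · exact ⟨Q, f, ⟨hpair, hmax⟩, Relation.ReflTransGen.refl⟩
    · push Not at hmax
      obtain ⟨R, g, hRg, hle, hne⟩ := hmax
      have hQR : Q ≤ R := subpairLE_le ⟨Q, f⟩ ⟨R, g⟩ hle
      have hlt : Q < R := lt_of_le_of_ne hQR (Ne.symm hne)
      have hcard := card_lt_of_lt hlt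
      have hRG : Nat.card R ≤ Nat.card G := Subgroup.card_le_card_group R
      obtain ⟨P, e, hPe, hle'⟩ := ih (Nat.card G - Nat.card R) (by omega) R g rfl hRg
      exact ⟨P, e, hPe, Relation.ReflTransGen.trans hle hle'⟩

end

end Cfsg.Agent.Lib.helper80
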