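import Mathlib
import Cfsg.Prelude.Def_BrauerPairs
import Cfsg.Agent.Lib.helper80.DefectGroup
import Cfsg.Agent.Lib.helper82.CharQuot

/-!
Transport of irreducible characters, blocks, block idempotents, defect classes and defect groups
along an isomorphism of groups.
-/

set_option autoImplicit false

namespace Cfsg.Agent.Lib.helper80

open Cfsg
open scoped ComplexConjugate

universe u

section

variable {K₁ K₂ : Type u} [Group K₁] [Group K₂]

/-- Transport of an irreducible character along an isomorphism of groups. -/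
noncomputable def irrMap (φ : K₁ ≃* K₂) (χ : IrrCharacter K₁) : IrrCharacter K₂ :=
  ⟨fun k => (χ : K₁ → ℂ) (φ.symm k), by
    obtain ⟨m, ρ, hρ, hχ⟩ := χ.2
    refine ⟨m, Cfsg.Agent.Lib.helper82.compRep φ.symm.toMonoidHom ρ, ?_, ?_⟩
    · exact (Cfsg.Agent.Lib.helper82.isIrreducible_comp_iff _ φ.symm.surjective ρ).mpr hρ
    · funext k
      rw [Cfsg.Agent.Lib.helper82.character_comp, hχ]
      rfl⟩

theorem irrMap_apply (φ : K₁ ≃* K₂) (χ : IrrCharacter K₁) (k : K₂) :
    (irrMap φ χ : K₂ → ℂ) k = (χ : K₁ → ℂ) (φ.symm k) := rfl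

theorem irrMap_apply' (φ : K₁ ≃* K₂) (χ : IrrCharacter K₁) (k : K₁) :
    (irrMap φ χ : K₂ → ℂ) (φ k) = (χ : K₁ → ℂ) k := by
  rw [irrMap_apply, φ.symm_apply_apply]

theorem irrMap_symm_irrMap (φ : K₁ ≃* K₂) (χ : IrrCharacter K₁) :
    irrMap φ.symm (irrMap φ χ) = χ := by
  apply Subtype.ext
  funext k
  rw [irrMap_apply, irrMap_apply, MulEquiv.symm_symm, φ.symm_apply_apply]

theorem irrMap_irrMap_symm (φ : K₁ ≃* K₂) (ψ : IrrCharacter K₂) :
    irrMap φ (irrMap φ.symm ψ) = ψ := by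
  apply Subtype.ext
  funext k
  rw [irrMap_apply, irrMap_apply, MulEquiv.symm_symm, φ.apply_symm_apply]

/-- Transport of irreducible characters as an equivalence. -/
noncomputable def irrEquiv (φ : K₁ ≃* K₂) : IrrCharacter K₁ ≃ IrrCharacter K₂ where
  toFun := irrMap φ
  invFun := irrMap φ.symm
  left_inv := irrMap_symm_irrMap φ
  right_inv := irrMap_irrMap_symm φ

theorem centralizer_map_mulEquiv (φ : K₁ ≃* K₂) (k : K₁) :
    Subgroup.centralizer ({φ k} : Set K₂)
      = (Subgroup.centralizer ({k} : Set K₁)).map φ.toMonoidHom := by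
  ext y
  rw [mem_centralizer_singleton, Subgroup.mem_map]
  constructor
  · intro hy
    refine ⟨φ.symm y, ?_, by simp⟩
    rw [mem_centralizer_singleton]
    apply φ.injective
    simp [hy]
  · rintro ⟨z, hz, rfl⟩
    rw [mem_centralizer_singleton] at hz
    show φ k * φ z = φ z * φ k
    rw [← map_mul, ← map_mul, hz]

theorem index_centralizer_mulEquiv (φ : K₁ ≃* K₂) (k : K₁) :
    (Subgroup.centralizer ({φ k} : Set K₂)).index
      = (Subgroup.centralizer ({k} : Set K₁)).index := by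
  rw [centralizer_map_mulEquiv]
  exact Subgroup.index_map_equiv _ φ

theorem card_centralizer_mulEquiv (φ : K₁ ≃* K₂) (k : K₁) :
    Nat.card (Subgroup.centralizer ({φ k} : Set K₂))
      = Nat.card (Subgroup.centralizer ({k} : Set K₁)) := by
  rw [centralizer_map_mulEquiv]
  exact Subgroup.card_map_of_injective φ.injective

theorem centralChar_irrMap (φ : K₁ ≃* K₂) (χ : IrrCharacter K₁) (k : K₁) :
    centralChar (irrMap φ χ : K₂ → ℂ) (φ k) = centralChar (χ : K₁ → ℂ) k := by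
  unfold centralChar
  rw [irrMap_apply', index_centralizer_mulEquiv, irrMap_apply, map_one]

theorem sameBlock_irrMap_iff {M : Ideal AlgInt} (φ : K₁ ≃* K₂) (χ ψ : IrrCharacter K₁) :
    SameBlock M (irrMap φ χ : K₂ → ℂ) (irrMap φ ψ : K₂ → ℂ)
      ↔ SameBlock M (χ : K₁ → ℂ) (ψ : K₁ → ℂ) := by
  constructor
  · intro h k
    have := h (φ k)
    rwa [centralChar_irrMap, centralChar_irrMap] at this
  · intro h k
    have := h (φ.symm k)
    rw [← centralChar_irrMap φ χ, ← centralChar_irrMap φ ψ, φ.apply_symm_apply] at this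
    exact this

/-- Transport of a set of irreducible characters along an isomorphism of groups. -/
def blockMap (φ : K₁ ≃* K₂) (c : Set (IrrCharacter K₁)) : Set (IrrCharacter K₂) :=
  {ψ | irrMap φ.symm ψ ∈ c}

theorem mem_blockMap (φ : K₁ ≃* K₂) (c : Set (IrrCharacter K₁)) (ψ : IrrCharacter K₂) :
    ψ ∈ blockMap φ c ↔ irrMap φ.symm ψ ∈ c := Iff.rfl

theorem irrMap_mem_blockMap (φ : K₁ ≃* K₂) (c : Set (IrrCharacter K₁)) (χ : IrrCharacter K₁) :
    irrMap φ χ ∈ blockMap φ c ↔ χ ∈ c := by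
  rw [mem_blockMap, irrMap_symm_irrMap]

theorem blockMap_blockOf {M : Ideal AlgInt} (φ : K₁ ≃* K₂) (χ : IrrCharacter K₁) :
    blockMap φ (blockOf M (χ : K₁ → ℂ)) = blockOf M (irrMap φ χ : K₂ → ℂ) := by
  ext ψ
  rw [mem_blockMap]
  show SameBlock M (χ : K₁ → ℂ) (irrMap φ.symm ψ : K₁ → ℂ)
    ↔ SameBlock M (irrMap φ χ : K₂ → ℂ) (ψ : K₂ → ℂ)
  rw [← sameBlock_irrMap_iff φ, irrMap_irrMap_symm]

theorem isPBlock_blockMap {M : Ideal AlgInt} (φ : K₁ ≃* K₂) {c : Set (IrrCharacter K₁)}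
    (hc : IsPBlock M c) : IsPBlock M (blockMap φ c) := by
  obtain ⟨χ, rfl⟩ := hc
  exact ⟨irrMap φ χ, blockMap_blockOf φ χ⟩

theorem blockMap_symm_blockMap (φ : K₁ ≃* K₂) (c : Set (IrrCharacter K₁)) :
    blockMap φ.symm (blockMap φ c) = c := by
  ext χ
  rw [mem_blockMap, mem_blockMap, MulEquiv.symm_symm, irrMap_symm_irrMap]

theorem blockMap_blockMap_symm (φ : K₁ ≃* K₂) (c : Set (IrrCharacter K₂)) :
    blockMap φ (blockMap φ.symm c) = c := by
  ext χ
  rw [mem_blockMap, mem_blockMap, MulEquiv.symm_symm, irrMap_irrMap_symm]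

theorem blockCoeff_blockMap [Fintype K₁] [Fintype K₂] (φ : K₁ ≃* K₂)
    (c : Set (IrrCharacter K₁)) (k : K₂) :
    blockCoeff (blockMap φ c) k = blockCoeff c (φ.symm k) := by
  classical
  rw [blockCoeff_eq_sum, blockCoeff_eq_sum, Nat.card_congr φ.toEquiv]
  congr 1
  refine (Fintype.sum_equiv (irrEquiv φ) _ _ (fun χ => ?_)).symm
  show _ = if irrMap φ χ ∈ blockMap φ c then
    (irrMap φ χ : K₂ → ℂ) 1 * conj ((irrMap φ χ : K₂ → ℂ) k) else 0
  rw [irrMap_mem_blockMap, irrMap_apply, irrMap_apply, map_one]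

theorem blockCoeff_blockMap' [Fintype K₁] [Fintype K₂] (φ : K₁ ≃* K₂)
    (c : Set (IrrCharacter K₁)) (k : K₁) :
    blockCoeff (blockMap φ c) (φ k) = blockCoeff c k := by
  rw [blockCoeff_blockMap, φ.symm_apply_apply]

theorem isDefectClass_blockMap [Fintype K₁] [Fintype K₂] {M : Ideal AlgInt} (φ : K₁ ≃* K₂)
    {c : Set (IrrCharacter K₁)} {g : K₁} (h : IsDefectClass M c g) :
    IsDefectClass M (blockMap φ c) (φ g) := by
  obtain ⟨h1, h2, h3⟩ := h
  refine ⟨?_, ?_, ?_⟩
  · rw [blockCoeff_blockMap']; exact h1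
  · rw [blockCoeff_blockMap']; exact h2
  · intro ψ hψ
    rw [mem_blockMap] at hψ
    have := h3 _ hψ
    rw [← centralChar_irrMap φ, irrMap_irrMap_symm] at this
    exact this

theorem isSylowCent_map [Finite K₁] [Finite K₂] {p : ℕ} [Fact p.Prime] (φ : K₁ ≃* K₂) {g : K₁}
    {D : Subgroup K₁} (h : IsSylowCent p g D) :
    IsSylowCent p (φ g) (D.map φ.toMonoidHom) := by
  apply isSylowCent_of_card
  · rw [centralizer_map_mulEquiv]
    exact Subgroup.map_mono (IsSylowCent.le h)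
  · rw [card_centralizer_mulEquiv, ← IsSylowCent.card h]
    exact Subgroup.card_map_of_injective φ.injective

theorem isDefectGroup_blockMap [Fintype K₁] [Fintype K₂] {p : ℕ} [Fact p.Prime]
    {M : Ideal AlgInt} (φ : K₁ ≃* K₂) {c : Set (IrrCharacter K₁)} {D : Subgroup K₁}
    (h : IsDefectGroup p M c D) : IsDefectGroup p M (blockMap φ c) (D.map φ.toMonoidHom) := by
  obtain ⟨g, hg, hs⟩ := h
  exact ⟨φ g, isDefectClass_blockMap φ hg, isSylowCent_map φ hs⟩

end

end Cfsg.Agent.Lib.helper80
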