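import Mathlib
import Cfsg.Prelude.Def_BrauerPairs
import Cfsg.Agent.Lib.helper80.NormalSubpair

/-!
Inclusion of Brauer pairs (Alperin–Broué): reflexivity and transitivity of normal inclusion,
an inclusion `(Q, f) ≤ (P, e)` with `Q` normal in `P` is a normal inclusion, existence and
uniqueness of the pair on `Q` below `(P, e)`.
-/

set_option autoImplicit false

namespace Cfsg.Agent.Lib.helper80

open Cfsg
open scoped ComplexConjugate

universe u

section

variable {G : Type u} [Group G]

theorem conjSet_congr (K : Subgroup G) {a b : G} (h : a = b)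
    (ha : a ∈ Subgroup.normalizer (K : Set G)) (hb : b ∈ Subgroup.normalizer (K : Set G))
    (f : Set (IrrCharacter K)) : conjSet K a ha f = conjSet K b hb f := by
  subst h
  rfl

/-- Conjugation equivariance of the Brauer functional. -/
theorem brauerOmega_conj (S : Subgroup G) (t : G)
    (ht : t ∈ Subgroup.normalizer ((Subgroup.centralizer (S : Set G) : Subgroup G) : Set G))
    (β β' : G → ℂ) (hβ : ∀ c ∈ Subgroup.centralizer (S : Set G), β' (t * c * t⁻¹) = β c)
    (γ : IrrCharacter (Subgroup.centralizer (S : Set G))) :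
    brauerOmega S β' (γ : Subgroup.centralizer (S : Set G) → ℂ)
      = brauerOmega S β (conjIrr (Subgroup.centralizer (S : Set G)) t⁻¹
          (Subgroup.inv_mem _ ht) γ : Subgroup.centralizer (S : Set G) → ℂ) := by
  unfold brauerOmega
  rw [← finsum_comp_equiv (conjEquiv (Subgroup.centralizer (S : Set G)) t ht).toEquiv]
  apply finsum_congr
  intro c
  simp only [MulEquiv.toEquiv_eq_coe, MulEquiv.coe_toEquiv]
  rw [conjEquiv_apply_coe, hβ c c.2, conjIrr_one_apply,
    conjIrr_apply (Subgroup.centralizer (S : Set G)) t⁻¹ _ γ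
      (conjEquiv (Subgroup.centralizer (S : Set G)) t ht c) c (by
        rw [conjEquiv_apply_coe]; group)]

theorem card_lt_of_lt [Finite G] {H K : Subgroup G} (h : H < K) : Nat.card H < Nat.card K := by
  show Nat.card (H : Set G) < Nat.card (K : Set G)
  rw [Nat.card_coe_set_eq, Nat.card_coe_set_eq]
  exact Set.ncard_lt_ncard (SetLike.coe_ssubset_coe.mpr h) (Set.toFinite _)

/-- A proper subgroup of a finite `p`-subgroup is properly contained in its normalizer there. -/
theorem exists_normalizer_of_lt [Finite G] {p : ℕ} [Fact p.Prime] {P Q : Subgroup G}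
    (hP : IsPGroup p P) (hQP : Q < P) :
    ∃ x ∈ P, x ∉ Q ∧ x ∈ Subgroup.normalizer (Q : Set G) := by
  have hnil : Group.IsNilpotent P := hP.isNilpotent
  have nc := Group.normalizerCondition_of_isNilpotent (G := P)
  have hlt : Q.subgroupOf P < ⊤ := by
    rw [lt_top_iff_ne_top]
    intro h
    rw [Subgroup.subgroupOf_eq_top] at h
    exact absurd (le_antisymm hQP.le h) hQP.ne
  obtain ⟨-, x, hx, hxQ⟩ := SetLike.lt_iff_le_and_exists.mp (nc _ hlt)
  refine ⟨x, x.2, fun h => hxQ (Subgroup.mem_subgroupOf.mpr h), ?_⟩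
  rw [Subgroup.mem_normalizer_iff] at hx ⊢
  intro y
  constructor
  · intro hy
    have := (hx ⟨y, hQP.le hy⟩).mp (Subgroup.mem_subgroupOf.mpr hy)
    exact Subgroup.mem_subgroupOf.mp this
  · intro hy
    have hyP : y ∈ P := by
      have h1 : (x : G)⁻¹ * ((x : G) * y * (x : G)⁻¹) * (x : G) ∈ P :=
        P.mul_mem (P.mul_mem (P.inv_mem x.2) (hQP.le hy)) x.2
      have h2 : (x : G)⁻¹ * ((x : G) * y * (x : G)⁻¹) * (x : G) = y := by group
      rwa [h2] at h1
    have := (hx ⟨y, hyP⟩).mpr (Subgroup.mem_subgroupOf.mpr hy)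
    exact Subgroup.mem_subgroupOf.mp this

variable [Fintype G] {p : ℕ} [Fact p.Prime] {M : Ideal AlgInt}

omit [Fact p.Prime] in
/-- Every Brauer pair is normal in itself. -/
theorem normalSubpair_refl (hM : IsPModular p M) (P : Subgroup G)
    (e : Set (IrrCharacter (Subgroup.centralizer (P : Set G)))) (hPe : IsBrauerPair p M P e) :
    IsNormalSubpair p M P e P e := by
  classical
  have hMp : M.IsPrime := Cfsg.Agent.Lib.helper20.isPrime_of_isPModular hM
  have := Fintype.ofFinite (Subgroup.centralizer (P : Set G))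
  refine ⟨hPe, hPe, le_rfl, Subgroup.le_normalizer, ?_, ?_⟩
  · intro x hx
    refine ⟨normalizer_le_normalizer_centralizer P (Subgroup.le_normalizer hx),
      fun χ hχ => ⟨χ, hχ, ?_⟩⟩
    intro k k' h
    have : k' = k := by
      apply Subtype.ext
      rw [h]
      have hk := k.2
      rw [Subgroup.mem_centralizer_iff] at hk
      have h2 := hk x hx
      calc x * (k : G) * x⁻¹ = (k : G) * x * x⁻¹ := by rw [h2]
        _ = k := by group
    rw [this]
  · intro ξ hξ
    rw [brauerOmega_eq_om]
    have h1 : om (ξ : Subgroup.centralizer (P : Set G) → ℂ)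
        (fun x : Subgroup.centralizer (P : Set G) =>
          subgroupBlockCoeff (Subgroup.centralizer (P : Set G)) e x)
        = om (ξ : Subgroup.centralizer (P : Set G) → ℂ) (blockCoeff e) :=
      om_congr _ (fun x => subgroupBlockCoeff_of_mem _ e x.2)
    rw [h1, om_blockCoeff, if_pos hξ, sub_self]
    exact Cfsg.Agent.Lib.helper20.memLocalIdeal_zero hMp

/-- A normal inclusion between pairs on the same subgroup is an equality. -/
theorem normalSubpair_same (hM : IsPModular p M) (Q : Subgroup G)
    (f f' : Set (IrrCharacter (Subgroup.centralizer (Q : Set G))))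
    (h : IsNormalSubpair p M Q f Q f') : f = f' := by
  have := Fintype.ofFinite (Subgroup.centralizer (Q : Set G))
  obtain ⟨χ, -, h2, -⟩ := exists_irr_normalSubpair hM Q Q f' h.2.1 le_rfl Subgroup.le_normalizer
  rw [h2 f h, h2 f' (normalSubpair_refl hM Q f' h.2.1)]

omit [Fintype G] [Fact p.Prime] in
theorem subpairLE_le (a b : BrauerPairIdx G)
    (h : Relation.ReflTransGen (NormalSubpairRel p M) a b) : a.1 ≤ b.1 := by
  induction h with
  | refl => exact le_rfl
  | tail _ hbc ih => exact ih.trans hbc.2.2.1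

omit [Fintype G] [Fact p.Prime] in
theorem subpairLE_isBrauerPair (a b : BrauerPairIdx G)
    (h : Relation.ReflTransGen (NormalSubpairRel p M) a b) :
    IsBrauerPair p M b.1 b.2 → IsBrauerPair p M a.1 a.2 := by
  induction h with
  | refl => exact id
  | tail _ hbc ih => exact fun _ => ih hbc.1

/-- Transitivity of normal inclusion when the smallest subgroup is normal in the largest. -/
theorem normalSubpair_trans (hM : IsPModular p M) (Q S T : Subgroup G)
    (f : Set (IrrCharacter (Subgroup.centralizer (Q : Set G))))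
    (g : Set (IrrCharacter (Subgroup.centralizer (S : Set G))))
    (h : Set (IrrCharacter (Subgroup.centralizer (T : Set G))))
    (hQS : IsNormalSubpair p M Q f S g) (hST : IsNormalSubpair p M S g T h)
    (hTQ : T ≤ Subgroup.normalizer (Q : Set G)) : IsNormalSubpair p M Q f T h := by
  classical
  have hMp : M.IsPrime := Cfsg.Agent.Lib.helper20.isPrime_of_isPModular hM
  have := Fintype.ofFinite (Subgroup.centralizer (Q : Set G))
  have := Fintype.ofFinite (Subgroup.centralizer (S : Set G))
  obtain ⟨hBQ, hBS, hQleS, hSN, hfst, hfc⟩ := id hQS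
  obtain ⟨-, hBT, hSleT, hTN, hgst, hgc⟩ := id hST
  have hTHQ : T ≤ Subgroup.normalizer
      ((Subgroup.centralizer (Q : Set G) : Subgroup G) : Set G) :=
    hTQ.trans (normalizer_le_normalizer_centralizer Q)
  have hTHS : T ≤ Subgroup.normalizer
      ((Subgroup.centralizer (S : Set G) : Subgroup G) : Set G) :=
    hTN.trans (normalizer_le_normalizer_centralizer S)
  have hSHQ : S ≤ Subgroup.normalizer
      ((Subgroup.centralizer (Q : Set G) : Subgroup G) : Set G) :=
    hSN.trans (normalizer_le_normalizer_centralizer Q)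
  have hCC : Subgroup.centralizer (S : Set G) ≤ Subgroup.centralizer (Q : Set G) :=
    Subgroup.centralizer_le (SetLike.coe_subset_coe.mpr hQleS)
  have hCT : Subgroup.centralizer (T : Set G) ≤ Subgroup.centralizer (S : Set G) :=
    Subgroup.centralizer_le (SetLike.coe_subset_coe.mpr hSleT)
  -- (a) `f` is `T`-stable
  have hstab : ∀ (t : G) (ht : t ∈ T),
      conjSet (Subgroup.centralizer (Q : Set G)) t (hTHQ ht) f = f := by
    intro t ht
    obtain ⟨χ, -, huniq, -⟩ := exists_irr_normalSubpair hM S Q g hBS hQleS hSN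
    have claim : IsNormalSubpair p M Q
        (conjSet (Subgroup.centralizer (Q : Set G)) t (hTHQ ht) f) S g := by
      refine ⟨⟨hBQ.1, isPBlock_conjSet _ t _ hBQ.2⟩, hBS, hQleS, hSN, ?_, ?_⟩
      · intro s hs
        rw [stabilizesBlock_iff_eq hMp _ s (hSHQ hs) (isPBlock_conjSet _ t _ hBQ.2)]
        have hs' : t⁻¹ * s * t ∈ S := conj_inv_mem_of_mem_normalizer (hTN ht) hs
        have hst : s * t ∈ Subgroup.normalizer
            ((Subgroup.centralizer (Q : Set G) : Subgroup G) : Set G) :=
          Subgroup.mul_mem _ (hSHQ hs) (hTHQ ht)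
        have hst' : t * (t⁻¹ * s * t) ∈ Subgroup.normalizer
            ((Subgroup.centralizer (Q : Set G) : Subgroup G) : Set G) :=
          Subgroup.mul_mem _ (hTHQ ht) (hSHQ hs')
        have e1 : conjSet (Subgroup.centralizer (Q : Set G)) s (hSHQ hs)
            (conjSet (Subgroup.centralizer (Q : Set G)) t (hTHQ ht) f)
            = conjSet (Subgroup.centralizer (Q : Set G)) (s * t) hst f :=
          (conjSet_mul _ s t _ _ hst f).symm
        have e2 : conjSet (Subgroup.centralizer (Q : Set G)) (s * t) hst f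
            = conjSet (Subgroup.centralizer (Q : Set G)) (t * (t⁻¹ * s * t)) hst' f :=
          conjSet_congr _ (by group) _ _ f
        have e3 : conjSet (Subgroup.centralizer (Q : Set G)) (t * (t⁻¹ * s * t)) hst' f
            = conjSet (Subgroup.centralizer (Q : Set G)) t (hTHQ ht)
              (conjSet (Subgroup.centralizer (Q : Set G)) (t⁻¹ * s * t) (hSHQ hs') f) :=
          conjSet_mul _ t (t⁻¹ * s * t) _ _ hst' f
        have e4 : conjSet (Subgroup.centralizer (Q : Set G)) (t⁻¹ * s * t) (hSHQ hs') f = f :=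
          (stabilizesBlock_iff_eq hMp _ _ (hSHQ hs') hBQ.2).mp (hfst _ hs')
        rw [e1, e2, e3, e4]
      · intro γ hγ
        have e1 := brauerOmega_conj S t (hTHS ht)
          (subgroupBlockCoeff (Subgroup.centralizer (Q : Set G)) f)
          (subgroupBlockCoeff (Subgroup.centralizer (Q : Set G))
            (conjSet (Subgroup.centralizer (Q : Set G)) t (hTHQ ht) f))
          (fun c _ => subgroupBlockCoeff_conjSet _ t (hTHQ ht) f c) γ
        rw [e1]
        apply hfc
        exact (stabilizesBlock_iff (Subgroup.centralizer (S : Set G)) t⁻¹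
          (Subgroup.inv_mem _ (hTHS ht)) g).mp (hgst t⁻¹ (T.inv_mem ht)) γ hγ
    have e1 := huniq f hQS
    have e2 := huniq _ claim
    rw [e2, ← e1]
  refine ⟨hBQ, hBT, hQleS.trans hSleT, hTQ,
    fun t ht => (stabilizesBlock_iff_eq hMp _ t (hTHQ ht) hBQ.2).mpr (hstab t ht), ?_⟩
  -- (b) the Brauer functional of `h` at the idempotent of `f`
  intro ξ hξ
  obtain ⟨χ, -, huniq, hcong⟩ := exists_irr_normalSubpair hM T S h hBT hSleT hTN
  have hg : g = blockOf M (χ : Subgroup.centralizer (S : Set G) → ℂ) := huniq g hST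
  have hz : invAlg M (Subgroup.centralizer (S : Set G)) T
      (fun k : Subgroup.centralizer (S : Set G) =>
        subgroupBlockCoeff (Subgroup.centralizer (Q : Set G)) f (k : G)) := by
    refine ⟨?_, ?_, ?_⟩
    · intro k h'
      exact subgroupBlockCoeff_conj_mem _ f (h' : G) (hCC h'.2) (k : G)
    · intro k
      show MemLocalRing M (subgroupBlockCoeff _ f (k : G))
      rw [subgroupBlockCoeff_of_mem _ f (hCC k.2)]
      exact Cfsg.Agent.Lib.helper81.memLocalRing_blockCoeff' hMp hBQ.2 _
    · intro x hx k k' hk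
      show subgroupBlockCoeff _ f (k' : G) = subgroupBlockCoeff _ f (k : G)
      rw [hk]
      exact subgroupBlockCoeff_conj_of_eq _ x (hTHQ hx) f (hstab x hx) (k : G)
  have h1 := hcong ξ hξ _ hz
  rw [brauerOmega_congr T (β₂ := subgroupBlockCoeff (Subgroup.centralizer (Q : Set G)) f)
    (fun x hx => extFun_of_mem (Subgroup.centralizer (S : Set G)) _ (hCT hx))] at h1
  have h2 : MemLocalIdeal M (om (χ : Subgroup.centralizer (S : Set G) → ℂ)
      (fun k : Subgroup.centralizer (S : Set G) =>
        subgroupBlockCoeff (Subgroup.centralizer (Q : Set G)) f (k : G)) - 1) := by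
    rw [← brauerOmega_eq_om S]
    apply hfc
    rw [hg]
    exact mem_blockOf_self hMp χ
  have h3 := Cfsg.Agent.Lib.helper20.memLocalIdeal_add hMp h1 h2
  rwa [sub_add_sub_cancel] at h3

/-- An inclusion of Brauer pairs whose smaller subgroup is normal in the larger one is a normal
inclusion. -/
theorem normalSubpair_of_subpairLE (hM : IsPModular p M) (a b : BrauerPairIdx G)
    (h : Relation.ReflTransGen (NormalSubpairRel p M) a b) (ha : IsBrauerPair p M a.1 a.2) :
    b.1 ≤ Subgroup.normalizer (a.1 : Set G) → IsNormalSubpair p M a.1 a.2 b.1 b.2 := by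
  induction h with
  | refl => intro _; exact normalSubpair_refl hM _ _ ha
  | tail _ hbc ih =>
    intro hN
    exact normalSubpair_trans hM _ _ _ _ _ _ (ih (hbc.2.2.1.trans hN)) hbc hN

/-- Existence of a pair on `Q` below `(P, e)`. -/
theorem exists_subpairLE (hM : IsPModular p M) : ∀ (n : ℕ) (P Q : Subgroup G)
    (e : Set (IrrCharacter (Subgroup.centralizer (P : Set G)))), IsBrauerPair p M P e → Q ≤ P →
    Nat.card P - Nat.card Q = n →
    ∃ f : Set (IrrCharacter (Subgroup.centralizer (Q : Set G))),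
      IsPBlock M f ∧ SubpairLE p M Q f P e := by
  intro n
  induction n using Nat.strong_induction_on with
  | _ n ih =>
    intro P Q e hPe hQP hn
    by_cases hQ : Q = P
    · subst hQ
      exact ⟨e, hPe.2, Relation.ReflTransGen.refl⟩
    · have hlt : Q < P := lt_of_le_of_ne hQP hQ
      obtain ⟨x, hxP, hxQ, hxN⟩ := exists_normalizer_of_lt hPe.1 hlt
      have hQN : Q < P ⊓ Subgroup.normalizer (Q : Set G) :=
        SetLike.lt_iff_le_and_exists.mpr
          ⟨le_inf hQP Subgroup.le_normalizer, x, Subgroup.mem_inf.mpr ⟨hxP, hxN⟩, hxQ⟩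
      have hcard : Nat.card P - Nat.card (P ⊓ Subgroup.normalizer (Q : Set G) : Subgroup G) < n := by
        have h1 := card_lt_of_lt hQN
        have h2 := Subgroup.card_le_of_le
          (inf_le_left : P ⊓ Subgroup.normalizer (Q : Set G) ≤ P)
        omega
      obtain ⟨h, hhB, hhle⟩ := ih _ hcard P (P ⊓ Subgroup.normalizer (Q : Set G)) e hPe
        inf_le_left rfl
      have hBN : IsBrauerPair p M (P ⊓ Subgroup.normalizer (Q : Set G)) h :=
        ⟨hPe.1.to_le inf_le_left, hhB⟩
      have := Fintype.ofFinite (Subgroup.centralizer (Q : Set G))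
      obtain ⟨χ, hχ, -, -⟩ := exists_irr_normalSubpair hM
        (P ⊓ Subgroup.normalizer (Q : Set G)) Q h hBN hQN.le inf_le_right
      exact ⟨_, isPBlock_blockOf M χ, Relation.ReflTransGen.head
        (show NormalSubpairRel p M ⟨Q, _⟩ ⟨P ⊓ Subgroup.normalizer (Q : Set G), h⟩ from hχ) hhle⟩

/-- A chain starting on a subgroup different from the top one has a first proper step. -/
theorem exists_proper_step (hM : IsPModular p M) (a b : BrauerPairIdx G)
    (h : Relation.ReflTransGen (NormalSubpairRel p M) a b) :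
    a.1 ≠ b.1 → ∃ c : BrauerPairIdx G, a.1 < c.1 ∧ NormalSubpairRel p M a c ∧
      Relation.ReflTransGen (NormalSubpairRel p M) c b := by
  induction h using Relation.ReflTransGen.head_induction_on with
  | refl => intro hne; exact absurd rfl hne
  | @head a c hac hcb ih =>
    intro hne
    by_cases hlt : a.1 < c.1
    · exact ⟨c, hlt, hac, hcb⟩
    · have heq : a.1 = c.1 := by
        by_contra hcon
        exact hlt (lt_of_le_of_ne hac.2.2.1 hcon)
      obtain ⟨Q, f⟩ := a
      obtain ⟨Q₁, f₁⟩ := c
      simp only at heq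
      subst heq
      have hff : f = f₁ := normalSubpair_same hM Q f f₁ hac
      subst hff
      exact ih hne

/-- Uniqueness of the pair on `Q` below `(P, e)`. -/
theorem subpairLE_unique (hM : IsPModular p M) (P : Subgroup G)
    (e : Set (IrrCharacter (Subgroup.centralizer (P : Set G)))) (hPe : IsBrauerPair p M P e) :
    ∀ (n : ℕ) (Q : Subgroup G) (f f' : Set (IrrCharacter (Subgroup.centralizer (Q : Set G)))),
      Nat.card P - Nat.card Q = n → SubpairLE p M Q f P e → SubpairLE p M Q f' P e → f = f' := by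
  intro n
  induction n using Nat.strong_induction_on with
  | _ n ih =>
    intro Q f f' hn hf hf'
    have := Fintype.ofFinite (Subgroup.centralizer (Q : Set G))
    have hQP : Q ≤ P := subpairLE_le ⟨Q, f⟩ ⟨P, e⟩ hf
    by_cases hPN : P ≤ Subgroup.normalizer (Q : Set G)
    · have h1 := normalSubpair_of_subpairLE hM ⟨Q, f⟩ ⟨P, e⟩ hf
        (subpairLE_isBrauerPair ⟨Q, f⟩ ⟨P, e⟩ hf hPe) hPN
      have h2 := normalSubpair_of_subpairLE hM ⟨Q, f'⟩ ⟨P, e⟩ hf'
        (subpairLE_isBrauerPair ⟨Q, f'⟩ ⟨P, e⟩ hf' hPe) hPN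
      obtain ⟨χ, -, huniq, -⟩ := exists_irr_normalSubpair hM P Q e hPe hQP hPN
      rw [huniq f h1, huniq f' h2]
    · have hQne : Q ≠ P := by
        rintro rfl
        exact hPN Subgroup.le_normalizer
      have hlt : Q < P := lt_of_le_of_ne hQP hQne
      obtain ⟨x, hxP, hxQ, hxN⟩ := exists_normalizer_of_lt hPe.1 hlt
      have hQN : Q < P ⊓ Subgroup.normalizer (Q : Set G) :=
        SetLike.lt_iff_le_and_exists.mpr
          ⟨le_inf hQP Subgroup.le_normalizer, x, Subgroup.mem_inf.mpr ⟨hxP, hxN⟩, hxQ⟩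
      obtain ⟨h, hhB, hhle⟩ := exists_subpairLE hM _ P (P ⊓ Subgroup.normalizer (Q : Set G)) e
        hPe inf_le_left rfl
      have hBN : IsBrauerPair p M (P ⊓ Subgroup.normalizer (Q : Set G)) h :=
        ⟨hPe.1.to_le inf_le_left, hhB⟩
      have claim : ∀ f'' : Set (IrrCharacter (Subgroup.centralizer (Q : Set G))),
          SubpairLE p M Q f'' P e →
          IsNormalSubpair p M Q f'' (P ⊓ Subgroup.normalizer (Q : Set G)) h := by
        intro f'' hf''
        have hBf'' := subpairLE_isBrauerPair ⟨Q, f''⟩ ⟨P, e⟩ hf'' hPe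
        obtain ⟨⟨Q₁, f₁⟩, hQlt, hstep, hrest⟩ :=
          exists_proper_step hM ⟨Q, f''⟩ ⟨P, e⟩ hf'' hQne
        have hQlt' : Q < Q₁ := hQlt
        have hQ₁P : Q₁ ≤ P := subpairLE_le ⟨Q₁, f₁⟩ ⟨P, e⟩ hrest
        have hstep' : IsNormalSubpair p M Q f'' Q₁ f₁ := hstep
        have hQ₁N : Q₁ ≤ P ⊓ Subgroup.normalizer (Q : Set G) := le_inf hQ₁P hstep'.2.2.2.1
        obtain ⟨f₁', -, hf₁'le⟩ := exists_subpairLE hM _
          (P ⊓ Subgroup.normalizer (Q : Set G)) Q₁ h hBN hQ₁N rfl
        have hcard : Nat.card P - Nat.card Q₁ < n := by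
          have h1 := card_lt_of_lt hQlt'
          have h2 := Subgroup.card_le_of_le hQ₁P
          omega
        have heq : f₁' = f₁ := ih _ hcard Q₁ f₁' f₁ rfl (hf₁'le.trans hhle) hrest
        subst heq
        have hle : SubpairLE p M Q f'' (P ⊓ Subgroup.normalizer (Q : Set G)) h :=
          Relation.ReflTransGen.head hstep hf₁'le
        exact normalSubpair_of_subpairLE hM ⟨Q, f''⟩ ⟨P ⊓ Subgroup.normalizer (Q : Set G), h⟩
          hle hBf'' inf_le_right
      obtain ⟨χ, -, huniq, -⟩ := exists_irr_normalSubpair hM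
        (P ⊓ Subgroup.normalizer (Q : Set G)) Q h hBN hQN.le inf_le_right
      rw [huniq f (claim f hf), huniq f' (claim f' hf')]

end

end Cfsg.Agent.Lib.helper80
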