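import Cfsg.Agent.Lib.helper80.Cover
import Cfsg.Agent.Lib.helper80.SubpairChain

/-!
# More on covering of blocks of `C_G(P)` by blocks of `H`, `P C_G(P) ≤ H ≤ N_G(P)`

Every block of `H` covers a block of `C_G(P)`; covering is compatible with conjugation by
elements of `N_G(P)` normalizing `H`.
-/

set_option autoImplicit false

open Cfsg

namespace Cfsg.Agent.Lib.helper80

universe u

section

variable {G : Type u} [Group G] [Fintype G] {p : ℕ} [Fact p.Prime] {M : Ideal AlgInt}

omit [Fintype G] in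
theorem covers_unique {P H : Subgroup G} [Fintype H] {c c' : Set (IrrCharacter H)}
    {e : Set (IrrCharacter (Subgroup.centralizer (P : Set G)))} (h : Covers P H c e)
    (h' : Covers P H c' e) : c = c' := by
  apply blockCoeff_injective
  intro k
  have h1 := h (k : G)
  have h2 := h' (k : G)
  rw [extFun_coe] at h1 h2
  rw [h1, h2]

omit [Fintype G] in
theorem orbSet_conjSet (K H : Subgroup G) (n : G) (hn : n ∈ Subgroup.normalizer (K : Set G))
    (hnH : n ∈ Subgroup.normalizer (H : Set G)) (e : Set (IrrCharacter K)) :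
    conjSet K n hn (orbSet K H e) = orbSet K H (conjSet K n hn e) := by
  ext ξ
  constructor
  · rintro ⟨ξ₀, ⟨h, hh, hhH, hξ₀⟩, rfl⟩
    have hc : n * h * n⁻¹ ∈ Subgroup.normalizer (K : Set G) :=
      Subgroup.mul_mem _ (Subgroup.mul_mem _ hn hh) (Subgroup.inv_mem _ hn)
    refine ⟨n * h * n⁻¹, hc, conj_mem_of_mem_normalizer hnH hhH, ?_⟩
    rw [← conjSet_mul K (n * h * n⁻¹) n hc hn (Subgroup.mul_mem _ hc hn)]
    have h1 : conjIrr K n hn ξ₀ ∈ conjSet K n hn (conjSet K h hh e) :=
      (mem_conjSet K n hn _ ξ₀).mpr hξ₀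
    rw [← conjSet_mul K n h hn hh (Subgroup.mul_mem _ hn hh)] at h1
    rw [conjSet_congr K (show n * h * n⁻¹ * n = n * h by group) _ (Subgroup.mul_mem _ hn hh)]
    exact h1
  · rintro ⟨h, hh, hhH, hξ⟩
    have hh' : n⁻¹ * h * n ∈ Subgroup.normalizer (K : Set G) :=
      Subgroup.mul_mem _ (Subgroup.mul_mem _ (Subgroup.inv_mem _ hn) hh) hn
    have hhH' : n⁻¹ * h * n ∈ H := conj_inv_mem_of_mem_normalizer hnH hhH
    rw [← conjSet_mul K h n hh hn (Subgroup.mul_mem _ hh hn)] at hξ
    rw [conjSet_congr K (show h * n = n * (n⁻¹ * h * n) by group) _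
      (Subgroup.mul_mem _ hn hh'), conjSet_mul K n (n⁻¹ * h * n) hn hh' _] at hξ
    have hsub : conjSet K (n⁻¹ * h * n) hh' e ⊆ orbSet K H e :=
      fun ψ hψ => ⟨n⁻¹ * h * n, hh', hhH', hψ⟩
    exact conjSet_mono K n hn hsub hξ

omit [Fintype G] in
theorem mem_normalizer_sup_centralizer [Finite G] (P : Subgroup G) {n : G}
    (hn : n ∈ Subgroup.normalizer (P : Set G)) :
    n ∈ Subgroup.normalizer ((P ⊔ Subgroup.centralizer (P : Set G) : Subgroup G) : Set G) := by
  apply mem_normalizer_of_conj_mem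
  intro u hu
  have hn' := Subgroup.inv_mem _ hn
  have h1 : (P ⊔ Subgroup.centralizer (P : Set G)).map (MulAut.conj n⁻¹).toMonoidHom
      = P ⊔ Subgroup.centralizer (P : Set G) := by
    rw [Subgroup.map_sup, map_conj_eq_self_of_mem_normalizer hn',
      map_conj_eq_self_of_mem_normalizer (normalizer_le_normalizer_centralizer P hn')]
  rw [← h1, mem_map_conj, inv_inv]
  have : n * (n⁻¹ * u * n) * n⁻¹ = u := by group
  rw [this]
  exact hu

omit [Fintype G] in
/-- Covering is compatible with conjugation. -/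
theorem covers_conjSet [Finite G] (P H : Subgroup G) [Fintype H]
    (n : G) (hnP : n ∈ Subgroup.normalizer (P : Set G))
    (hnH : n ∈ Subgroup.normalizer (H : Set G)) {c : Set (IrrCharacter H)}
    {e : Set (IrrCharacter (Subgroup.centralizer (P : Set G)))} (h : Covers P H c e) :
    Covers P H (conjSet H n hnH c)
      (conjSet (Subgroup.centralizer (P : Set G)) n
        (normalizer_le_normalizer_centralizer P hnP) e) := by
  intro g
  obtain ⟨g', rfl⟩ : ∃ g', g = n * g' * n⁻¹ := ⟨n⁻¹ * g * n, by group⟩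
  rw [← orbSet_conjSet (Subgroup.centralizer (P : Set G)) H n _ hnH e]
  have h1 := subgroupBlockCoeff_conjSet H n hnH c g'
  have h2 := subgroupBlockCoeff_conjSet (Subgroup.centralizer (P : Set G)) n
    (normalizer_le_normalizer_centralizer P hnP)
    (orbSet (Subgroup.centralizer (P : Set G)) H e) g'
  show subgroupBlockCoeff H (conjSet H n hnH c) (n * g' * n⁻¹)
    = subgroupBlockCoeff (Subgroup.centralizer (P : Set G))
        (conjSet (Subgroup.centralizer (P : Set G)) n _
          (orbSet (Subgroup.centralizer (P : Set G)) H e)) (n * g' * n⁻¹)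
  rw [h1, h2]
  exact h g'

/-- If `θ` lies over `ξ` and the block of `θ` corresponds to the block of `χ` under the Brauer
map at `P`, then so does the block of `ξ`. -/
theorem brInd_centralizer_of_linked (hM : M.IsPrime) (P H : Subgroup G) [Fintype H]
    [Fintype (Subgroup.centralizer (P : Set G))] (hPH : P ≤ H)
    (hCH : Subgroup.centralizer (P : Set G) ≤ H) (hHN : H ≤ Subgroup.normalizer (P : Set G))
    {ξ : IrrCharacter (Subgroup.centralizer (P : Set G))} {θ : IrrCharacter H}
    (hl : Linked M P H (ξ : Subgroup.centralizer (P : Set G) → ℂ) (θ : H → ℂ)) {χ : G → ℂ}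
    (hbr : BrInd M P H (θ : H → ℂ) χ) :
    BrInd M P (Subgroup.centralizer (P : Set G))
      (ξ : Subgroup.centralizer (P : Set G) → ℂ) χ := by
  intro z hz
  have h1 := hl _ (invAlg_of_classAlg hM P H hPH (classAlg_brH hM P H hHN hz))
  have h2 := hbr z hz
  have h3 : brauerOmega P (extFun H (brH P H z)) (ξ : Subgroup.centralizer (P : Set G) → ℂ)
      = om (ξ : Subgroup.centralizer (P : Set G) → ℂ)
          (brH P (Subgroup.centralizer (P : Set G)) z) := by
    rw [brauerOmega_eq_om]
    apply om_congr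
    intro x
    rw [extFun_of_mem H _ (hCH x.2), brH_of_mem P H z (h := ⟨(x : G), hCH x.2⟩) x.2,
      brH_of_mem P _ z x.2]
  rw [h3] at h1
  have := Cfsg.Agent.Lib.helper20.memLocalIdeal_add hM h1 h2
  rwa [sub_add_sub_cancel] at this

open Cfsg.Agent.Lib.helper81 in
/-- Every block of `H` covers a block of `C_G(P)`. -/
theorem exists_covers (hM : IsPModular p M) (P H : Subgroup G) [Fintype H]
    [Fintype (Subgroup.centralizer (P : Set G))] (hP : IsPGroup p P) (hPH : P ≤ H)
    (hCH : Subgroup.centralizer (P : Set G) ≤ H) (hHN : H ≤ Subgroup.normalizer (P : Set G))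
    {b : Set (IrrCharacter H)} (hb : IsPBlock M b) :
    ∃ e : Set (IrrCharacter (Subgroup.centralizer (P : Set G))), IsPBlock M e ∧
      Covers P H b e := by
  classical
  have hMp := Cfsg.Agent.Lib.helper20.isPrime_of_isPModular hM
  set v : G → ℂ := extFun H (blockCoeff b) with hv
  have hv_supp : ∀ g, g ∉ Subgroup.centralizer (P : Set G) → v g = 0 := by
    intro g hg
    by_cases hgH : g ∈ H
    · rw [hv, extFun_of_mem H _ hgH]
      exact blockCoeff_eq_zero_of_not_mem_centralizer hM P H hP hPH hHN hb ⟨g, hgH⟩ hg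
    · exact extFun_of_not_mem H _ hgH
  have hv_inv : ∀ h ∈ H, ∀ g, v (h * g * h⁻¹) = v g :=
    fun h hh g => extFun_conj_mem H _ (blockCoeff_classFun b) h hh g
  have hvv : ∀ g, conv v v g = v g := by
    intro g
    rw [hv, extFun_conv]
    congr 1
    funext k
    rw [conv_blockCoeff, Set.inter_self]
  set w : Subgroup.centralizer (P : Set G) → ℂ := resFun _ v with hw
  have hw_ext : ∀ g, extFun _ w g = v g := extFun_resFun _ v hv_supp
  have hw_cf : IsClassFunction (Subgroup.centralizer (P : Set G)) w :=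
    fun k h => hv_inv h (hCH h.2) k
  have hw_conv : ∀ k, conv w w k = w k := by
    intro k
    have h1 := extFun_conv (Subgroup.centralizer (P : Set G)) w w (k : G)
    rw [extFun_coe] at h1
    rw [← h1]
    have : extFun (Subgroup.centralizer (P : Set G)) w = v := funext hw_ext
    rw [this, hvv]
    rfl
  have hw_eq := eq_blockCoeff_idemSet hw_cf hw_conv
  have hS₂ne : (idemSet w).Nonempty := by
    by_contra hcon
    rw [Set.not_nonempty_iff_eq_empty] at hcon
    have hw0 : ∀ k, w k = 0 := fun k => by rw [hw_eq k, hcon, blockCoeff_empty]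
    have hv0 : ∀ g, v g = 0 := by
      intro g
      rw [← hw_ext g]
      by_cases hg : g ∈ Subgroup.centralizer (P : Set G)
      · rw [extFun_of_mem _ _ hg, hw0]
      · rw [extFun_of_not_mem _ _ hg]
    obtain ⟨θ, hθ⟩ := Cfsg.Agent.Lib.helper80.isPBlock_nonempty hMp hb
    obtain ⟨k, hk⟩ := blockCoeff_ne_zero_of_nonempty (S := b) ⟨θ, hθ⟩
    apply hk
    have := hv0 (k : G)
    rwa [hv, extFun_coe] at this
  obtain ⟨ξ, hξ⟩ := hS₂ne
  have hξ1 : om (ξ : Subgroup.centralizer (P : Set G) → ℂ) w = 1 := hξ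
  obtain ⟨c, hc, hcov⟩ := exists_cover hM P H hP hPH hCH hHN (isPBlock_blockOf M ξ)
  obtain ⟨θξ, hθξ⟩ := exists_linked hM P H hP hPH hCH ξ
  have hθc := mem_cover_of_linked hMp P H hPH hc hcov
    (subset_orbSet _ _ _ (mem_blockOf_self hMp ξ)) hθξ
  have hθb : θξ ∈ b := by
    have h1 := hθξ _ (invAlg_of_classAlg hMp P H hPH (classAlg_blockCoeff hMp hb))
    have h2 : brauerOmega P (extFun H (blockCoeff b))
        (ξ : Subgroup.centralizer (P : Set G) → ℂ) = 1 := by
      rw [brauerOmega_eq_om, ← hξ1]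
      rfl
    rw [h2, om_blockCoeff] at h1
    by_contra hcon
    rw [if_neg hcon, sub_zero] at h1
    exact Cfsg.Agent.Lib.helper20.not_memLocalIdeal_one h1
  have hcb : c = b := Cfsg.Agent.Lib.helper80.isPBlock_eq_of_mem hMp hc hb hθc hθb
  rw [← hcb]
  exact ⟨_, isPBlock_blockOf M ξ, hcov⟩

end

end Cfsg.Agent.Lib.helper80
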