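import Cfsg.Agent.Lib.helper80.Transport
import Cfsg.Agent.Lib.helper80.SubpairChain

/-!
# Conjugation of Brauer pairs

`conjBlock Q x f` is the transport of `f` along conjugation `C_G(Q) ≃* C_G(x Q x⁻¹)`; normal
inclusion and inclusion of Brauer pairs, and being a Brauer pair of a block, are preserved.
-/

set_option autoImplicit false

open Cfsg

namespace Cfsg.Agent.Lib.helper80

universe u

section

variable {G : Type u} [Group G]

theorem conj_mem_centralizer_map (Q : Subgroup G) (x : G) {c : G}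
    (hc : c ∈ Subgroup.centralizer (Q : Set G)) :
    x * c * x⁻¹ ∈ Subgroup.centralizer
      ((Q.map (MulAut.conj x).toMonoidHom : Subgroup G) : Set G) := by
  rw [Subgroup.mem_centralizer_iff]
  intro y hy
  rw [SetLike.mem_coe, mem_map_conj] at hy
  rw [Subgroup.mem_centralizer_iff] at hc
  have h1 := hc _ hy
  calc y * (x * c * x⁻¹) = x * ((x⁻¹ * y * x) * c) * x⁻¹ := by group
    _ = x * (c * (x⁻¹ * y * x)) * x⁻¹ := by rw [h1]
    _ = x * c * x⁻¹ * y := by group

theorem conj_mem_map (Q : Subgroup G) (x : G) {u : G} (hu : u ∈ Q) :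
    x * u * x⁻¹ ∈ Q.map (MulAut.conj x).toMonoidHom := by
  rw [mem_map_conj]
  have : x⁻¹ * (x * u * x⁻¹) * x = u := by group
  rw [this]
  exact hu

theorem conj_inv_mem_centralizer_of_map (Q : Subgroup G) (x : G) {c : G}
    (hc : c ∈ Subgroup.centralizer
      ((Q.map (MulAut.conj x).toMonoidHom : Subgroup G) : Set G)) :
    x⁻¹ * c * x ∈ Subgroup.centralizer (Q : Set G) := by
  rw [Subgroup.mem_centralizer_iff]
  intro u hu
  rw [Subgroup.mem_centralizer_iff] at hc
  have h1 := hc _ (conj_mem_map Q x hu)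
  calc u * (x⁻¹ * c * x) = x⁻¹ * ((x * u * x⁻¹) * c) * x := by group
    _ = x⁻¹ * (c * (x * u * x⁻¹)) * x := by rw [h1]
    _ = x⁻¹ * c * x * u := by group

/-- Conjugation by `x` as an isomorphism `C_G(Q) ≃* C_G(x Q x⁻¹)`. -/
def centConj (Q : Subgroup G) (x : G) :
    Subgroup.centralizer (Q : Set G) ≃*
      Subgroup.centralizer ((Q.map (MulAut.conj x).toMonoidHom : Subgroup G) : Set G) where
  toFun c := ⟨x * c * x⁻¹, conj_mem_centralizer_map Q x c.2⟩
  invFun c := ⟨x⁻¹ * c * x, conj_inv_mem_centralizer_of_map Q x c.2⟩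
  left_inv c := by
    apply Subtype.ext
    show x⁻¹ * (x * (c : G) * x⁻¹) * x = c
    group
  right_inv c := by
    apply Subtype.ext
    show x * (x⁻¹ * (c : G) * x) * x⁻¹ = c
    group
  map_mul' a b := by
    apply Subtype.ext
    show x * ((a : G) * b) * x⁻¹ = (x * a * x⁻¹) * (x * b * x⁻¹)
    group

theorem centConj_apply_coe (Q : Subgroup G) (x : G) (c : Subgroup.centralizer (Q : Set G)) :
    ((centConj Q x c : _) : G) = x * c * x⁻¹ := rfl

theorem centConj_symm_apply_coe (Q : Subgroup G) (x : G)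
    (c : Subgroup.centralizer ((Q.map (MulAut.conj x).toMonoidHom : Subgroup G) : Set G)) :
    (((centConj Q x).symm c : _) : G) = x⁻¹ * c * x := rfl

theorem conjBlock_eq_blockMap (Q : Subgroup G) (x : G)
    (f : Set (IrrCharacter (Subgroup.centralizer (Q : Set G)))) :
    conjBlock Q x f = blockMap (centConj Q x) f := by
  ext ξ'
  rw [mem_blockMap]
  constructor
  · rintro ⟨ξ, hξ, h⟩
    have : irrMap (centConj Q x).symm ξ' = ξ := by
      apply Subtype.ext
      funext c
      rw [irrMap_apply, MulEquiv.symm_symm]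
      exact h c (centConj Q x c) rfl
    rw [this]
    exact hξ
  · intro h
    refine ⟨_, h, ?_⟩
    intro c c' hcc
    rw [irrMap_apply, MulEquiv.symm_symm]
    have : centConj Q x c = c' := Subtype.ext hcc.symm
    rw [this]

theorem mem_conjBlock_iff (Q : Subgroup G) (x : G)
    (f : Set (IrrCharacter (Subgroup.centralizer (Q : Set G))))
    (ξ : IrrCharacter (Subgroup.centralizer (Q : Set G))) :
    irrMap (centConj Q x) ξ ∈ conjBlock Q x f ↔ ξ ∈ f := by
  rw [conjBlock_eq_blockMap, irrMap_mem_blockMap]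

theorem isPBlock_conjBlock {M : Ideal AlgInt} (Q : Subgroup G) (x : G)
    {f : Set (IrrCharacter (Subgroup.centralizer (Q : Set G)))} (hf : IsPBlock M f) :
    IsPBlock M (conjBlock Q x f) := by
  rw [conjBlock_eq_blockMap]
  exact isPBlock_blockMap _ hf

theorem subgroupBlockCoeff_conjBlock [Finite G] (Q : Subgroup G) (x : G)
    (f : Set (IrrCharacter (Subgroup.centralizer (Q : Set G)))) (g : G) :
    subgroupBlockCoeff (Subgroup.centralizer
        ((Q.map (MulAut.conj x).toMonoidHom : Subgroup G) : Set G)) (conjBlock Q x f)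
        (x * g * x⁻¹)
      = subgroupBlockCoeff (Subgroup.centralizer (Q : Set G)) f g := by
  classical
  have : Fintype (Subgroup.centralizer (Q : Set G)) := Fintype.ofFinite _
  have : Fintype (Subgroup.centralizer
      ((Q.map (MulAut.conj x).toMonoidHom : Subgroup G) : Set G)) := Fintype.ofFinite _
  rw [conjBlock_eq_blockMap]
  by_cases hg : g ∈ Subgroup.centralizer (Q : Set G)
  · rw [subgroupBlockCoeff_of_mem _ _ (conj_mem_centralizer_map Q x hg),
      subgroupBlockCoeff_of_mem _ _ hg]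
    exact blockCoeff_blockMap' (centConj Q x) f ⟨g, hg⟩
  · have hg' : x * g * x⁻¹ ∉ Subgroup.centralizer
        ((Q.map (MulAut.conj x).toMonoidHom : Subgroup G) : Set G) := by
      intro hc
      apply hg
      have := conj_inv_mem_centralizer_of_map Q x hc
      have h2 : x⁻¹ * (x * g * x⁻¹) * x = g := by group
      rwa [h2] at this
    rw [subgroupBlockCoeff_of_not_mem _ _ hg', subgroupBlockCoeff_of_not_mem _ _ hg]

theorem brauerOmega_centConj [Finite G] (P : Subgroup G) (x : G) (β β' : G → ℂ)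
    (h : ∀ c ∈ Subgroup.centralizer (P : Set G), β' (x * c * x⁻¹) = β c)
    (ξ : IrrCharacter (Subgroup.centralizer (P : Set G))) :
    brauerOmega (P.map (MulAut.conj x).toMonoidHom) β'
        (irrMap (centConj P x) ξ : Subgroup.centralizer
          ((P.map (MulAut.conj x).toMonoidHom : Subgroup G) : Set G) → ℂ)
      = brauerOmega P β (ξ : Subgroup.centralizer (P : Set G) → ℂ) := by
  classical
  have : Fintype (Subgroup.centralizer (P : Set G)) := Fintype.ofFinite _
  have : Fintype (Subgroup.centralizer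
      ((P.map (MulAut.conj x).toMonoidHom : Subgroup G) : Set G)) := Fintype.ofFinite _
  unfold brauerOmega
  rw [finsum_eq_sum_of_fintype, finsum_eq_sum_of_fintype]
  refine (Fintype.sum_equiv (centConj P x).toEquiv _ _ (fun c => ?_)).symm
  simp only [MulEquiv.toEquiv_eq_coe, MulEquiv.coe_toEquiv]
  rw [irrMap_apply', irrMap_apply, map_one, centConj_apply_coe, h c c.2]

end

section Pairs

variable {G : Type u} [Group G] [Finite G] {p : ℕ} {M : Ideal AlgInt}

omit [Finite G] in
theorem isBrauerPair_conj (Q : Subgroup G) (x : G)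
    {f : Set (IrrCharacter (Subgroup.centralizer (Q : Set G)))} (h : IsBrauerPair p M Q f) :
    IsBrauerPair p M (Q.map (MulAut.conj x).toMonoidHom) (conjBlock Q x f) :=
  ⟨h.1.map _, isPBlock_conjBlock Q x h.2⟩

omit [Finite G] in
theorem exists_irrMap_of_mem_conjBlock (Q : Subgroup G) (x : G)
    (f : Set (IrrCharacter (Subgroup.centralizer (Q : Set G))))
    {ξ' : IrrCharacter (Subgroup.centralizer
      ((Q.map (MulAut.conj x).toMonoidHom : Subgroup G) : Set G))}
    (h : ξ' ∈ conjBlock Q x f) : ∃ ξ ∈ f, ξ' = irrMap (centConj Q x) ξ := by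
  rw [conjBlock_eq_blockMap, mem_blockMap] at h
  exact ⟨_, h, (irrMap_irrMap_symm _ ξ').symm⟩

/-- Conjugates of Brauer pairs of `B` are Brauer pairs of `B`. -/
theorem isBrauerPairOf_conj (Q : Subgroup G) (x : G) {B : Set (IrrCharacter G)}
    {f : Set (IrrCharacter (Subgroup.centralizer (Q : Set G)))}
    (h : IsBrauerPairOf p M B Q f) :
    IsBrauerPairOf p M B (Q.map (MulAut.conj x).toMonoidHom) (conjBlock Q x f) := by
  classical
  have := Fintype.ofFinite G
  refine ⟨isBrauerPair_conj Q x h.1, h.2.1, ?_⟩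
  intro ξ' hξ'
  obtain ⟨ξ, hξ, rfl⟩ := exists_irrMap_of_mem_conjBlock Q x f hξ'
  rw [brauerOmega_centConj Q x (blockCoeff B) (blockCoeff B)
    (fun c _ => blockCoeff_classFun B c x) ξ]
  exact h.2.2 ξ hξ

omit [Finite G] in
theorem map_conj_le_normalizer_map (Q P : Subgroup G) (x : G)
    (hPN : P ≤ Subgroup.normalizer (Q : Set G)) :
    P.map (MulAut.conj x).toMonoidHom
      ≤ Subgroup.normalizer ((Q.map (MulAut.conj x).toMonoidHom : Subgroup G) : Set G) := by
  intro y hy
  rw [mem_map_conj] at hy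
  have hu := hPN hy
  rw [Subgroup.mem_normalizer_iff]
  intro h
  rw [mem_map_conj, mem_map_conj]
  have h1 := (Subgroup.mem_normalizer_iff.mp hu) (x⁻¹ * h * x)
  have h2 : x⁻¹ * y * x * (x⁻¹ * h * x) * (x⁻¹ * y * x)⁻¹ = x⁻¹ * (y * h * y⁻¹) * x := by group
  rw [h2] at h1
  exact h1

/-- Conjugation preserves normal inclusion of Brauer pairs. -/
theorem isNormalSubpair_conj (Q P : Subgroup G) (x : G)
    {f : Set (IrrCharacter (Subgroup.centralizer (Q : Set G)))}
    {e : Set (IrrCharacter (Subgroup.centralizer (P : Set G)))}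
    (h : IsNormalSubpair p M Q f P e) :
    IsNormalSubpair p M (Q.map (MulAut.conj x).toMonoidHom) (conjBlock Q x f)
      (P.map (MulAut.conj x).toMonoidHom) (conjBlock P x e) := by
  obtain ⟨hQf, hPe, hQP, hPN, hstab, hom⟩ := h
  refine ⟨isBrauerPair_conj Q x hQf, isBrauerPair_conj P x hPe, Subgroup.map_mono hQP,
    map_conj_le_normalizer_map Q P x hPN, ?_, ?_⟩
  · intro y hy
    have hyN := map_conj_le_normalizer_map Q P x hPN hy
    rw [mem_map_conj] at hy
    obtain ⟨-, hst⟩ := hstab _ hy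
    refine ⟨normalizer_le_normalizer_centralizer _ hyN, ?_⟩
    intro ψ hψ
    obtain ⟨χ, hχ, rfl⟩ := exists_irrMap_of_mem_conjBlock Q x f hψ
    obtain ⟨χ', hχ', hconj⟩ := hst χ hχ
    refine ⟨irrMap (centConj Q x) χ', (mem_conjBlock_iff Q x f χ').mpr hχ', ?_⟩
    intro k k' hkk
    rw [irrMap_apply, irrMap_apply]
    apply hconj
    rw [centConj_symm_apply_coe, centConj_symm_apply_coe, hkk]
    group
  · intro ξ' hξ'
    obtain ⟨ξ, hξ, rfl⟩ := exists_irrMap_of_mem_conjBlock P x e hξ'
    rw [brauerOmega_centConj P x (subgroupBlockCoeff (Subgroup.centralizer (Q : Set G)) f) _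
      (fun c _ => subgroupBlockCoeff_conjBlock Q x f c) ξ]
    exact hom ξ hξ

/-- The conjugate of a Brauer pair, on the index type. -/
def conjPair (x : G) (a : BrauerPairIdx G) : BrauerPairIdx G :=
  ⟨a.1.map (MulAut.conj x).toMonoidHom, conjBlock a.1 x a.2⟩

/-- Conjugation preserves inclusion of Brauer pairs. -/
theorem subpairLE_conj (x : G) {Q P : Subgroup G}
    {f : Set (IrrCharacter (Subgroup.centralizer (Q : Set G)))}
    {e : Set (IrrCharacter (Subgroup.centralizer (P : Set G)))}
    (h : SubpairLE p M Q f P e) :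
    SubpairLE p M (Q.map (MulAut.conj x).toMonoidHom) (conjBlock Q x f)
      (P.map (MulAut.conj x).toMonoidHom) (conjBlock P x e) :=
  Relation.ReflTransGen.lift (r := NormalSubpairRel p M) (p := NormalSubpairRel p M) (conjPair x)
    (fun a b hab => isNormalSubpair_conj a.1 b.1 x hab) ⟨Q, f⟩ ⟨P, e⟩ h

omit [Finite G] in
/-- Replacing the top pair by an equal one (equal subgroups, a common member). -/
theorem subpairLE_of_eq_top (hM : M.IsPrime) {Q : Subgroup G}
    {f : Set (IrrCharacter (Subgroup.centralizer (Q : Set G)))} {P₂ P : Subgroup G}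
    {e₂ : Set (IrrCharacter (Subgroup.centralizer (P₂ : Set G)))}
    {e : Set (IrrCharacter (Subgroup.centralizer (P : Set G)))}
    (h : SubpairLE p M Q f P₂ e₂) (hP : P₂ = P) (he₂ : IsPBlock M e₂) (he : IsPBlock M e)
    (hag : ∃ ξ₂ ∈ e₂, ∃ ξ ∈ e, ∀ (c₂ : Subgroup.centralizer (P₂ : Set G))
      (c : Subgroup.centralizer (P : Set G)), (c₂ : G) = c →
        (ξ₂ : Subgroup.centralizer (P₂ : Set G) → ℂ) c₂
          = (ξ : Subgroup.centralizer (P : Set G) → ℂ) c) :
    SubpairLE p M Q f P e := by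
  subst hP
  obtain ⟨ξ₂, hξ₂, ξ, hξ, hag⟩ := hag
  have : ξ₂ = ξ := Subtype.ext (funext fun c => hag c c rfl)
  subst this
  rw [← isPBlock_eq_of_mem hM he₂ he hξ₂ hξ]
  exact h

end Pairs

end Cfsg.Agent.Lib.helper80
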