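import Cfsg.Agent.Lib.helper80.BlockFusionDef

/-!
# The fusion system of a block: fully automized subgroups

If `(Q, f) ≤ (P, e)` and `N_P(Q)` is a defect group of the block of the stabilizer of `(Q, f)`
with the idempotent of `f`, then `Q` is fully automized in the fusion system of the block.
-/

set_option autoImplicit false

open Cfsg

namespace Cfsg.Agent.Lib.helper80

universe u

section ConjAut

variable {G : Type u} [Group G]

/-- Conjugation by the elements of a subgroup `T ≤ N_G(Q)`, as automorphisms of `Q`. -/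
def conjAut (Q T : Subgroup G) (hTN : T ≤ Subgroup.normalizer (Q : Set G)) : T →* MulAut Q where
  toFun t :=
    { toFun := fun q => ⟨(t : G) * q * (t : G)⁻¹,
        (Subgroup.mem_normalizer_iff.mp (hTN t.2) q).mp q.2⟩
      invFun := fun q => ⟨(t : G)⁻¹ * q * (t : G), by
        rw [Subgroup.mem_normalizer_iff.mp (hTN t.2) ((t : G)⁻¹ * q * (t : G))]
        have : (t : G) * ((t : G)⁻¹ * (q : G) * (t : G)) * (t : G)⁻¹ = q := by group
        rw [this]
        exact q.2⟩
      left_inv := fun q => by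
        apply Subtype.ext
        show (t : G)⁻¹ * ((t : G) * q * (t : G)⁻¹) * (t : G) = q
        group
      right_inv := fun q => by
        apply Subtype.ext
        show (t : G) * ((t : G)⁻¹ * q * (t : G)) * (t : G)⁻¹ = q
        group
      map_mul' := fun a b => by
        apply Subtype.ext
        show (t : G) * ((a : G) * b) * (t : G)⁻¹
          = ((t : G) * a * (t : G)⁻¹) * ((t : G) * b * (t : G)⁻¹)
        group }
  map_one' := by
    apply MulEquiv.ext
    intro q
    apply Subtype.ext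
    show ((1 : T) : G) * q * ((1 : T) : G)⁻¹ = q
    rw [Subgroup.coe_one]
    group
  map_mul' := fun s t => by
    apply MulEquiv.ext
    intro q
    apply Subtype.ext
    show ((s * t : T) : G) * q * ((s * t : T) : G)⁻¹
      = (s : G) * ((t : G) * q * (t : G)⁻¹) * (s : G)⁻¹
    rw [Subgroup.coe_mul]
    group

theorem conjAut_apply_coe (Q T : Subgroup G) (hTN : T ≤ Subgroup.normalizer (Q : Set G))
    (t : T) (q : Q) : ((conjAut Q T hTN t q : Q) : G) = (t : G) * q * (t : G)⁻¹ := rfl

theorem mem_ker_conjAut (Q T : Subgroup G) (hTN : T ≤ Subgroup.normalizer (Q : Set G)) (t : T) :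
    t ∈ (conjAut Q T hTN).ker ↔ (t : G) ∈ Subgroup.centralizer (Q : Set G) := by
  rw [MonoidHom.mem_ker, Subgroup.mem_centralizer_iff]
  constructor
  · intro h q hq
    have h1 : ((conjAut Q T hTN t ⟨q, hq⟩ : Q) : G) = q := by
      rw [h]
      rfl
    rw [conjAut_apply_coe] at h1
    calc q * (t : G) = ((t : G) * q * (t : G)⁻¹) * (t : G) := by rw [h1]
      _ = (t : G) * q := by group
  · intro h
    apply MulEquiv.ext
    intro q
    apply Subtype.ext
    show (t : G) * q * (t : G)⁻¹ = q
    rw [← h q q.2]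
    group

end ConjAut

section Automized

variable {G : Type u} [Group G] [Fintype G] {p : ℕ} [Fact p.Prime] {M : Ideal AlgInt}

open Cfsg.Agent.Lib.helper20

/-- If `N_P(Q)` is a defect group of the stabilizer block of `(Q, f) ≤ (P, e)`, then `Q` is fully
automized in the fusion system of the block. -/
theorem isFullyAutomized_of_defect (hM : IsPModular p M) {B : Set (IrrCharacter G)}
    {P : Subgroup G} {e : Set (IrrCharacter (Subgroup.centralizer (P : Set G)))}
    {F : FusionSystem P} (hF : IsBlockFusionSystemOn p M B P e F) {Q : Subgroup G}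
    {f : Set (IrrCharacter (Subgroup.centralizer (Q : Set G)))} (hQP : Q ≤ P)
    (hf : IsPBlock M f) (hle : SubpairLE p M Q f P e) (T : Subgroup G)
    (hT : ∀ y : G, y ∈ T ↔ y ∈ Subgroup.normalizer (Q : Set G) ∧
      StabilizesBlock (Subgroup.centralizer (Q : Set G)) f y)
    {F' : Set (IrrCharacter T)} (hF' : IsPBlock M F')
    (hF'c : ∀ t : T, blockCoeff F' t
      = subgroupBlockCoeff (Subgroup.centralizer (Q : Set G)) f (t : G))
    (hD : IsDefectGroup p M F' ((P ⊓ Subgroup.normalizer (Q : Set G)).subgroupOf T)) :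
    F.IsFullyAutomized p Q := by
  classical
  have hMp := isPrime_of_isPModular hM
  have hmax := hF.1
  have hPe : IsBrauerPair p M P e := hmax.1.1
  have hQ : IsPGroup p Q := hPe.1.to_le hQP
  have hTN : T ≤ Subgroup.normalizer (Q : Set G) := fun y hy => ((hT y).mp hy).1
  have h1 : ∀ α : MulAut Q, α ∈ F.autGroup Q ↔ ∃ t : T, conjAut Q T hTN t = α := by
    intro α
    constructor
    · intro hα
      unfold FusionSystem.autGroup at hα
      induction hα using Subgroup.closure_induction with
      | mem α hα =>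
        obtain ⟨-, g, hg, hQgP, f₁, hle₁, hleg₁⟩ := (hF.2 Q _).mp hα
        have hg' : ∀ u : Q, ((α u : Q) : G) = g * (u : G) * g⁻¹ := fun u => hg u
        have hgN : g ∈ Subgroup.normalizer (Q : Set G) :=
          mem_normalizer_of_forall_conj_mem (fun u hu => by
            rw [← hg' ⟨u, hu⟩]
            exact (α ⟨u, hu⟩).2)
        have hff : f₁ = f := subpairLE_unique hM P e hPe _ Q f₁ f rfl hle₁ hle
        subst hff
        have heq : conjPair g ⟨Q, f₁⟩ = ⟨Q, f₁⟩ :=
          pair_eq_of_le_of_eq hM (Z := ⟨P, e⟩) hPe hleg₁ hle (map_conj_eq_of_mem_normalizer hgN)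
        have hgT : g ∈ T := (hT g).mpr (stabilizes_of_conjPair_eq_self heq)
        exact ⟨⟨g, hgT⟩, MulEquiv.ext (fun u => Subtype.ext (hg' u).symm)⟩
      | one => exact ⟨1, map_one _⟩
      | mul a b _ _ ha hb =>
        obtain ⟨s, rfl⟩ := ha
        obtain ⟨t, rfl⟩ := hb
        exact ⟨s * t, map_mul _ s t⟩
      | inv a _ ha =>
        obtain ⟨s, rfl⟩ := ha
        exact ⟨s⁻¹, map_inv _ s⟩
    · rintro ⟨t, rfl⟩
      apply Subgroup.subset_closure
      show Q.subtype.comp (conjAut Q T hTN t).toMonoidHom ∈ F.Hom Q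
      rw [hF.2]
      have hfix : conjPair (t : G) ⟨Q, f⟩ = ⟨Q, f⟩ :=
        conjPair_eq_self_of_stabilizes hMp hf ((hT t).mp t.2).1 ((hT t).mp t.2).2
      have hleg : SubpairLE p M (Q.map (MulAut.conj (t : G)).toMonoidHom)
          (conjBlock Q (t : G) f) P e := by
        show Relation.ReflTransGen (NormalSubpairRel p M) (conjPair (t : G) ⟨Q, f⟩) ⟨P, e⟩
        rw [hfix]
        exact hle
      exact ⟨hQP, t, fun u => rfl, subpairLE_le ⟨_, _⟩ ⟨P, e⟩ hleg, f, hle, hleg⟩
  have hDT : P ⊓ Subgroup.normalizer (Q : Set G) ≤ T :=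
    inf_normalizer_le_stabilizer hM hPe hQP hf hle T hT
  have h2 : ∀ α : MulAut Q, α ∈ autInducedBy P Q ↔
      ∃ d ∈ (P ⊓ Subgroup.normalizer (Q : Set G)).subgroupOf T, conjAut Q T hTN d = α := by
    intro α
    constructor
    · intro hα
      unfold autInducedBy at hα
      induction hα using Subgroup.closure_induction with
      | mem α hα =>
        obtain ⟨g, hgP, hg⟩ := hα
        have hgN : g ∈ Subgroup.normalizer (Q : Set G) :=
          mem_normalizer_of_forall_conj_mem (fun u hu => by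
            rw [← hg ⟨u, hu⟩]
            exact (α ⟨u, hu⟩).2)
        exact ⟨⟨g, hDT ⟨hgP, hgN⟩⟩, Subgroup.mem_subgroupOf.mpr ⟨hgP, hgN⟩,
          MulEquiv.ext (fun u => Subtype.ext (hg u).symm)⟩
      | one => exact ⟨1, Subgroup.one_mem _, map_one _⟩
      | mul a b _ _ ha hb =>
        obtain ⟨s, hs, rfl⟩ := ha
        obtain ⟨t, ht, rfl⟩ := hb
        exact ⟨s * t, Subgroup.mul_mem _ hs ht, map_mul _ s t⟩
      | inv a _ ha =>
        obtain ⟨s, hs, rfl⟩ := ha
        exact ⟨s⁻¹, Subgroup.inv_mem _ hs, map_inv _ s⟩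
    · rintro ⟨d, hd, rfl⟩
      apply Subgroup.subset_closure
      exact ⟨(d : G), (Subgroup.mem_subgroupOf.mp hd).1, fun x => rfl⟩
  have hΨsurj : Function.Surjective ((conjAut Q T hTN).codRestrict (F.autGroup Q)
      (fun t => (h1 _).mpr ⟨t, rfl⟩)) := by
    rintro ⟨α, hα⟩
    obtain ⟨t, ht⟩ := (h1 α).mp hα
    exact ⟨t, Subtype.ext ht⟩
  have hker : ((conjAut Q T hTN).codRestrict (F.autGroup Q)
      (fun t => (h1 _).mpr ⟨t, rfl⟩)).ker = (Subgroup.centralizer (Q : Set G)).subgroupOf T := by
    ext t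
    rw [Subgroup.mem_subgroupOf, ← mem_ker_conjAut Q T hTN t, MonoidHom.mem_ker,
      MonoidHom.mem_ker]
    constructor
    · intro h
      exact congrArg Subtype.val h
    · intro h
      exact Subtype.ext h
  have hH : (autInducedBy P Q).subgroupOf (F.autGroup Q)
      = ((P ⊓ Subgroup.normalizer (Q : Set G)).subgroupOf T).map
        ((conjAut Q T hTN).codRestrict (F.autGroup Q) (fun t => (h1 _).mpr ⟨t, rfl⟩)) := by
    ext β
    rw [Subgroup.mem_subgroupOf, h2, Subgroup.mem_map]
    constructor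
    · rintro ⟨d, hd, hdβ⟩
      exact ⟨d, hd, Subtype.ext hdβ⟩
    · rintro ⟨d, hd, rfl⟩
      exact ⟨d, hd, rfl⟩
  have hpg : IsPGroup p ↥(((P ⊓ Subgroup.normalizer (Q : Set G)).subgroupOf T).map
      ((conjAut Q T hTN).codRestrict (F.autGroup Q) (fun t => (h1 _).mpr ⟨t, rfl⟩))) :=
    (IsDefectGroup.isPGroup hD).map _
  have hidx : ¬ p ∣ (((P ⊓ Subgroup.normalizer (Q : Set G)).subgroupOf T).map
      ((conjAut Q T hTN).codRestrict (F.autGroup Q) (fun t => (h1 _).mpr ⟨t, rfl⟩))).index := by
    rw [Subgroup.index_map, MonoidHom.range_eq_top_of_surjective _ hΨsurj, Subgroup.index_top,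
      mul_one, hker, sup_comm]
    exact not_dvd_index_sup_defectGroup hM Q hQ hf T hT hF' hF'c hD
  exact ⟨hQP, hpg.toSylow hidx, by rw [IsPGroup.toSylow_coe, hH]⟩

end Automized

end Cfsg.Agent.Lib.helper80
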