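import Cfsg.Agent.Lib.helper80.MaxPairChar
import Cfsg.Agent.Lib.helper80.InducedBr
import Cfsg.Agent.Lib.helper80.BlockFusionAut

/-!
# The inertial quotient of a block with cyclic defect groups (helper80)

* `isMaximal_of_isDefectGroup`: a Brauer pair of `B` on a defect group of `B` is maximal.
* `isMaximal_of_induced_abelian`: for an abelian defect group `P` and a block `c` of `C_G(P)`
  inducing `B`, the pair `(P, c)` is a maximal Brauer pair of `B`.
* `aut_eq_one_of_fix`: an automorphism of order prime to `p` of a cyclic `p`-group fixing a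
  nontrivial element is trivial.
* `cyclic_inertial`: the inertial quotient of a block with cyclic defect group is cyclic of order
  dividing `p - 1` and acts freely.
-/

set_option autoImplicit false

open Cfsg

namespace Cfsg.Agent.Lib.helper80

universe u

section Bridge

variable {G : Type u} [Group G] [Fintype G] {p : ℕ} [Fact p.Prime] {M : Ideal AlgInt}

open Cfsg.Agent.Lib.helper20

/-- A Brauer pair of `B` on a defect group of `B` is maximal. -/
theorem isMaximal_of_isDefectGroup (hM : IsPModular p M) {B : Set (IrrCharacter G)}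
    {P : Subgroup G} {c : Set (IrrCharacter (Subgroup.centralizer (P : Set G)))}
    (hpair : IsBrauerPairOf p M B P c) (hPD : IsDefectGroup p M B P) :
    IsMaximalBrauerPair p M B P c := by
  obtain ⟨P', e', hmax, hle⟩ := exists_maximal_above hM _ P c rfl hpair
  have hPP' : P ≤ P' := subpairLE_le ⟨_, _⟩ ⟨_, _⟩ hle
  have hD' := isDefectGroup_of_maximal hM hmax
  have hcard := IsDefectGroup.card_eq hM hpair.2.1 hPD hD'
  have heq : P = P' := Subgroup.eq_of_le_of_card_ge hPP' (le_of_eq hcard)
  subst heq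
  have hee : c = e' := subpairLE_unique hM P e' hmax.1.1 _ P c e' rfl hle
    Relation.ReflTransGen.refl
  rw [hee]
  exact hmax

/-- For an abelian defect group `P` of `B` and a block `c` of `C_G(P)` inducing `B`: `(P, c)` is a
maximal Brauer pair of `B`. -/
theorem isMaximal_of_induced_abelian (hM : IsPModular p M) {B : Set (IrrCharacter G)}
    (hB : IsPBlock M B) {P : Subgroup G} (hPD : IsDefectGroup p M B P)
    (hab : ∀ x ∈ P, ∀ y ∈ P, x * y = y * x)
    {c : Set (IrrCharacter (Subgroup.centralizer (P : Set G)))}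
    (hc : IsInducedBlock M (Subgroup.centralizer (P : Set G)) c B) :
    IsMaximalBrauerPair p M B P c := by
  classical
  have hMp := isPrime_of_isPModular hM
  have : Fintype (Subgroup.centralizer (P : Set G)) := Fintype.ofFinite _
  have hP : IsPGroup p P := IsDefectGroup.isPGroup hPD
  have hPC : P ≤ Subgroup.centralizer (P : Set G) := fun x hx =>
    Subgroup.mem_centralizer_iff.mpr (fun y hy => hab y hy x hx)
  have hcb : IsPBlock M c := hc.1
  obtain ⟨ξ, hξ⟩ := Cfsg.Agent.Lib.helper80.isPBlock_nonempty hMp hcb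
  obtain ⟨χ, hχ⟩ := Cfsg.Agent.Lib.helper80.isPBlock_nonempty hMp hB
  have hbr := (isInducedBlock_iff_brInd hM P (Subgroup.centralizer (P : Set G)) hP hPC le_rfl
    (Subgroup.centralizer_le_normalizer _) hcb hB).mp hc ξ hξ χ hχ
  have hpair := isBrauerPairOf_of_brInd hM P hP hB hχ hbr
  rw [← eq_blockOf_of_mem hMp hcb hξ] at hpair
  exact isMaximal_of_isDefectGroup hM hpair hPD

end Bridge

section CyclicAut

variable {P : Type*} [Group P] [Finite P] [IsCyclic P] {p : ℕ} [Fact p.Prime]

/-- An automorphism of order prime to `p` of a cyclic `p`-group that fixes a nontrivial element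
is trivial. -/
theorem aut_eq_one_of_fix (hP : IsPGroup p P) (α : MulAut P) (m : ℕ) (hm : ¬ p ∣ m)
    (hαm : α ^ m = 1) (x : P) (hx : x ≠ 1) (hfix : α x = x) : α = 1 := by
  have hp := (Fact.out : p.Prime)
  obtain ⟨g, hg⟩ := IsCyclic.exists_generator (α := P)
  obtain ⟨k, hk⟩ := Subgroup.mem_zpowers_iff.mp (hg (α g))
  have hpow : ∀ y : P, α y = y ^ k := by
    intro y
    obtain ⟨j, rfl⟩ := Subgroup.mem_zpowers_iff.mp (hg y)
    rw [map_zpow, ← hk, ← zpow_mul, ← zpow_mul, mul_comm]
  have hpowm : ∀ (i : ℕ) (y : P), (α ^ i) y = y ^ (k ^ i) := by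
    intro i
    induction i with
    | zero => intro y; simp
    | succ i ih =>
      intro y
      rw [pow_succ, MulAut.mul_apply, hpow, ih, ← zpow_mul, pow_succ, mul_comm]
  have h1 : (p : ℤ) ∣ k - 1 := by
    have hx1 : x ^ (k - 1) = 1 := by
      rw [zpow_sub, zpow_one, ← hpow, hfix, mul_inv_cancel]
    have hord : (orderOf x : ℤ) ∣ k - 1 := orderOf_dvd_iff_zpow_eq_one.mpr hx1
    obtain ⟨j, hj⟩ := hP x
    obtain ⟨i, -, hi⟩ := (Nat.dvd_prime_pow hp).mp (orderOf_dvd_of_pow_eq_one hj)
    have hi0 : i ≠ 0 := by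
      rintro rfl
      rw [pow_zero, orderOf_eq_one_iff] at hi
      exact hx hi
    have h2 : (p : ℤ) ∣ (orderOf x : ℤ) := by
      rw [hi]
      exact_mod_cast dvd_pow_self p hi0
    exact h2.trans hord
  have h2 : ((Nat.card P : ℕ) : ℤ) ∣ k ^ m - 1 := by
    have hg1 : g ^ (k ^ m - 1) = 1 := by
      rw [zpow_sub, zpow_one, ← hpowm, hαm, MulAut.one_apply, mul_inv_cancel]
    have h3 := orderOf_dvd_iff_zpow_eq_one.mpr hg1
    rwa [orderOf_eq_card_of_forall_mem_zpowers hg] at h3
  have h3 : k ^ m - 1 = (∑ i ∈ Finset.range m, k ^ i) * (k - 1) := (geom_sum_mul k m).symm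
  have h4 : ¬ (p : ℤ) ∣ ∑ i ∈ Finset.range m, k ^ i := by
    intro hdvd
    have hk1 : (k : ZMod p) = 1 := by
      have h5 := (ZMod.intCast_zmod_eq_zero_iff_dvd (k - 1) p).mpr h1
      push_cast at h5
      exact sub_eq_zero.mp h5
    have hs : (((∑ i ∈ Finset.range m, k ^ i : ℤ)) : ZMod p) = (m : ZMod p) := by
      push_cast
      rw [hk1]
      simp
    have h0 := (ZMod.intCast_zmod_eq_zero_iff_dvd _ p).mpr hdvd
    rw [hs] at h0
    exact hm ((ZMod.natCast_eq_zero_iff m p).mp h0)
  obtain ⟨n, hn⟩ := IsPGroup.iff_card.mp hP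
  have h5 : ((p : ℤ) ^ n) ∣ k - 1 := by
    have hcop : IsCoprime ((p : ℤ) ^ n) (∑ i ∈ Finset.range m, k ^ i) :=
      IsCoprime.pow_left ((Nat.prime_iff_prime_int.mp hp).coprime_iff_not_dvd.mpr h4)
    have h6 : ((p : ℤ) ^ n) ∣ (∑ i ∈ Finset.range m, k ^ i) * (k - 1) := by
      rw [← h3]
      rw [hn] at h2
      exact_mod_cast h2
    exact hcop.dvd_of_dvd_mul_left h6
  ext y
  rw [MulAut.one_apply, hpow]
  obtain ⟨t, ht⟩ := h5
  have hk' : k = 1 + (p : ℤ) ^ n * t := by linarith
  have hy : y ^ ((p : ℤ) ^ n) = 1 := by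
    have h7 : y ^ Nat.card P = 1 := pow_card_eq_one'
    rw [hn] at h7
    rw [← h7]
    exact_mod_cast (zpow_natCast y (p ^ n))
  rw [hk', zpow_add, zpow_one, zpow_mul, hy, one_zpow, mul_one]

/-- A subgroup of order prime to `p` of the automorphism group of a nontrivial cyclic `p`-group
has order dividing `p - 1`. -/
theorem card_dvd_pred_of_coprime [Nontrivial P] (hP : IsPGroup p P) (A : Subgroup (MulAut P))
    (hA : ¬ p ∣ Nat.card A) : Nat.card A ∣ p - 1 := by
  have hp := (Fact.out : p.Prime)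
  have h1 : Nat.card A ∣ Nat.card (MulAut P) := Subgroup.card_subgroup_dvd_card A
  rw [IsCyclic.card_mulAut P] at h1
  obtain ⟨n, hn⟩ := IsPGroup.iff_card.mp hP
  have hn0 : 0 < n := by
    by_contra h
    have h0 : n = 0 := by omega
    subst h0
    rw [pow_zero] at hn
    have := Finite.one_lt_card (α := P)
    omega
  rw [hn, Nat.totient_prime_pow hp hn0] at h1
  exact Nat.Coprime.dvd_of_dvd_mul_left
    (Nat.Coprime.pow_right _ ((Nat.Prime.coprime_iff_not_dvd hp).mpr hA).symm) h1

/-- A subgroup of order prime to `p` of the automorphism group of a nontrivial cyclic `p`-group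
is cyclic. -/
theorem isCyclic_subgroup_of_coprime [Nontrivial P] (hP : IsPGroup p P)
    (A : Subgroup (MulAut P)) (hA : ¬ p ∣ Nat.card A) : IsCyclic A := by
  have hp := (Fact.out : p.Prime)
  have h := card_dvd_pred_of_coprime hP A hA
  by_cases hp2 : p = 2
  · rw [hp2] at h
    have h1 : Nat.card A = 1 := Nat.dvd_one.mp h
    have : Subsingleton A := (Nat.card_eq_one_iff_unique.mp h1).1
    exact isCyclic_of_subsingleton
  · obtain ⟨n, hn⟩ := IsPGroup.iff_card.mp hP
    have h2 : IsCyclic (ZMod (Nat.card P))ˣ := by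
      rw [hn]
      exact ZMod.isCyclic_units_of_prime_pow p hp hp2 n
    have h3 : IsCyclic (MulAut P) :=
      isCyclic_of_surjective (IsCyclic.mulAutMulEquiv P).symm
        (IsCyclic.mulAutMulEquiv P).symm.surjective
    infer_instance

end CyclicAut

section Inertial

variable {G : Type u} [Group G] [Fintype G] {p : ℕ} [Fact p.Prime] {M : Ideal AlgInt}

open Cfsg.Agent.Lib.helper20

/-- The inertial quotient of a block with cyclic defect groups. -/
theorem cyclic_inertial (hM : IsPModular p M) {B : Set (IrrCharacter G)} (hB : IsPBlock M B)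
    {P : Subgroup G} (hPD : IsDefectGroup p M B P) (hP1 : P ≠ ⊥) (hcyc : IsCyclic P)
    {c : Set (IrrCharacter (Subgroup.centralizer (P : Set G)))}
    (hc : IsInducedBlock M (Subgroup.centralizer (P : Set G)) c B) (T : Subgroup G)
    (hT : ∀ g : G, g ∈ T ↔ (g ∈ Subgroup.normalizer (P : Set G) ∧
      StabilizesBlock (Subgroup.centralizer (P : Set G)) c g))
    [hn : ((Subgroup.centralizer (P : Set G)).subgroupOf T).Normal] :
    IsCyclic (T ⧸ (Subgroup.centralizer (P : Set G)).subgroupOf T) ∧
      (Subgroup.centralizer (P : Set G)).relIndex T ∣ p - 1 ∧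
      ∀ g ∈ T, ∀ x ∈ P, x ≠ 1 → g * x * g⁻¹ = x →
        g ∈ Subgroup.centralizer (P : Set G) := by
  classical
  have hp := (Fact.out : p.Prime)
  have hPp : IsPGroup p P := IsDefectGroup.isPGroup hPD
  have hcomm : ∀ a b : P, a * b = b * a := fun a b =>
    (IsCyclic.commGroup (α := P)).mul_comm a b
  have hab : ∀ x ∈ P, ∀ y ∈ P, x * y = y * x := fun x hx y hy =>
    congrArg Subtype.val (hcomm ⟨x, hx⟩ ⟨y, hy⟩)
  have hmax := isMaximal_of_induced_abelian hM hB hPD hab hc
  have hTN : T ≤ Subgroup.normalizer (P : Set G) := fun y hy => ((hT y).mp hy).1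
  have hidx := not_dvd_index_of_maximal hM hmax T hT
  have hPC : P ≤ Subgroup.centralizer (P : Set G) := fun x hx =>
    Subgroup.mem_centralizer_iff.mpr (fun y hy => hab y hy x hx)
  have hsup : (Subgroup.centralizer (P : Set G)).subgroupOf T ⊔ P.subgroupOf T
      = (Subgroup.centralizer (P : Set G)).subgroupOf T :=
    sup_eq_left.mpr (fun x hx => Subgroup.mem_subgroupOf.mpr (hPC (Subgroup.mem_subgroupOf.mp hx)))
  rw [hsup] at hidx
  have hker : ∀ t : T, t ∈ (conjAut P T hTN).ker
      ↔ t ∈ (Subgroup.centralizer (P : Set G)).subgroupOf T := fun t => by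
    rw [mem_ker_conjAut, Subgroup.mem_subgroupOf]
  have hKle : (Subgroup.centralizer (P : Set G)).subgroupOf T ≤ (conjAut P T hTN).ker :=
    fun t ht => (hker t).mpr ht
  obtain ⟨ψ, hψ⟩ : ∃ ψ : T ⧸ (Subgroup.centralizer (P : Set G)).subgroupOf T →* MulAut P,
      ψ = QuotientGroup.lift _ (conjAut P T hTN) hKle := ⟨_, rfl⟩
  have hinj : Function.Injective ψ := by
    rw [injective_iff_map_eq_one]
    intro q hq
    induction q using QuotientGroup.induction_on with
    | H t =>
      rw [QuotientGroup.eq_one_iff]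
      refine (hker t).mp (MonoidHom.mem_ker.mpr ?_)
      rw [hψ] at hq
      exact hq
  have hcardA : Nat.card ψ.range = ((Subgroup.centralizer (P : Set G)).subgroupOf T).index := by
    rw [Subgroup.index_eq_card]
    exact Nat.card_congr (MonoidHom.ofInjective hinj).symm.toEquiv
  have hA : ¬ p ∣ Nat.card ψ.range := by
    rw [hcardA]
    exact hidx
  haveI : Nontrivial P := (Subgroup.nontrivial_iff_ne_bot P).mpr hP1
  refine ⟨?_, ?_, ?_⟩
  · haveI hcycA := isCyclic_subgroup_of_coprime hPp ψ.range hA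
    exact isCyclic_of_surjective (MonoidHom.ofInjective hinj).symm
      (MonoidHom.ofInjective hinj).symm.surjective
  · have h1 := card_dvd_pred_of_coprime hPp ψ.range hA
    rw [hcardA] at h1
    exact h1
  · intro g hg x hx hx1 hfix
    have hα : conjAut P T hTN ⟨g, hg⟩ = 1 := by
      refine aut_eq_one_of_fix hPp (conjAut P T hTN ⟨g, hg⟩)
        ((Subgroup.centralizer (P : Set G)).subgroupOf T).index hidx ?_ ⟨x, hx⟩ ?_ ?_
      · rw [← map_pow]
        exact MonoidHom.mem_ker.mp (hKle (Subgroup.pow_index_mem _ _))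
      · intro h
        exact hx1 (congrArg Subtype.val h)
      · apply Subtype.ext
        rw [conjAut_apply_coe]
        exact hfix
    exact (mem_ker_conjAut P T hTN ⟨g, hg⟩).mp (MonoidHom.mem_ker.mpr hα)

end Inertial

end Cfsg.Agent.Lib.helper80
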