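import Cfsg.Agent.Lib.helper80.RelPair

/-!
# Nilpotent blocks: fusion is controlled by the defect group

For a nilpotent block `B` with maximal pair `(P, e)`: if `(Q, f) ≤ (P, e)` and the conjugate of
`(Q, f)` by `g` is again below `(P, e)`, then `g ∈ P C_G(Q)`.
-/

set_option autoImplicit false

open Cfsg

namespace Cfsg.Agent.Lib.helper80

universe u

section ClaimN

variable {G : Type u} [Group G] [Fintype G] {p : ℕ} [Fact p.Prime] {M : Ideal AlgInt}

open Cfsg.Agent.Lib.helper20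

omit [Fact p.Prime] in
/-- A pair of the stabilizer block is normally above `(Q, f)` in `G`. -/
theorem isNormalSubpair_of_up (Q : Subgroup G) (hQ : IsPGroup p Q)
    {f : Set (IrrCharacter (Subgroup.centralizer (Q : Set G)))} (hf : IsPBlock M f)
    (T : Subgroup G) (hT : ∀ y : G, y ∈ T ↔ y ∈ Subgroup.normalizer (Q : Set G) ∧
      StabilizesBlock (Subgroup.centralizer (Q : Set G)) f y)
    {F : Set (IrrCharacter T)}
    (hFc : ∀ t : T, blockCoeff F t
      = subgroupBlockCoeff (Subgroup.centralizer (Q : Set G)) f (t : G))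
    {X' : BrauerPairIdx T} {X : BrauerPairIdx G} (hX : Up T X' X)
    (hpair : IsBrauerPairOf p M F X'.1 X'.2) (hQX : Q ≤ X.1) :
    IsNormalSubpair p M Q f X.1 X.2 := by
  obtain ⟨R', e'⟩ := X'
  obtain ⟨R, e⟩ := X
  obtain ⟨h1, h2, h3⟩ := hX
  dsimp only at h1 h2 h3 hpair hQX ⊢
  subst h1
  subst h3
  have hRT : R'.map T.subtype ≤ T := Subgroup.map_subtype_le _
  refine ⟨⟨hQ, hf⟩, ⟨hpair.1.1.map _, isPBlock_upBlock T _ _ h2 hpair.1.2⟩, hQX,
    fun y hy => ((hT y).mp (hRT hy)).1, fun y hy => ((hT y).mp (hRT hy)).2, ?_⟩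
  intro ξ hξ
  obtain ⟨ξ', hξ', rfl⟩ := exists_of_mem_upBlock T _ _ h2 hξ
  rw [brauerOmega_relCent T R' _ h2
    (subgroupBlockCoeff (Subgroup.centralizer (Q : Set G)) f) ξ']
  have h8 : (fun c : T => subgroupBlockCoeff (Subgroup.centralizer (Q : Set G)) f (c : G))
      = blockCoeff F := funext fun c => (hFc c).symm
  rw [h8]
  exact hpair.2.2 ξ' hξ'

omit [Fact p.Prime] in
/-- A pair of `G` normally above `(Q, f)` is a pair of the stabilizer block. -/
theorem isBrauerPairOf_down {Q : Subgroup G}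
    {f : Set (IrrCharacter (Subgroup.centralizer (Q : Set G)))} (T : Subgroup G)
    {F : Set (IrrCharacter T)} (hF : IsPBlock M F)
    (hFc : ∀ t : T, blockCoeff F t
      = subgroupBlockCoeff (Subgroup.centralizer (Q : Set G)) f (t : G))
    {R : Subgroup G} {e : Set (IrrCharacter (Subgroup.centralizer (R : Set G)))}
    (hns : IsNormalSubpair p M Q f R e) (R' : Subgroup T) (hR' : IsPGroup p R')
    (h : CentRel T R' R) :
    IsBrauerPairOf p M F R' (blockMap (relCent T R' R h).symm e) := by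
  refine ⟨⟨hR', isPBlock_blockMap _ hns.2.1.2⟩, hF, ?_⟩
  intro ξ' hξ'
  rw [mem_blockMap, MulEquiv.symm_symm] at hξ'
  have h7 := brauerOmega_relCent T R' R h
    (subgroupBlockCoeff (Subgroup.centralizer (Q : Set G)) f) ξ'
  have h8 : (fun c : T => subgroupBlockCoeff (Subgroup.centralizer (Q : Set G)) f (c : G))
      = blockCoeff F := funext fun c => (hFc c).symm
  rw [h8] at h7
  rw [← h7]
  exact hns.2.2.2.2.2 _ hξ'

/-- In a nilpotent block, the stabilizer `T` of a pair `(Q, f)` is `D C_G(Q)` for any defect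
group `D` of the block of `T` with the idempotent of `f`. -/
theorem exists_mul_of_nilpotent (hM : IsPModular p M) {B : Set (IrrCharacter G)}
    (hnil : IsNilpotentBlock p M B) {Q : Subgroup G}
    {f : Set (IrrCharacter (Subgroup.centralizer (Q : Set G)))}
    (hQf : IsBrauerPairOf p M B Q f) (T : Subgroup G)
    (hT : ∀ y : G, y ∈ T ↔ y ∈ Subgroup.normalizer (Q : Set G) ∧
      StabilizesBlock (Subgroup.centralizer (Q : Set G)) f y)
    {F : Set (IrrCharacter T)} (hF : IsPBlock M F)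
    (hFc : ∀ t : T, blockCoeff F t
      = subgroupBlockCoeff (Subgroup.centralizer (Q : Set G)) f (t : G))
    {D : Subgroup T} (hD : IsDefectGroup p M F D) (t : T) :
    ∃ d ∈ D, ∃ c ∈ Subgroup.centralizer (Q : Set G), (t : G) = (d : G) * c := by
  classical
  have hp : p.Prime := Fact.out
  have hn := normal_centralizer_subgroupOf_stabilizer Q T hT
  have h1 := not_dvd_index_sup_defectGroup hM Q hQf.1.1 hQf.1.2 T hT hF hFc hD
  have hpg : IsPGroup p (T ⧸ (Subgroup.centralizer (Q : Set G)).subgroupOf T) := by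
    intro q
    obtain ⟨s, rfl⟩ := QuotientGroup.mk_surjective q
    obtain ⟨a, ha⟩ := exists_pRegular_pow (p := p) (s : G)
    refine ⟨a, ?_⟩
    rw [← QuotientGroup.mk_pow, QuotientGroup.eq_one_iff, Subgroup.mem_subgroupOf,
      Subgroup.coe_pow]
    have hsT : (s : G) ^ (p ^ a) ∈ T := T.pow_mem s.2 _
    exact hnil.2 Q f hQf _ ((hT _).mp hsT).1 ((hT _).mp hsT).2 ha
  obtain ⟨m, hm⟩ := IsPGroup.iff_card.mp hpg
  have hdvd : ((Subgroup.centralizer (Q : Set G)).subgroupOf T ⊔ D).index ∣ p ^ m := by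
    rw [← hm]
    exact Subgroup.index_dvd_of_le le_sup_left
  obtain ⟨j, -, hj⟩ := (Nat.dvd_prime_pow hp).mp hdvd
  have hj0 : j = 0 := by
    by_contra hne
    apply h1
    rw [hj]
    exact dvd_pow_self p hne
  rw [hj0, pow_zero] at hj
  have htop : (Subgroup.centralizer (Q : Set G)).subgroupOf T ⊔ D = ⊤ :=
    Subgroup.index_eq_one.mp hj
  have ht : t ∈ ((D ⊔ (Subgroup.centralizer (Q : Set G)).subgroupOf T : Subgroup T) : Set T) := by
    rw [sup_comm, htop]
    exact Subgroup.mem_top t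
  rw [Subgroup.mul_normal] at ht
  obtain ⟨d, hd, k, hk, hdk⟩ := Set.mem_mul.mp ht
  refine ⟨d, hd, (k : G), Subgroup.mem_subgroupOf.mp hk, ?_⟩
  rw [← hdk]
  rfl

/-- For `(Q, f) ≤ (P, e)`: the pair on `N_P(Q)` below `(P, e)` is normally above `(Q, f)`. -/
theorem exists_normalizer_pair (hM : IsPModular p M) {P Q : Subgroup G}
    {e : Set (IrrCharacter (Subgroup.centralizer (P : Set G)))}
    {f : Set (IrrCharacter (Subgroup.centralizer (Q : Set G)))}
    (hPe : IsBrauerPair p M P e) (hQP : Q ≤ P) (hle : SubpairLE p M Q f P e) :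
    ∃ eR : Set (IrrCharacter (Subgroup.centralizer
        ((P ⊓ Subgroup.normalizer (Q : Set G) : Subgroup G) : Set G))),
      IsNormalSubpair p M Q f (P ⊓ Subgroup.normalizer (Q : Set G)) eR ∧
      SubpairLE p M (P ⊓ Subgroup.normalizer (Q : Set G)) eR P e := by
  have hP : IsPGroup p P := hPe.1
  have hQ : IsPGroup p Q := hP.to_le hQP
  have hQR : Q ≤ P ⊓ Subgroup.normalizer (Q : Set G) := le_inf hQP Subgroup.le_normalizer
  have hRP : P ⊓ Subgroup.normalizer (Q : Set G) ≤ P := inf_le_left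
  have hRN : P ⊓ Subgroup.normalizer (Q : Set G) ≤ Subgroup.normalizer (Q : Set G) :=
    inf_le_right
  obtain ⟨eR, heR, hleR⟩ := exists_subpairLE hM _ P _ e hPe hRP rfl
  obtain ⟨f', hf', hle'⟩ := exists_subpairLE hM _ _ Q eR ⟨hP.to_le hRP, heR⟩ hQR rfl
  have hff : f' = f := subpairLE_unique hM P e hPe _ Q f' f rfl
    (Relation.ReflTransGen.trans hle' hleR) hle
  subst hff
  exact ⟨eR, normalSubpair_of_subpairLE hM ⟨Q, f'⟩ ⟨_, eR⟩ hle' ⟨hQ, hf'⟩ hRN, hleR⟩

/-- **Control of fusion in nilpotent blocks.** -/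
theorem exists_mul_of_nilpotent_conj (hM : IsPModular p M) {B : Set (IrrCharacter G)}
    {P : Subgroup G} {e : Set (IrrCharacter (Subgroup.centralizer (P : Set G)))}
    (hmax : IsMaximalBrauerPair p M B P e) (hnil : IsNilpotentBlock p M B) :
    ∀ (n : ℕ) (Q : Subgroup G) (f : Set (IrrCharacter (Subgroup.centralizer (Q : Set G))))
      (g : G), Nat.card P - Nat.card Q = n → SubpairLE p M Q f P e →
      SubpairLE p M (Q.map (MulAut.conj g).toMonoidHom) (conjBlock Q g f) P e →
      ∃ u ∈ P, ∃ c ∈ Subgroup.centralizer (Q : Set G), g = u * c := by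
  classical
  have hMp := isPrime_of_isPModular hM
  have hPe : IsBrauerPair p M P e := hmax.1.1
  have hB : IsPBlock M B := hmax.1.2.1
  have hP : IsPGroup p P := hPe.1
  intro n
  induction n using Nat.strong_induction_on with
  | _ n ih =>
    intro Q f g hn hle hleg
    have hQP : Q ≤ P := subpairLE_le ⟨Q, f⟩ ⟨P, e⟩ hle
    have hQ : IsPGroup p Q := hP.to_le hQP
    have hQf : IsBrauerPair p M Q f := subpairLE_isBrauerPair ⟨Q, f⟩ ⟨P, e⟩ hle hPe
    have hf : IsPBlock M f := hQf.2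
    have hQfB : IsBrauerPairOf p M B Q f :=
      (Cfsg.Agent.S4658.result p M hM P Q e f hPe hQf hle B hB).mp hmax.1
    have hT := mem_stabSub hMp Q f hf
    have : Fintype (stabSub hMp Q f hf) := Fintype.ofFinite _
    obtain ⟨F, hF, hFc⟩ := exists_block_of_stabilizer hM Q hQ hf (stabSub hMp Q f hf) hT
    have hQgP : Q.map (MulAut.conj g).toMonoidHom ≤ P := subpairLE_le ⟨_, _⟩ ⟨P, e⟩ hleg
    have hcardQg : Nat.card (Q.map (MulAut.conj g).toMonoidHom) = Nat.card Q :=
      Subgroup.card_map_of_injective (MulAut.conj g).injective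
    by_cases hQeq : Q = P
    · -- base case
      subst hQeq
      have hfe : f = e := subpairLE_unique hM Q e hPe _ Q f e rfl hle Relation.ReflTransGen.refl
      subst hfe
      have h1 : Q.map (MulAut.conj g).toMonoidHom = Q :=
        Subgroup.eq_of_le_of_card_ge hQgP (le_of_eq hcardQg.symm)
      have h2 : conjPair g ⟨Q, f⟩ = ⟨Q, f⟩ :=
        eq_of_subpairLE_of_eq hM ⟨_, conjBlock Q g f⟩ ⟨Q, f⟩ hleg h1
      obtain ⟨hgN, hgS⟩ := stabilizes_of_conjPair_eq_self h2
      have hgT : g ∈ stabSub hMp Q f hf := (hT g).mpr ⟨hgN, hgS⟩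
      have hD := isDefectGroup_stabilizer_of_maximal hM hmax (stabSub hMp Q f hf) hT hF hFc
      obtain ⟨d, hd, c, hc, hdc⟩ := exists_mul_of_nilpotent hM hnil hQfB (stabSub hMp Q f hf) hT
        hF hFc hD ⟨g, hgT⟩
      exact ⟨(d : G), Subgroup.mem_subgroupOf.mp hd, c, hc, hdc⟩
    · -- inductive step
      have hQlt : Q < P := lt_of_le_of_ne hQP hQeq
      have hQglt : Q.map (MulAut.conj g).toMonoidHom < P := by
        refine lt_of_le_of_ne hQgP ?_
        intro h
        have h3 := card_lt_of_lt hQlt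
        rw [← h, hcardQg] at h3
        exact lt_irrefl _ h3
      -- the pairs on the normalizers
      obtain ⟨eR, hnsR, hleR⟩ := exists_normalizer_pair hM hPe hQP hle
      obtain ⟨eR', hnsR', hleR'⟩ := exists_normalizer_pair hM hPe hQgP hleg
      have hcardR : Nat.card Q < Nat.card (P ⊓ Subgroup.normalizer (Q : Set G) : Subgroup G) := by
        obtain ⟨x, hxP, hxQ, hxN⟩ := exists_normalizer_of_lt hP hQlt
        apply card_lt_of_lt
        refine lt_of_le_of_ne (le_inf hQP Subgroup.le_normalizer) ?_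
        intro h
        apply hxQ
        rw [h]
        exact ⟨hxP, hxN⟩
      have hcardR' : Nat.card Q < Nat.card (P ⊓ Subgroup.normalizer
          ((Q.map (MulAut.conj g).toMonoidHom : Subgroup G) : Set G) : Subgroup G) := by
        obtain ⟨x, hxP, hxQ, hxN⟩ := exists_normalizer_of_lt hP hQglt
        rw [← hcardQg]
        apply card_lt_of_lt
        refine lt_of_le_of_ne (le_inf hQgP Subgroup.le_normalizer) ?_
        intro h
        apply hxQ
        rw [h]
        exact ⟨hxP, hxN⟩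
      have hcardP : ∀ (S : Subgroup G), S ≤ P → Nat.card S ≤ Nat.card P := fun S hS =>
        Subgroup.card_le_of_le hS
      -- the second pair above `(Q, f)`
      have hns₂ : NormalSubpairRel p M (conjPair g⁻¹ (conjPair g ⟨Q, f⟩))
          (conjPair g⁻¹ ⟨_, eR'⟩) := isNormalSubpair_conj _ _ g⁻¹ hnsR'
      rw [conjPair_inv_conjPair] at hns₂
      have hns₂' : IsNormalSubpair p M Q f
          ((P ⊓ Subgroup.normalizer ((Q.map (MulAut.conj g).toMonoidHom : Subgroup G) : Set G)).map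
            (MulAut.conj g⁻¹).toMonoidHom) (conjBlock _ g⁻¹ eR') := hns₂
      -- both live in the stabilizer
      have hCT : Subgroup.centralizer (Q : Set G) ≤ stabSub hMp Q f hf := fun y hy =>
        (hT y).mpr ⟨Subgroup.centralizer_le_normalizer _ hy,
          stabilizesBlock_of_mem_sup_centralizer Q f (Subgroup.mem_sup_right hy)⟩
      have hRT : ∀ {R : Subgroup G} {eR : Set (IrrCharacter (Subgroup.centralizer (R : Set G)))},
          IsNormalSubpair p M Q f R eR → R ≤ stabSub hMp Q f hf := fun h y hy =>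
        (hT y).mpr ⟨h.2.2.2.1 hy, h.2.2.2.2.1 y hy⟩
      have hRC : ∀ {R : Subgroup G} {eR : Set (IrrCharacter (Subgroup.centralizer (R : Set G)))},
          IsNormalSubpair p M Q f R eR →
          Subgroup.centralizer (R : Set G) ≤ stabSub hMp Q f hf := fun h =>
        le_trans (Subgroup.centralizer_le (SetLike.coe_subset_coe.mpr h.2.2.1)) hCT
      obtain ⟨hc₁, hUp₁⟩ := up_of_le (stabSub hMp Q f hf) _ (hRT hnsR) (hRC hnsR) eR
      obtain ⟨hc₂, hUp₂⟩ := up_of_le (stabSub hMp Q f hf) _ (hRT hns₂') (hRC hns₂')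
        (conjBlock _ g⁻¹ eR')
      have hpair₁ := isBrauerPairOf_down (stabSub hMp Q f hf) hF hFc hnsR _
        (hnsR.2.1.1.comap_subtype) hc₁
      have hpair₂ := isBrauerPairOf_down (stabSub hMp Q f hf) hF hFc hns₂' _
        (hns₂'.2.1.1.comap_subtype) hc₂
      -- a maximal pair of the stabilizer block above the first, and a conjugate of the second
      obtain ⟨D, e₁, hmaxT, hleT⟩ := exists_maximal_above hM _ _ _ rfl hpair₁
      obtain ⟨t, hleT₂⟩ := exists_conj_le_maximal hM hmaxT hpair₂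
      have hDdef := isDefectGroup_of_maximal hM hmaxT
      have hRD : (P ⊓ Subgroup.normalizer (Q : Set G)).subgroupOf (stabSub hMp Q f hf) ≤ D :=
        subpairLE_le ⟨_, _⟩ ⟨D, e₁⟩ hleT
      have hQD : Q ≤ D.map (stabSub hMp Q f hf).subtype := by
        intro q hq
        have hqT : q ∈ stabSub hMp Q f hf := hRT hnsR (hnsR.2.2.1 hq)
        exact ⟨⟨q, hqT⟩, hRD (Subgroup.mem_subgroupOf.mpr (hnsR.2.2.1 hq)), rfl⟩
      have hCD : Subgroup.centralizer ((D.map (stabSub hMp Q f hf).subtype : Subgroup G) : Set G)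
          ≤ stabSub hMp Q f hf :=
        le_trans (Subgroup.centralizer_le (SetLike.coe_subset_coe.mpr hQD)) hCT
      obtain ⟨Y, hY⟩ := up_exists (stabSub hMp Q f hf) ⟨D, e₁⟩ hCD
      have hch₁ := up_chain hleT hUp₁ hY
      have hch₂ := up_chain hleT₂ (up_conj hUp₂ t) hY
      have hY1 : Y.1 = D.map (stabSub hMp Q f hf).subtype := hY.1
      have hnsY := isNormalSubpair_of_up Q hQ hf (stabSub hMp Q f hf) hT hFc hY hmaxT.1
        (hY1 ▸ hQD)
      obtain ⟨Y₁, Y₂⟩ := Y
      dsimp only at hY1 hnsY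
      have hYB : IsBrauerPairOf p M B Y₁ Y₂ :=
        (Cfsg.Agent.S4658.result p M hM _ Q Y₂ f hnsY.2.1 hnsY.1
          (Relation.ReflTransGen.single hnsY) B hB).mpr hQfB
      obtain ⟨a, ha⟩ := exists_conj_le_maximal hM hmax hYB
      -- apply the induction hypothesis twice
      have hle₁ : SubpairLE p M ((P ⊓ Subgroup.normalizer (Q : Set G)).map
          (MulAut.conj a).toMonoidHom) (conjBlock _ a eR) P e :=
        Relation.ReflTransGen.trans (subpairLE_conj a hch₁) ha
      have hlt₁ : Nat.card P - Nat.card (P ⊓ Subgroup.normalizer (Q : Set G) : Subgroup G) < n := by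
        have := hcardP _ (inf_le_left : P ⊓ Subgroup.normalizer (Q : Set G) ≤ P)
        have := hcardP Q hQP
        omega
      obtain ⟨u₁, hu₁, c₁, hc₁', ha₁⟩ := ih _ hlt₁ _ eR a rfl hleR hle₁
      have hch₂' : Relation.ReflTransGen (NormalSubpairRel p M)
          (conjPair a (conjPair (t : G) (conjPair g⁻¹ ⟨_, eR'⟩))) (conjPair a ⟨Y₁, Y₂⟩) :=
        subpairLE_conj a hch₂
      rw [conjPair_mul, conjPair_mul] at hch₂'
      have hle₂ : SubpairLE p M ((P ⊓ Subgroup.normalizer
          ((Q.map (MulAut.conj g).toMonoidHom : Subgroup G) : Set G)).map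
          (MulAut.conj (a * (t : G) * g⁻¹)).toMonoidHom) (conjBlock _ (a * (t : G) * g⁻¹) eR')
          P e := Relation.ReflTransGen.trans hch₂' ha
      have hlt₂ : Nat.card P - Nat.card (P ⊓ Subgroup.normalizer
          ((Q.map (MulAut.conj g).toMonoidHom : Subgroup G) : Set G) : Subgroup G) < n := by
        have := hcardP _ (inf_le_left : P ⊓ Subgroup.normalizer
          ((Q.map (MulAut.conj g).toMonoidHom : Subgroup G) : Set G) ≤ P)
        have := hcardP Q hQP
        omega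
      obtain ⟨u₂, hu₂, c₂, hc₂', ha₂⟩ := ih _ hlt₂ _ eR' (a * (t : G) * g⁻¹) rfl hleR' hle₂
      -- decompose `t`
      obtain ⟨d, hd, c, hc, htdc⟩ := exists_mul_of_nilpotent hM hnil hQfB (stabSub hMp Q f hf) hT
        hF hFc hDdef t
      have hdY : (d : G) ∈ Y₁ := by
        rw [hY1]
        exact ⟨d, hd, rfl⟩
      have hu₃ : a * (d : G) * a⁻¹ ∈ P :=
        subpairLE_le ⟨_, _⟩ ⟨P, e⟩ ha (conj_mem_map Y₁ a hdY)
      have hc₁Q : c₁ ∈ Subgroup.centralizer (Q : Set G) :=
        Subgroup.centralizer_le (SetLike.coe_subset_coe.mpr hnsR.2.2.1) hc₁'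
      have hc₂Q : c₂ ∈ Subgroup.centralizer
          ((Q.map (MulAut.conj g).toMonoidHom : Subgroup G) : Set G) :=
        Subgroup.centralizer_le (SetLike.coe_subset_coe.mpr hnsR'.2.2.1) hc₂'
      have hc₃ : g⁻¹ * c₂ * g ∈ Subgroup.centralizer (Q : Set G) :=
        conj_inv_mem_centralizer_of_map Q g hc₂Q
      refine ⟨u₂⁻¹ * (a * (d : G) * a⁻¹) * u₁,
        P.mul_mem (P.mul_mem (P.inv_mem hu₂) hu₃) hu₁,
        c₁ * c * (g⁻¹ * c₂ * g)⁻¹,
        Subgroup.mul_mem _ (Subgroup.mul_mem _ hc₁Q hc) (Subgroup.inv_mem _ hc₃), ?_⟩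
      have hc₂eq : c₂ = u₂⁻¹ * (a * (t : G) * g⁻¹) := by
        rw [ha₂]
        group
      have hg : g = u₂⁻¹ * (a * (t : G)) * (g⁻¹ * c₂ * g)⁻¹ := by
        rw [hc₂eq]
        group
      have hat : a * (t : G) = (a * (d : G) * a⁻¹) * u₁ * (c₁ * c) := by
        rw [htdc]
        have : a * ((d : G) * c) = (a * (d : G) * a⁻¹) * a * c := by group
        rw [this]
        nth_rewrite 3 [ha₁]
        group
      calc g = u₂⁻¹ * (a * (t : G)) * (g⁻¹ * c₂ * g)⁻¹ := hg
        _ = u₂⁻¹ * ((a * (d : G) * a⁻¹) * u₁ * (c₁ * c)) * (g⁻¹ * c₂ * g)⁻¹ := by rw [hat]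
        _ = u₂⁻¹ * (a * (d : G) * a⁻¹) * u₁ * (c₁ * c * (g⁻¹ * c₂ * g)⁻¹) := by group

end ClaimN

end Cfsg.Agent.Lib.helper80
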