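import Cfsg.Agent.Lib.helper80.AbelFusion

/-!
# Nilpotent blocks

* `stabSub`: the stabilizer of a block of `C_G(Q)` in `N_G(Q)` as a subgroup.
* `mem_of_pow_mem_of_coprime`: Bezout for powers in a subgroup.
* abelian defect groups: a block is nilpotent iff its inertial quotient is trivial.
-/

set_option autoImplicit false

open Cfsg

namespace Cfsg.Agent.Lib.helper80

universe u

section Stab

variable {G : Type u} [Group G] [Fintype G] {p : ℕ} [Fact p.Prime] {M : Ideal AlgInt}

open Cfsg.Agent.Lib.helper20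

/-- The stabilizer of the block `f` of `C_G(Q)` in `N_G(Q)`, as a subgroup. -/
def stabSub (hM : M.IsPrime) (Q : Subgroup G)
    (f : Set (IrrCharacter (Subgroup.centralizer (Q : Set G)))) (hf : IsPBlock M f) :
    Subgroup G where
  carrier := {y | y ∈ Subgroup.normalizer (Q : Set G) ∧
    StabilizesBlock (Subgroup.centralizer (Q : Set G)) f y}
  one_mem' := ⟨Subgroup.one_mem _,
    stabilizesBlock_of_mem_sup_centralizer Q f (Subgroup.one_mem _)⟩
  mul_mem' := by
    rintro a b ⟨ha, hsa⟩ ⟨hb, hsb⟩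
    refine ⟨Subgroup.mul_mem _ ha hb, ?_⟩
    have haC := normalizer_le_normalizer_centralizer Q ha
    have hbC := normalizer_le_normalizer_centralizer Q hb
    rw [stabilizesBlock_iff_eq hM _ _ (Subgroup.mul_mem _ haC hbC) hf,
      conjSet_mul _ a b haC hbC, (stabilizesBlock_iff_eq hM _ b hbC hf).mp hsb,
      (stabilizesBlock_iff_eq hM _ a haC hf).mp hsa]
  inv_mem' := by
    rintro a ⟨ha, hsa⟩
    refine ⟨Subgroup.inv_mem _ ha, ?_⟩
    have haC := normalizer_le_normalizer_centralizer Q ha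
    have hsa' := (stabilizesBlock_iff_eq hM _ a haC hf).mp hsa
    rw [stabilizesBlock_iff_eq hM _ _ (Subgroup.inv_mem _ haC) hf]
    have h1 : conjSet (Subgroup.centralizer (Q : Set G)) a⁻¹ (Subgroup.inv_mem _ haC)
        (conjSet (Subgroup.centralizer (Q : Set G)) a haC f) = f := by
      rw [← conjSet_mul _ a⁻¹ a (Subgroup.inv_mem _ haC) haC (by simp),
        conjSet_congr _ (inv_mul_cancel a) _ (Subgroup.one_mem _), conjSet_one]
    rwa [hsa'] at h1

theorem mem_stabSub (hM : M.IsPrime) (Q : Subgroup G)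
    (f : Set (IrrCharacter (Subgroup.centralizer (Q : Set G)))) (hf : IsPBlock M f) (y : G) :
    y ∈ stabSub hM Q f hf ↔ y ∈ Subgroup.normalizer (Q : Set G) ∧
      StabilizesBlock (Subgroup.centralizer (Q : Set G)) f y := Iff.rfl

omit [Fintype G] in
/-- Bezout: if `x ^ a` and `x ^ b` lie in `H` with `a`, `b` coprime, then `x ∈ H`. -/
theorem mem_of_pow_mem_of_coprime (H : Subgroup G) {x : G} {a b : ℕ} (hab : Nat.Coprime a b)
    (ha : x ^ a ∈ H) (hb : x ^ b ∈ H) : x ∈ H := by
  have h1 := Nat.gcd_eq_gcd_ab a b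
  rw [hab] at h1
  have h2 : x = (x ^ a) ^ (Nat.gcdA a b) * (x ^ b) ^ (Nat.gcdB a b) := by
    rw [← zpow_natCast x a, ← zpow_natCast x b, ← zpow_mul, ← zpow_mul, ← zpow_add, ← h1]
    simp
  rw [h2]
  exact Subgroup.mul_mem _ (Subgroup.zpow_mem _ ha _) (Subgroup.zpow_mem _ hb _)

/-- A `p`-regular power: `x ^ (p ^ a)` is `p`-regular when `orderOf x = p ^ a * r`, `p ∤ r`. -/
theorem exists_pRegular_pow (x : G) :
    ∃ a : ℕ, IsPRegular p (x ^ (p ^ a)) := by
  have hp : p.Prime := Fact.out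
  have hn : orderOf x ≠ 0 := (orderOf_pos x).ne'
  obtain ⟨a, r, hr, hn'⟩ := Nat.exists_eq_pow_mul_and_not_dvd hn p hp.ne_one
  refine ⟨a, ?_⟩
  unfold IsPRegular
  rw [orderOf_pow, hn', Nat.gcd_eq_right (dvd_mul_right _ _),
    Nat.mul_div_cancel_left _ (pow_pos hp.pos a)]
  exact hr

/-- For a maximal pair `(P, e)` with `P` abelian in a nilpotent block, the inertial quotient is
trivial. -/
theorem mem_centralizer_of_nilpotent (hM : IsPModular p M) {B : Set (IrrCharacter G)}
    {P : Subgroup G} {e : Set (IrrCharacter (Subgroup.centralizer (P : Set G)))}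
    (hmax : IsMaximalBrauerPair p M B P e) (hab : ∀ x ∈ P, ∀ y ∈ P, x * y = y * x)
    (hnil : IsNilpotentBlock p M B) {x : G} (hxN : x ∈ Subgroup.normalizer (P : Set G))
    (hxS : StabilizesBlock (Subgroup.centralizer (P : Set G)) e x) :
    x ∈ Subgroup.centralizer (P : Set G) := by
  classical
  have hMp := isPrime_of_isPModular hM
  have hp : p.Prime := Fact.out
  have hPe : IsBrauerPair p M P e := hmax.1.1
  have he : IsPBlock M e := hPe.2
  have hT := mem_stabSub hMp P e he
  have h1 := not_dvd_index_of_maximal hM hmax (stabSub hMp P e he) hT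
  have hPC : P ≤ Subgroup.centralizer (P : Set G) := by
    intro u hu
    rw [Subgroup.mem_centralizer_iff]
    intro q hq
    exact hab q hq u hu
  have h2 : (Subgroup.centralizer (P : Set G)).subgroupOf (stabSub hMp P e he)
      ⊔ P.subgroupOf (stabSub hMp P e he)
      = (Subgroup.centralizer (P : Set G)).subgroupOf (stabSub hMp P e he) :=
    sup_eq_left.mpr (Subgroup.subgroupOf_mono _ hPC)
  rw [h2] at h1
  have hn := normal_centralizer_subgroupOf_stabilizer P (stabSub hMp P e he) hT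
  have hxT : x ∈ stabSub hMp P e he := (hT x).mpr ⟨hxN, hxS⟩
  have h3 := Subgroup.pow_index_mem
    ((Subgroup.centralizer (P : Set G)).subgroupOf (stabSub hMp P e he)) (⟨x, hxT⟩ : stabSub hMp P e he)
  rw [Subgroup.mem_subgroupOf] at h3
  have h3' : x ^ ((Subgroup.centralizer (P : Set G)).subgroupOf (stabSub hMp P e he)).index
      ∈ Subgroup.centralizer (P : Set G) := h3
  obtain ⟨a, ha⟩ := exists_pRegular_pow (p := p) x
  have hxaT : x ^ (p ^ a) ∈ stabSub hMp P e he := Subgroup.pow_mem _ hxT _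
  have h4 : x ^ (p ^ a) ∈ Subgroup.centralizer (P : Set G) :=
    hnil.2 P e hmax.1 _ ((hT _).mp hxaT).1 ((hT _).mp hxaT).2 ha
  have hcop : Nat.Coprime
      ((Subgroup.centralizer (P : Set G)).subgroupOf (stabSub hMp P e he)).index (p ^ a) :=
    (Nat.Coprime.pow_left a ((Nat.Prime.coprime_iff_not_dvd hp).mpr h1)).symm
  exact mem_of_pow_mem_of_coprime _ hcop h3' h4

/-- For a maximal pair `(P, e)` with `P` abelian and trivial inertial quotient, the block is
nilpotent. -/
theorem isNilpotentBlock_of_abelian (hM : IsPModular p M) {B : Set (IrrCharacter G)}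
    {P : Subgroup G} {e : Set (IrrCharacter (Subgroup.centralizer (P : Set G)))}
    (hmax : IsMaximalBrauerPair p M B P e) (hab : ∀ x ∈ P, ∀ y ∈ P, x * y = y * x)
    (h : ∀ x : G, x ∈ Subgroup.normalizer (P : Set G) →
      StabilizesBlock (Subgroup.centralizer (P : Set G)) e x →
      x ∈ Subgroup.centralizer (P : Set G)) : IsNilpotentBlock p M B := by
  classical
  refine ⟨hmax.1.2.1, ?_⟩
  intro Q₀ f₀ hQf x hxN hxS _
  obtain ⟨g, hg⟩ := exists_conj_le_maximal hM hmax hQf
  have hc1 : g⁻¹ * (g * x * g⁻¹) * g = x := by group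
  have hx'N : g * x * g⁻¹ ∈ Subgroup.normalizer
      ((Q₀.map (MulAut.conj g).toMonoidHom : Subgroup G) : Set G) := by
    rw [mem_normalizer_conj_iff Q₀ (Q₀.map (MulAut.conj g).toMonoidHom) g
      (fun c => mem_map_conj), hc1]
    exact hxN
  have hx'S : StabilizesBlock (Subgroup.centralizer
      ((Q₀.map (MulAut.conj g).toMonoidHom : Subgroup G) : Set G)) (conjBlock Q₀ g f₀)
      (g * x * g⁻¹) := by
    rw [stabilizesBlock_conjBlock_iff, hc1]
    exact hxS
  have hQgP : Q₀.map (MulAut.conj g).toMonoidHom ≤ P := subpairLE_le ⟨_, _⟩ ⟨_, _⟩ hg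
  obtain ⟨y, hyN, hyS, c, hc, hxy⟩ := exists_mul_of_abelian hM hmax hab hQgP
    (isPBlock_conjBlock Q₀ g hQf.1.2) hg hx'N hx'S
  have hyC : y ∈ Subgroup.centralizer
      ((Q₀.map (MulAut.conj g).toMonoidHom : Subgroup G) : Set G) :=
    Subgroup.centralizer_le (SetLike.coe_subset_coe.mpr hQgP) (h y hyN hyS)
  have h5 : g * x * g⁻¹ ∈ Subgroup.centralizer
      ((Q₀.map (MulAut.conj g).toMonoidHom : Subgroup G) : Set G) := by
    rw [hxy]
    exact Subgroup.mul_mem _ hyC hc
  rw [mem_centralizer_map_conj_iff, hc1] at h5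
  exact h5

end Stab

end Cfsg.Agent.Lib.helper80
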