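import Cfsg.Agent.Lib.helper80.ConjPair
import Cfsg.Agent.Lib.helper80.Principal

/-!
# Conjugacy of maximal Brauer pairs

Every Brauer pair of `B` is conjugate to a pair below a given maximal Brauer pair of `B`.
-/

set_option autoImplicit false

open Cfsg

namespace Cfsg.Agent.Lib.helper80

universe u

section

variable {G : Type u} [Group G] [Fintype G] {p : ℕ} [Fact p.Prime] {M : Ideal AlgInt}

open Cfsg.Agent.Lib.helper20 in
/-- If `(P, e)` and `(P', e')` are Brauer pairs of `B` and `P`, `P'` are defect groups of `B`, some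
conjugate of `(P', e')` is `(P, e)`: there is `y` with `y P' y⁻¹ = P` and a member of the
conjugate of `e'` agreeing with a member of `e`. -/
theorem exists_conj_eq_of_defect (hM : IsPModular p M) {B : Set (IrrCharacter G)}
    {P P' : Subgroup G} {e : Set (IrrCharacter (Subgroup.centralizer (P : Set G)))}
    {e' : Set (IrrCharacter (Subgroup.centralizer (P' : Set G)))}
    (hpair : IsBrauerPairOf p M B P e) (hpair' : IsBrauerPairOf p M B P' e')
    (hD : IsDefectGroup p M B P) (hD' : IsDefectGroup p M B P') :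
    ∃ y : G, P'.map (MulAut.conj y).toMonoidHom = P ∧
      ∃ ξ₂ ∈ conjBlock P' y e', ∃ ξ ∈ e,
        ∀ (c₂ : Subgroup.centralizer ((P'.map (MulAut.conj y).toMonoidHom : Subgroup G) : Set G))
          (c : Subgroup.centralizer (P : Set G)), (c₂ : G) = c →
          (ξ₂ : Subgroup.centralizer
              ((P'.map (MulAut.conj y).toMonoidHom : Subgroup G) : Set G) → ℂ) c₂
            = (ξ : Subgroup.centralizer (P : Set G) → ℂ) c := by
  classical
  have hMp := isPrime_of_isPModular hM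
  have hB : IsPBlock M B := hpair.2.1
  obtain ⟨x₀, hx₀⟩ := IsDefectGroup.exists_conj_eq hM hB hD' hD
  have hpair₁ := isBrauerPairOf_conj (p := p) (M := M) P' x₀ hpair'
  subst hx₀
  have : Fintype (Subgroup.normalizer
      ((P'.map (MulAut.conj x₀).toMonoidHom : Subgroup G) : Set G)) := Fintype.ofFinite _
  have : Fintype (Subgroup.centralizer
      ((P'.map (MulAut.conj x₀).toMonoidHom : Subgroup G) : Set G)) := Fintype.ofFinite _
  obtain ⟨ξ, hξ⟩ := Cfsg.Agent.Lib.helper80.isPBlock_nonempty hMp hpair.1.2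
  obtain ⟨ξ₁, hξ₁⟩ := Cfsg.Agent.Lib.helper80.isPBlock_nonempty hMp hpair₁.1.2
  obtain ⟨χ, hχ, hbr⟩ := exists_brInd_of_isBrauerPairOf hM _ hpair hξ
  obtain ⟨χ₁, hχ₁, hbr₁⟩ := exists_brInd_of_isBrauerPairOf hM _ hpair₁ hξ₁
  obtain ⟨n, hn, hnN, hξn⟩ := mem_orbSet_of_defect hM _ hB hD hpair₁.1.2 hξ₁ hχ₁ hχ hbr₁ hbr
  refine ⟨n * x₀, ?_, ?_⟩
  · ext y
    rw [mem_map_conj, mem_map_conj]
    have h1 := (Subgroup.mem_normalizer_iff.mp (Subgroup.inv_mem _ hnN)) y
    rw [mem_map_conj, mem_map_conj, inv_inv] at h1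
    have h2 : (n * x₀)⁻¹ * y * (n * x₀) = x₀⁻¹ * (n⁻¹ * y * n) * x₀ := by group
    rw [h2]
    exact h1.symm
  · obtain ⟨ξ₁', hξ₁', rfl⟩ := hξn
    obtain ⟨ξ', hξ', rfl⟩ := exists_irrMap_of_mem_conjBlock P' x₀ e' hξ₁'
    refine ⟨irrMap (centConj P' (n * x₀)) ξ', (mem_conjBlock_iff P' (n * x₀) e' ξ').mpr hξ',
      _, hξ, ?_⟩
    intro c₂ c hcc
    rw [irrMap_apply]
    show _ = (irrMap (centConj P' x₀) ξ' : Subgroup.centralizer
      ((P'.map (MulAut.conj x₀).toMonoidHom : Subgroup G) : Set G) → ℂ)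
        ((conjEquiv _ n hn).symm c)
    rw [irrMap_apply]
    refine congrArg _ (Subtype.ext ?_)
    rw [centConj_symm_apply_coe, centConj_symm_apply_coe, conjEquiv_symm_apply_coe, hcc]
    group

open Cfsg.Agent.Lib.helper20 in
/-- Every Brauer pair of `B` has a conjugate below a given maximal Brauer pair of `B`. -/
theorem exists_conj_le_maximal (hM : IsPModular p M) {B : Set (IrrCharacter G)}
    {P Q : Subgroup G} {e : Set (IrrCharacter (Subgroup.centralizer (P : Set G)))}
    {f : Set (IrrCharacter (Subgroup.centralizer (Q : Set G)))}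
    (hmax : IsMaximalBrauerPair p M B P e) (hQf : IsBrauerPairOf p M B Q f) :
    ∃ x : G, SubpairLE p M (Q.map (MulAut.conj x).toMonoidHom) (conjBlock Q x f) P e := by
  classical
  have hMp := isPrime_of_isPModular hM
  obtain ⟨P', e', hmax', hle⟩ := exists_maximal_above hM _ Q f rfl hQf
  have hD := isDefectGroup_of_maximal hM hmax
  have hD' := isDefectGroup_of_maximal hM hmax'
  obtain ⟨y, hy, hag⟩ := exists_conj_eq_of_defect hM hmax.1 hmax'.1 hD hD'
  exact ⟨y, subpairLE_of_eq_top hMp (subpairLE_conj y hle) hy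
    (isPBlock_conjBlock _ _ hmax'.1.1.2) hmax.1.1.2 hag⟩

end

end Cfsg.Agent.Lib.helper80
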