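import Cfsg.Agent.Lib.helper80.PairFusion

/-!
# The index of `C_G(Q) D` in the stabilizer of a Brauer pair

For a `p`-subgroup `Q`, a block `f` of `C_G(Q)`, the stabilizer `T` of `f` in `N_G(Q)` and the
block `F` of `T` with the idempotent of `f`: if `D` is a defect group of `F`, the index of
`C_G(Q) D` in `T` is prime to `p`.
-/

set_option autoImplicit false

open Cfsg

namespace Cfsg.Agent.Lib.helper80

universe u

section IndexArith

variable {K : Type*} [Group K] [Finite K]

omit [Finite K] in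
theorem card_mul_relIndex_of_le {H L : Subgroup K} (h : H ≤ L) :
    Nat.card H * H.relIndex L = Nat.card L := by
  have h1 := Subgroup.card_mul_index (H.subgroupOf L)
  rw [card_subgroupOf_of_le h] at h1
  exact h1

/-- `|NZ : Z| = |N : N ∩ Z|` for a normal subgroup `N`. -/
theorem relIndex_sup_of_normal (N Z : Subgroup K) [N.Normal] :
    Z.relIndex (N ⊔ Z) = Z.relIndex N := by
  have h1 : Nat.card Z * Z.relIndex (N ⊔ Z) = Nat.card (N ⊔ Z : Subgroup K) :=
    card_mul_relIndex_of_le le_sup_right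
  have h2 : Nat.card N * N.relIndex (N ⊔ Z) = Nat.card (N ⊔ Z : Subgroup K) :=
    card_mul_relIndex_of_le le_sup_left
  rw [Subgroup.relIndex_sup_left] at h2
  have h3 : Nat.card (N ⊓ Z : Subgroup K) * N.relIndex Z = Nat.card Z := by
    rw [← Subgroup.inf_relIndex_right]
    exact card_mul_relIndex_of_le inf_le_right
  have h4 : Nat.card (N ⊓ Z : Subgroup K) * Z.relIndex N = Nat.card N := by
    rw [← Subgroup.inf_relIndex_left]
    exact card_mul_relIndex_of_le inf_le_left
  have h5 : Nat.card Z * Z.relIndex (N ⊔ Z) = Nat.card Z * Z.relIndex N := by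
    calc Nat.card Z * Z.relIndex (N ⊔ Z) = Nat.card N * N.relIndex Z := by rw [h1, h2]
      _ = (Nat.card (N ⊓ Z : Subgroup K) * Z.relIndex N) * N.relIndex Z := by rw [h4]
      _ = (Nat.card (N ⊓ Z : Subgroup K) * N.relIndex Z) * Z.relIndex N := by ring
      _ = Nat.card Z * Z.relIndex N := by rw [h3]
  exact Nat.eq_of_mul_eq_mul_left Nat.card_pos h5

/-- `|K : Z| = |K : NZ| |N : N ∩ Z|`. -/
theorem index_eq_index_sup_mul (N Z : Subgroup K) [N.Normal] :
    Z.index = (N ⊔ Z).index * Z.relIndex N := by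
  rw [← relIndex_sup_of_normal N Z, mul_comm]
  exact (Subgroup.relIndex_mul_index le_sup_right).symm

/-- If `p ∤ |K : NZ|` and `D ≤ Z` has index prime to `p` in `Z`, then `p ∤ |K : ND|`. -/
theorem not_dvd_index_sup_of_le {p : ℕ} [Fact p.Prime] (N Z D : Subgroup K) [N.Normal]
    (hDZ : D ≤ Z) (h1 : ¬ p ∣ (N ⊔ Z).index) (h2 : ¬ p ∣ D.relIndex Z) :
    ¬ p ∣ (N ⊔ D).index := by
  have hle : N ⊔ D ≤ N ⊔ Z := sup_le_sup_left hDZ N
  rw [← Subgroup.relIndex_mul_index hle]
  intro hdvd
  rcases (Nat.Prime.dvd_mul (Fact.out : p.Prime)).mp hdvd with h | h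
  · apply h2
    refine dvd_trans h ?_
    -- `(N ⊔ D).relIndex (N ⊔ Z) ∣ D.relIndex Z`
    have e1 : Nat.card (N ⊔ D : Subgroup K) * (N ⊔ D).relIndex (N ⊔ Z)
        = Nat.card (N ⊔ Z : Subgroup K) := card_mul_relIndex_of_le hle
    have e2 : Nat.card N * N.relIndex Z = Nat.card (N ⊔ Z : Subgroup K) := by
      rw [← Subgroup.relIndex_sup_left]
      exact card_mul_relIndex_of_le le_sup_left
    have e3 : Nat.card N * N.relIndex D = Nat.card (N ⊔ D : Subgroup K) := by
      rw [← Subgroup.relIndex_sup_left]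
      exact card_mul_relIndex_of_le le_sup_left
    have e4 : Nat.card (N ⊓ Z : Subgroup K) * N.relIndex Z = Nat.card Z := by
      rw [← Subgroup.inf_relIndex_right]
      exact card_mul_relIndex_of_le inf_le_right
    have e5 : Nat.card (N ⊓ D : Subgroup K) * N.relIndex D = Nat.card D := by
      rw [← Subgroup.inf_relIndex_right]
      exact card_mul_relIndex_of_le inf_le_right
    have e6 : Nat.card D * D.relIndex Z = Nat.card Z := card_mul_relIndex_of_le hDZ
    have e7 : Nat.card (N ⊓ D : Subgroup K) * (N ⊓ D).relIndex (N ⊓ Z)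
        = Nat.card (N ⊓ Z : Subgroup K) := card_mul_relIndex_of_le (inf_le_inf_left N hDZ)
    set a := (N ⊔ D).relIndex (N ⊔ Z)
    set u := N.relIndex D
    set v := N.relIndex Z
    set r := (N ⊓ D).relIndex (N ⊓ Z)
    set cN := Nat.card N
    set cD := Nat.card (N ⊓ D : Subgroup K)
    have hcN : 0 < cN := Nat.card_pos
    have hcD : 0 < cD := Nat.card_pos
    have hu : 0 < u := by
      rcases Nat.eq_zero_or_pos u with h0 | h0
      · rw [h0, mul_zero] at e5
        exact absurd e5.symm (Nat.card_pos).ne'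
      · exact h0
    have f1 : u * a = v := by
      have : cN * (u * a) = cN * v := by
        calc cN * (u * a) = (cN * u) * a := by ring
          _ = cN * v := by rw [e3, e1, e2]
      exact Nat.eq_of_mul_eq_mul_left hcN this
    have f2 : r * v = u * D.relIndex Z := by
      have : cD * (r * v) = cD * (u * D.relIndex Z) := by
        calc cD * (r * v) = (cD * r) * v := by ring
          _ = (cD * u) * D.relIndex Z := by rw [e7, e4, e5, e6]
          _ = cD * (u * D.relIndex Z) := by ring
      exact Nat.eq_of_mul_eq_mul_left hcD this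
    have f3 : u * (r * a) = u * D.relIndex Z := by
      calc u * (r * a) = r * (u * a) := by ring
        _ = u * D.relIndex Z := by rw [f1, f2]
    exact ⟨r, by rw [← Nat.eq_of_mul_eq_mul_left hu f3]; ring⟩
  · exact h1 h

end IndexArith

section Stab

variable {G : Type u} [Group G] [Fintype G] {p : ℕ} [Fact p.Prime] {M : Ideal AlgInt}

open Cfsg.Agent.Lib.helper20

/-- The index in `C_G(Q)` of the centralizer of `l`, computed in the stabilizer `T`. -/
theorem relIndex_centralizer_subgroupOf (C T : Subgroup G) (hCT : C ≤ T) (l : T)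
    (hlC : (l : G) ∈ C) :
    (Subgroup.centralizer ({l} : Set T)).relIndex (C.subgroupOf T)
      = (Subgroup.centralizer ({(⟨(l : G), hlC⟩ : C)} : Set C)).index := by
  unfold Subgroup.relIndex
  rw [← Subgroup.index_map_equiv _ (Subgroup.subgroupOfEquivOfLe hCT)]
  congr 1
  ext y
  constructor
  · rintro ⟨w, hw, rfl⟩
    rw [SetLike.mem_coe, Subgroup.mem_subgroupOf, Subgroup.mem_centralizer_iff] at hw
    rw [Subgroup.mem_centralizer_iff]
    intro g hg
    rw [Set.mem_singleton_iff] at hg
    subst hg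
    have h1 := hw l (Set.mem_singleton l)
    apply Subtype.ext
    exact congrArg (fun t : T => (t : G)) h1
  · intro hy
    rw [Subgroup.mem_centralizer_iff] at hy
    have h1 := hy _ (Set.mem_singleton _)
    refine ⟨(Subgroup.subgroupOfEquivOfLe hCT).symm y, ?_,
      (Subgroup.subgroupOfEquivOfLe hCT).apply_symm_apply y⟩
    rw [SetLike.mem_coe, Subgroup.mem_subgroupOf, Subgroup.mem_centralizer_iff]
    intro g hg
    rw [Set.mem_singleton_iff] at hg
    subst hg
    apply Subtype.ext
    exact congrArg (fun c : C => (c : G)) h1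

/-- **Key congruence.**  Let `T` be the stabilizer in `N_G(Q)` of the block `f` of `C_G(Q)`, `F` the
block of `T` with the idempotent of `f`, and `l` a defect class representative of `F`.  Then
`p` does not divide `|T : C_G(Q) C_T(l)|`. -/
theorem not_dvd_index_sup_centralizer (hM : IsPModular p M) (Q : Subgroup G) (hQ : IsPGroup p Q)
    {f : Set (IrrCharacter (Subgroup.centralizer (Q : Set G)))} (hf : IsPBlock M f)
    (T : Subgroup G) (hT : ∀ y : G, y ∈ T ↔ y ∈ Subgroup.normalizer (Q : Set G) ∧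
      StabilizesBlock (Subgroup.centralizer (Q : Set G)) f y)
    {F : Set (IrrCharacter T)} (hF : IsPBlock M F)
    (hFc : ∀ t : T, blockCoeff F t
      = subgroupBlockCoeff (Subgroup.centralizer (Q : Set G)) f (t : G))
    {l : T} (hl : IsDefectClass M F l) :
    ¬ p ∣ ((Subgroup.centralizer (Q : Set G)).subgroupOf T
      ⊔ Subgroup.centralizer ({l} : Set T)).index := by
  classical
  have hMp := isPrime_of_isPModular hM
  have : Fintype T := Fintype.ofFinite _
  have : Fintype (Subgroup.centralizer (Q : Set G)) := Fintype.ofFinite _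
  have hQT : Q ≤ T := fun y hy => (hT y).mpr ⟨Subgroup.le_normalizer hy,
    stabilizesBlock_of_mem_sup_centralizer Q f (Subgroup.mem_sup_left hy)⟩
  have hCT : Subgroup.centralizer (Q : Set G) ≤ T := fun y hy =>
    (hT y).mpr ⟨Subgroup.centralizer_le_normalizer _ hy,
      stabilizesBlock_of_mem_sup_centralizer Q f (Subgroup.mem_sup_right hy)⟩
  have hTN : T ≤ Subgroup.normalizer (Q : Set G) := fun y hy => ((hT y).mp hy).1
  have hTNC : ∀ t ∈ T, t ∈ Subgroup.normalizer
      ((Subgroup.centralizer (Q : Set G) : Subgroup G) : Set G) :=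
    fun t ht => normalizer_le_normalizer_centralizer Q (hTN ht)
  have hn : ((Subgroup.centralizer (Q : Set G)).subgroupOf T).Normal :=
    Subgroup.normal_subgroupOf_of_le_normalizer (fun t ht => hTNC t ht)
  have hlC : (l : G) ∈ Subgroup.centralizer (Q : Set G) := by
    by_contra hcon
    apply hl.2.1
    rw [hFc, subgroupBlockCoeff_of_not_mem _ _ hcon]
    exact memLocalIdeal_zero hMp
  obtain ⟨ξ, hξ⟩ := Cfsg.Agent.Lib.helper80.isPBlock_nonempty hMp hf
  obtain ⟨θ, hθl⟩ := exists_linked hM Q T hQ hQT hCT ξ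
  have hθF : θ ∈ F := by
    have h1 := hθl _ (invAlg_of_classAlg hMp Q T hQT (classAlg_blockCoeff hMp hF))
    have h2 : brauerOmega Q (extFun T (blockCoeff F))
        (ξ : Subgroup.centralizer (Q : Set G) → ℂ) = 1 := by
      rw [brauerOmega_eq_om]
      have h3 : om (ξ : Subgroup.centralizer (Q : Set G) → ℂ) (blockCoeff f) = 1 := by
        rw [om_blockCoeff, if_pos hξ]
      rw [← h3]
      apply om_congr
      intro x
      rw [extFun_of_mem T _ (hCT x.2), hFc]
      exact subgroupBlockCoeff_of_mem _ _ x.2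
    rw [h2, om_blockCoeff] at h1
    by_contra hθ
    rw [if_neg hθ, sub_zero] at h1
    exact not_memLocalIdeal_one h1
  have h2 := hθl _ (invAlg_of_classAlg hMp Q T hQT (classAlg_classInd hMp l))
  rw [om_classInd] at h2
  have hθl' : ¬ MemLocalIdeal M (centralChar (θ : T → ℂ) l) := hl.2.2 θ hθF
  set LHS := brauerOmega Q (extFun T (classInd l))
    (ξ : Subgroup.centralizer (Q : Set G) → ℂ) with hLHS
  set l₁ : Subgroup.centralizer (Q : Set G) := ⟨(l : G), hlC⟩ with hl₁
  set ω₁ := centralChar (ξ : Subgroup.centralizer (Q : Set G) → ℂ) l₁ with hω₁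
  set n₁ := (Subgroup.centralizer
    ({l₁} : Set (Subgroup.centralizer (Q : Set G)))).index with hn₁
  set S : Finset (Subgroup.centralizer (Q : Set G)) :=
    Finset.univ.filter (fun x => IsConj l (⟨(x : G), hCT x.2⟩ : T)) with hS
  have hLHS_eq : LHS = ∑ x ∈ S, (ξ : Subgroup.centralizer (Q : Set G) → ℂ) x
      / (ξ : Subgroup.centralizer (Q : Set G) → ℂ) 1 := by
    rw [hLHS, brauerOmega_eq_om]
    unfold om
    rw [Finset.sum_div, hS, Finset.sum_filter]
    refine Finset.sum_congr rfl (fun x _ => ?_)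
    beta_reduce
    rw [extFun_of_mem T _ (hCT x.2)]
    by_cases hx : IsConj l (⟨(x : G), hCT x.2⟩ : T)
    · rw [classInd_of_isConj hx, if_pos hx, one_mul]
    · rw [classInd_of_not_isConj hx, if_neg hx, zero_mul, zero_div]
  have hSconj : ∀ x ∈ S, ∃ (t : G) (ht : t ∈ T), x = conjEquiv _ t (hTNC t ht) l₁ := by
    intro x hx
    rw [hS, Finset.mem_filter] at hx
    obtain ⟨t, ht⟩ := isConj_iff.mp hx.2
    refine ⟨(t : G), t.2, ?_⟩
    apply Subtype.ext
    rw [conjEquiv_apply_coe]
    have h3 := congrArg (fun y : T => (y : G)) ht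
    exact h3.symm
  have hidx : ∀ x ∈ S, (Subgroup.centralizer
      ({x} : Set (Subgroup.centralizer (Q : Set G)))).index = n₁ := by
    intro x hx
    obtain ⟨t, ht, rfl⟩ := hSconj x hx
    exact index_centralizer_map_equiv _ l₁
  have hcc : ∀ x ∈ S, centralChar (ξ : Subgroup.centralizer (Q : Set G) → ℂ) x
      = (n₁ : ℂ) * ((ξ : Subgroup.centralizer (Q : Set G) → ℂ) x
        / (ξ : Subgroup.centralizer (Q : Set G) → ℂ) 1) := by
    intro x hx
    unfold centralChar
    rw [hidx x hx, mul_div_assoc]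
  have hcong : ∀ x ∈ S, MemLocalIdeal M
      (centralChar (ξ : Subgroup.centralizer (Q : Set G) → ℂ) x - ω₁) := by
    intro x hx
    obtain ⟨t, ht, rfl⟩ := hSconj x hx
    have hinv : t⁻¹ ∈ Subgroup.normalizer
        ((Subgroup.centralizer (Q : Set G) : Subgroup G) : Set G) := hTNC t⁻¹ (T.inv_mem ht)
    have h3 := centralChar_conjIrr _ t⁻¹ hinv ξ (conjEquiv _ t (hTNC t ht) l₁) l₁ (by
      rw [conjEquiv_apply_coe]; group)
    rw [← h3]
    have hmem : conjIrr _ t⁻¹ hinv ξ ∈ f := by
      have hst := ((hT t⁻¹).mp (T.inv_mem ht)).2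
      rw [stabilizesBlock_iff_eq hMp _ t⁻¹ hinv hf] at hst
      rw [← hst]
      exact (mem_conjSet _ t⁻¹ hinv f ξ).mpr hξ
    exact sameBlock_of_mem hMp hf hmem hξ l₁
  have hn₁0 : (n₁ : ℂ) ≠ 0 := by
    rw [hn₁]
    exact Nat.cast_ne_zero.mpr Subgroup.index_ne_zero_of_finite
  have hsum : MemLocalIdeal M ((∑ x ∈ S,
      (centralChar (ξ : Subgroup.centralizer (Q : Set G) → ℂ) x - ω₁)) / (n₁ : ℂ)) := by
    refine sum_conj_stable_induction (fun c => MemLocalIdeal M (c / (n₁ : ℂ))) ?_ ?_ S ?_
      (fun x => centralChar (ξ : Subgroup.centralizer (Q : Set G) → ℂ) x - ω₁) ?_ ?_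
    · show MemLocalIdeal M (0 / (n₁ : ℂ))
      rw [zero_div]
      exact memLocalIdeal_zero hMp
    · intro a b ha hb
      show MemLocalIdeal M ((a + b) / (n₁ : ℂ))
      rw [add_div]
      exact memLocalIdeal_add hMp ha hb
    · intro x hx y hxy
      rw [hS, Finset.mem_filter] at hx ⊢
      refine ⟨Finset.mem_univ _, hx.2.trans ?_⟩
      obtain ⟨c, hc⟩ := isConj_iff.mp hxy
      exact isConj_iff.mpr ⟨⟨(c : G), hCT c.2⟩, Subtype.ext (by rw [← hc]; rfl)⟩
    · intro x y hxy
      obtain ⟨c, hc⟩ := isConj_iff.mp hxy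
      show centralChar (ξ : Subgroup.centralizer (Q : Set G) → ℂ) x - ω₁
        = centralChar (ξ : Subgroup.centralizer (Q : Set G) → ℂ) y - ω₁
      rw [← hc, centralChar_conj']
    · intro x hx
      show MemLocalIdeal M (((Subgroup.centralizer
        ({x} : Set (Subgroup.centralizer (Q : Set G)))).index : ℂ)
        * (centralChar (ξ : Subgroup.centralizer (Q : Set G) → ℂ) x - ω₁) / (n₁ : ℂ))
      rw [hidx x hx]
      have h9 : (n₁ : ℂ) * (centralChar (ξ : Subgroup.centralizer (Q : Set G) → ℂ) x - ω₁)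
          / (n₁ : ℂ) = centralChar (ξ : Subgroup.centralizer (Q : Set G) → ℂ) x - ω₁ := by
        field_simp
      rw [h9]
      exact hcong x hx
  have hsum2 : ∑ x ∈ S, (centralChar (ξ : Subgroup.centralizer (Q : Set G) → ℂ) x - ω₁)
      = (n₁ : ℂ) * LHS - (S.card : ℂ) * ω₁ := by
    rw [Finset.sum_sub_distrib, Finset.sum_const, nsmul_eq_mul, hLHS_eq, Finset.mul_sum]
    congr 1
    exact Finset.sum_congr rfl (fun x hx => hcc x hx)
  -- the number of conjugates
  have hcard1 : S.card = (Finset.univ.filter (fun y : T => IsConj l y)).card := by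
    apply Finset.card_bij (fun (x : Subgroup.centralizer (Q : Set G)) _ =>
      (⟨(x : G), hCT x.2⟩ : T))
    · intro x hx
      rw [hS, Finset.mem_filter] at hx
      exact Finset.mem_filter.mpr ⟨Finset.mem_univ _, hx.2⟩
    · intro x _ y _ hxy
      apply Subtype.ext
      exact congrArg (fun t : T => (t : G)) hxy
    · intro y hy
      rw [Finset.mem_filter] at hy
      obtain ⟨t, ht⟩ := isConj_iff.mp hy.2
      have hyC : (y : G) ∈ Subgroup.centralizer (Q : Set G) := by
        have h3 : (y : G) = (t : G) * (l : G) * (t : G)⁻¹ :=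
          (congrArg (fun y : T => (y : G)) ht).symm
        rw [h3]
        exact conj_mem_of_mem_normalizer (hTNC t t.2) hlC
      refine ⟨⟨(y : G), hyC⟩, ?_, rfl⟩
      rw [hS, Finset.mem_filter]
      exact ⟨Finset.mem_univ _, hy.2⟩
  have hcard : S.card = ((Subgroup.centralizer (Q : Set G)).subgroupOf T
      ⊔ Subgroup.centralizer ({l} : Set T)).index * n₁ := by
    have hc2 : (Finset.univ.filter (fun y : T => IsConj l y)).card
        = (Subgroup.centralizer ({l} : Set T)).index := by
      convert card_conj_class l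
    rw [hcard1, hc2, index_eq_index_sup_mul
      ((Subgroup.centralizer (Q : Set G)).subgroupOf T) (Subgroup.centralizer ({l} : Set T)),
      relIndex_centralizer_subgroupOf _ T hCT l hlC]
  set m := ((Subgroup.centralizer (Q : Set G)).subgroupOf T
      ⊔ Subgroup.centralizer ({l} : Set T)).index with hm
  rw [hsum2, hcard] at hsum
  have hsum3 : MemLocalIdeal M (LHS - (m : ℂ) * ω₁) := by
    have h3 : ((n₁ : ℂ) * LHS - ((m * n₁ : ℕ) : ℂ) * ω₁) / (n₁ : ℂ) = LHS - (m : ℂ) * ω₁ := by
      push_cast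
      field_simp
    rwa [h3] at hsum
  intro hdvd
  apply hθl'
  have h5 : MemLocalIdeal M ((m : ℂ) * ω₁) :=
    memLocalIdeal_mul_right hMp (memLocalIdeal_natCast hM hdvd)
      (Cfsg.Agent.Lib.helper80.memLocalRing_centralChar hMp ξ l₁)
  have h6 : MemLocalIdeal M LHS := by
    have h7 := memLocalIdeal_add hMp hsum3 h5
    rwa [sub_add_cancel] at h7
  have h8 := memLocalIdeal_sub hMp h6 h2
  rwa [sub_sub_cancel] at h8

/-- The stabilizer of `f` normalizes `C_G(Q)`. -/
theorem normal_centralizer_subgroupOf_stabilizer (Q : Subgroup G)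
    {f : Set (IrrCharacter (Subgroup.centralizer (Q : Set G)))} (T : Subgroup G)
    (hT : ∀ y : G, y ∈ T ↔ y ∈ Subgroup.normalizer (Q : Set G) ∧
      StabilizesBlock (Subgroup.centralizer (Q : Set G)) f y) :
    ((Subgroup.centralizer (Q : Set G)).subgroupOf T).Normal :=
  Subgroup.normal_subgroupOf_of_le_normalizer
    (fun t ht => normalizer_le_normalizer_centralizer Q ((hT t).mp ht).1)

/-- **The index of `C_G(Q) D` in the stabilizer is prime to `p`**, for `D` a defect group of the
block of the stabilizer with the idempotent of `f`. -/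
theorem not_dvd_index_sup_defectGroup (hM : IsPModular p M) (Q : Subgroup G) (hQ : IsPGroup p Q)
    {f : Set (IrrCharacter (Subgroup.centralizer (Q : Set G)))} (hf : IsPBlock M f)
    (T : Subgroup G) (hT : ∀ y : G, y ∈ T ↔ y ∈ Subgroup.normalizer (Q : Set G) ∧
      StabilizesBlock (Subgroup.centralizer (Q : Set G)) f y)
    {F : Set (IrrCharacter T)} (hF : IsPBlock M F)
    (hFc : ∀ t : T, blockCoeff F t
      = subgroupBlockCoeff (Subgroup.centralizer (Q : Set G)) f (t : G))
    {D : Subgroup T} (hD : IsDefectGroup p M F D) :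
    ¬ p ∣ ((Subgroup.centralizer (Q : Set G)).subgroupOf T ⊔ D).index := by
  classical
  have : Fintype T := Fintype.ofFinite _
  have hn := normal_centralizer_subgroupOf_stabilizer Q T hT
  obtain ⟨l, hl, hsl⟩ := hD
  have h1 := not_dvd_index_sup_centralizer hM Q hQ hf T hT hF hFc hl
  have hDZ : D ≤ Subgroup.centralizer ({l} : Set T) := IsSylowCent.le hsl
  refine not_dvd_index_sup_of_le _ _ D hDZ h1 ?_
  obtain ⟨P, rfl⟩ := hsl
  have h2 : ((P : Subgroup (Subgroup.centralizer ({l} : Set T))).map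
      (Subgroup.centralizer ({l} : Set T)).subtype).subgroupOf (Subgroup.centralizer ({l} : Set T))
      = (P : Subgroup (Subgroup.centralizer ({l} : Set T))) :=
    Subgroup.comap_map_eq_self_of_injective (Subgroup.subtype_injective _) _
  unfold Subgroup.relIndex
  rw [h2]
  exact P.not_dvd_index

/-- For a maximal Brauer pair `(P, e)` of `B` and the stabilizer `T` of `e` in `N_G(P)`: `P` is a
defect group of the block of `T` with the idempotent of `e`. -/
theorem isDefectGroup_stabilizer_of_maximal (hM : IsPModular p M) {B : Set (IrrCharacter G)}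
    {P : Subgroup G} {e : Set (IrrCharacter (Subgroup.centralizer (P : Set G)))}
    (hmax : IsMaximalBrauerPair p M B P e) (T : Subgroup G)
    (hT : ∀ y : G, y ∈ T ↔ y ∈ Subgroup.normalizer (P : Set G) ∧
      StabilizesBlock (Subgroup.centralizer (P : Set G)) e y)
    {F : Set (IrrCharacter T)} (hF : IsPBlock M F)
    (hFc : ∀ t : T, blockCoeff F t
      = subgroupBlockCoeff (Subgroup.centralizer (P : Set G)) e (t : G)) :
    IsDefectGroup p M F (P.subgroupOf T) := by
  classical
  have hMp := isPrime_of_isPModular hM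
  have : Fintype T := Fintype.ofFinite _
  have hPe : IsBrauerPair p M P e := hmax.1.1
  have hB : IsPBlock M B := hmax.1.2.1
  have hP : IsPGroup p P := hPe.1
  have he : IsPBlock M e := hPe.2
  have hTN : T ≤ Subgroup.normalizer (P : Set G) := fun y hy => ((hT y).mp hy).1
  have hPT : P ≤ T := fun y hy => (hT y).mpr ⟨Subgroup.le_normalizer hy,
    stabilizesBlock_of_mem_sup_centralizer P e (Subgroup.mem_sup_left hy)⟩
  obtain ⟨D₀, hD₀⟩ := exists_isDefectGroup p hMp hF
  have hnorm : (P.subgroupOf T).Normal := Subgroup.normal_subgroupOf_of_le_normalizer hTN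
  have hPD₀ : P.subgroupOf T ≤ D₀ := normal_le_defectGroup hM (P.subgroupOf T)
    hP.comap_subtype hF hD₀
  have hR₀p : IsPGroup p (D₀.map T.subtype) := (IsDefectGroup.isPGroup hD₀).map _
  have hR₀T : D₀.map T.subtype ≤ T := Subgroup.map_subtype_le _
  have hPR₀ : P ≤ D₀.map T.subtype := fun u hu =>
    ⟨⟨u, hPT hu⟩, hPD₀ (Subgroup.mem_subgroupOf.mpr hu), rfl⟩
  have hR₀N : D₀.map T.subtype ≤ Subgroup.normalizer (P : Set G) := hR₀T.trans hTN
  have hstab : ∀ x ∈ D₀.map T.subtype,
      StabilizesBlock (Subgroup.centralizer (P : Set G)) e x := fun x hx =>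
    ((hT x).mp (hR₀T hx)).2
  have hD₀' := hD₀
  obtain ⟨l, hl, hsl⟩ := hD₀'
  have hlR : (l : G) ∈ Subgroup.centralizer ((D₀.map T.subtype : Subgroup G) : Set G) := by
    rw [Subgroup.mem_centralizer_iff]
    rintro _ ⟨d, hd, rfl⟩
    have := IsSylowCent.le hsl hd
    rw [mem_centralizer_singleton] at this
    exact (congrArg Subtype.val this).symm
  have hey₀ : ¬ MemLocalIdeal M (subgroupBlockCoeff (Subgroup.centralizer (P : Set G)) e
      (l : G)) := by
    rw [← hFc]
    exact hl.2.1
  obtain ⟨g₀, hns₀⟩ := exists_normalSubpair_up hM P _ hR₀p hPR₀ hR₀N he hstab hlR hey₀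
  have hle₀ : SubpairLE p M P e _ g₀ := Relation.ReflTransGen.single hns₀
  have hR₀B : IsBrauerPairOf p M B _ g₀ :=
    (Cfsg.Agent.S4658.result p M hM _ P g₀ e hns₀.2.1 hns₀.1 hle₀ B hB).mpr hmax.1
  have hR₀P : D₀.map T.subtype = P := hmax.2 _ g₀ hR₀B hle₀
  have hD₀eq : D₀ = P.subgroupOf T := by
    rw [← hR₀P]
    exact (Subgroup.comap_map_eq_self_of_injective (Subgroup.subtype_injective T) D₀).symm
  rw [← hD₀eq]
  exact hD₀

/-- For a maximal Brauer pair `(P, e)`, the index of `P C_G(P)` in the stabilizer of `e` in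
`N_G(P)` is prime to `p`. -/
theorem not_dvd_index_of_maximal (hM : IsPModular p M) {B : Set (IrrCharacter G)}
    {P : Subgroup G} {e : Set (IrrCharacter (Subgroup.centralizer (P : Set G)))}
    (hmax : IsMaximalBrauerPair p M B P e) (T : Subgroup G)
    (hT : ∀ y : G, y ∈ T ↔ y ∈ Subgroup.normalizer (P : Set G) ∧
      StabilizesBlock (Subgroup.centralizer (P : Set G)) e y) :
    ¬ p ∣ ((Subgroup.centralizer (P : Set G)).subgroupOf T ⊔ P.subgroupOf T).index := by
  have hPe : IsBrauerPair p M P e := hmax.1.1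
  obtain ⟨F, hF, hFc⟩ := exists_block_of_stabilizer hM P hPe.1 hPe.2 T hT
  exact not_dvd_index_sup_defectGroup hM P hPe.1 hPe.2 T hT hF hFc
    (isDefectGroup_stabilizer_of_maximal hM hmax T hT hF hFc)

end Stab

end Cfsg.Agent.Lib.helper80
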