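import Cfsg.Agent.Lib.helper80.Cover
import Cfsg.Agent.Lib.helper80.SubpairChain
import Cfsg.Agent.S4658

/-!
# Maximal Brauer pairs and defect groups

* `exists_normalSubpair_up`: going up from a Brauer pair `(P, e)` to a pair on a `p`-subgroup
  `R` normalizing `P` and stabilizing `e`, when the idempotent of `e` does not vanish modulo the
  local ideal on `C_G(R)`.
* `mem_orbSet_of_defect`: if `P` is a defect group of `B`, any two Brauer pairs `(P, e)`, `(P, e')`
  of `B` are conjugate under `N_G(P)`.
* `isDefectGroup_of_maximal`: if `(P, e)` is a maximal Brauer pair of `B`, then `P` is a defect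
  group of `B`.
-/

set_option autoImplicit false

open Cfsg

namespace Cfsg.Agent.Lib.helper80

universe u

section

variable {G : Type u} [Group G] [Fintype G] {p : ℕ} [Fact p.Prime] {M : Ideal AlgInt}

omit [Fintype G] [Fact p.Prime] in
theorem memLocalIdeal_or_sub_one_of_idem (hM : M.IsPrime) {t : ℂ} (ht : MemLocalRing M t)
    (h : MemLocalIdeal M (t * t - t)) : MemLocalIdeal M t ∨ MemLocalIdeal M (t - 1) := by
  by_contra hcon
  push Not at hcon
  have h1 := Cfsg.Agent.Lib.helper20.not_memLocalIdeal_mul hM ht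
    (Cfsg.Agent.Lib.helper20.memLocalRing_sub hM ht (Cfsg.Agent.Lib.helper20.memLocalRing_one hM))
    hcon.1 hcon.2
  apply h1
  have : t * (t - 1) = t * t - t := by ring
  rw [this]
  exact h

open Cfsg.Agent.Lib.helper81 in
/-- If an idempotent `β`, invariant under `R` and `C_G(R)`, with local-integer values does not
vanish modulo the local ideal at some point of `C_G(R)`, then some irreducible character of
`C_G(R)` has Brauer functional value `1` modulo the local ideal at `β`. -/
theorem exists_brauerOmega_sub_one (hM : IsPModular p M) (R : Subgroup G) (hR : IsPGroup p R)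
    (β : G → ℂ) (hβR : ∀ u ∈ R, ∀ x : G, β (u * x * u⁻¹) = β x)
    (hβC : ∀ u ∈ Subgroup.centralizer (R : Set G), ∀ x : G, β (u * x * u⁻¹) = β x)
    (hβloc : ∀ x, MemLocalRing M (β x)) (hβid : ∀ x, conv β β x = β x)
    {y : G} (hy : y ∈ Subgroup.centralizer (R : Set G)) (hβy : ¬ MemLocalIdeal M (β y)) :
    ∃ ξ₂ : IrrCharacter (Subgroup.centralizer (R : Set G)),
      MemLocalIdeal M (brauerOmega R β (ξ₂ : Subgroup.centralizer (R : Set G) → ℂ) - 1) := by
  classical
  have hMp := Cfsg.Agent.Lib.helper20.isPrime_of_isPModular hM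
  have : Fintype (Subgroup.centralizer (R : Set G)) := Fintype.ofFinite _
  set α : Subgroup.centralizer (R : Set G) → ℂ := fun x => β x with hα
  have hαc : classAlg M α := ⟨fun g h => hβC h h.2 g, fun g => hβloc g⟩
  have hidem : ∀ c, MemLocalIdeal M (conv α α c - α c) := by
    intro c
    have h1 := brauer_conv hM R hR β β hβR hβR hβloc hβloc c
    rw [hβid] at h1
    have := Cfsg.Agent.Lib.helper20.memLocalIdeal_neg h1
    rwa [neg_sub] at this
  by_contra hcon
  push Not at hcon
  have hom : ∀ ξ : IrrCharacter (Subgroup.centralizer (R : Set G)),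
      MemLocalIdeal M (om (ξ : Subgroup.centralizer (R : Set G) → ℂ) α) := by
    intro ξ
    have ht : MemLocalRing M (om (ξ : Subgroup.centralizer (R : Set G) → ℂ) α) :=
      memLocalRing_om hMp ξ α hαc.1 hαc.2
    have h2 : MemLocalIdeal M (om (ξ : Subgroup.centralizer (R : Set G) → ℂ) α
        * om (ξ : Subgroup.centralizer (R : Set G) → ℂ) α
        - om (ξ : Subgroup.centralizer (R : Set G) → ℂ) α) := by
      rw [← om_conv ξ hαc.1 hαc.1, ← om_sub]
      apply memLocalIdeal_om hMp ξ
      · intro g h
        show conv α α (h * g * h⁻¹) - α (h * g * h⁻¹) = conv α α g - α g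
        rw [conv_classFun hαc.1 hαc.1 g h, hαc.1 g h]
      · exact hidem
    rcases memLocalIdeal_or_sub_one_of_idem hMp ht h2 with h | h
    · exact h
    · exfalso
      apply hcon ξ
      rw [brauerOmega_eq_om]
      exact h
  exact hβy (memLocalIdeal_of_idem_of_om hMp (isLocalSubalgebra_classAlg hMp) hαc hidem hom
    ⟨y, hy⟩)

open Cfsg.Agent.Lib.helper81 in
/-- Going up: if `P ≤ R ≤ N_G(P)`, `R` a `p`-group stabilizing the block `e` of `C_G(P)`, and the
idempotent of `e` does not vanish modulo the local ideal at some point of `C_G(R)`, then `(P, e)`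
is normal in a Brauer pair on `R`. -/
theorem exists_normalSubpair_up (hM : IsPModular p M) (P R : Subgroup G) (hR : IsPGroup p R)
    (hPR : P ≤ R) (hRN : R ≤ Subgroup.normalizer (P : Set G))
    {e : Set (IrrCharacter (Subgroup.centralizer (P : Set G)))} (he : IsPBlock M e)
    (hstab : ∀ x ∈ R, StabilizesBlock (Subgroup.centralizer (P : Set G)) e x)
    {y : G} (hy : y ∈ Subgroup.centralizer (R : Set G))
    (hey : ¬ MemLocalIdeal M (subgroupBlockCoeff (Subgroup.centralizer (P : Set G)) e y)) :
    ∃ g : Set (IrrCharacter (Subgroup.centralizer (R : Set G))),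
      IsNormalSubpair p M P e R g := by
  classical
  have hMp := Cfsg.Agent.Lib.helper20.isPrime_of_isPModular hM
  have : Fintype (Subgroup.centralizer (P : Set G)) := Fintype.ofFinite _
  have hP : IsPGroup p P := hR.to_le hPR
  have hCC : Subgroup.centralizer (R : Set G) ≤ Subgroup.centralizer (P : Set G) :=
    Subgroup.centralizer_le (SetLike.coe_subset_coe.mpr hPR)
  have hRC : R ≤ Subgroup.normalizer
      ((Subgroup.centralizer (P : Set G) : Subgroup G) : Set G) :=
    fun x hx => normalizer_le_normalizer_centralizer P (hRN hx)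
  set β := subgroupBlockCoeff (Subgroup.centralizer (P : Set G)) e with hβ
  have hβR : ∀ u ∈ R, ∀ x : G, β (u * x * u⁻¹) = β x := by
    intro u hu x
    exact subgroupBlockCoeff_conj_of_eq _ u (hRC hu) e
      ((stabilizesBlock_iff_eq hMp _ u (hRC hu) he).mp (hstab u hu)) x
  have hβC : ∀ u ∈ Subgroup.centralizer (R : Set G), ∀ x : G, β (u * x * u⁻¹) = β x :=
    fun u hu x => subgroupBlockCoeff_conj_mem _ e u (hCC hu) x
  have hβloc : ∀ x, MemLocalRing M (β x) := fun x =>
    extFun_memLocalRing hMp _ _ (fun k => memLocalRing_blockCoeff' hMp he k) x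
  have hβid : ∀ x, conv β β x = β x := by
    intro x
    show conv (extFun _ (blockCoeff e)) (extFun _ (blockCoeff e)) x = extFun _ (blockCoeff e) x
    rw [extFun_conv]
    congr 1
    funext k
    rw [conv_blockCoeff, Set.inter_self]
  obtain ⟨ξ₂, hξ₂⟩ := exists_brauerOmega_sub_one hM R hR β hβR hβC hβloc hβid hy hey
  refine ⟨blockOf M (ξ₂ : Subgroup.centralizer (R : Set G) → ℂ), ⟨hP, he⟩,
    ⟨hR, isPBlock_blockOf M ξ₂⟩, hPR, hRN, hstab, ?_⟩
  intro ξ hξ
  have h1 := memLocalIdeal_brauerOmega_sub hMp R β hβC hβloc ξ₂ ξ hξ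
  have := Cfsg.Agent.Lib.helper20.memLocalIdeal_sub hMp hξ₂ h1
  rwa [sub_sub_sub_cancel_left] at this

/-- If `P` is a defect group of `B`, the blocks `e` of `C_G(P)` with `(P, e)` a Brauer pair of `B`
form a single orbit under `N_G(P)`. -/
theorem mem_orbSet_of_defect (hM : IsPModular p M) (P : Subgroup G)
    [Fintype (Subgroup.normalizer (P : Set G))] [Fintype (Subgroup.centralizer (P : Set G))]
    {B : Set (IrrCharacter G)} (hB : IsPBlock M B) (hD : IsDefectGroup p M B P)
    {e : Set (IrrCharacter (Subgroup.centralizer (P : Set G)))} (he : IsPBlock M e)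
    {ξ ξ' : IrrCharacter (Subgroup.centralizer (P : Set G))} (hξ : ξ ∈ e)
    {χ χ' : IrrCharacter G} (hχ : χ ∈ B) (hχ' : χ' ∈ B)
    (hbr : BrInd M P (Subgroup.centralizer (P : Set G))
      (ξ : Subgroup.centralizer (P : Set G) → ℂ) (χ : G → ℂ))
    (hbr' : BrInd M P (Subgroup.centralizer (P : Set G))
      (ξ' : Subgroup.centralizer (P : Set G) → ℂ) (χ' : G → ℂ)) :
    ξ' ∈ orbSet (Subgroup.centralizer (P : Set G)) (Subgroup.normalizer (P : Set G)) e := by
  have hMp := Cfsg.Agent.Lib.helper20.isPrime_of_isPModular hM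
  have hP := IsDefectGroup.isPGroup hD
  have hPN : P ≤ Subgroup.normalizer (P : Set G) := Subgroup.le_normalizer
  have hCN : Subgroup.centralizer (P : Set G) ≤ Subgroup.normalizer (P : Set G) :=
    Subgroup.centralizer_le_normalizer _
  obtain ⟨θ, hθ⟩ := exists_linked hM P _ hP hPN hCN ξ
  obtain ⟨θ', hθ'⟩ := exists_linked hM P _ hP hPN hCN ξ'
  obtain ⟨c, hc, hcov⟩ := exists_cover hM P _ hP hPN hCN le_rfl he
  have hθc := mem_cover_of_linked hMp P _ hPN hc hcov (subset_orbSet _ _ e hξ) hθ
  have h1 := brInd_of_linked hMp P _ hPN hCN le_rfl hθ hbr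
  have h2 := BrInd.congr_right hMp (brInd_of_linked hMp P _ hPN hCN le_rfl hθ' hbr')
    (sameBlock_of_mem hMp hB hχ' hχ)
  have hDc := BrInd.isDefectGroup_sub hM P _ hP hPN le_rfl hD hχ h1 hc hθc
  have hθ'c := BrInd.mem_of_defect hM P _ hP le_rfl le_rfl hc hDc hθc h1 h2
  exact mem_orbSet_of_linked hMp P _ hPN hc hcov hθ'c hθ'

open Cfsg.Agent.Lib.helper81 Cfsg.Agent.Lib.helper20 in
/-- If `(P, e)` is a maximal Brauer pair of `B`, then `P` is a defect group of `B`. -/
theorem isDefectGroup_of_maximal (hM : IsPModular p M) {B : Set (IrrCharacter G)}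
    {P : Subgroup G} {e : Set (IrrCharacter (Subgroup.centralizer (P : Set G)))}
    (hmax : IsMaximalBrauerPair p M B P e) : IsDefectGroup p M B P := by
  classical
  have hMp := isPrime_of_isPModular hM
  have : Fintype (Subgroup.normalizer (P : Set G)) := Fintype.ofFinite _
  have : Fintype (Subgroup.centralizer (P : Set G)) := Fintype.ofFinite _
  obtain ⟨hpair, hmx⟩ := hmax
  have hP : IsPGroup p P := hpair.1.1
  have he : IsPBlock M e := hpair.1.2
  have hB : IsPBlock M B := hpair.2.1
  have hPN : P ≤ Subgroup.normalizer (P : Set G) := Subgroup.le_normalizer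
  have hCN : Subgroup.centralizer (P : Set G) ≤ Subgroup.normalizer (P : Set G) :=
    Subgroup.centralizer_le_normalizer _
  have hNC : Subgroup.normalizer (P : Set G) ≤ Subgroup.normalizer
      ((Subgroup.centralizer (P : Set G) : Subgroup G) : Set G) :=
    fun h hh => normalizer_le_normalizer_centralizer P hh
  obtain ⟨ξ, hξ⟩ := isPBlock_nonempty hMp he
  obtain ⟨χ, hχ, hbr⟩ := exists_brInd_of_isBrauerPairOf hM P hpair hξ
  obtain ⟨θ, hθ⟩ := exists_linked hM P (Subgroup.normalizer (P : Set G)) hP hPN hCN ξ
  obtain ⟨c, hc, hcov⟩ := exists_cover hM P (Subgroup.normalizer (P : Set G)) hP hPN hCN le_rfl he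
  have hθc := mem_cover_of_linked hMp P _ hPN hc hcov (subset_orbSet _ _ e hξ) hθ
  have h1 := brInd_of_linked hMp P _ hPN hCN le_rfl hθ hbr
  have hDc : IsDefectGroup p M c (P.subgroupOf (Subgroup.normalizer (P : Set G))) := by
    obtain ⟨Dc, hDc⟩ := exists_isDefectGroup p hMp hc
    have hnorm : (P.subgroupOf (Subgroup.normalizer (P : Set G))).Normal :=
      Subgroup.normal_subgroupOf_of_le_normalizer le_rfl
    have hle : P.subgroupOf (Subgroup.normalizer (P : Set G)) ≤ Dc :=
      normal_le_defectGroup hM (P.subgroupOf (Subgroup.normalizer (P : Set G)))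
        hP.comap_subtype hc hDc
    by_cases heq : Dc = P.subgroupOf (Subgroup.normalizer (P : Set G))
    · rw [← heq]
      exact hDc
    · exfalso
      set R : Subgroup G := Dc.map (Subgroup.normalizer (P : Set G)).subtype with hRdef
      have hR : IsPGroup p R := (IsDefectGroup.isPGroup hDc).map _
      have hPR : P ≤ R := by
        intro u hu
        exact ⟨⟨u, hPN hu⟩, hle (Subgroup.mem_subgroupOf.mpr hu), rfl⟩
      have hRN : R ≤ Subgroup.normalizer (P : Set G) := by
        rintro _ ⟨d, -, rfl⟩
        exact d.2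
      have hRne : R ≠ P := by
        intro hRP
        apply heq
        apply le_antisymm _ hle
        intro d hd
        rw [Subgroup.mem_subgroupOf]
        have hdR : (d : G) ∈ R := ⟨d, hd, rfl⟩
        rw [hRP] at hdR
        exact hdR
      have hCR : Subgroup.centralizer (R : Set G) ≤ Subgroup.centralizer (P : Set G) :=
        Subgroup.centralizer_le (SetLike.coe_subset_coe.mpr hPR)
      obtain ⟨l, hl, hsl⟩ := hDc
      have hlR : (l : G) ∈ Subgroup.centralizer (R : Set G) := by
        rw [Subgroup.mem_centralizer_iff]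
        rintro _ ⟨d, hd, rfl⟩
        have := IsSylowCent.le hsl hd
        rw [mem_centralizer_singleton] at this
        exact (congrArg Subtype.val this).symm
      have hinv := invAlg_blockCoeff_orbSet hMp (Subgroup.centralizer (P : Set G))
        (Subgroup.normalizer (P : Set G)) hNC he
      set β : G → ℂ := extFun (Subgroup.centralizer (P : Set G))
        (blockCoeff (orbSet (Subgroup.centralizer (P : Set G))
          (Subgroup.normalizer (P : Set G)) e)) with hβ
      have hβy : ¬ MemLocalIdeal M (β (l : G)) := by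
        have h2 := hcov (l : G)
        rw [extFun_coe] at h2
        rw [hβ, ← h2]
        exact hl.2.1
      have hβR : ∀ u ∈ R, ∀ x : G, β (u * x * u⁻¹) = β x := fun u hu x =>
        extFun_conj _ _ u (hNC (hRN hu)) (hinv.2.2 u (hRN hu)) x
      have hβC : ∀ u ∈ Subgroup.centralizer (R : Set G), ∀ x : G, β (u * x * u⁻¹) = β x :=
        fun u hu x => extFun_conj_mem _ _ hinv.1 u (hCR hu) x
      have hβloc : ∀ x, MemLocalRing M (β x) := fun x =>
        extFun_memLocalRing hMp _ _ hinv.2.1 x
      have hβid : ∀ x, conv β β x = β x := by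
        intro x
        rw [hβ, extFun_conv]
        congr 1
        funext k
        rw [conv_blockCoeff, Set.inter_self]
      obtain ⟨ξ₂, hξ₂⟩ := exists_brauerOmega_sub_one hM R hR β hβR hβC hβloc hβid hlR hβy
      obtain ⟨χ₃, hns, -, hcong⟩ := exists_irr_normalSubpair hM R P
        (blockOf M (ξ₂ : Subgroup.centralizer (R : Set G) → ℂ)) ⟨hR, isPBlock_blockOf M ξ₂⟩
        hPR hRN
      have hz : invAlg M (Subgroup.centralizer (P : Set G)) R
          (blockCoeff (orbSet (Subgroup.centralizer (P : Set G))
            (Subgroup.normalizer (P : Set G)) e)) :=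
        ⟨hinv.1, hinv.2.1, fun x hx => hinv.2.2 x (hRN hx)⟩
      have h3 := hcong ξ₂ (mem_blockOf_self hMp ξ₂) _ hz
      rw [om_blockCoeff] at h3
      have hχ₃ : χ₃ ∈ orbSet (Subgroup.centralizer (P : Set G))
          (Subgroup.normalizer (P : Set G)) e := by
        by_contra hcon
        rw [if_neg hcon, sub_zero] at h3
        have := memLocalIdeal_sub hMp h3 hξ₂
        rw [sub_sub_cancel] at this
        exact not_memLocalIdeal_one this
      obtain ⟨n, hn, hnN, hχ₃n⟩ := hχ₃
      have hblk : conjSet (Subgroup.centralizer (P : Set G)) n hn e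
          = blockOf M (χ₃ : Subgroup.centralizer (P : Set G) → ℂ) :=
        eq_blockOf_of_mem hMp (isPBlock_conjSet _ n hn he) hχ₃n
      rw [← hblk] at hns
      obtain ⟨-, -, -, -, hstabR, homega⟩ := hns
      have hex : ∃ y₂ ∈ Subgroup.centralizer (R : Set G), ¬ MemLocalIdeal M
          (subgroupBlockCoeff (Subgroup.centralizer (P : Set G))
            (conjSet (Subgroup.centralizer (P : Set G)) n hn e) y₂) := by
        by_contra hcon
        push Not at hcon
        have h4 := memLocalIdeal_brauerOmega hMp R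
          (subgroupBlockCoeff (Subgroup.centralizer (P : Set G))
            (conjSet (Subgroup.centralizer (P : Set G)) n hn e))
          (fun u hu x => subgroupBlockCoeff_conj_mem _ _ u (hCR hu) x) hcon ξ₂
        have h5 := homega ξ₂ (mem_blockOf_self hMp ξ₂)
        have := memLocalIdeal_sub hMp h4 h5
        rw [sub_sub_cancel] at this
        exact not_memLocalIdeal_one this
      obtain ⟨y₂, hy₂, hey₂⟩ := hex
      set R' : Subgroup G := R.map (MulAut.conj n⁻¹).toMonoidHom with hR'
      have hmemR' : ∀ x, x ∈ R' ↔ n * x * n⁻¹ ∈ R := by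
        intro x
        rw [hR', mem_map_conj, inv_inv]
      have hR'p : IsPGroup p R' := hR.map _
      have hPR' : P ≤ R' := by
        intro u hu
        rw [hmemR']
        exact hPR (conj_mem_of_mem_normalizer hnN hu)
      have hR'N : R' ≤ Subgroup.normalizer (P : Set G) := by
        intro x hx
        rw [hmemR'] at hx
        have h6 := Subgroup.mul_mem _ (Subgroup.mul_mem _ (Subgroup.inv_mem _ hnN) (hRN hx)) hnN
        have h7 : n⁻¹ * (n * x * n⁻¹) * n = x := by group
        rwa [h7] at h6
      have hR'ne : R' ≠ P := by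
        intro h8
        apply hRne
        apply le_antisymm _ hPR
        intro x hx
        have h9 : n⁻¹ * x * n ∈ R' := by
          rw [hmemR']
          have : n * (n⁻¹ * x * n) * n⁻¹ = x := by group
          rw [this]
          exact hx
        rw [h8] at h9
        have h10 := conj_mem_of_mem_normalizer hnN h9
        have h11 : n * (n⁻¹ * x * n) * n⁻¹ = x := by group
        rwa [h11] at h10
      have hstab' : ∀ x ∈ R', StabilizesBlock (Subgroup.centralizer (P : Set G)) e x := by
        intro x hx
        have hxC := hNC (hR'N hx)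
        rw [stabilizesBlock_iff_eq hMp _ x hxC he]
        rw [hmemR'] at hx
        have hs := (stabilizesBlock_iff_eq hMp _ _ (hNC (hRN hx))
          (isPBlock_conjSet _ n hn he)).mp (hstabR _ hx)
        have hnx : n * x ∈ Subgroup.normalizer
            ((Subgroup.centralizer (P : Set G) : Subgroup G) : Set G) :=
          Subgroup.mul_mem _ hn hxC
        have h12 : conjSet (Subgroup.centralizer (P : Set G)) (n * x) hnx e
            = conjSet (Subgroup.centralizer (P : Set G)) n hn e := by
          rw [← hs, ← conjSet_mul _ (n * x * n⁻¹) n (hNC (hRN hx)) hn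
            (Subgroup.mul_mem _ (hNC (hRN hx)) hn)]
          exact conjSet_congr _ (by group) _ _ e
        rw [conjSet_mul _ n x hn hxC hnx] at h12
        unfold conjSet at h12 ⊢
        exact (Set.image_injective.mpr (conjIrr_injective _ n hn)) h12
      have hy'R : n⁻¹ * y₂ * n ∈ Subgroup.centralizer (R' : Set G) := by
        rw [Subgroup.mem_centralizer_iff]
        intro x hx
        rw [SetLike.mem_coe, hmemR'] at hx
        rw [Subgroup.mem_centralizer_iff] at hy₂
        have h13 := hy₂ _ hx
        calc x * (n⁻¹ * y₂ * n) = n⁻¹ * ((n * x * n⁻¹) * y₂) * n := by group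
          _ = n⁻¹ * (y₂ * (n * x * n⁻¹)) * n := by rw [h13]
          _ = n⁻¹ * y₂ * n * x := by group
      have hey' : ¬ MemLocalIdeal M (subgroupBlockCoeff (Subgroup.centralizer (P : Set G)) e
          (n⁻¹ * y₂ * n)) := by
        have h14 := subgroupBlockCoeff_conjSet (Subgroup.centralizer (P : Set G)) n hn e
          (n⁻¹ * y₂ * n)
        have h15 : n * (n⁻¹ * y₂ * n) * n⁻¹ = y₂ := by group
        rw [h15] at h14
        rw [← h14]
        exact hey₂
      obtain ⟨g', hns'⟩ := exists_normalSubpair_up hM P R' hR'p hPR' hR'N he hstab' hy'R hey'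
      have hle' : SubpairLE p M P e R' g' := Relation.ReflTransGen.single hns'
      have hpair' : IsBrauerPairOf p M B R' g' :=
        (Cfsg.Agent.S4658.result p M hM R' P g' e hns'.2.1 hns'.1 hle' B hB).mpr hpair
      exact hR'ne (hmx R' g' hpair' hle')
  obtain ⟨B', hB', hDB', -, hind, -⟩ := fmt_up hM P (Subgroup.normalizer (P : Set G)) hP le_rfl
    le_rfl hc hDc
  obtain ⟨χ₁, hχ₁⟩ := isPBlock_nonempty hMp hB'
  have hs := BrInd.sameBlock hMp h1 (hind θ hθc χ₁ hχ₁)
  have hχ₁B : χ₁ ∈ B := by
    rw [eq_blockOf_of_mem hMp hB hχ]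
    exact hs
  rw [isPBlock_eq_of_mem hMp hB hB' hχ₁B hχ₁]
  exact hDB'

end

end Cfsg.Agent.Lib.helper80
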