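import Cfsg.Agent.Lib.helper80.PairEq

/-!
# Brauer pairs of a subgroup and of the group

For a subgroup `T` of `G`, a subgroup `R'` of `T` and a subgroup `R` of `G` such that `C_T(R')`
and `C_G(R)` consist of the same elements: blocks of `C_T(R')` are blocks of `C_G(R)`
(`upBlock`), compatibly with block idempotents, stabilizers and the Brauer functional. For
`R = R'` (as subgroups of `G`) this gives a relation `Up` between pairs of `T` and pairs of `G`
which respects normal inclusion, inclusion and conjugation by `T`.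
-/

set_option autoImplicit false

open Cfsg

namespace Cfsg.Agent.Lib.helper80

universe u

section Up

variable {G : Type u} [Group G]

/-- The hypothesis of `relCent`: `C_T(R')` and `C_G(R)` have the same elements. -/
def CentRel (T : Subgroup G) (R' : Subgroup T) (R : Subgroup G) : Prop :=
  ∀ y : G, y ∈ Subgroup.centralizer (R : Set G) ↔
    ∃ hy : y ∈ T, (⟨y, hy⟩ : T) ∈ Subgroup.centralizer (R' : Set T)

theorem centRel_map (T : Subgroup G) (R' : Subgroup T)
    (hC : Subgroup.centralizer ((R'.map T.subtype : Subgroup G) : Set G) ≤ T) :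
    CentRel T R' (R'.map T.subtype) := by
  intro y
  constructor
  · intro hy
    refine ⟨hC hy, ?_⟩
    rw [Subgroup.mem_centralizer_iff]
    intro r hr
    apply Subtype.ext
    exact (Subgroup.mem_centralizer_iff.mp hy) (r : G) ⟨r, hr, rfl⟩
  · rintro ⟨hy, hc⟩
    rw [Subgroup.mem_centralizer_iff]
    rintro _ ⟨r, hr, rfl⟩
    exact congrArg Subtype.val ((Subgroup.mem_centralizer_iff.mp hc) r hr)

theorem CentRel.le {T : Subgroup G} {R' : Subgroup T} {R : Subgroup G} (h : CentRel T R' R) :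
    Subgroup.centralizer (R : Set G) ≤ T := fun y hy => ((h y).mp hy).1

/-- A block of `C_T(R')` as a block of `C_G(R)`. -/
def upBlock (T : Subgroup G) (R' : Subgroup T) (R : Subgroup G) (h : CentRel T R' R)
    (e' : Set (IrrCharacter (Subgroup.centralizer (R' : Set T)))) :
    Set (IrrCharacter (Subgroup.centralizer (R : Set G))) :=
  blockMap (relCent T R' R h) e'

theorem isPBlock_upBlock {M : Ideal AlgInt} (T : Subgroup G) (R' : Subgroup T) (R : Subgroup G)
    (h : CentRel T R' R) {e' : Set (IrrCharacter (Subgroup.centralizer (R' : Set T)))}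
    (he' : IsPBlock M e') : IsPBlock M (upBlock T R' R h e') :=
  isPBlock_blockMap _ he'

theorem exists_of_mem_upBlock (T : Subgroup G) (R' : Subgroup T) (R : Subgroup G)
    (h : CentRel T R' R) {e' : Set (IrrCharacter (Subgroup.centralizer (R' : Set T)))}
    {ξ : IrrCharacter (Subgroup.centralizer (R : Set G))} (hξ : ξ ∈ upBlock T R' R h e') :
    ∃ ξ' ∈ e', ξ = irrMap (relCent T R' R h) ξ' := by
  unfold upBlock at hξ
  rw [mem_blockMap] at hξ
  exact ⟨_, hξ, (irrMap_irrMap_symm _ ξ).symm⟩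

theorem irrMap_mem_upBlock (T : Subgroup G) (R' : Subgroup T) (R : Subgroup G)
    (h : CentRel T R' R) (e' : Set (IrrCharacter (Subgroup.centralizer (R' : Set T))))
    (ξ' : IrrCharacter (Subgroup.centralizer (R' : Set T))) :
    irrMap (relCent T R' R h) ξ' ∈ upBlock T R' R h e' ↔ ξ' ∈ e' :=
  irrMap_mem_blockMap _ _ _

/-- The idempotent of `upBlock e'` is that of `e'`. -/
theorem subgroupBlockCoeff_upBlock [Finite G] (T : Subgroup G) (R' : Subgroup T)
    (R : Subgroup G) (h : CentRel T R' R)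
    (e' : Set (IrrCharacter (Subgroup.centralizer (R' : Set T)))) (t : T) :
    subgroupBlockCoeff (Subgroup.centralizer (R : Set G)) (upBlock T R' R h e') (t : G)
      = subgroupBlockCoeff (Subgroup.centralizer (R' : Set T)) e' t := by
  classical
  have : Fintype (Subgroup.centralizer (R : Set G)) := Fintype.ofFinite _
  have : Fintype (Subgroup.centralizer (R' : Set T)) := Fintype.ofFinite _
  by_cases ht : t ∈ Subgroup.centralizer (R' : Set T)
  · have ht' : (t : G) ∈ Subgroup.centralizer (R : Set G) := (h _).mpr ⟨t.2, ht⟩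
    rw [subgroupBlockCoeff_of_mem _ _ ht', subgroupBlockCoeff_of_mem _ _ ht]
    unfold upBlock
    rw [blockCoeff_blockMap]
    rfl
  · have ht' : (t : G) ∉ Subgroup.centralizer (R : Set G) := by
      intro hc
      exact ht ((h _).mp hc).2
    rw [subgroupBlockCoeff_of_not_mem _ _ ht', subgroupBlockCoeff_of_not_mem _ _ ht]

/-- Stabilizers: from `T` to `G`. -/
theorem stabilizesBlock_upBlock (T : Subgroup G) (R' : Subgroup T) (R : Subgroup G)
    (h : CentRel T R' R) {e' : Set (IrrCharacter (Subgroup.centralizer (R' : Set T)))} {x : T}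
    (hx : StabilizesBlock (Subgroup.centralizer (R' : Set T)) e' x) :
    StabilizesBlock (Subgroup.centralizer (R : Set G)) (upBlock T R' R h e') (x : G) := by
  obtain ⟨hxN, hst⟩ := hx
  refine ⟨?_, ?_⟩
  · rw [Subgroup.mem_normalizer_iff]
    intro y
    constructor
    · intro hy
      obtain ⟨hyT, hyc⟩ := (h y).mp hy
      have h1 := (Subgroup.mem_normalizer_iff.mp hxN ⟨y, hyT⟩).mp hyc
      exact (h _).mpr ⟨T.mul_mem (T.mul_mem x.2 hyT) (T.inv_mem x.2), h1⟩
    · intro hy
      obtain ⟨hyT, hyc⟩ := (h _).mp hy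
      have hyT' : y ∈ T := by
        have h2 : (x : G)⁻¹ * ((x : G) * y * (x : G)⁻¹) * (x : G) = y := by group
        rw [← h2]
        exact T.mul_mem (T.mul_mem (T.inv_mem x.2) hyT) x.2
      have h1 := (Subgroup.mem_normalizer_iff.mp hxN ⟨y, hyT'⟩).mpr hyc
      exact (h y).mpr ⟨hyT', h1⟩
  · intro χ hχ
    obtain ⟨χ₀, hχ₀, rfl⟩ := exists_of_mem_upBlock T R' R h hχ
    obtain ⟨χ₁, hχ₁, hconj⟩ := hst χ₀ hχ₀
    refine ⟨irrMap (relCent T R' R h) χ₁, (irrMap_mem_upBlock T R' R h e' χ₁).mpr hχ₁, ?_⟩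
    intro k k' hkk
    rw [irrMap_apply, irrMap_apply]
    apply hconj
    apply Subtype.ext
    exact hkk

/-- The relation between a pair of `T` and the same pair seen in `G`. -/
def Up (T : Subgroup G) (X' : BrauerPairIdx T) (X : BrauerPairIdx G) : Prop :=
  X.1 = X'.1.map T.subtype ∧ ∃ h : CentRel T X'.1 X.1, X.2 = upBlock T X'.1 X.1 h X'.2

theorem Up.le {T : Subgroup G} {X' : BrauerPairIdx T} {X : BrauerPairIdx G} (h : Up T X' X) :
    Subgroup.centralizer (X.1 : Set G) ≤ T := by
  obtain ⟨-, h2, -⟩ := h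
  exact h2.le

theorem up_exists (T : Subgroup G) (X' : BrauerPairIdx T)
    (hC : Subgroup.centralizer ((X'.1.map T.subtype : Subgroup G) : Set G) ≤ T) :
    ∃ X : BrauerPairIdx G, Up T X' X :=
  ⟨⟨X'.1.map T.subtype, upBlock T X'.1 _ (centRel_map T X'.1 hC) X'.2⟩, rfl, _, rfl⟩

theorem up_unique {T : Subgroup G} {X' : BrauerPairIdx T} {X Y : BrauerPairIdx G}
    (hX : Up T X' X) (hY : Up T X' Y) : X = Y := by
  obtain ⟨Q, f⟩ := X
  obtain ⟨Q', f'⟩ := Y
  obtain ⟨h1, h2, h3⟩ := hX
  obtain ⟨h1', h2', h3'⟩ := hY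
  dsimp only at h1 h2 h3 h1' h2' h3'
  subst h1
  subst h1'
  rw [h3, h3']

/-- A pair of `G` on a subgroup of `T` whose centralizer lies in `T` comes from a pair of `T`. -/
theorem up_of_le (T : Subgroup G) (R : Subgroup G) (hRT : R ≤ T)
    (hC : Subgroup.centralizer (R : Set G) ≤ T)
    (e : Set (IrrCharacter (Subgroup.centralizer (R : Set G)))) :
    ∃ (h : CentRel T (R.subgroupOf T) R),
      Up T ⟨R.subgroupOf T, blockMap (relCent T (R.subgroupOf T) R h).symm e⟩ ⟨R, e⟩ := by
  have h1 : R = (R.subgroupOf T).map T.subtype := by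
    rw [Subgroup.subgroupOf_map_subtype, inf_eq_left.mpr hRT]
  have h : CentRel T (R.subgroupOf T) R := by
    have h2 := centRel_map T (R.subgroupOf T) (by rw [← h1]; exact hC)
    rw [← h1] at h2
    exact h2
  refine ⟨h, h1, h, ?_⟩
  show e = blockMap (relCent T (R.subgroupOf T) R h) (blockMap (relCent T (R.subgroupOf T) R h).symm e)
  rw [blockMap_blockMap_symm]

end Up

section Pairs

variable {G : Type u} [Group G] [Fintype G] {p : ℕ} [Fact p.Prime] {M : Ideal AlgInt}

open Cfsg.Agent.Lib.helper20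

/-- Normal inclusions of pairs of `T` are normal inclusions of pairs of `G`. -/
theorem up_normal {T : Subgroup G} {X' Y' : BrauerPairIdx T} {X Y : BrauerPairIdx G}
    (hn : IsNormalSubpair p M X'.1 X'.2 Y'.1 Y'.2) (hX : Up T X' X) (hY : Up T Y' Y) :
    IsNormalSubpair p M X.1 X.2 Y.1 Y.2 := by
  classical
  obtain ⟨R₁', e₁'⟩ := X'
  obtain ⟨R₂', e₂'⟩ := Y'
  obtain ⟨R₁, e₁⟩ := X
  obtain ⟨R₂, e₂⟩ := Y
  obtain ⟨h1, h2, h3⟩ := hX
  obtain ⟨h1', h2', h3'⟩ := hY
  dsimp only at h1 h2 h3 h1' h2' h3' hn ⊢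
  subst h1
  subst h1'
  subst h3
  subst h3'
  obtain ⟨hP1, hP2, hle, hN, hstab, hom⟩ := hn
  refine ⟨⟨hP1.1.map _, isPBlock_upBlock T _ _ h2 hP1.2⟩,
    ⟨hP2.1.map _, isPBlock_upBlock T _ _ h2' hP2.2⟩, Subgroup.map_mono hle, ?_, ?_, ?_⟩
  · rintro _ ⟨r, hr, rfl⟩
    have hrN := hN hr
    rw [Subgroup.mem_normalizer_iff] at hrN ⊢
    intro y
    constructor
    · rintro ⟨s, hs, rfl⟩
      exact ⟨r * s * r⁻¹, (hrN s).mp hs, rfl⟩
    · rintro ⟨s, hs, hsy⟩
      have hyT : y ∈ T := by
        have h4 : (r : G)⁻¹ * ((r : G) * y * (r : G)⁻¹) * (r : G) = y := by group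
        rw [← h4]
        have h5 : (T.subtype r) * y * (T.subtype r)⁻¹ ∈ T := by
          rw [← hsy]
          exact s.2
        exact T.mul_mem (T.mul_mem (T.inv_mem r.2) h5) r.2
      have h6 : s = r * ⟨y, hyT⟩ * r⁻¹ := Subtype.ext hsy
      rw [h6] at hs
      exact ⟨⟨y, hyT⟩, (hrN _).mpr hs, rfl⟩
  · rintro _ ⟨r, hr, rfl⟩
    exact stabilizesBlock_upBlock T _ _ h2 (hstab r hr)
  · intro ξ hξ
    obtain ⟨ξ', hξ', rfl⟩ := exists_of_mem_upBlock T _ _ h2' hξ
    have h7 := brauerOmega_relCent T R₂' _ h2'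
      (subgroupBlockCoeff (Subgroup.centralizer ((R₁'.map T.subtype : Subgroup G) : Set G))
        (upBlock T R₁' _ h2 e₁')) ξ'
    rw [h7]
    have h8 : (fun c : T => subgroupBlockCoeff
        (Subgroup.centralizer ((R₁'.map T.subtype : Subgroup G) : Set G))
        (upBlock T R₁' _ h2 e₁') (c : G))
        = subgroupBlockCoeff (Subgroup.centralizer (R₁' : Set T)) e₁' :=
      funext fun c => subgroupBlockCoeff_upBlock T R₁' _ h2 e₁' c
    rw [h8]
    exact hom ξ' hξ'

/-- Inclusions of pairs of `T` are inclusions of pairs of `G`. -/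
theorem up_chain {T : Subgroup G} {X' Y' : BrauerPairIdx T}
    (hc : Relation.ReflTransGen (NormalSubpairRel p M) X' Y') :
    ∀ {X Y : BrauerPairIdx G}, Up T X' X → Up T Y' Y →
      Relation.ReflTransGen (NormalSubpairRel p M) X Y := by
  induction hc with
  | refl =>
    intro X Y hX hY
    rw [up_unique hX hY]
  | @tail Z' W' hXZ hZW ih =>
    intro X W hX hW
    have h1 : X'.1 ≤ Z'.1 := subpairLE_le X' Z' hXZ
    have hC : Subgroup.centralizer ((Z'.1.map T.subtype : Subgroup G) : Set G) ≤ T := by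
      refine le_trans (Subgroup.centralizer_le ?_) hX.le
      rw [hX.1]
      exact SetLike.coe_subset_coe.mpr (Subgroup.map_mono h1)
    obtain ⟨Z, hZ⟩ := up_exists T Z' hC
    exact Relation.ReflTransGen.tail (ih hX hZ) (up_normal hZW hZ hW)

omit [Fintype G] [Fact p.Prime] in
/-- Conjugation by an element of `T` is compatible with `Up`. -/
theorem up_conj {T : Subgroup G} {X' : BrauerPairIdx T} {X : BrauerPairIdx G} (hX : Up T X' X)
    (t : T) : Up T (conjPair t X') (conjPair (t : G) X) := by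
  obtain ⟨R', e'⟩ := X'
  obtain ⟨R, e⟩ := X
  obtain ⟨h1, h2, h3⟩ := hX
  dsimp only at h1 h2 h3
  subst h1
  subst h3
  have hmap : (R'.map T.subtype).map (MulAut.conj (t : G)).toMonoidHom
      = (R'.map (MulAut.conj t).toMonoidHom).map T.subtype := by
    ext y
    constructor
    · rintro ⟨_, ⟨r, hr, rfl⟩, rfl⟩
      exact ⟨t * r * t⁻¹, ⟨r, hr, rfl⟩, rfl⟩
    · rintro ⟨_, ⟨r, hr, rfl⟩, rfl⟩
      exact ⟨r, ⟨r, hr, rfl⟩, rfl⟩
  have hC : Subgroup.centralizer
      (((R'.map (MulAut.conj t).toMonoidHom).map T.subtype : Subgroup G) : Set G) ≤ T := by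
    intro y hy
    rw [← hmap] at hy
    have h4 := h2.le (conj_inv_mem_centralizer_of_map _ (t : G) hy)
    have h5 : (t : G) * ((t : G)⁻¹ * y * (t : G)) * (t : G)⁻¹ = y := by group
    rw [← h5]
    exact T.mul_mem (T.mul_mem t.2 h4) (T.inv_mem t.2)
  have h2' : CentRel T (R'.map (MulAut.conj t).toMonoidHom)
      ((R'.map T.subtype).map (MulAut.conj (t : G)).toMonoidHom) := by
    rw [hmap]
    exact centRel_map T _ hC
  refine ⟨hmap, h2', ?_⟩
  show conjBlock (R'.map T.subtype) (t : G) (upBlock T R' _ h2 e')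
    = upBlock T (R'.map (MulAut.conj t).toMonoidHom) _ h2' (conjBlock R' t e')
  ext ξ
  unfold upBlock
  rw [conjBlock_eq_blockMap, conjBlock_eq_blockMap, mem_blockMap, mem_blockMap, mem_blockMap,
    mem_blockMap]
  have h6 : irrMap (relCent T R' (R'.map T.subtype) h2).symm
        (irrMap (centConj (R'.map T.subtype) (t : G)).symm ξ)
      = irrMap (centConj R' t).symm (irrMap (relCent T (R'.map (MulAut.conj t).toMonoidHom)
          ((R'.map T.subtype).map (MulAut.conj (t : G)).toMonoidHom) h2').symm ξ) := by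
    apply Subtype.ext
    funext k
    rw [irrMap_apply, irrMap_apply, irrMap_apply, irrMap_apply, MulEquiv.symm_symm,
      MulEquiv.symm_symm, MulEquiv.symm_symm, MulEquiv.symm_symm]
    refine congrArg _ (Subtype.ext ?_)
    rfl
  rw [h6]

end Pairs

end Cfsg.Agent.Lib.helper80
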