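import Mathlib
import Cfsg.Prelude.Def_Blocks
import Cfsg.Agent.Lib.helper80.DefectGroup
import Cfsg.Agent.Lib.helper80.FMT
import Cfsg.Agent.Lib.helper79.DefectDeg
import Cfsg.Agent.Lib.helper82.CharQuot
import Cfsg.Agent.Lib.helper84.CentralDefect

/-!
# Blocks and quotients by central `p`-subgroups (helper80)

* `exists_pRegular_lift`: `p`-regular elements of `C ⧸ Z` lift to `p`-regular elements (`Z` a
  normal `p`-subgroup).
* `index_centralizer_mk`: for `Z` a central `p`-subgroup and `g` a `p`-regular element, the class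
  of `g` and the class of its image in `C ⧸ Z` have the same size.
* `blockOf_eq_singleton_of_degree`: a character of defect zero is alone in its block.
* `isDefectGroup_of_central_of_degree`: if the block `e` has a member trivial on the central
  `p`-subgroup `Z` whose degree has the `p`-part of `|C : Z|`, then `Z` is a defect group of `e`.
* `exists_canonical_of_central`: conversely, a block with the central defect group `Z` has such a
  member.
-/

set_option autoImplicit false

namespace Cfsg.Agent.Lib.helper80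

open Cfsg Cfsg.Agent.Lib.helper20
open scoped ComplexConjugate

universe u

section CentralQuot

variable {C : Type u} [Group C] [Finite C] {p : ℕ} [Fact p.Prime]

/-- Lifting a `p`-regular element of `C ⧸ Z`, `Z` a normal `p`-subgroup, to a `p`-regular
element. -/
theorem exists_pRegular_lift (Z : Subgroup C) [Z.Normal] (hZ : IsPGroup p Z) (y : C ⧸ Z)
    (hy : ¬ p ∣ orderOf y) : ∃ g : C, ¬ p ∣ orderOf g ∧ (g : C ⧸ Z) = y := by
  have hp := (Fact.out : p.Prime)
  obtain ⟨g₀, rfl⟩ := QuotientGroup.mk_surjective y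
  obtain ⟨k, hk⟩ := IsPGroup.iff_card.mp hZ
  by_cases h1 : orderOf (g₀ : C ⧸ Z) = 1
  · refine ⟨1, ?_, ?_⟩
    · rw [orderOf_one]
      exact hp.not_dvd_one
    · rw [QuotientGroup.mk_one]
      exact (orderOf_eq_one_iff.mp h1).symm
  · have h1o : 1 < orderOf (g₀ : C ⧸ Z) := by
      have := orderOf_pos (g₀ : C ⧸ Z)
      omega
    have hcop : Nat.Coprime (p ^ k) (orderOf (g₀ : C ⧸ Z)) :=
      Nat.Coprime.pow_left k ((Nat.Prime.coprime_iff_not_dvd hp).mpr hy)
    obtain ⟨m, -, hm⟩ := Nat.exists_mul_mod_eq_one_of_coprime hcop h1o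
    refine ⟨g₀ ^ (p ^ k * m), ?_, ?_⟩
    · have hz : g₀ ^ orderOf (g₀ : C ⧸ Z) ∈ Z := by
        rw [← QuotientGroup.eq_one_iff, QuotientGroup.mk_pow, pow_orderOf_eq_one]
      have hz1 : (g₀ ^ orderOf (g₀ : C ⧸ Z)) ^ (p ^ k) = 1 := by
        have h2 : (⟨g₀ ^ orderOf (g₀ : C ⧸ Z), hz⟩ : Z) ^ Nat.card Z = 1 := pow_card_eq_one'
        rw [hk] at h2
        exact congrArg Subtype.val h2
      have hgo : (g₀ ^ (p ^ k * m)) ^ orderOf (g₀ : C ⧸ Z) = 1 := by
        have h3 : (g₀ ^ (p ^ k * m)) ^ orderOf (g₀ : C ⧸ Z)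
            = ((g₀ ^ orderOf (g₀ : C ⧸ Z)) ^ (p ^ k)) ^ m := by
          rw [← pow_mul, ← pow_mul, ← pow_mul]
          congr 1
          ring
        rw [h3, hz1, one_pow]
      intro hdvd
      exact hy (hdvd.trans (orderOf_dvd_of_pow_eq_one hgo))
    · rw [QuotientGroup.mk_pow, ← pow_mod_orderOf, hm, pow_one]

/-- For a central `p`-subgroup `Z` and a `p`-regular element `g`: the classes of `g` in `C` and of
its image in `C ⧸ Z` have the same size. -/
theorem index_centralizer_mk (Z : Subgroup C) [Z.Normal] (hZ : IsPGroup p Z)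
    (hZc : Z ≤ Subgroup.center C) (g : C) (hg : ¬ p ∣ orderOf g) :
    (Subgroup.centralizer ({(g : C ⧸ Z)} : Set (C ⧸ Z))).index
      = (Subgroup.centralizer ({g} : Set C)).index := by
  have hp := (Fact.out : p.Prime)
  have hcomap : (Subgroup.centralizer ({(g : C ⧸ Z)} : Set (C ⧸ Z))).comap (QuotientGroup.mk' Z)
      = Subgroup.centralizer ({g} : Set C) := by
    ext x
    rw [Subgroup.mem_comap, mem_centralizer_singleton, mem_centralizer_singleton]
    constructor
    · intro h
      have h1 : ((g * x : C) : C ⧸ Z) = ((x * g : C) : C ⧸ Z) := h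
      rw [QuotientGroup.eq] at h1
      obtain ⟨k, hk⟩ := IsPGroup.iff_card.mp hZ
      have hzc := hZc h1
      rw [Subgroup.mem_center_iff] at hzc
      have hxg : x * g = g * x * ((g * x)⁻¹ * (x * g)) := by group
      have hconj : x * g * x⁻¹ = g * ((g * x)⁻¹ * (x * g)) := by
        rw [hxg, mul_assoc (g * x), ← hzc x⁻¹]
        group
      have hpow : ((g * x)⁻¹ * (x * g)) ^ orderOf g = 1 := by
        have h2 : (x * g * x⁻¹) ^ orderOf g = 1 := by
          rw [conj_pow, pow_orderOf_eq_one]
          group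
        rw [hconj] at h2
        have hcomm : Commute g ((g * x)⁻¹ * (x * g)) := hzc g
        rw [hcomm.mul_pow, pow_orderOf_eq_one, one_mul] at h2
        exact h2
      have hpow2 : ((g * x)⁻¹ * (x * g)) ^ (p ^ k) = 1 := by
        have h2 : (⟨(g * x)⁻¹ * (x * g), h1⟩ : Z) ^ Nat.card Z = 1 := pow_card_eq_one'
        rw [hk] at h2
        exact congrArg Subtype.val h2
      have hcop : Nat.Coprime (orderOf g) (p ^ k) :=
        (Nat.Coprime.pow_left k ((Nat.Prime.coprime_iff_not_dvd hp).mpr hg)).symm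
      have hz1 : (g * x)⁻¹ * (x * g) = 1 := by
        have hd : orderOf ((g * x)⁻¹ * (x * g)) ∣ Nat.gcd (orderOf g) (p ^ k) :=
          Nat.dvd_gcd (orderOf_dvd_of_pow_eq_one hpow) (orderOf_dvd_of_pow_eq_one hpow2)
        rw [hcop.gcd_eq_one, Nat.dvd_one] at hd
        exact orderOf_eq_one_iff.mp hd
      rw [hxg, hz1, mul_one]
    · intro h
      show ((g : C ⧸ Z)) * (x : C ⧸ Z) = (x : C ⧸ Z) * (g : C ⧸ Z)
      rw [← QuotientGroup.mk_mul, ← QuotientGroup.mk_mul, h]
  rw [← hcomap, Subgroup.index_comap_of_surjective _ (QuotientGroup.mk'_surjective Z)]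

end CentralQuot

section DefectZero

variable {G : Type u} [Group G] [Finite G] {p : ℕ} [Fact p.Prime] {M : Ideal AlgInt}

/-- A character whose degree has the full `p`-part of the group order is alone in its block. -/
theorem blockOf_eq_singleton_of_degree (hM : IsPModular p M) (χ : IrrCharacter G)
    (hdeg : (charDegree (χ : G → ℂ)).factorization p = (Nat.card G).factorization p) :
    blockOf M (χ : G → ℂ) = {χ} := by
  classical
  have hp := (Fact.out : p.Prime)
  have : Fintype G := Fintype.ofFinite G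
  have hMp := isPrime_of_isPModular hM
  obtain ⟨m, hm⟩ := Cfsg.Agent.Lib.helper81.irr_degree_dvd_card χ
  have hd0 : charDegree (χ : G → ℂ) ≠ 0 := (Cfsg.Agent.Lib.helper81.irr_charDegree_pos χ).ne'
  have hm0 : m ≠ 0 := by
    rintro rfl
    rw [mul_zero] at hm
    exact Nat.card_pos.ne' hm
  have hpm : ¬ p ∣ m := by
    have h1 : (Nat.card G).factorization p
        = (charDegree (χ : G → ℂ) * m).factorization p := by rw [← hm]
    rw [Nat.factorization_mul hd0 hm0, Finsupp.add_apply, ← hdeg] at h1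
    have h2 : m.factorization p = 0 := by omega
    intro hdvd
    have := (hp.dvd_iff_one_le_factorization hm0).mp hdvd
    omega
  have hd : (χ : G → ℂ) 1 = (charDegree (χ : G → ℂ) : ℂ) :=
    Cfsg.Agent.Lib.helper81.irr_one_eq_charDegree χ
  have hdc : (charDegree (χ : G → ℂ) : ℂ) ≠ 0 := by exact_mod_cast hd0
  have hmc : (m : ℂ) ≠ 0 := by exact_mod_cast hm0
  have hR : ∀ g : G, MemLocalRing M (blockCoeff ({χ} : Set (IrrCharacter G)) g) := by
    intro g
    have e : blockCoeff ({χ} : Set (IrrCharacter G)) g = conj ((χ : G → ℂ) g) / (m : ℂ) := by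
      unfold blockCoeff
      rw [finsum_mem_singleton, hd, hm]
      push_cast
      field_simp
    rw [e]
    have hint : IsIntegral ℤ (conj ((χ : G → ℂ) g)) := by
      have := Cfsg.Agent.Lib.helper81.irr_isIntegral χ g
      exact this.map (starRingEnd ℂ).toIntAlgHom
    exact memLocalRing_div_natCast hM ⟨_, hint⟩ hpm
  ext ψ
  constructor
  · intro hψ
    rw [Set.mem_singleton_iff]
    by_contra hne
    have key := memLocalIdeal_om_sub hMp χ ψ hψ (blockCoeff ({χ} : Set (IrrCharacter G)))
      (blockCoeff_classFun _) hR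
    rw [om_blockCoeff, om_blockCoeff, if_pos (Set.mem_singleton χ),
      if_neg (fun hmem => hne (Set.mem_singleton_iff.1 hmem)), sub_zero] at key
    exact not_memLocalIdeal_one key
  · intro hψ
    rw [Set.mem_singleton_iff] at hψ
    subst hψ
    exact mem_blockOf_self hMp _

/-- If the block `e` has a member `θ` trivial on the central `p`-subgroup `Z` with
`ν_p θ(1) + ν_p |Z| = ν_p |G|`, then `Z` is a defect group of `e`. -/
theorem isDefectGroup_of_central_of_degree (hM : IsPModular p M) (Z : Subgroup G)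
    (hZ : IsPGroup p Z) (hZc : Z ≤ Subgroup.center G) {e : Set (IrrCharacter G)}
    (he : IsPBlock M e) {θ : IrrCharacter G} (hθ : θ ∈ e)
    (hθZ : ∀ z ∈ Z, (θ : G → ℂ) z = (θ : G → ℂ) 1)
    (hdeg : (charDegree (θ : G → ℂ)).factorization p + (Nat.card Z).factorization p
      = (Nat.card G).factorization p) :
    IsDefectGroup p M e Z := by
  classical
  have hp := (Fact.out : p.Prime)
  have : Fintype G := Fintype.ofFinite G
  have hMp := isPrime_of_isPModular hM
  haveI hZn : Z.Normal := by
    constructor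
    intro n hn g
    have h1 := hZc hn
    rw [Subgroup.mem_center_iff] at h1
    have h2 : g * n * g⁻¹ = n := by
      rw [h1 g]
      group
    rw [h2]
    exact hn
  have : Fintype (G ⧸ Z) := Fintype.ofFinite _
  obtain ⟨θ', hθ'⟩ : ∃ θ' : IrrCharacter (G ⧸ Z),
      θ' = Cfsg.Agent.Lib.helper82.irrQuotEquiv Z ⟨θ, hθZ⟩ := ⟨_, rfl⟩
  have hval : ∀ g : G, (θ' : G ⧸ Z → ℂ) (g : G ⧸ Z) = (θ : G → ℂ) g := fun g => by
    rw [hθ']
    exact Cfsg.Agent.Lib.helper82.irrQuotEquiv_apply Z ⟨θ, hθZ⟩ g
  have hdeg' : charDegree (θ' : G ⧸ Z → ℂ) = charDegree (θ : G → ℂ) := by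
    unfold charDegree
    rw [← QuotientGroup.mk_one, hval]
  have hcard : Nat.card G = Nat.card (G ⧸ Z) * Nat.card Z :=
    Subgroup.card_eq_card_quotient_mul_card_subgroup Z
  have hq0 : Nat.card (G ⧸ Z) ≠ 0 := Nat.card_pos.ne'
  have hZ0 : Nat.card Z ≠ 0 := Nat.card_pos.ne'
  have hfac : (Nat.card G).factorization p
      = (Nat.card (G ⧸ Z)).factorization p + (Nat.card Z).factorization p := by
    rw [hcard, Nat.factorization_mul hq0 hZ0, Finsupp.add_apply]
  have hdegq : (charDegree (θ' : G ⧸ Z → ℂ)).factorization p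
      = (Nat.card (G ⧸ Z)).factorization p := by
    rw [hdeg']
    omega
  have hsingle := blockOf_eq_singleton_of_degree hM θ' hdegq
  have hB' : IsPBlock M (blockOf M (θ' : G ⧸ Z → ℂ)) := ⟨θ', rfl⟩
  obtain ⟨D', hD'⟩ := exists_isDefectGroup p hMp hB'
  obtain ⟨y, hy, -⟩ := hD'
  have hyreg : ¬ p ∣ orderOf y :=
    Cfsg.Agent.Lib.helper84.not_dvd_orderOf_of_isDefectClass hM hB' hy
  have hdef0 : blockDefect p (blockOf M (θ' : G ⧸ Z → ℂ)) = 0 := by
    rw [hsingle]
    unfold blockDefect
    rw [Set.image_singleton, csInf_singleton, hdegq, Nat.sub_self]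
  have hcent0 : (Nat.card (Subgroup.centralizer ({y} : Set (G ⧸ Z)))).factorization p = 0 := by
    rw [← Cfsg.Agent.Lib.helper79.blockDefect_eq_of_isDefectClass hM hB' y hy, hdef0]
  have hω : ¬ MemLocalIdeal M (centralChar (θ' : G ⧸ Z → ℂ) y) :=
    hy.2.2 θ' (mem_blockOf_self hMp θ')
  obtain ⟨g, hg, rfl⟩ := exists_pRegular_lift Z hZ y hyreg
  have hidx := index_centralizer_mk Z hZ hZc g hg
  have hω' : ¬ MemLocalIdeal M (centralChar (θ : G → ℂ) g) := by
    have h1 : centralChar (θ : G → ℂ) g = centralChar (θ' : G ⧸ Z → ℂ) (g : G ⧸ Z) := by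
      unfold centralChar
      rw [hidx, hval, ← QuotientGroup.mk_one, hval]
    rwa [h1]
  have hle : blockDefect p e ≤ (Nat.card (Subgroup.centralizer ({g} : Set G))).factorization p :=
    Cfsg.Agent.Lib.helper79.blockDefect_le_of_centralChar hM he hθ g hω'
  have hcg : (Nat.card (Subgroup.centralizer ({g} : Set G))).factorization p
      = (Nat.card Z).factorization p := by
    have h1 := Subgroup.card_mul_index (Subgroup.centralizer ({g} : Set G))
    have h2 := Subgroup.card_mul_index (Subgroup.centralizer ({(g : G ⧸ Z)} : Set (G ⧸ Z)))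
    rw [hidx] at h2
    have hi0 : (Subgroup.centralizer ({g} : Set G)).index ≠ 0 := Subgroup.index_ne_zero_of_finite
    have hc0 : Nat.card (Subgroup.centralizer ({g} : Set G)) ≠ 0 := Nat.card_pos.ne'
    have hc0' : Nat.card (Subgroup.centralizer ({(g : G ⧸ Z)} : Set (G ⧸ Z))) ≠ 0 :=
      Nat.card_pos.ne'
    have h3 : (Nat.card (Subgroup.centralizer ({g} : Set G))
        * (Subgroup.centralizer ({g} : Set G)).index).factorization p
        = (Nat.card G).factorization p := by rw [h1]
    have h4 : (Nat.card (Subgroup.centralizer ({(g : G ⧸ Z)} : Set (G ⧸ Z)))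
        * (Subgroup.centralizer ({g} : Set G)).index).factorization p
        = (Nat.card (G ⧸ Z)).factorization p := by rw [h2]
    rw [Nat.factorization_mul hc0 hi0, Finsupp.add_apply] at h3
    rw [Nat.factorization_mul hc0' hi0, Finsupp.add_apply, hcent0] at h4
    omega
  obtain ⟨D, hD⟩ := exists_isDefectGroup p hMp he
  have hZD : Z ≤ D := normal_le_defectGroup hM Z hZ he hD
  have hcardD : Nat.card D = p ^ blockDefect p e :=
    Cfsg.Agent.Lib.helper79.card_eq_of_isDefectGroup hM he hD
  obtain ⟨k, hk⟩ := IsPGroup.iff_card.mp hZ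
  have hkz : (Nat.card Z).factorization p = k := by
    rw [hk, hp.factorization_pow, Finsupp.single_eq_same]
  have hDZ : Nat.card D ≤ Nat.card Z := by
    rw [hcardD, hk]
    exact Nat.pow_le_pow_right hp.pos (by omega)
  rw [Subgroup.eq_of_le_of_card_ge hZD hDZ]
  exact hD

/-- A block whose defect group `Z` is central has a member trivial on `Z` with
`ν_p θ(1) + ν_p |Z| = ν_p |G|`. -/
theorem exists_canonical_of_central (hM : IsPModular p M) (Z : Subgroup G)
    (hZc : Z ≤ Subgroup.center G) {e : Set (IrrCharacter G)}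
    (he : IsPBlock M e) (hD : IsDefectGroup p M e Z) :
    ∃ θ ∈ e, (∀ z ∈ Z, (θ : G → ℂ) z = (θ : G → ℂ) 1) ∧
      (charDegree (θ : G → ℂ)).factorization p + (Nat.card Z).factorization p
        = (Nat.card G).factorization p := by
  classical
  have : Fintype G := Fintype.ofFinite G
  have hG : Z ⊔ Subgroup.centralizer (Z : Set G) = ⊤ := by
    have h1 : Subgroup.centralizer (Z : Set G) = ⊤ := by
      rw [eq_top_iff]
      intro x _
      rw [Subgroup.mem_centralizer_iff]
      intro z hz
      have h2 := hZc hz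
      rw [Subgroup.mem_center_iff] at h2
      exact (h2 x).symm
    rw [h1, sup_top_eq]
  obtain ⟨θ, ⟨hθ, hθZ⟩, -⟩ := Cfsg.Agent.Lib.helper84.exists_unique_restrict_const hM he hD hG
  refine ⟨θ, hθ, hθZ, ?_⟩
  rw [Cfsg.Agent.Lib.helper84.factorization_degree_of_restrict_const hM he hD hG hθ hθZ]
  have h1 := Subgroup.card_mul_index Z
  have hi0 : Z.index ≠ 0 := Subgroup.index_ne_zero_of_finite
  have hc0 : Nat.card Z ≠ 0 := Nat.card_pos.ne'
  have h3 : (Nat.card Z * Z.index).factorization p = (Nat.card G).factorization p := by rw [h1]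
  rw [Nat.factorization_mul hc0 hi0, Finsupp.add_apply] at h3
  omega

end DefectZero

end Cfsg.Agent.Lib.helper80
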