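/-
S5005 split (architect helper9), piece F1: every 2-block has the identity as a defect class.
-/
import Mathlib
import Cfsg.Prelude.Def_Blocks
import Cfsg.Agent.Lib.helper20.ClassNil
import Cfsg.Agent.Lib.helper20.NilCentral
import Cfsg.Agent.Lib.helper9.B22Defs
import Cfsg.Agent.Lib.helper81.Blocks
import Cfsg.Agent.Lib.helper4.HeightZero
import Cfsg.Agent.Lib.helper4.DefectZero
import Cfsg.Agent.Lib.helper79.DefectDeg

set_option autoImplicit false

namespace Cfsg.Agent.Lib.helper80.B22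

open Cfsg Cfsg.Agent.Lib.helper9.B22

universe u

variable {G : Type u} [Group G] [Fintype G] [DecidableEq G]

/-- the degree of the character of a representation on `Fin m → ℂ`. -/
theorem charDegree_character {m : ℕ} (ρ : Representation ℂ G (Fin m → ℂ)) :
    charDegree ρ.character = m := by
  unfold charDegree
  rw [Representation.char_one]
  simp

/-- a character of 2-defect zero is incompatible with `classSumF t - 1` nilpotent mod 2 for an
involution `t`. -/
theorem false_of_defect_zero (t : G) (ht2 : orderOf t = 2)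
    (ht : IsNilpotent (Cfsg.Agent.Lib.helper20.classSumF (ZMod 2) t - 1))
    (M : Ideal AlgInt) (hM : IsPModular 2 M) (χ₀ : IrrCharacter G)
    (hdeg : 2 ^ (Nat.card G).factorization 2 ∣ charDegree (χ₀ : G → ℂ)) : False := by
  classical
  have hMp := Cfsg.Agent.Lib.helper20.isPrime_of_isPModular hM
  have hconj := Cfsg.Agent.Lib.helper20.isIrrCharacter_conj χ₀.2
  obtain ⟨c, hc⟩ := Cfsg.Agent.Lib.helper20.exists_algInt_centralChar (χ₀ : G → ℂ) χ₀.2 t
  obtain ⟨m, ρ, hρ, hχρ⟩ := χ₀.2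
  have h1 := Cfsg.Agent.Lib.helper20.asAlgebraHom_eq_omega_smul ρ hρ
    (Cfsg.Agent.Lib.helper20.classSum t) (Cfsg.Agent.Lib.helper20.isCentralElt_classSum t)
  rw [hχρ, Cfsg.Agent.Lib.helper20.omega_classSum _ hconj,
    Cfsg.Agent.Lib.helper20.asAlgebraHom_classSum, ← Cfsg.Agent.Lib.helper20.lift_classSumF,
    ← hc] at h1
  -- the character vanishes at `t`
  have hcard0 : Nat.card G ≠ 0 := Nat.card_pos.ne'
  have hn' : ¬ 2 ^ ((Nat.card G).factorization 2 + 1) ∣ Nat.card G :=
    Nat.pow_succ_factorization_not_dvd hcard0 Nat.prime_two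
  have hdeg' : 2 ^ (Nat.card G).factorization 2 ∣ Module.finrank ℂ (Fin m → ℂ) := by
    rw [Module.finrank_fintype_fun_eq_card, Fintype.card_fin]
    rw [← hχρ, charDegree_character] at hdeg
    exact hdeg
  have hirr : ρ.IsIrreducible := hρ
  have hzero : ρ.character t = 0 :=
    Cfsg.Agent.Lib.helper4.char_eq_zero_of_defect_zero ρ 2 _ Nat.prime_two hn' hdeg' t
      (by rw [ht2])
  have hc0 : (c : ℂ) = 0 := by
    rw [hc]
    unfold centralChar
    rw [← hχρ, hzero]
    simp
  -- `classSumF ℤ t - 1` is nilpotent mod 2 and acts as `c - 1`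
  have hnil : IsNilpotent (MonoidAlgebra.mapRingHom G (Int.castRingHom (ZMod 2))
      (Cfsg.Agent.Lib.helper20.classSumF ℤ t - 1)) := by
    rw [map_sub, Cfsg.Agent.Lib.helper20.mapRingHom_classSumF, map_one]
    exact ht
  have hω : MonoidAlgebra.lift ℤ ((Fin m → ℂ) →ₗ[ℂ] (Fin m → ℂ)) G ρ
      (Cfsg.Agent.Lib.helper20.classSumF ℤ t - 1)
      = (((c - 1 : AlgInt) : AlgInt) : ℂ) • (1 : (Fin m → ℂ) →ₗ[ℂ] (Fin m → ℂ)) := by
    rw [map_sub, h1, map_one]
    have e : (((c - 1 : AlgInt) : AlgInt) : ℂ) = (c : ℂ) - 1 := by push_cast; ring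
    rw [e]
    module
  have hmem := Cfsg.Agent.Lib.helper20.mem_of_nilpotent_mod hMp hM.2.2 (by norm_num)
    (Cfsg.Agent.Lib.helper20.irreducible_dim_ne_zero ρ hρ) ρ
    (Cfsg.Agent.Lib.helper20.classSumF ℤ t - 1) hnil (c - 1) hω
  have hc0' : c = 0 := Subtype.ext hc0
  rw [hc0', zero_sub] at hmem
  have h1M : (1 : AlgInt) ∈ M := by
    have := M.neg_mem hmem
    rwa [neg_neg] at this
  exact hMp.ne_top ((Ideal.eq_top_iff_one M).mpr h1M)

/-- PIECE F1. -/
theorem defect_one (t : G) (ht2 : orderOf t = 2)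
    (ht : IsNilpotent (Cfsg.Agent.Lib.helper20.classSumF (ZMod 2) t - 1))
    (h : ∀ g : G, g ≠ 1 → Odd (orderOf g) →
      IsNilpotent (Cfsg.Agent.Lib.helper20.classSumF (ZMod 2) g) ∨
        Odd (Nat.card (Subgroup.centralizer ({g} : Set G))))
    (M : Ideal AlgInt) (hM : IsPModular 2 M) (B : Set (IrrCharacter G)) (hB : IsPBlock M B) :
    IsDefectClass M B (1 : G) := by
  have hMp := Cfsg.Agent.Lib.helper20.isPrime_of_isPModular hM
  have hfact : Fact (Nat.Prime 2) := ⟨Nat.prime_two⟩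
  obtain ⟨g, hg⟩ := Cfsg.Agent.Lib.helper81.exists_isDefectClass hMp hB
  by_cases hg1 : g = 1
  · rw [← hg1]; exact hg
  exfalso
  have hreg : ¬ 2 ∣ orderOf g := Cfsg.Agent.Lib.helper4.isPRegular_of_isDefectClass hM hB hg
  have hodd : Odd (orderOf g) := Nat.odd_iff.mpr (by omega)
  obtain ⟨χ₀, hχ₀⟩ := Cfsg.Agent.Lib.helper81.isPBlock_nonempty hMp hB
  have hnot := hg.2.2 χ₀ hχ₀
  rcases h g hg1 hodd with hnil | hcent
  · exact hnot (Cfsg.Agent.Lib.helper20.memLocalIdeal_centralChar_of_isNilpotent hM _ χ₀.2 g hnil)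
  · have hle := Cfsg.Agent.Lib.helper79.index_factorization_le_of_centralChar hM χ₀ g hnot
    have hcard : Nat.card (Subgroup.centralizer ({g} : Set G)) *
        (Subgroup.centralizer ({g} : Set G)).index = Nat.card G := Subgroup.card_mul_index _
    have hC0 : Nat.card (Subgroup.centralizer ({g} : Set G)) ≠ 0 := Nat.card_pos.ne'
    have hI0 : (Subgroup.centralizer ({g} : Set G)).index ≠ 0 := Subgroup.index_ne_zero_of_finite
    have hfac : (Nat.card G).factorization 2 =
        ((Subgroup.centralizer ({g} : Set G)).index).factorization 2 := by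
      rw [← hcard, Nat.factorization_mul hC0 hI0, Finsupp.add_apply,
        Nat.factorization_eq_zero_of_not_dvd (by
          intro hdvd
          exact (Nat.not_even_iff_odd.mpr hcent) (even_iff_two_dvd.mpr hdvd)), zero_add]
    have hdpos : charDegree (χ₀ : G → ℂ) ≠ 0 :=
      (Cfsg.Agent.Lib.helper82.irr_charDegree_pos χ₀).ne'
    have hdeg : 2 ^ (Nat.card G).factorization 2 ∣ charDegree (χ₀ : G → ℂ) := by
      rw [hfac]
      exact (Nat.prime_two.pow_dvd_iff_le_factorization hdpos).mpr hle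
    exact false_of_defect_zero t ht2 ht M hM χ₀ hdeg

end Cfsg.Agent.Lib.helper80.B22
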