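/-
S5005 split (architect helper9), piece F2: a self-normalizing Sylow 2-subgroup and full defect
force a single 2-block.
-/
import Mathlib
import Cfsg.Prelude.Def_Blocks
import Cfsg.Agent.Lib.helper20.ClassNil
import Cfsg.Agent.Lib.helper9.B22Defs
import Cfsg.Agent.Lib.helper20.Basic
import Cfsg.Agent.Lib.helper80.DefectGroup
import Cfsg.Agent.S0953

set_option autoImplicit false

namespace Cfsg.Agent.Lib.helper80.B22

open Cfsg Cfsg.Agent.Lib.helper9.B22

universe u

variable {G : Type u} [Group G] [Fintype G] [DecidableEq G]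

theorem fac_443520 : (443520 : ℕ).factorization 2 = 7 := by
  have h1 : 7 ≤ (443520 : ℕ).factorization 2 :=
    (Nat.prime_two.pow_dvd_iff_le_factorization (by norm_num)).mp (by norm_num)
  have h2 : ¬ 8 ≤ (443520 : ℕ).factorization 2 := by
    intro h
    have := (Nat.prime_two.pow_dvd_iff_le_factorization (n := 443520) (by norm_num)).mpr h
    norm_num at this
  omega

/-- If the identity represents a defect class of `B`, every Sylow `p`-subgroup is a defect
group of `B` (same proof as `helper43.isDefectGroup_sylow_of_one`, restated here to keep the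
import closure small). -/
theorem isDefectGroup_sylow_of_one_h80 {p : ℕ} [Fact p.Prime] {M : Ideal AlgInt}
    (B : Set (IrrCharacter G)) (h : IsDefectClass M B (1 : G)) (P : Sylow p G) :
    IsDefectGroup p M B (P : Subgroup G) := by
  rw [Cfsg.Agent.Lib.helper80.isDefectGroup_iff]
  refine ⟨1, h, ?_⟩
  have htop : Subgroup.centralizer ({1} : Set G) = ⊤ := by
    rw [Subgroup.centralizer_eq_top_iff_subset]
    intro x hx
    rw [Set.mem_singleton_iff.1 hx]
    exact Subgroup.one_mem _
  apply Cfsg.Agent.Lib.helper80.isSylowCent_of_card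
  · rw [htop]
    exact le_top
  · rw [htop, Subgroup.card_top]
    exact P.card_eq_multiplicity

/-- PIECE F2. -/
theorem single_of_defect_one (P : Subgroup G) (hP : Nat.card P = 128)
    (hG : Fintype.card G = 443520)
    (hN : ∀ g : G, (∀ x ∈ P, g * x * g⁻¹ ∈ P) → g ∈ P)
    (M : Ideal AlgInt) (hM : IsPModular 2 M)
    (hall : ∀ B : Set (IrrCharacter G), IsPBlock M B → IsDefectClass M B (1 : G))
    (χ ψ : IrrCharacter G) : SameBlock M (χ : G → ℂ) (ψ : G → ℂ) := by
  classical
  have hMp := Cfsg.Agent.Lib.helper20.isPrime_of_isPModular hM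
  have hfact : Fact (Nat.Prime 2) := ⟨Nat.prime_two⟩
  have hcardG : Nat.card G = 443520 := by rw [Nat.card_eq_fintype_card, hG]
  have hPc : Nat.card P = 2 ^ (Nat.card G).factorization 2 := by
    rw [hcardG, fac_443520, hP]; norm_num
  set S : Sylow 2 G := Sylow.ofCard P hPc with hS
  have hSP : (S : Subgroup G) = P := Sylow.coe_ofCard P hPc
  have hPg : IsPGroup 2 P := IsPGroup.of_card (n := 7) (by rw [hP]; norm_num)
  -- the right-hand side of S0953 has exactly one element
  have hcount := Cfsg.Agent.S0953.result 2 M hM S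
  have hrhs : Nat.card {C : ConjClasses (Subgroup.normalizer ((S : Subgroup G) : Set G)) //
      ∀ n : Subgroup.normalizer ((S : Subgroup G) : Set G), ConjClasses.mk n = C →
        ¬ 2 ∣ orderOf n ∧ (n : G) ∈ Subgroup.centralizer ((S : Subgroup G) : Set G)} = 1 := by
    rw [Nat.card_eq_one_iff_unique]
    have key : ∀ n : Subgroup.normalizer ((S : Subgroup G) : Set G), ¬ 2 ∣ orderOf n → n = 1 := by
      intro n hn
      have hnP : (n : G) ∈ P := by
        apply hN
        intro x hx
        have hxS : x ∈ (S : Subgroup G) := hSP.ge hx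
        exact hSP.le ((Subgroup.mem_normalizer_iff.mp n.2 x).mp hxS)
      obtain ⟨k, hk⟩ := hPg ⟨(n : G), hnP⟩
      have hk' : (n : G) ^ 2 ^ k = 1 := by
        have := congrArg Subtype.val hk
        simpa using this
      have hord : orderOf (n : G) ∣ 2 ^ k := orderOf_dvd_of_pow_eq_one hk'
      have hordn : orderOf n = orderOf (n : G) := (Subgroup.orderOf_coe n).symm
      rw [hordn] at hn
      obtain ⟨j, -, hj⟩ := (Nat.dvd_prime_pow Nat.prime_two).mp hord
      have hj0 : j = 0 := by
        by_contra hne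
        apply hn
        rw [hj]
        exact dvd_pow_self 2 hne
      rw [hj0, pow_zero, orderOf_eq_one_iff] at hj
      exact Subtype.ext hj
    constructor
    · constructor
      rintro ⟨C, hC⟩ ⟨C', hC'⟩
      apply Subtype.ext
      show C = C'
      obtain ⟨n, rfl⟩ := ConjClasses.mk_surjective C
      obtain ⟨n', rfl⟩ := ConjClasses.mk_surjective C'
      rw [key n (hC n rfl).1, key n' (hC' n' rfl).1]
    · refine ⟨⟨ConjClasses.mk 1, ?_⟩⟩
      intro n hn
      have hn1 : n = 1 := by
        have := ConjClasses.mk_eq_mk_iff_isConj.mp hn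
        exact (isConj_one_left.mp this)
      rw [hn1]
      refine ⟨by simp, ?_⟩
      simp
  rw [hrhs, Nat.card_eq_one_iff_unique] at hcount
  obtain ⟨hsub, -⟩ := hcount
  have hmemχ : IsPBlock M (blockOf M (χ : G → ℂ)) ∧
      IsDefectGroup 2 M (blockOf M (χ : G → ℂ)) (S : Subgroup G) :=
    ⟨⟨χ, rfl⟩, isDefectGroup_sylow_of_one_h80 _ (hall _ ⟨χ, rfl⟩) S⟩
  have hmemψ : IsPBlock M (blockOf M (ψ : G → ℂ)) ∧
      IsDefectGroup 2 M (blockOf M (ψ : G → ℂ)) (S : Subgroup G) :=
    ⟨⟨ψ, rfl⟩, isDefectGroup_sylow_of_one_h80 _ (hall _ ⟨ψ, rfl⟩) S⟩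
  have heq : blockOf M (χ : G → ℂ) = blockOf M (ψ : G → ℂ) := by
    have := hsub.elim (⟨_, hmemχ⟩ : {B : Set (IrrCharacter G) //
      IsPBlock M B ∧ IsDefectGroup 2 M B (S : Subgroup G)}) ⟨_, hmemψ⟩
    exact congrArg Subtype.val this
  have hψ : ψ ∈ blockOf M (ψ : G → ℂ) := by
    show SameBlock M (ψ : G → ℂ) (ψ : G → ℂ)
    intro g
    rw [sub_self]
    exact Cfsg.Agent.Lib.helper20.memLocalIdeal_zero hMp
  rw [← heq] at hψ
  exact hψ

end Cfsg.Agent.Lib.helper80.B22
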