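/-
S2522 split (owner helper51), piece UTIL: `avoid`, `exists_notMem_of_card`, `exists_dual`.
-/
import Mathlib
import Cfsg.Agent.Lib.helper51.LevDefs

set_option autoImplicit false

namespace Cfsg.Agent.Lib.helper51.Lev

open Matrix

variable {K : Type*} [Field K]

/-- PIECE UTIL (a): a vector space over `K` is not the union of `n ≤ #K` proper subspaces. -/
theorem avoid {V : Type*} [AddCommGroup V] [Module K V] (n : ℕ)
    (hK : (n : Cardinal) ≤ Cardinal.mk K) (W : Fin n → Submodule K V) (hW : ∀ i, W i ≠ ⊤) :
    ∃ x : V, ∀ i, x ∉ W i := by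
  induction n with
  | zero => exact ⟨0, fun i => i.elim0⟩
  | succ k ih =>
    have hk : (k : Cardinal) ≤ Cardinal.mk K :=
      le_trans (by exact_mod_cast Nat.le_succ k) hK
    obtain ⟨x, hx⟩ := ih hk (fun i => W i.castSucc) (fun i => hW i.castSucc)
    by_cases hxk : x ∈ W (Fin.last k)
    · -- pick `y ∉ W (last)`
      obtain ⟨y, hy⟩ : ∃ y : V, y ∉ W (Fin.last k) := by
        by_contra hcon
        push Not at hcon
        exact hW (Fin.last k) (Submodule.eq_top_iff'.mpr hcon)
      -- some `t` with `y + t • x` outside all `W i.castSucc`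
      have hex : ∃ t : K, ∀ i : Fin k, y + t • x ∉ W i.castSucc := by
        by_contra hcon
        push Not at hcon
        choose f hf using hcon
        have hinj : Function.Injective f := by
          intro t₁ t₂ h12
          by_contra hne
          have h1 := hf t₁
          have h2 := hf t₂
          rw [h12] at h1
          have h3 : (t₁ - t₂) • x ∈ W (f t₂).castSucc := by
            have := (W (f t₂).castSucc).sub_mem h1 h2
            have e : y + t₁ • x - (y + t₂ • x) = (t₁ - t₂) • x := by
              rw [sub_smul]; abel
            rwa [e] at this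
          have h4 : x ∈ W (f t₂).castSucc :=
            ((W (f t₂).castSucc).smul_mem_iff (sub_ne_zero.mpr hne)).mp h3
          exact hx (f t₂) h4
        have hfin : Finite K := Finite.of_injective f hinj
        have hle : Nat.card K ≤ Nat.card (Fin k) := Nat.card_le_card_of_injective f hinj
        rw [Nat.card_fin] at hle
        have hK' : ((k + 1 : ℕ) : Cardinal) ≤ ((Nat.card K : ℕ) : Cardinal) := by
          rw [Nat.cast_card]; exact hK
        have : k + 1 ≤ Nat.card K := by exact_mod_cast hK'
        omega
      obtain ⟨t, ht⟩ := hex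
      refine ⟨y + t • x, ?_⟩
      intro i
      refine Fin.lastCases ?_ (fun j => ?_) i
      · intro hmem
        apply hy
        have := (W (Fin.last k)).sub_mem hmem ((W (Fin.last k)).smul_mem t hxk)
        rwa [add_sub_cancel_right] at this
      · exact ht j
    · refine ⟨x, ?_⟩
      intro i
      refine Fin.lastCases ?_ (fun j => ?_) i
      · exact hxk
      · exact hx j

/-- PIECE UTIL (b): a scalar outside a small finite set. -/
theorem exists_notMem_of_card (S : Finset K) (hS : ((S.card + 1 : ℕ) : Cardinal) ≤ Cardinal.mk K) :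
    ∃ t : K, t ∉ S := by
  by_contra hcon
  push Not at hcon
  have hinj : Function.Injective (fun t : K => (⟨t, hcon t⟩ : S)) := by
    intro t₁ t₂ h
    exact congrArg Subtype.val h
  have hle : Cardinal.mk K ≤ Cardinal.mk S := Cardinal.mk_le_of_injective hinj
  rw [Cardinal.mk_coe_finset] at hle
  have : ((S.card + 1 : ℕ) : Cardinal) ≤ (S.card : Cardinal) := le_trans hS hle
  have : S.card + 1 ≤ S.card := by exact_mod_cast this
  omega

/-- PIECE UTIL (c): a functional with prescribed values on an independent family. -/
theorem exists_dual {ι : Type} [Fintype ι] [DecidableEq ι] {k : ℕ} (b : Fin k → ι → K)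
    (hb : LinearIndependent K b) (a : Fin k → K) : ∃ lam : ι → K, ∀ i, lam ⬝ᵥ b i = a i := by
  classical
  -- the map `c ↦ ∑ c i • b i` is injective
  let f : (Fin k → K) →ₗ[K] (ι → K) := Fintype.linearCombination K b
  have hf : LinearMap.ker f = ⊥ := by
    refine LinearMap.ker_eq_bot'.mpr (fun c hc => ?_)
    funext i
    exact Fintype.linearIndependent_iff.mp hb c
      (by simpa [f, Fintype.linearCombination_apply] using hc) i
  obtain ⟨g, hg⟩ := LinearMap.exists_leftInverse_of_injective f hf
  -- the functional
  let φ : (ι → K) →ₗ[K] K := (Fintype.linearCombination K (fun i : Fin k => a i) : (Fin k → K) →ₗ[K] K).comp g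
  refine ⟨fun j => φ (Pi.single j 1), ?_⟩
  intro i
  have h1 : φ (b i) = a i := by
    have hbi : b i = f (Pi.single i 1) := by
      simp [f, Fintype.linearCombination_apply, Pi.single_apply]
    have hgf : g (f (Pi.single i 1)) = Pi.single i 1 := by
      have := congrArg (fun h : (Fin k → K) →ₗ[K] (Fin k → K) => h (Pi.single i 1)) hg
      simpa using this
    show (Fintype.linearCombination K (fun i : Fin k => a i)) (g (b i)) = a i
    rw [hbi, hgf]
    simp [Fintype.linearCombination_apply, Pi.single_apply]
  rw [← h1]
  have h2 := LinearMap.pi_apply_eq_sum_univ φ (b i)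
  rw [h2]
  simp only [dotProduct, smul_eq_mul]
  refine Finset.sum_congr rfl (fun j _ => ?_)
  have : (fun j' => if j = j' then (1 : K) else 0) = Pi.single j 1 := by
    ext j'
    simp [Pi.single_apply, eq_comm]
  rw [this, mul_comm]

end Cfsg.Agent.Lib.helper51.Lev
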