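import Cfsg.Agent.Lib.helper80.S2687FCENTa
import Cfsg.Agent.Lib.helper50.S2687LOC
import Cfsg.Agent.Lib.helper50.S2687REL

/-!
# S2687 piece F-CENT: `field_fix_form`, `field_noCent`
-/

set_option autoImplicit false

namespace Cfsg.Agent.Lib.helper80.S2687

open Matrix Cfsg
open Cfsg.Agent.Lib.helper50
open Cfsg.Agent.Lib.helper48.LB
open Cfsg.Agent.Lib.helper48.AbsBal (fixG)
open Cfsg.Agent.Lib.helper99 (suMat)

universe u v

variable {n q : ℕ} {F : Type u} [Field F] [Fintype F]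

/-- F-CENT, part 1 -/
theorem field_fix_form (hF : Fintype.card F = q ^ 2) (hn : 3 ≤ n) (h32 : ¬ (n = 3 ∧ q = 2))
    {r f : ℕ} [Fact r.Prime] (hq : q = r ^ f) (hf : 1 ≤ f) {q₀ p : ℕ} (hp : p.Prime) (hp2 : p ≠ 2)
    (hq₀ : q = q₀ ^ p) (σ : F ≃+* F) (hσ : orderOf σ = p) (a : MulAut (PSU n F q))
    (hfix : ∀ s : ↥(SU n F q), fieldSU σ s = s → a (QuotientGroup.mk s) = QuotientGroup.mk s) :
    ∃ τ : F ≃+* F, a = fieldPSU τ ∧ ∀ x : F, σ x = x → τ x = x :=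
  field_fix_form_of hF hn h32 hq hf hp hp2 hq₀ σ hσ
    (fun g τ v hv c hc0 s hs h =>
      Cfsg.Agent.Lib.helper50.S2687.fix_isotropic_of_fix_transv hF hn g τ v hv c hc0 s hs h)
    (fun S _ hS hpow M hM τ h =>
      Cfsg.Agent.Lib.helper50.S2687.semilinear_fix_isotropic_rel hF hn S hS hpow M hM τ h)
    a hfix

/-- F-CENT, part 2 -/
theorem field_noCent (hF : Fintype.card F = q ^ 2) (hn : 3 ≤ n) (h32 : ¬ (n = 3 ∧ q = 2))
    {r f : ℕ} [Fact r.Prime] (hq : q = r ^ f) (hf : 1 ≤ f) {q₀ p : ℕ} (hp : p.Prime) (hp2 : p ≠ 2)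
    (hq₀ : q = q₀ ^ p) (σ : F ≃+* F) (hσ : orderOf σ = p) :
    NoCent p (fieldPSU σ : MulAut (PSU n F q)) :=
  field_noCent_of hF hn h32 hq hf hp hp2 hq₀ σ hσ
    (fun g τ v hv c hc0 s hs h =>
      Cfsg.Agent.Lib.helper50.S2687.fix_isotropic_of_fix_transv hF hn g τ v hv c hc0 s hs h)
    (fun S _ hS hpow M hM τ h =>
      Cfsg.Agent.Lib.helper50.S2687.semilinear_fix_isotropic_rel hF hn S hS hpow M hM τ h)

end Cfsg.Agent.Lib.helper80.S2687
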