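import Mathlib
import Cfsg.Agent.Lib.helper49.SPEDefs

/-! S2333 piece SYMS (architect helper49): `sym_conj`. -/

set_option autoImplicit false

namespace Cfsg.Agent.Lib.helper49.SPE

open Matrix

/-- SYMS (S) -/
theorem sym_conj {F : Type*} [Field F] {n : ℕ} (B y a : Matrix (Fin n) (Fin n) F)
    (ha : a ∈ symH F n) : conjY B y ∈ symH F n ∧ B * a * Bᵀ ∈ symH F n := by
  refine ⟨?_, ?_⟩
  · intro i j
    simp only [conjY, syM]
    by_cases hij : i = j
    · subst hij
      rfl
    · rw [if_neg hij, if_neg (fun h => hij h.symm), add_comm]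
  · have hat : aᵀ = a := by
      ext i j
      rw [Matrix.transpose_apply]
      exact ha j i
    intro i j
    have h1 : (B * a * Bᵀ)ᵀ = B * a * Bᵀ := by
      rw [Matrix.transpose_mul, Matrix.transpose_mul, Matrix.transpose_transpose, hat,
        Matrix.mul_assoc]
    calc (B * a * Bᵀ) i j = (B * a * Bᵀ)ᵀ j i := rfl
      _ = (B * a * Bᵀ) j i := by rw [h1]

end Cfsg.Agent.Lib.helper49.SPE
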