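import Mathlib
import Cfsg.Agent.Lib.helper54.MetaIdxDefs

set_option autoImplicit false

/-!
# S4245, piece C3a (helper80): Sylow 2-subgroups are cyclic

`A ≤ G` of index `p ^ s` with `p` odd, `B ⊴ A` of odd order with `A ⧸ B` cyclic: the Sylow
`2`-subgroups of `G` are cyclic.
-/

namespace Cfsg.Agent.Lib.helper80

universe u

/-- **C3a** (verbatim statement of `helper54.MetaIdx.sylow_two_cyclic`). -/
theorem mi_sylow_two_cyclic {G : Type u} [Group G] [Finite G] (p : ℕ) (hp : p.Prime) (hp2 : p ≠ 2)
    (A : Subgroup G) (B : Subgroup A) [B.Normal] (hAB : IsCyclic (A ⧸ B)) (s : ℕ)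
    (hA : A.index = p ^ s) (hodd : Odd (Nat.card B)) :
    ∀ T : Sylow 2 G, IsCyclic T := by
  haveI : Fact (Nat.Prime 2) := ⟨Nat.prime_two⟩
  intro T
  let T₀ : Sylow 2 A := default
  let φ : (T₀ : Subgroup A) →* A ⧸ B := (QuotientGroup.mk' B).comp (T₀ : Subgroup A).subtype
  have hφ : Function.Injective φ := by
    rw [injective_iff_map_eq_one]
    intro x hx
    have hxB : (x : A) ∈ B := by
      have h : (QuotientGroup.mk' B) (x : A) = 1 := hx
      rwa [QuotientGroup.mk'_apply, QuotientGroup.eq_one_iff] at h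
    obtain ⟨k, hk⟩ := T₀.isPGroup' x
    have h1 : orderOf (x : A) ∣ 2 ^ k := by
      apply orderOf_dvd_of_pow_eq_one
      have h := congrArg Subtype.val hk
      simpa using h
    have h2 : orderOf (x : A) ∣ Nat.card B := by
      have h : orderOf (⟨(x : A), hxB⟩ : B) ∣ Nat.card B := orderOf_dvd_natCard _
      rwa [← Subgroup.orderOf_coe] at h
    have h3 : orderOf (x : A) = 1 := by
      have hc : Nat.Coprime (2 ^ k) (Nat.card B) :=
        Nat.Coprime.pow_left _ ((Nat.coprime_two_left).mpr hodd)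
      exact Nat.eq_one_of_dvd_coprimes hc h1 h2
    exact Subtype.ext (orderOf_eq_one_iff.mp h3)
  haveI hT₀ : IsCyclic (T₀ : Subgroup A) := isCyclic_of_injective φ hφ
  let S : Subgroup G := (T₀ : Subgroup A).map A.subtype
  have hcardS : Nat.card S = Nat.card (T₀ : Subgroup A) :=
    Subgroup.card_map_of_injective A.subtype_injective
  have hcardT₀ : Nat.card (T₀ : Subgroup A) = 2 ^ (Nat.card A).factorization 2 :=
    T₀.card_eq_multiplicity
  have hfac : (Nat.card G).factorization 2 = (Nat.card A).factorization 2 := by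
    have hG : Nat.card G = Nat.card A * p ^ s := by
      rw [← hA]; exact (A.card_mul_index).symm
    have hp0 : p.factorization 2 = 0 := by
      rw [Nat.Prime.factorization hp]
      simp [hp2]
    rw [hG, Nat.factorization_mul Nat.card_pos.ne' (pow_pos hp.pos s).ne', Nat.factorization_pow]
    simp [hp0]
  let S₁ : Sylow 2 G := Sylow.ofCard S (by rw [hcardS, hcardT₀, hfac])
  obtain ⟨g, hg⟩ := MulAction.exists_smul_eq G S₁ T
  let e1 : (T₀ : Subgroup A) ≃* S :=
    (T₀ : Subgroup A).equivMapOfInjective A.subtype A.subtype_injective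
  let e2 : S₁ ≃* (g • S₁ : Sylow 2 G) := Sylow.equivSMul S₁ g
  rw [← hg]
  haveI hS : IsCyclic S := isCyclic_of_surjective e1 e1.surjective
  haveI hS₁ : IsCyclic S₁ := hS
  exact isCyclic_of_surjective e2 e2.surjective

end Cfsg.Agent.Lib.helper80
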