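import Mathlib
import Cfsg.Agent.Lib.helper54.MetaIdxDefs

set_option autoImplicit false

/-!
# S4245, piece C3c (helper80): `Q p K` for the normal `2`-complement `K`

`A ≤ G` of index `p ^ s`, `B ⊴ A` cyclic of odd order with `|A : B| = 2 ^ r`, `K ⊴ G` of odd order
and `2`-power index: then `B ≤ K` has `p`-power index in `K`, so `Q p K` holds with the data
`(B, B)`.
-/

namespace Cfsg.Agent.Lib.helper80

universe u

/-- **C3c** (verbatim statement of `helper54.MetaIdx.q_of_complement`). -/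
theorem mi_q_of_complement {G : Type u} [Group G] [Finite G] (p : ℕ) (hp : p.Prime) (hp2 : p ≠ 2)
    (A : Subgroup G) (B : Subgroup A) [B.Normal] (hB : IsCyclic B) (s r : ℕ)
    (hA : A.index = p ^ s) (hr : Nat.card (A ⧸ B) = 2 ^ r) (hodd : Odd (Nat.card B))
    (K : Subgroup G) [K.Normal] (hKodd : Odd (Nat.card K)) (j : ℕ) (hK : K.index = 2 ^ j) :
    Cfsg.Agent.Lib.helper54.MetaIdx.Q p K := by
  classical
  let B' : Subgroup G := B.map A.subtype
  have hB'K : B' ≤ K := by
    intro x hx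
    obtain ⟨b, hb, rfl⟩ := hx
    have h1 : orderOf ((QuotientGroup.mk' K) (A.subtype b)) ∣ orderOf (A.subtype b) :=
      orderOf_map_dvd _ _
    have h2 : orderOf (A.subtype b) ∣ Nat.card B := by
      have h : orderOf (⟨b, hb⟩ : B) ∣ Nat.card B := orderOf_dvd_natCard _
      rw [← Subgroup.orderOf_coe] at h
      rwa [Subgroup.coe_subtype, Subgroup.orderOf_coe]
    have h3 : orderOf ((QuotientGroup.mk' K) (A.subtype b)) ∣ 2 ^ j := by
      rw [← hK, Subgroup.index_eq_card]
      exact orderOf_dvd_natCard _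
    have hc : Nat.Coprime (2 ^ j) (Nat.card B) :=
      Nat.Coprime.pow_left _ ((Nat.coprime_two_left).mpr hodd)
    have h4 : orderOf ((QuotientGroup.mk' K) (A.subtype b)) = 1 :=
      Nat.eq_one_of_dvd_coprimes hc h3 (h1.trans h2)
    have h5 := orderOf_eq_one_iff.mp h4
    rwa [QuotientGroup.mk'_apply, QuotientGroup.eq_one_iff] at h5
  let A₁ : Subgroup K := B'.subgroupOf K
  let e1 : B ≃* B' := B.equivMapOfInjective A.subtype A.subtype_injective
  let e2 : A₁ ≃* B' := Subgroup.subgroupOfEquivOfLe hB'K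
  let e3 : (⊤ : Subgroup A₁) ≃* A₁ := Subgroup.topEquiv
  have hcB' : IsCyclic B' := isCyclic_of_surjective e1 e1.surjective
  have hcA₁ : IsCyclic A₁ := isCyclic_of_surjective e2.symm e2.symm.surjective
  have hc1 : IsCyclic (⊤ : Subgroup A₁) := isCyclic_of_surjective e3.symm e3.symm.surjective
  haveI hsub : Subsingleton (A₁ ⧸ (⊤ : Subgroup A₁)) := QuotientGroup.subsingleton_quotient_top
  have hc2 : IsCyclic (A₁ ⧸ (⊤ : Subgroup A₁)) := isCyclic_of_subsingleton
  have hidx : ∃ i : ℕ, A₁.index = p ^ i := by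
    have hrel : A₁.index * K.index = B'.index := Subgroup.relIndex_mul_index hB'K
    have hB'idx : B'.index = 2 ^ r * p ^ s := by
      rw [Subgroup.index_map_subtype, hA, Subgroup.index_eq_card, hr]
    have hoddidx : Odd A₁.index := Odd.of_dvd_nat hKodd (Subgroup.index_dvd_card A₁)
    have hdvd : A₁.index ∣ 2 ^ r * p ^ s := by
      rw [← hB'idx, ← hrel]; exact dvd_mul_right _ _
    have hcop : Nat.Coprime A₁.index (2 ^ r) :=
      Nat.Coprime.pow_right _ ((Nat.coprime_two_right).mpr hoddidx)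
    have hdvd' : A₁.index ∣ p ^ s := hcop.dvd_of_dvd_mul_left hdvd
    obtain ⟨i, -, hi⟩ := (Nat.dvd_prime_pow hp).mp hdvd'
    exact ⟨i, hi⟩
  refine ⟨A₁, ⊤, inferInstance, hc1, hc2, hidx, 0, ?_⟩
  rw [pow_zero]
  exact Nat.card_eq_one_iff_unique.mpr ⟨hsub, ⟨1⟩⟩

end Cfsg.Agent.Lib.helper80
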