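import Mathlib
import Cfsg.Prelude.Def_Perm
import Cfsg.Prelude.Def_Solvable

set_option autoImplicit false

namespace Cfsg.Agent.Lib.helper80.S4025

/-- the order of the affine group of a finite field. -/
theorem card_affineGroup_le (F : Type*) [Field F] [Fintype F] :
    Nat.card (Cfsg.affineGroup F) ≤ (Fintype.card F - 1) * Fintype.card F := by
  classical
  have hex : ∀ σ : Cfsg.affineGroup F, ∃ ab : Fˣ × F, ∀ x, (σ : Equiv.Perm F) x = (ab.1 : F) * x + ab.2 := by
    rintro ⟨σ, a, b, h⟩
    exact ⟨(a, b), h⟩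
  choose f hf using hex
  have hinj : Function.Injective f := by
    intro σ τ hστ
    apply Subtype.ext
    ext x
    rw [hf σ x, hf τ x, hστ]
  have h1 := Nat.card_le_card_of_injective f hinj
  have h2 : Nat.card (Fˣ × F) = (Fintype.card F - 1) * Fintype.card F := by
    rw [Nat.card_prod, Nat.card_eq_fintype_card, Nat.card_eq_fintype_card, Fintype.card_units]
  rw [h2] at h1
  exact h1

/-- the order of the semi-affine group of a finite field. -/
theorem card_semiaffineGroup_le (F : Type*) [Field F] [Fintype F] :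
    Nat.card (Cfsg.semiaffineGroup F) ≤
      (Fintype.card F - 1) * Fintype.card F * Nat.card (F ≃+* F) := by
  classical
  have : Finite (F ≃+* F) :=
    Finite.of_injective (fun σ : F ≃+* F => (σ : F → F)) DFunLike.coe_injective
  have hex : ∀ σ : Cfsg.semiaffineGroup F, ∃ ab : (Fˣ × F) × (F ≃+* F),
      ∀ x, (σ : Equiv.Perm F) x = (ab.1.1 : F) * ab.2 x + ab.1.2 := by
    rintro ⟨σ, a, b, φ, h⟩
    exact ⟨((a, b), φ), h⟩
  choose f hf using hex
  have hinj : Function.Injective f := by
    intro σ τ hστ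
    apply Subtype.ext
    ext x
    rw [hf σ x, hf τ x, hστ]
  have h1 := Nat.card_le_card_of_injective f hinj
  have h2 : Nat.card ((Fˣ × F) × (F ≃+* F)) =
      (Fintype.card F - 1) * Fintype.card F * Nat.card (F ≃+* F) := by
    rw [Nat.card_prod, Nat.card_prod, Nat.card_eq_fintype_card, Nat.card_eq_fintype_card,
      Fintype.card_units]
  rw [h2] at h1
  exact h1

/-- the automorphism group of a field with `p ^ n` elements has order `n`. -/
theorem card_ringAut_finite_field (p n : ℕ) [Fact p.Prime] (F : Type*) [Field F] [Fintype F]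
    (hF : Fintype.card F = p ^ n) : Nat.card (F ≃+* F) = n := by
  classical
  have hp : p.Prime := Fact.out
  -- the characteristic of F is p
  have hchar : CharP F p := by
    obtain ⟨q, hq⟩ := CharP.exists F
    have : Fact q.Prime := ⟨CharP.char_is_prime F q⟩
    obtain ⟨m, hqp, hm⟩ := FiniteField.card F q
    rw [hF] at hm
    have hn : n ≠ 0 := by
      rintro rfl
      rw [pow_zero] at hF
      have := Fintype.one_lt_card (α := F)
      omega
    have hdvd : q ∣ p ^ n := by
      rw [hm]
      exact dvd_pow_self q m.ne_zero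
    have : q = p := (Nat.prime_dvd_prime_iff_eq hqp hp).1 (hqp.dvd_of_dvd_pow hdvd)
    rw [← this]
    exact hq
  letI : Algebra (ZMod p) F := ZMod.algebra F p
  have hfin : Module.finrank (ZMod p) F = n := by
    have h := Module.card_eq_pow_finrank (K := ZMod p) (V := F)
    rw [ZMod.card, hF] at h
    exact (Nat.pow_right_injective hp.two_le h).symm
  have hgal : Nat.card (F ≃ₐ[ZMod p] F) = Module.finrank (ZMod p) F :=
    IsGalois.card_aut_eq_finrank (ZMod p) F
  have hcomm : ∀ (σ : F ≃+* F) (r : ZMod p), σ (algebraMap (ZMod p) F r) = algebraMap (ZMod p) F r := by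
    intro σ r
    have h : (σ : F →+* F).comp (algebraMap (ZMod p) F) = algebraMap (ZMod p) F :=
      Subsingleton.elim _ _
    exact congrArg (fun f : ZMod p →+* F => f r) h
  let e : (F ≃ₐ[ZMod p] F) ≃ (F ≃+* F) :=
    { toFun := fun σ => σ.toRingEquiv
      invFun := fun σ => AlgEquiv.ofRingEquiv (f := σ) (hcomm σ)
      left_inv := fun σ => by ext x; rfl
      right_inv := fun σ => by ext x; rfl }
  rw [← Nat.card_congr e, hgal, hfin]

/-- transport of membership in the affine group along a ring isomorphism. -/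
theorem affine_mem_congr {R R' : Type*} [Ring R] [Ring R'] (ψ : R ≃+* R') (σ : Equiv.Perm R)
    (h : σ ∈ Cfsg.affineGroup R) : ψ.toEquiv.permCongrHom σ ∈ Cfsg.affineGroup R' := by
  obtain ⟨a, b, hσ⟩ := h
  refine ⟨Units.map (ψ : R →* R') a, ψ b, fun x => ?_⟩
  show ψ (σ (ψ.symm x)) = _
  rw [hσ]
  simp

/-- transport of membership in the semi-affine group along a ring isomorphism. -/
theorem semiaffine_mem_congr {R R' : Type*} [Ring R] [Ring R'] (ψ : R ≃+* R') (σ : Equiv.Perm R)
    (h : σ ∈ Cfsg.semiaffineGroup R) : ψ.toEquiv.permCongrHom σ ∈ Cfsg.semiaffineGroup R' := by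
  obtain ⟨a, b, φ, hσ⟩ := h
  refine ⟨Units.map (ψ : R →* R') a, ψ b, (ψ.symm.trans φ).trans ψ, fun x => ?_⟩
  show ψ (σ (ψ.symm x)) = _
  rw [hσ]
  simp

/-- a multiplicative equivalence matching two subgroups induces an equivalence between them. -/
noncomputable def subgroupEquivOfMem {G G' : Type*} [Group G] [Group G'] (e : G ≃* G')
    (H : Subgroup G) (H' : Subgroup G') (h1 : ∀ x ∈ H, e x ∈ H') (h2 : ∀ y ∈ H', e.symm y ∈ H) :
    H ≃* H' where
  toFun x := ⟨e x, h1 x x.2⟩
  invFun y := ⟨e.symm y, h2 y y.2⟩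
  left_inv x := by apply Subtype.ext; simp
  right_inv y := by apply Subtype.ext; simp
  map_mul' x y := by apply Subtype.ext; simp

theorem affineGroup_congr {R R' : Type*} [Ring R] [Ring R'] (ψ : R ≃+* R') :
    Nonempty (Cfsg.affineGroup R ≃* Cfsg.affineGroup R') := by
  refine ⟨subgroupEquivOfMem ψ.toEquiv.permCongrHom _ _ (fun σ hσ => affine_mem_congr ψ σ hσ) ?_⟩
  intro τ hτ
  have h := affine_mem_congr ψ.symm τ hτ
  have e : ψ.toEquiv.permCongrHom.symm τ = ψ.symm.toEquiv.permCongrHom τ := by
    rw [Equiv.permCongrHom_symm]; rfl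
  rw [e]
  exact h

theorem semiaffineGroup_congr {R R' : Type*} [Ring R] [Ring R'] (ψ : R ≃+* R') :
    Nonempty (Cfsg.semiaffineGroup R ≃* Cfsg.semiaffineGroup R') := by
  refine ⟨subgroupEquivOfMem ψ.toEquiv.permCongrHom _ _
    (fun σ hσ => semiaffine_mem_congr ψ σ hσ) ?_⟩
  intro τ hτ
  have h := semiaffine_mem_congr ψ.symm τ hτ
  have e : ψ.toEquiv.permCongrHom.symm τ = ψ.symm.toEquiv.permCongrHom τ := by
    rw [Equiv.permCongrHom_symm]; rfl
  rw [e]
  exact h

end Cfsg.Agent.Lib.helper80.S4025
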