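import Mathlib
import Cfsg.Prelude.Def_BrauerPairs
import Cfsg.Agent.Lib.helper80.FMT2
import Cfsg.Agent.Lib.helper80.Transport

/-!
Brauer's First Main Theorem over a subgroup `H` containing `N_G(P)`: the blocks of `G` with
defect group `P` correspond to the blocks of `H` with defect group `P`, corresponding blocks
having idempotents congruent modulo the local ideal on `C_G(P)`.
-/

set_option autoImplicit false

namespace Cfsg.Agent.Lib.helper80

open Cfsg
open scoped ComplexConjugate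

universe u

section Group

variable {G : Type u} [Group G]

theorem subgroupOf_normalizer_le (P H : Subgroup G) :
    (Subgroup.normalizer (P : Set G)).subgroupOf H
      ≤ Subgroup.normalizer ((P.subgroupOf H : Subgroup H) : Set H) := by
  intro x hx
  rw [Subgroup.mem_subgroupOf, Subgroup.mem_normalizer_iff] at hx
  rw [Subgroup.mem_normalizer_iff]
  intro v
  rw [Subgroup.mem_subgroupOf, Subgroup.mem_subgroupOf]
  exact hx v

theorem normalizer_subgroupOf_le (P H : Subgroup G) (hPH : P ≤ H) :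
    Subgroup.normalizer ((P.subgroupOf H : Subgroup H) : Set H)
      ≤ (Subgroup.normalizer (P : Set G)).subgroupOf H := by
  intro x hx
  rw [Subgroup.mem_normalizer_iff] at hx
  rw [Subgroup.mem_subgroupOf, Subgroup.mem_normalizer_iff]
  intro v
  constructor
  · intro hv
    have := (hx ⟨v, hPH hv⟩).mp (Subgroup.mem_subgroupOf.mpr hv)
    exact Subgroup.mem_subgroupOf.mp this
  · intro hv
    have hvH : v ∈ H := by
      have h2 : v = (x : G)⁻¹ * ((x : G) * v * (x : G)⁻¹) * (x : G) := by group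
      rw [h2]
      exact H.mul_mem (H.mul_mem (H.inv_mem x.2) (hPH hv)) x.2
    have := (hx ⟨v, hvH⟩).mpr (Subgroup.mem_subgroupOf.mpr hv)
    exact Subgroup.mem_subgroupOf.mp this

theorem mem_centralizer_subgroupOf_iff (P H : Subgroup G) (hPH : P ≤ H) (k : H) :
    k ∈ Subgroup.centralizer ((P.subgroupOf H : Subgroup H) : Set H)
      ↔ (k : G) ∈ Subgroup.centralizer (P : Set G) := by
  rw [Subgroup.mem_centralizer_iff, Subgroup.mem_centralizer_iff]
  constructor
  · intro h u hu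
    exact congrArg Subtype.val (h ⟨u, hPH hu⟩ (Subgroup.mem_subgroupOf.mpr hu))
  · intro h u hu
    exact Subtype.ext (h u (Subgroup.mem_subgroupOf.mp hu))

theorem map_subgroupOfEquivOfLe (P : Subgroup G) {N H : Subgroup G} (hNH : N ≤ H) :
    ((P.subgroupOf H).subgroupOf (N.subgroupOf H)).map
        (Subgroup.subgroupOfEquivOfLe hNH).toMonoidHom = P.subgroupOf N := by
  ext k
  rw [Subgroup.mem_map, Subgroup.mem_subgroupOf]
  constructor
  · rintro ⟨u, hu, rfl⟩
    exact Subgroup.mem_subgroupOf.mp (Subgroup.mem_subgroupOf.mp hu)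
  · intro hk
    refine ⟨(Subgroup.subgroupOfEquivOfLe hNH).symm k, ?_, by simp⟩
    rw [Subgroup.mem_subgroupOf, Subgroup.mem_subgroupOf]
    exact hk

theorem map_subgroupOfEquivOfLe_symm (P : Subgroup G) {N H : Subgroup G} (hNH : N ≤ H) :
    (P.subgroupOf N).map (Subgroup.subgroupOfEquivOfLe hNH).symm.toMonoidHom
      = (P.subgroupOf H).subgroupOf (N.subgroupOf H) := by
  ext k
  rw [Subgroup.mem_map, Subgroup.mem_subgroupOf, Subgroup.mem_subgroupOf]
  constructor
  · rintro ⟨u, hu, rfl⟩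
    exact Subgroup.mem_subgroupOf.mp hu
  · intro hk
    refine ⟨Subgroup.subgroupOfEquivOfLe hNH k, ?_, by simp⟩
    rw [Subgroup.mem_subgroupOf]
    exact hk

end Group

section FMT

variable {G : Type u} [Group G] [Fintype G] {p : ℕ} [Fact p.Prime] {M : Ideal AlgInt}

/-- First Main Theorem over `H ≥ N_G(P)`, from `G` to `H`. -/
theorem fmt_over_down (hM : IsPModular p M) (P H : Subgroup G) [Fintype H]
    (hP : IsPGroup p P) (hH : Subgroup.normalizer (P : Set G) ≤ H)
    {B : Set (IrrCharacter G)} (hB : IsPBlock M B) (hDB : IsDefectGroup p M B P) :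
    ∃ c : Set (IrrCharacter H), IsPBlock M c ∧ IsDefectGroup p M c (P.subgroupOf H) ∧
      (∀ x : G, x ∈ Subgroup.centralizer (P : Set G) → ∀ hx : x ∈ H,
        MemLocalIdeal M (blockCoeff B x - blockCoeff c ⟨x, hx⟩)) ∧
      ∀ c' : Set (IrrCharacter H), IsPBlock M c' →
        (∀ x : G, x ∈ Subgroup.centralizer (P : Set G) → ∀ hx : x ∈ H,
          MemLocalIdeal M (blockCoeff B x - blockCoeff c' ⟨x, hx⟩)) → c' = c := by
  classical
  have hMp := Cfsg.Agent.Lib.helper20.isPrime_of_isPModular hM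
  have hPH : P ≤ H := le_trans Subgroup.le_normalizer hH
  have hCN : Subgroup.centralizer (P : Set G) ≤ Subgroup.normalizer (P : Set G) :=
    Subgroup.centralizer_le_normalizer _
  have : Fintype (Subgroup.normalizer (P : Set G)) := Fintype.ofFinite _
  have : Fintype ((Subgroup.normalizer (P : Set G)).subgroupOf H) := Fintype.ofFinite _
  -- `G`-side
  obtain ⟨cN, hcN, hDcN, hcongN, -, -⟩ := fmt_down hM P (Subgroup.normalizer (P : Set G)) hP
    le_rfl le_rfl hB hDB
  -- transport to the normalizer inside `H`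
  have hc₁ := isPBlock_blockMap (M := M) (Subgroup.subgroupOfEquivOfLe hH).symm hcN
  have hDc₁ := isDefectGroup_blockMap (Subgroup.subgroupOfEquivOfLe hH).symm hDcN
  rw [map_subgroupOfEquivOfLe_symm P hH] at hDc₁
  -- `H`-side
  obtain ⟨c₀, hc₀, hDc₀, hcong₀, -, huniq₀⟩ := fmt_up (G := H) hM (P.subgroupOf H)
    ((Subgroup.normalizer (P : Set G)).subgroupOf H) hP.comap_subtype
    (subgroupOf_normalizer_le P H) (normalizer_subgroupOf_le P H hPH) hc₁ hDc₁
  refine ⟨c₀, hc₀, hDc₀, ?_, ?_⟩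
  · intro x hx hxH
    have h1 := hcongN ⟨x, hCN hx⟩
    rw [brH_of_mem P _ _ hx] at h1
    have h2 := hcong₀ ⟨⟨x, hxH⟩, Subgroup.mem_subgroupOf.mpr (hCN hx)⟩
    rw [brH_of_mem _ _ _ ((mem_centralizer_subgroupOf_iff P H hPH ⟨x, hxH⟩).mpr hx),
      blockCoeff_blockMap] at h2
    have := Cfsg.Agent.Lib.helper20.memLocalIdeal_sub hMp h1 h2
    have h3 : blockCoeff B x - blockCoeff cN ⟨x, hCN hx⟩
        - (blockCoeff c₀ ⟨x, hxH⟩ - blockCoeff cN ⟨x, hCN hx⟩)
        = blockCoeff B x - blockCoeff c₀ ⟨x, hxH⟩ := by ring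
    rw [← h3]
    exact this
  · intro c' hc' hcong'
    apply huniq₀ c' hc'
    intro k hk
    have hkC : ((k : H) : G) ∈ Subgroup.centralizer (P : Set G) :=
      (mem_centralizer_subgroupOf_iff P H hPH (k : H)).mp hk
    have h1 := hcong' _ hkC (k : H).2
    have h2 := hcongN ⟨((k : H) : G), hCN hkC⟩
    rw [brH_of_mem P (Subgroup.normalizer (P : Set G)) _
      (h := ⟨((k : H) : G), hCN hkC⟩) hkC] at h2
    rw [blockCoeff_blockMap]
    have := Cfsg.Agent.Lib.helper20.memLocalIdeal_sub hMp h2 h1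
    have h3 : blockCoeff B ((k : H) : G) - blockCoeff cN ⟨((k : H) : G), hCN hkC⟩
        - (blockCoeff B ((k : H) : G) - blockCoeff c' ⟨((k : H) : G), (k : H).2⟩)
        = blockCoeff c' (k : H) - blockCoeff cN ⟨((k : H) : G), hCN hkC⟩ := by ring
    rw [h3] at this
    exact this

/-- First Main Theorem over `H ≥ N_G(P)`, from `H` to `G`. -/
theorem fmt_over_up (hM : IsPModular p M) (P H : Subgroup G) [Fintype H]
    (hP : IsPGroup p P) (hH : Subgroup.normalizer (P : Set G) ≤ H)
    {c : Set (IrrCharacter H)} (hc : IsPBlock M c)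
    (hDc : IsDefectGroup p M c (P.subgroupOf H)) :
    ∃ B : Set (IrrCharacter G), IsPBlock M B ∧ IsDefectGroup p M B P ∧
      (∀ x : G, x ∈ Subgroup.centralizer (P : Set G) → ∀ hx : x ∈ H,
        MemLocalIdeal M (blockCoeff B x - blockCoeff c ⟨x, hx⟩)) ∧
      ∀ B' : Set (IrrCharacter G), IsPBlock M B' →
        (∀ x : G, x ∈ Subgroup.centralizer (P : Set G) → ∀ hx : x ∈ H,
          MemLocalIdeal M (blockCoeff B' x - blockCoeff c ⟨x, hx⟩)) → B' = B := by
  classical
  have hMp := Cfsg.Agent.Lib.helper20.isPrime_of_isPModular hM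
  have hPH : P ≤ H := le_trans Subgroup.le_normalizer hH
  have hCN : Subgroup.centralizer (P : Set G) ≤ Subgroup.normalizer (P : Set G) :=
    Subgroup.centralizer_le_normalizer _
  have : Fintype (Subgroup.normalizer (P : Set G)) := Fintype.ofFinite _
  have : Fintype ((Subgroup.normalizer (P : Set G)).subgroupOf H) := Fintype.ofFinite _
  -- `H`-side
  obtain ⟨c₁, hc₁, hDc₁, hcong₁, -, -⟩ := fmt_down (G := H) hM (P.subgroupOf H)
    ((Subgroup.normalizer (P : Set G)).subgroupOf H) hP.comap_subtype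
    (subgroupOf_normalizer_le P H) (normalizer_subgroupOf_le P H hPH) hc hDc
  -- transport to the normalizer in `G`
  have hcN := isPBlock_blockMap (M := M) (Subgroup.subgroupOfEquivOfLe hH) hc₁
  have hDcN := isDefectGroup_blockMap (Subgroup.subgroupOfEquivOfLe hH) hDc₁
  rw [map_subgroupOfEquivOfLe P hH] at hDcN
  -- `G`-side
  obtain ⟨B, hB, hDB, hcongB, -, huniqB⟩ := fmt_up hM P (Subgroup.normalizer (P : Set G)) hP
    le_rfl le_rfl hcN hDcN
  refine ⟨B, hB, hDB, ?_, ?_⟩
  · intro x hx hxH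
    have h1 := hcongB ⟨x, hCN hx⟩
    rw [brH_of_mem P _ _ hx, blockCoeff_blockMap] at h1
    have h2 := hcong₁ ⟨⟨x, hxH⟩, Subgroup.mem_subgroupOf.mpr (hCN hx)⟩
    rw [brH_of_mem _ _ _ ((mem_centralizer_subgroupOf_iff P H hPH ⟨x, hxH⟩).mpr hx)] at h2
    have := Cfsg.Agent.Lib.helper20.memLocalIdeal_sub hMp h1 h2
    have h3 : blockCoeff B x - blockCoeff c₁ ((Subgroup.subgroupOfEquivOfLe hH).symm ⟨x, hCN hx⟩)
        - (blockCoeff c ⟨x, hxH⟩
          - blockCoeff c₁ ⟨⟨x, hxH⟩, Subgroup.mem_subgroupOf.mpr (hCN hx)⟩)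
        = blockCoeff B x - blockCoeff c ⟨x, hxH⟩ := by
      have h4 : (Subgroup.subgroupOfEquivOfLe hH).symm ⟨x, hCN hx⟩
          = ⟨⟨x, hxH⟩, Subgroup.mem_subgroupOf.mpr (hCN hx)⟩ := rfl
      rw [h4]
      ring
    rw [← h3]
    exact this
  · intro B' hB' hcong'
    apply huniqB B' hB'
    intro k hkC
    have h1 := hcong' _ hkC (hH k.2)
    have h2 := hcong₁ ⟨⟨(k : G), hH k.2⟩, Subgroup.mem_subgroupOf.mpr k.2⟩
    rw [brH_of_mem _ _ _ ((mem_centralizer_subgroupOf_iff P H hPH ⟨(k : G), hH k.2⟩).mpr hkC)]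
      at h2
    rw [blockCoeff_blockMap]
    have := Cfsg.Agent.Lib.helper20.memLocalIdeal_add hMp h1 h2
    have h3 : blockCoeff B' (k : G) - blockCoeff c ⟨(k : G), hH k.2⟩
        + (blockCoeff c ⟨(k : G), hH k.2⟩
          - blockCoeff c₁ ⟨⟨(k : G), hH k.2⟩, Subgroup.mem_subgroupOf.mpr k.2⟩)
        = blockCoeff B' (k : G) - blockCoeff c₁ ((Subgroup.subgroupOfEquivOfLe hH).symm k) := by
      have h4 : (Subgroup.subgroupOfEquivOfLe hH).symm k
          = ⟨⟨(k : G), hH k.2⟩, Subgroup.mem_subgroupOf.mpr k.2⟩ := rfl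
      rw [h4]
      ring
    rw [h3] at this
    exact this

end FMT

end Cfsg.Agent.Lib.helper80
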