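import Cfsg.Agent.Lib.helper80.StabIndex
import Cfsg.Agent.Lib.helper80.FMTOver

/-!
# Brauer pairs inside a centralizer, and control of fusion for abelian defect groups

* `relCent`, `brauerOmega_relCent`: the Brauer functional of a subgroup `H` computed in `G`.
* `exists_mul_of_abelian`: if `(P, e)` is a maximal Brauer pair of `B` with `P` abelian and
  `(Q, f) ≤ (P, e)`, every element of the stabilizer of `(Q, f)` is a product of an element of the
  stabilizer of `(P, e)` and an element of `C_G(Q)`.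
-/

set_option autoImplicit false

open Cfsg

namespace Cfsg.Agent.Lib.helper80

universe u

section Rel

variable {G : Type u} [Group G]

/-- The isomorphism `C_H(R') ≃* C_G(R)` when both consist of the same elements of `G`. -/
def relCent (H : Subgroup G) (R' : Subgroup H) (R : Subgroup G)
    (h : ∀ y : G, y ∈ Subgroup.centralizer (R : Set G) ↔
      ∃ hy : y ∈ H, (⟨y, hy⟩ : H) ∈ Subgroup.centralizer (R' : Set H)) :
    Subgroup.centralizer (R' : Set H) ≃* Subgroup.centralizer (R : Set G) where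
  toFun k := ⟨((k : H) : G), (h _).mpr ⟨(k : H).2, k.2⟩⟩
  invFun y := ⟨⟨(y : G), ((h _).mp y.2).1⟩, ((h _).mp y.2).2⟩
  left_inv k := rfl
  right_inv y := rfl
  map_mul' a b := rfl

theorem relCent_apply_coe (H : Subgroup G) (R' : Subgroup H) (R : Subgroup G)
    (h : ∀ y : G, y ∈ Subgroup.centralizer (R : Set G) ↔
      ∃ hy : y ∈ H, (⟨y, hy⟩ : H) ∈ Subgroup.centralizer (R' : Set H))
    (k : Subgroup.centralizer (R' : Set H)) :
    ((relCent H R' R h k : Subgroup.centralizer (R : Set G)) : G) = ((k : H) : G) := rfl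

theorem relCent_symm_apply_coe (H : Subgroup G) (R' : Subgroup H) (R : Subgroup G)
    (h : ∀ y : G, y ∈ Subgroup.centralizer (R : Set G) ↔
      ∃ hy : y ∈ H, (⟨y, hy⟩ : H) ∈ Subgroup.centralizer (R' : Set H))
    (y : Subgroup.centralizer (R : Set G)) :
    ((((relCent H R' R h).symm y : Subgroup.centralizer (R' : Set H)) : H) : G) = (y : G) := rfl

/-- The Brauer functional at `R'` in the group `H` is the Brauer functional at `R` in `G`. -/
theorem brauerOmega_relCent (H : Subgroup G) (R' : Subgroup H) (R : Subgroup G)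
    (h : ∀ y : G, y ∈ Subgroup.centralizer (R : Set G) ↔
      ∃ hy : y ∈ H, (⟨y, hy⟩ : H) ∈ Subgroup.centralizer (R' : Set H))
    (β : G → ℂ) (ξ' : IrrCharacter (Subgroup.centralizer (R' : Set H))) :
    brauerOmega R β (irrMap (relCent H R' R h) ξ' : Subgroup.centralizer (R : Set G) → ℂ)
      = brauerOmega R' (fun c : H => β c) (ξ' : Subgroup.centralizer (R' : Set H) → ℂ) := by
  unfold brauerOmega
  rw [← finsum_comp_equiv (relCent H R' R h).toEquiv]
  apply finsum_congr
  intro k
  simp only [MulEquiv.toEquiv_eq_coe, MulEquiv.coe_toEquiv]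
  rw [irrMap_apply', irrMap_apply, map_one]
  rfl

theorem blockMap_conjEquiv (K : Subgroup G) (n : G) (hn : n ∈ Subgroup.normalizer (K : Set G))
    (f : Set (IrrCharacter K)) : blockMap (conjEquiv K n hn) f = conjSet K n hn f := by
  ext ψ
  rw [mem_blockMap, mem_conjSet_iff]
  have h1 : irrMap (conjEquiv K n hn).symm ψ = conjIrr K n⁻¹ (Subgroup.inv_mem _ hn) ψ := by
    apply eq_conjIrr_of_isConjCharOf
    intro k k' hk
    rw [irrMap_apply, MulEquiv.symm_symm]
    refine congrArg _ (Subtype.ext ?_)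
    rw [conjEquiv_apply_coe, hk]
    group
  rw [h1]

theorem mem_normalizer_of_forall_conj_mem [Finite G] {P : Subgroup G} {y : G}
    (h : ∀ u ∈ P, y * u * y⁻¹ ∈ P) : y ∈ Subgroup.normalizer (P : Set G) := by
  have hle : P.map (MulAut.conj y).toMonoidHom ≤ P := by
    rintro _ ⟨u, hu, rfl⟩
    exact h u hu
  have heq : P.map (MulAut.conj y).toMonoidHom = P :=
    Subgroup.eq_of_le_of_card_ge hle
      (le_of_eq (Subgroup.card_map_of_injective (MulAut.conj y).injective).symm)
  rw [Subgroup.mem_normalizer_iff]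
  intro u
  constructor
  · exact h u
  · intro hu
    rw [← heq, mem_map_conj] at hu
    have h2 : y⁻¹ * (y * u * y⁻¹) * y = u := by group
    rwa [h2] at hu

end Rel

section Abel

variable {G : Type u} [Group G] [Fintype G] {p : ℕ} [Fact p.Prime] {M : Ideal AlgInt}

open Cfsg.Agent.Lib.helper20

/-- If `P ≤ C_G(Q)` for a maximal pair `(P, e) ≥ (Q, f)`, then `P` is a defect group of `f`. -/
theorem isDefectGroup_centralizer_of_le (hM : IsPModular p M) {B : Set (IrrCharacter G)}
    {P Q : Subgroup G} {e : Set (IrrCharacter (Subgroup.centralizer (P : Set G)))}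
    {f : Set (IrrCharacter (Subgroup.centralizer (Q : Set G)))}
    (hmax : IsMaximalBrauerPair p M B P e) (hQP : Q ≤ P) (hf : IsPBlock M f)
    (hle : SubpairLE p M Q f P e) (hPC : P ≤ Subgroup.centralizer (Q : Set G)) :
    IsDefectGroup p M f (P.subgroupOf (Subgroup.centralizer (Q : Set G))) := by
  classical
  have : Fintype (Subgroup.centralizer (Q : Set G)) := Fintype.ofFinite _
  have hPe : IsBrauerPair p M P e := hmax.1.1
  obtain ⟨D, hD, hDle⟩ := exists_defectGroup_centralizer_le hM hPe hQP hf hle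
  obtain ⟨x', hlex', hDx'⟩ := exists_conj_defect_centralizer hM hmax hQP hf hle
  have h3 := IsDefectGroup.card_eq hM (isPBlock_conjBlock (M := M) Q x' hf) hDx'
    (isDefectGroup_conjBlock Q x' hD)
  rw [Subgroup.card_map_of_injective (centConj Q x').injective,
    card_subgroupOf_of_le inf_le_right] at h3
  have h4 : Nat.card D ≤ Nat.card ((P ⊓ Subgroup.centralizer (Q : Set G)).subgroupOf
      (Subgroup.centralizer (Q : Set G))) := by
    rw [card_subgroupOf_of_le inf_le_right, h3, inf_eq_left.mpr hPC]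
    exact Subgroup.card_le_of_le inf_le_left
  have h5 := Subgroup.eq_of_le_of_card_ge hDle h4
  rw [Subgroup.inf_subgroupOf_right] at h5
  rw [h5]
  exact hD

/-- **Control of fusion for abelian defect groups.** -/
theorem exists_mul_of_abelian (hM : IsPModular p M) {B : Set (IrrCharacter G)}
    {P : Subgroup G} {e : Set (IrrCharacter (Subgroup.centralizer (P : Set G)))}
    (hmax : IsMaximalBrauerPair p M B P e) (hab : ∀ x ∈ P, ∀ y ∈ P, x * y = y * x)
    {Q : Subgroup G} {f : Set (IrrCharacter (Subgroup.centralizer (Q : Set G)))}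
    (hQP : Q ≤ P) (hf : IsPBlock M f) (hle : SubpairLE p M Q f P e) {x : G}
    (hxN : x ∈ Subgroup.normalizer (Q : Set G))
    (hxS : StabilizesBlock (Subgroup.centralizer (Q : Set G)) f x) :
    ∃ y : G, y ∈ Subgroup.normalizer (P : Set G) ∧
      StabilizesBlock (Subgroup.centralizer (P : Set G)) e y ∧
      ∃ c ∈ Subgroup.centralizer (Q : Set G), x = y * c := by
  classical
  have hMp := isPrime_of_isPModular hM
  have hPe : IsBrauerPair p M P e := hmax.1.1
  have hP : IsPGroup p P := hPe.1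
  have he : IsPBlock M e := hPe.2
  have hQ : IsPGroup p Q := hP.to_le hQP
  have hPC : P ≤ Subgroup.centralizer (Q : Set G) := by
    intro u hu
    rw [Subgroup.mem_centralizer_iff]
    intro q hq
    exact hab q (hQP hq) u hu
  have hCPC : Subgroup.centralizer (P : Set G) ≤ Subgroup.centralizer (Q : Set G) :=
    Subgroup.centralizer_le (SetLike.coe_subset_coe.mpr hQP)
  have hPN : P ≤ Subgroup.normalizer (Q : Set G) :=
    hPC.trans (Subgroup.centralizer_le_normalizer _)
  have hns := normalSubpair_of_subpairLE hM ⟨Q, f⟩ ⟨P, e⟩ hle ⟨hQ, hf⟩ hPN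
  have hxNC : x ∈ Subgroup.normalizer
      ((Subgroup.centralizer (Q : Set G) : Subgroup G) : Set G) :=
    normalizer_le_normalizer_centralizer Q hxN
  have hfx : conjSet (Subgroup.centralizer (Q : Set G)) x hxNC f = f :=
    (stabilizesBlock_iff_eq hMp _ x hxNC hf).mp hxS
  have : Fintype (Subgroup.centralizer (Q : Set G)) := Fintype.ofFinite _
  -- Step 1: `P` is a defect group of `f`, and so is its conjugate by `x`
  have hD1 := isDefectGroup_centralizer_of_le hM hmax hQP hf hle hPC
  have hD2 : IsDefectGroup p M f ((P.subgroupOf (Subgroup.centralizer (Q : Set G))).map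
      (conjEquiv (Subgroup.centralizer (Q : Set G)) x hxNC).toMonoidHom) := by
    have h1 := isDefectGroup_blockMap (conjEquiv (Subgroup.centralizer (Q : Set G)) x hxNC) hD1
    rwa [blockMap_conjEquiv, hfx] at h1
  obtain ⟨c, hc⟩ := IsDefectGroup.exists_conj_eq hM hf hD1 hD2
  have hcC : (c : G) ∈ Subgroup.centralizer (Q : Set G) := c.2
  -- Step 2: `y₀ = c⁻¹ x` normalizes `P`
  have hy₀P : ∀ u ∈ P, ((c : G)⁻¹ * x) * u * ((c : G)⁻¹ * x)⁻¹ ∈ P := by
    intro u hu
    have h1 : conjEquiv (Subgroup.centralizer (Q : Set G)) x hxNC ⟨u, hPC hu⟩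
        ∈ (P.subgroupOf (Subgroup.centralizer (Q : Set G))).map
          (conjEquiv (Subgroup.centralizer (Q : Set G)) x hxNC).toMonoidHom :=
      ⟨⟨u, hPC hu⟩, Subgroup.mem_subgroupOf.mpr hu, rfl⟩
    rw [hc, mem_map_conj, Subgroup.mem_subgroupOf] at h1
    have h2 : ((c⁻¹ * conjEquiv (Subgroup.centralizer (Q : Set G)) x hxNC ⟨u, hPC hu⟩ * c
        : Subgroup.centralizer (Q : Set G)) : G) = ((c : G)⁻¹ * x) * u * ((c : G)⁻¹ * x)⁻¹ := by
      simp only [Subgroup.coe_mul, Subgroup.coe_inv, conjEquiv_apply_coe]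
      group
    rwa [h2] at h1
  have hy₀N : (c : G)⁻¹ * x ∈ Subgroup.normalizer (P : Set G) :=
    mem_normalizer_of_forall_conj_mem hy₀P
  have hcinvN : (c : G)⁻¹ ∈ Subgroup.normalizer
      ((Subgroup.centralizer (Q : Set G) : Subgroup G) : Set G) :=
    Subgroup.le_normalizer (Subgroup.inv_mem _ hcC)
  have hy₀NC : (c : G)⁻¹ * x ∈ Subgroup.normalizer
      ((Subgroup.centralizer (Q : Set G) : Subgroup G) : Set G) :=
    Subgroup.mul_mem _ hcinvN hxNC
  have hfy₀ : conjSet (Subgroup.centralizer (Q : Set G)) ((c : G)⁻¹ * x) hy₀NC f = f := by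
    rw [conjSet_mul _ (c : G)⁻¹ x hcinvN hxNC, hfx]
    exact (stabilizesBlock_iff_eq hMp _ _ hcinvN hf).mp
      (stabilizesBlock_of_mem_sup_centralizer Q f
        (Subgroup.mem_sup_right (Subgroup.inv_mem _ hcC)))
  have hy₀NCP : (c : G)⁻¹ * x ∈ Subgroup.normalizer
      ((Subgroup.centralizer (P : Set G) : Subgroup G) : Set G) :=
    normalizer_le_normalizer_centralizer P hy₀N
  -- Step 3: the conjugate pair `(P, e₂)` also contains `(Q, f)`
  have he₂b : IsPBlock M (conjSet (Subgroup.centralizer (P : Set G)) ((c : G)⁻¹ * x) hy₀NCP e) :=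
    isPBlock_conjSet _ _ hy₀NCP he
  have hβ : ∀ g : G, subgroupBlockCoeff (Subgroup.centralizer (Q : Set G)) f
      (((c : G)⁻¹ * x) * g * ((c : G)⁻¹ * x)⁻¹)
      = subgroupBlockCoeff (Subgroup.centralizer (Q : Set G)) f g :=
    fun g => subgroupBlockCoeff_conj_of_eq _ _ hy₀NC f hfy₀ g
  have hns₂ : ∀ ξ₂ ∈ conjSet (Subgroup.centralizer (P : Set G)) ((c : G)⁻¹ * x) hy₀NCP e,
      MemLocalIdeal M (brauerOmega P (subgroupBlockCoeff (Subgroup.centralizer (Q : Set G)) f)
        (ξ₂ : Subgroup.centralizer (P : Set G) → ℂ) - 1) := by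
    intro ξ₂ hξ₂
    rw [mem_conjSet_iff] at hξ₂
    rw [brauerOmega_conj P _ hy₀NCP (subgroupBlockCoeff (Subgroup.centralizer (Q : Set G)) f)
      (subgroupBlockCoeff (Subgroup.centralizer (Q : Set G)) f) (fun c _ => hβ c) ξ₂]
    exact hns.2.2.2.2.2 _ hξ₂
  -- Step 4: transport to the group `C_G(Q)`
  have hcent : ∀ y : G, y ∈ Subgroup.centralizer (P : Set G) ↔
      ∃ hy : y ∈ Subgroup.centralizer (Q : Set G),
        (⟨y, hy⟩ : Subgroup.centralizer (Q : Set G)) ∈ Subgroup.centralizer
          ((P.subgroupOf (Subgroup.centralizer (Q : Set G))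
            : Subgroup (Subgroup.centralizer (Q : Set G)))
            : Set (Subgroup.centralizer (Q : Set G))) := by
    intro y
    constructor
    · intro hy
      exact ⟨hCPC hy, (mem_centralizer_subgroupOf_iff P _ hPC ⟨y, hCPC hy⟩).mpr hy⟩
    · rintro ⟨hy, hy'⟩
      exact (mem_centralizer_subgroupOf_iff P _ hPC ⟨y, hy⟩).mp hy'
  have hpair : ∀ (e₀ : Set (IrrCharacter (Subgroup.centralizer (P : Set G)))), IsPBlock M e₀ →
      (∀ ξ ∈ e₀, MemLocalIdeal M
        (brauerOmega P (subgroupBlockCoeff (Subgroup.centralizer (Q : Set G)) f)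
          (ξ : Subgroup.centralizer (P : Set G) → ℂ) - 1)) →
      IsBrauerPairOf p M f (P.subgroupOf (Subgroup.centralizer (Q : Set G)))
        (blockMap (relCent _ _ P hcent).symm e₀) := by
    intro e₀ he₀ h
    refine ⟨⟨hP.comap_subtype, isPBlock_blockMap _ he₀⟩, hf, ?_⟩
    intro ξ' hξ'
    rw [mem_blockMap, MulEquiv.symm_symm] at hξ'
    have h1 := h _ hξ'
    rw [brauerOmega_relCent] at h1
    have h2 : (fun c : Subgroup.centralizer (Q : Set G) =>
        subgroupBlockCoeff (Subgroup.centralizer (Q : Set G)) f (c : G)) = blockCoeff f :=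
      funext (fun c => subgroupBlockCoeff_of_mem _ f c.2)
    rwa [h2] at h1
  have hp1 := hpair e he hns.2.2.2.2.2
  have hp2 := hpair _ he₂b hns₂
  obtain ⟨y', hy'P, ξ₂', hξ₂', ξ', hξ', hag⟩ := exists_conj_eq_of_defect hM hp1 hp2 hD1 hD1
  obtain ⟨ξ₀, hξ₀, hconj⟩ := hξ₂'
  rw [mem_blockMap, MulEquiv.symm_symm] at hξ₀ hξ'
  -- `n = y'` normalizes `P`
  have hnC : (y' : G) ∈ Subgroup.centralizer (Q : Set G) := y'.2
  have hnP : ∀ u ∈ P, (y' : G) * u * (y' : G)⁻¹ ∈ P := by
    intro u hu
    have h1 : (MulAut.conj y').toMonoidHom ⟨u, hPC hu⟩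
        ∈ (P.subgroupOf (Subgroup.centralizer (Q : Set G))).map (MulAut.conj y').toMonoidHom :=
      ⟨⟨u, hPC hu⟩, Subgroup.mem_subgroupOf.mpr hu, rfl⟩
    rw [hy'P, Subgroup.mem_subgroupOf] at h1
    exact h1
  have hnN : (y' : G) ∈ Subgroup.normalizer (P : Set G) := mem_normalizer_of_forall_conj_mem hnP
  have hnNCP : (y' : G) ∈ Subgroup.normalizer
      ((Subgroup.centralizer (P : Set G) : Subgroup G) : Set G) :=
    normalizer_le_normalizer_centralizer P hnN
  have hninv : (y' : G)⁻¹ ∈ Subgroup.normalizer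
      ((Subgroup.centralizer (P : Set G) : Subgroup G) : Set G) := Subgroup.inv_mem _ hnNCP
  have hirr : irrMap (relCent _ _ P hcent) ξ₀
      = conjIrr (Subgroup.centralizer (P : Set G)) (y' : G)⁻¹ hninv
        (irrMap (relCent _ _ P hcent) ξ') := by
    apply eq_conjIrr_of_isConjCharOf
    intro k k' hk
    rw [irrMap_apply, irrMap_apply]
    have hmem : y' * (((relCent _ _ P hcent).symm k' : Subgroup.centralizer
        ((P.subgroupOf (Subgroup.centralizer (Q : Set G))
          : Subgroup (Subgroup.centralizer (Q : Set G)))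
          : Set (Subgroup.centralizer (Q : Set G)))) : Subgroup.centralizer (Q : Set G)) * y'⁻¹
        ∈ Subgroup.centralizer
          (((P.subgroupOf (Subgroup.centralizer (Q : Set G))).map (MulAut.conj y').toMonoidHom
            : Subgroup (Subgroup.centralizer (Q : Set G)))
            : Set (Subgroup.centralizer (Q : Set G))) :=
      conj_mem_centralizer_map _ y' ((relCent _ _ P hcent).symm k').2
    have h1 := hconj ((relCent _ _ P hcent).symm k') ⟨_, hmem⟩ rfl
    have h2 := hag ⟨_, hmem⟩ ((relCent _ _ P hcent).symm k) (by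
      apply Subtype.ext
      show (y' : G) * (k' : G) * (y' : G)⁻¹ = (k : G)
      rw [hk]
      group)
    rw [← h1, h2]
  have he₂eq : conjSet (Subgroup.centralizer (P : Set G)) ((c : G)⁻¹ * x) hy₀NCP e
      = conjSet (Subgroup.centralizer (P : Set G)) (y' : G)⁻¹ hninv e := by
    refine isPBlock_eq_of_mem hMp he₂b (isPBlock_conjSet _ _ hninv he) hξ₀ ?_
    rw [hirr]
    exact (mem_conjSet _ _ hninv e _).mpr hξ'
  -- Step 5: `y = n y₀` stabilizes `(P, e)`
  have hyN : (y' : G) * ((c : G)⁻¹ * x) ∈ Subgroup.normalizer (P : Set G) :=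
    Subgroup.mul_mem _ hnN hy₀N
  have hyNCP : (y' : G) * ((c : G)⁻¹ * x) ∈ Subgroup.normalizer
      ((Subgroup.centralizer (P : Set G) : Subgroup G) : Set G) :=
    Subgroup.mul_mem _ hnNCP hy₀NCP
  have hye : conjSet (Subgroup.centralizer (P : Set G)) ((y' : G) * ((c : G)⁻¹ * x)) hyNCP e
      = e := by
    rw [conjSet_mul _ (y' : G) _ hnNCP hy₀NCP, he₂eq,
      ← conjSet_mul _ (y' : G) (y' : G)⁻¹ hnNCP hninv (by simp)]
    rw [conjSet_congr _ (mul_inv_cancel (y' : G)) _ (Subgroup.one_mem _), conjSet_one]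
  refine ⟨(y' : G) * ((c : G)⁻¹ * x), hyN,
    (stabilizesBlock_iff_eq hMp _ _ hyNCP he).mpr hye,
    x⁻¹ * ((c : G) * (y' : G)⁻¹) * x, ?_, by group⟩
  exact conj_inv_mem_of_mem_normalizer hxNC
    (Subgroup.mul_mem _ hcC (Subgroup.inv_mem _ hnC))

/-- An element stabilizing `(P, e)` and normalizing `Q` stabilizes the pair `(Q, f) ⊴ (P, e)`. -/
theorem stabilizesBlock_of_normalSubpair (hM : IsPModular p M) {P Q : Subgroup G}
    {e : Set (IrrCharacter (Subgroup.centralizer (P : Set G)))}
    {f : Set (IrrCharacter (Subgroup.centralizer (Q : Set G)))}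
    (hns : IsNormalSubpair p M Q f P e) {y : G} (hyP : y ∈ Subgroup.normalizer (P : Set G))
    (hye : StabilizesBlock (Subgroup.centralizer (P : Set G)) e y)
    (hyQ : y ∈ Subgroup.normalizer (Q : Set G)) :
    StabilizesBlock (Subgroup.centralizer (Q : Set G)) f y := by
  classical
  have hMp := isPrime_of_isPModular hM
  obtain ⟨hQf, hPe, hQP, hPN, hstab, hbr⟩ := hns
  have hf : IsPBlock M f := hQf.2
  have he : IsPBlock M e := hPe.2
  have hyNC : y ∈ Subgroup.normalizer
      ((Subgroup.centralizer (Q : Set G) : Subgroup G) : Set G) :=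
    normalizer_le_normalizer_centralizer Q hyQ
  have hyNCP : y ∈ Subgroup.normalizer
      ((Subgroup.centralizer (P : Set G) : Subgroup G) : Set G) :=
    normalizer_le_normalizer_centralizer P hyP
  have hey : conjSet (Subgroup.centralizer (P : Set G)) y hyNCP e = e :=
    (stabilizesBlock_iff_eq hMp _ y hyNCP he).mp hye
  have hf₂ : IsPBlock M (conjSet (Subgroup.centralizer (Q : Set G)) y hyNC f) :=
    isPBlock_conjSet _ y hyNC hf
  have hns₂ : IsNormalSubpair p M Q (conjSet (Subgroup.centralizer (Q : Set G)) y hyNC f) P e := by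
    refine ⟨⟨hQf.1, hf₂⟩, hPe, hQP, hPN, ?_, ?_⟩
    · intro x hx
      have hxNC : x ∈ Subgroup.normalizer
          ((Subgroup.centralizer (Q : Set G) : Subgroup G) : Set G) :=
        normalizer_le_normalizer_centralizer Q (hPN hx)
      have hx' : y⁻¹ * x * y ∈ P := conj_inv_mem_of_mem_normalizer hyP hx
      have hx'NC : y⁻¹ * x * y ∈ Subgroup.normalizer
          ((Subgroup.centralizer (Q : Set G) : Subgroup G) : Set G) :=
        normalizer_le_normalizer_centralizer Q (hPN hx')
      rw [stabilizesBlock_iff_eq hMp _ x hxNC hf₂,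
        ← conjSet_mul _ x y hxNC hyNC (Subgroup.mul_mem _ hxNC hyNC),
        conjSet_congr _ (show x * y = y * (y⁻¹ * x * y) by group) _
          (Subgroup.mul_mem _ hyNC hx'NC),
        conjSet_mul _ y _ hyNC hx'NC,
        (stabilizesBlock_iff_eq hMp _ _ hx'NC hf).mp (hstab _ hx')]
    · intro ξ hξ
      rw [brauerOmega_conj P y hyNCP (subgroupBlockCoeff (Subgroup.centralizer (Q : Set G)) f)
        (subgroupBlockCoeff (Subgroup.centralizer (Q : Set G))
          (conjSet (Subgroup.centralizer (Q : Set G)) y hyNC f))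
        (fun c _ => subgroupBlockCoeff_conjSet _ y hyNC f c) ξ]
      apply hbr
      rw [← mem_conjSet_iff _ _ hyNCP, hey]
      exact hξ
  have heq : conjSet (Subgroup.centralizer (Q : Set G)) y hyNC f = f :=
    subpairLE_unique hM P e hPe _ Q _ f rfl (Relation.ReflTransGen.single hns₂)
      (Relation.ReflTransGen.single ⟨hQf, hPe, hQP, hPN, hstab, hbr⟩)
  exact (stabilizesBlock_iff_eq hMp _ y hyNC hf).mpr heq

end Abel

section Index

variable {G : Type u} [Group G]

/-- If `T_Q = (T_P ∩ N_G(Q)) C_G(Q)`, then `|T_Q : C_G(Q)| = |T_P ∩ N_G(Q) : T_P ∩ C_G(Q)|`. -/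
theorem index_centralizer_eq_of_mul (Q TQ TP : Subgroup G)
    (hCTQ : Subgroup.centralizer (Q : Set G) ≤ TQ)
    (hTQN : TQ ≤ Subgroup.normalizer (Q : Set G))
    (hA : TP ⊓ Subgroup.normalizer (Q : Set G) ≤ TQ)
    (hmul : ∀ x ∈ TQ, ∃ y ∈ TP, ∃ c ∈ Subgroup.centralizer (Q : Set G), x = y * c) :
    ((Subgroup.centralizer (Q : Set G)).subgroupOf TQ).index
      = ((TP ⊓ Subgroup.centralizer (Q : Set G)).subgroupOf
          (TP ⊓ Subgroup.normalizer (Q : Set G))).index := by
  have hCN : Subgroup.centralizer (Q : Set G) ≤ Subgroup.normalizer (Q : Set G) :=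
    Subgroup.centralizer_le_normalizer _
  have hnorm : ((Subgroup.centralizer (Q : Set G)).subgroupOf
      (Subgroup.normalizer (Q : Set G))).Normal :=
    Subgroup.normal_subgroupOf_of_le_normalizer (normalizer_le_normalizer_centralizer Q)
  have hsup : TQ.subgroupOf (Subgroup.normalizer (Q : Set G))
      = (TP ⊓ Subgroup.normalizer (Q : Set G)).subgroupOf (Subgroup.normalizer (Q : Set G))
        ⊔ (Subgroup.centralizer (Q : Set G)).subgroupOf (Subgroup.normalizer (Q : Set G)) := by
    apply le_antisymm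
    · intro t ht
      rw [Subgroup.mem_subgroupOf] at ht
      obtain ⟨y, hy, c, hc, hx⟩ := hmul _ ht
      have hyN : y ∈ Subgroup.normalizer (Q : Set G) := by
        have : y = (t : G) * c⁻¹ := by rw [hx]; group
        rw [this]
        exact Subgroup.mul_mem _ t.2 (Subgroup.inv_mem _ (hCN hc))
      have ht' : t = (⟨y, hyN⟩ : Subgroup.normalizer (Q : Set G)) * ⟨c, hCN hc⟩ :=
        Subtype.ext hx
      rw [ht']
      exact Subgroup.mul_mem _
        (Subgroup.mem_sup_left (Subgroup.mem_subgroupOf.mpr ⟨hy, hyN⟩))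
        (Subgroup.mem_sup_right (Subgroup.mem_subgroupOf.mpr hc))
    · exact sup_le (Subgroup.subgroupOf_mono _ hA) (Subgroup.subgroupOf_mono _ hCTQ)
  have hinf : Subgroup.centralizer (Q : Set G) ⊓ (TP ⊓ Subgroup.normalizer (Q : Set G))
      = TP ⊓ Subgroup.centralizer (Q : Set G) := by
    ext z
    simp only [Subgroup.mem_inf]
    constructor
    · rintro ⟨h1, h2, -⟩
      exact ⟨h2, h1⟩
    · rintro ⟨h1, h2⟩
      exact ⟨h2, h1, hCN h2⟩
  calc ((Subgroup.centralizer (Q : Set G)).subgroupOf TQ).index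
      = (Subgroup.centralizer (Q : Set G)).relIndex TQ := rfl
    _ = ((Subgroup.centralizer (Q : Set G)).subgroupOf (Subgroup.normalizer (Q : Set G))).relIndex
          (TQ.subgroupOf (Subgroup.normalizer (Q : Set G))) :=
        (Subgroup.relIndex_subgroupOf hTQN).symm
    _ = ((Subgroup.centralizer (Q : Set G)).subgroupOf (Subgroup.normalizer (Q : Set G))).relIndex
          ((TP ⊓ Subgroup.normalizer (Q : Set G)).subgroupOf (Subgroup.normalizer (Q : Set G))) := by
        rw [hsup, Subgroup.relIndex_sup_right]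
    _ = (Subgroup.centralizer (Q : Set G)).relIndex (TP ⊓ Subgroup.normalizer (Q : Set G)) :=
        Subgroup.relIndex_subgroupOf inf_le_right
    _ = (Subgroup.centralizer (Q : Set G) ⊓ (TP ⊓ Subgroup.normalizer (Q : Set G))).relIndex
          (TP ⊓ Subgroup.normalizer (Q : Set G)) := (Subgroup.inf_relIndex_right _ _).symm
    _ = ((TP ⊓ Subgroup.centralizer (Q : Set G)).subgroupOf
          (TP ⊓ Subgroup.normalizer (Q : Set G))).index := by
        rw [hinf]
        rfl

end Index

end Cfsg.Agent.Lib.helper80
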