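import Cfsg.Agent.Lib.helper78.KLCount
import Cfsg.Agent.Lib.helper78.KleinDefect
import Cfsg.Agent.Lib.helper77.IndTrans
import Cfsg.Agent.Lib.helper77.FongReynolds
import Cfsg.Agent.Lib.helper80.Transport
import Cfsg.Agent.Lib.helper80.Cover

/-!
# Brauer's formula, weighted over all `p`-elements, for a group and for its subgroups

`indRank p M b K` is the sum of the `p`-regular ranks of the blocks of the subgroup `K` inducing
the block `b` of `G`.  Then `#G (k(b) - l(b))` is the sum over the nontrivial `p`-elements `x` of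
`#C_G(x) · indRank (C_G(x))`, and for a subgroup `H` the analogous identity holds for the union
of the blocks of `H` inducing `b`, with `C_G(x) ∩ H` (`x ∈ H`).
-/

set_option autoImplicit false

open Cfsg

namespace Cfsg.Agent.Lib.helper80

universe u

section KR

variable {G : Type u} [Group G]

/-- Induction of blocks, in terms of central character functionals. -/
theorem isInducedBlock_iff_om [Fintype G] {M : Ideal AlgInt} (hM : M.IsPrime) (H : Subgroup G)
    [Fintype H] (β : Set (IrrCharacter H)) (B : Set (IrrCharacter G)) :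
    IsInducedBlock M H β B ↔ IsPBlock M β ∧ IsPBlock M B ∧ ∀ ξ ∈ β, ∀ χ ∈ B, ∀ z : G → ℂ,
      IsClassFunction G z → (∀ g, MemLocalRing M (z g)) →
        MemLocalIdeal M (om (ξ : H → ℂ) (resFun H z) - om (χ : G → ℂ) z) := by
  constructor
  · rintro ⟨hβ, hB, h⟩
    refine ⟨hβ, hB, fun ξ hξ χ hχ z hz hzl => ?_⟩
    exact Cfsg.Agent.Lib.helper77.memLocalIdeal_om_restrict_sub hM H (ξ : H → ℂ) χ
      (h ξ hξ χ hχ) hz hzl
  · rintro ⟨hβ, hB, h⟩
    refine ⟨hβ, hB, fun ξ hξ χ hχ g => ?_⟩
    rw [Cfsg.Agent.Lib.helper77.inducedCentralChar_eq_om H (ξ : H → ℂ) g, ← om_classInd χ g]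
    exact h ξ hξ χ hχ (classInd g) (classInd_classFun g)
      (fun y => Cfsg.Agent.Lib.helper77.memLocalRing_classInd hM g y)

/-- Transport of the central character functional along an isomorphism of subgroups preserving
`G`-conjugacy classes. -/
theorem om_irrMap_resFun {K₁ K₂ : Subgroup G} [Fintype K₁] [Fintype K₂] (φ : K₁ ≃* K₂)
    (hφ : ∀ k : K₁, IsConj ((φ k : K₂) : G) ((k : K₁) : G)) (ξ : IrrCharacter K₁) (z : G → ℂ)
    (hz : IsClassFunction G z) :
    om (irrMap φ ξ : K₂ → ℂ) (resFun K₂ z) = om (ξ : K₁ → ℂ) (resFun K₁ z) := by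
  unfold om
  rw [irrMap_apply, map_one]
  congr 1
  symm
  apply Fintype.sum_equiv φ.toEquiv
  intro k
  have h1 : (irrMap φ ξ : K₂ → ℂ) (φ.toEquiv k) = (ξ : K₁ → ℂ) k := irrMap_apply' φ ξ k
  have h2 : resFun K₂ z (φ.toEquiv k) = resFun K₁ z k := by
    obtain ⟨c, hc⟩ := isConj_iff.mp (hφ k)
    show z ((φ k : K₂) : G) = z ((k : K₁) : G)
    rw [← hc]
    exact (hz _ c).symm
  rw [h1, h2]

theorem isInducedBlock_blockMap_iff [Finite G] {M : Ideal AlgInt} (hM : M.IsPrime)
    {K₁ K₂ : Subgroup G} (φ : K₁ ≃* K₂)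
    (hφ : ∀ k : K₁, IsConj ((φ k : K₂) : G) ((k : K₁) : G)) (γ : Set (IrrCharacter K₁))
    (B : Set (IrrCharacter G)) :
    IsInducedBlock M K₂ (blockMap φ γ) B ↔ IsInducedBlock M K₁ γ B := by
  have : Fintype G := Fintype.ofFinite G
  have : Fintype K₁ := Fintype.ofFinite _
  have : Fintype K₂ := Fintype.ofFinite _
  rw [isInducedBlock_iff_om hM, isInducedBlock_iff_om hM]
  constructor
  · rintro ⟨h1, hB, h⟩
    refine ⟨?_, hB, fun ξ hξ χ hχ z hz hzl => ?_⟩
    · have h2 := isPBlock_blockMap φ.symm h1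
      rwa [blockMap_symm_blockMap] at h2
    · have h2 := h (irrMap φ ξ) ((irrMap_mem_blockMap φ γ ξ).mpr hξ) χ hχ z hz hzl
      rwa [om_irrMap_resFun φ hφ ξ z hz] at h2
  · rintro ⟨h1, hB, h⟩
    refine ⟨isPBlock_blockMap φ h1, hB, fun ξ hξ χ hχ z hz hzl => ?_⟩
    have h2 := h (irrMap φ.symm ξ) hξ χ hχ z hz hzl
    rw [← om_irrMap_resFun φ hφ (irrMap φ.symm ξ) z hz, irrMap_irrMap_symm] at h2
    exact h2

/-- The sum of the `p`-regular ranks of the blocks of `K` inducing `b`. -/
noncomputable def indRank (p : ℕ) (M : Ideal AlgInt) (b : Set (IrrCharacter G))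
    (K : Subgroup G) : ℕ :=
  ∑ᶠ γ ∈ {γ : Set (IrrCharacter K) | IsInducedBlock M K γ b}, blockRank p γ

theorem indRank_eq_of_equiv [Finite G] {p : ℕ} {M : Ideal AlgInt} (hM : M.IsPrime)
    (b : Set (IrrCharacter G)) {K₁ K₂ : Subgroup G} (φ : K₁ ≃* K₂)
    (hφ : ∀ k : K₁, IsConj ((φ k : K₂) : G) ((k : K₁) : G)) :
    indRank p M b K₂ = indRank p M b K₁ := by
  unfold indRank
  symm
  apply finsum_mem_eq_of_bijOn (blockMap φ)
  · refine ⟨?_, ?_, ?_⟩
    · intro γ hγ
      exact (isInducedBlock_blockMap_iff hM φ hφ γ b).mpr hγ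
    · intro γ _ γ' _ h
      have h2 := congrArg (blockMap φ.symm) h
      rwa [blockMap_symm_blockMap, blockMap_symm_blockMap] at h2
    · intro γ₂ hγ₂
      refine ⟨blockMap φ.symm γ₂, ?_, blockMap_blockMap_symm φ γ₂⟩
      have h2 : IsInducedBlock M K₂ (blockMap φ (blockMap φ.symm γ₂)) b := by
        rw [blockMap_blockMap_symm]
        exact hγ₂
      exact (isInducedBlock_blockMap_iff hM φ hφ _ b).mp h2
  · intro γ _
    exact (Cfsg.Agent.Lib.helper78.blockRank_blockMap p φ γ).symm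

theorem indRank_centralizer_conj [Finite G] {p : ℕ} {M : Ideal AlgInt} (hM : M.IsPrime)
    (b : Set (IrrCharacter G)) (g x : G) :
    indRank p M b (Subgroup.centralizer ({g * x * g⁻¹} : Set G))
      = indRank p M b (Subgroup.centralizer ({x} : Set G)) := by
  have h1 := centralizer_map_mulEquiv (MulAut.conj g) x
  rw [MulAut.conj_apply] at h1
  rw [h1]
  apply indRank_eq_of_equiv hM b
    ((Subgroup.centralizer ({x} : Set G)).equivMapOfInjective (MulAut.conj g).toMonoidHom
      (by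
        intro a c h
        apply MulEquiv.injective (MulAut.conj g)
        exact h))
  intro k
  show IsConj (g * (k : G) * g⁻¹) (k : G)
  exact isConj_iff.mpr ⟨g⁻¹, by group⟩

/-- A representative of a conjugacy class. -/
noncomputable def ccOut (c : ConjClasses G) : G := Quotient.out c

theorem mk_ccOut (c : ConjClasses G) : ConjClasses.mk (ccOut c) = c := Quotient.out_eq c

theorem ccOut_injective : Function.Injective (ccOut : ConjClasses G → G) := by
  intro c c' h
  rw [← mk_ccOut c, ← mk_ccOut c', h]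

theorem isConj_ccOut_mk (g : G) : IsConj g (ccOut (ConjClasses.mk g)) :=
  (ConjClasses.mk_eq_mk_iff_isConj.mp (mk_ccOut (ConjClasses.mk g))).symm

open scoped Classical in
/-- Sums over class representatives, weighted by the group order, are sums over all elements
weighted by centralizer orders. -/
theorem card_mul_sum_reps [Fintype G] (P : G → Prop) (hP : ∀ g x : G, P (g * x * g⁻¹) ↔ P x)
    (F : G → ℤ) (hF : ∀ g x : G, F (g * x * g⁻¹) = F x) :
    (Nat.card G : ℤ) * ∑ c ∈ Finset.univ.filter (fun c : ConjClasses G => P (ccOut c)),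
        F (ccOut c)
      = ∑ x ∈ Finset.univ.filter P,
          (Nat.card (Subgroup.centralizer ({x} : Set G)) : ℤ) * F x := by
  obtain ⟨v, hv⟩ : ∃ v : G → ℤ, v = fun x =>
      if P x then (Nat.card (Subgroup.centralizer ({x} : Set G)) : ℤ) * F x else 0 := ⟨_, rfl⟩
  have hvinv : ∀ g x : G, v (g * x * g⁻¹) = v x := by
    intro g x
    rw [hv]
    beta_reduce
    have h1 := card_centralizer_mulEquiv (MulAut.conj g) x
    rw [MulAut.conj_apply] at h1
    by_cases hx : P x
    · rw [if_pos hx, if_pos ((hP g x).mpr hx), hF, h1]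
    · rw [if_neg hx, if_neg (fun h => hx ((hP g x).mp h))]
  have hR : ∑ x ∈ Finset.univ.filter P,
      (Nat.card (Subgroup.centralizer ({x} : Set G)) : ℤ) * F x = ∑ x : G, v x := by
    rw [Finset.sum_filter, hv]
  rw [hR, ← Finset.sum_fiberwise Finset.univ (ConjClasses.mk) v, Finset.mul_sum, Finset.sum_filter]
  refine Finset.sum_congr rfl (fun c _ => ?_)
  have hfil : Finset.univ.filter (fun x : G => ConjClasses.mk x = c)
      = Finset.univ.filter (fun y : G => IsConj (ccOut c) y) := by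
    ext y
    simp only [Finset.mem_filter, Finset.mem_univ, true_and]
    constructor
    · intro h
      have h1 : ConjClasses.mk (ccOut c) = ConjClasses.mk y := by
        rw [h]
        exact mk_ccOut c
      exact ConjClasses.mk_eq_mk_iff_isConj.mp h1
    · intro h
      have h1 := ConjClasses.mk_eq_mk_iff_isConj.mpr h
      rw [← h1]
      exact mk_ccOut c
  rw [hfil]
  have hconst : ∀ y ∈ Finset.univ.filter (fun y : G => IsConj (ccOut c) y),
      v y = v (ccOut c) := by
    intro y hy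
    rw [Finset.mem_filter] at hy
    obtain ⟨t, ht⟩ := isConj_iff.mp hy.2
    rw [← ht]
    exact hvinv t _
  rw [Finset.sum_congr rfl hconst, Finset.sum_const,
    Cfsg.Agent.Lib.helper20.card_conj_class, nsmul_eq_mul, hv]
  beta_reduce
  by_cases hc : P (ccOut c)
  · rw [if_pos hc, if_pos hc, ← mul_assoc]
    congr 1
    have h2 := Subgroup.index_mul_card (Subgroup.centralizer ({ccOut c} : Set G))
    rw [← h2]
    push_cast
    ring
  · rw [if_neg hc, if_neg hc, mul_zero]

open scoped Classical in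
/-- **Brauer's formula**, weighted: `#G (k(b) - l(b))` is the sum over the nontrivial
`p`-elements `x` of `#C_G(x)` times the sum of `l` over the blocks of `C_G(x)` inducing `b`. -/
theorem card_mul_k_sub_l_aux [Fintype G] {p : ℕ} {M : Ideal AlgInt} (hM : IsPModular p M)
    (b : Set (IrrCharacter G)) (hb : IsPBlock M b) :
    (Nat.card G : ℤ) * ((Nat.card b : ℤ) - (blockRank p b : ℤ))
      = ∑ x ∈ Finset.univ.filter (fun x : G => x ≠ 1 ∧ ∃ k : ℕ, orderOf x = p ^ k),
          (Nat.card (Subgroup.centralizer ({x} : Set G)) : ℤ)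
            * (indRank p M b (Subgroup.centralizer ({x} : Set G)) : ℤ) := by
  have hMp := Cfsg.Agent.Lib.helper20.isPrime_of_isPModular hM
  obtain ⟨P, hPdef⟩ : ∃ P : G → Prop, P = fun x => ∃ k : ℕ, orderOf x = p ^ k := ⟨_, rfl⟩
  have hP : ∀ g x : G, P (g * x * g⁻¹) ↔ P x := by
    intro g x
    rw [hPdef]
    beta_reduce
    rw [Cfsg.Agent.Lib.helper78.orderOf_conj_kl]
  obtain ⟨F, hFdef⟩ : ∃ F : G → ℤ,
      F = fun x => (indRank p M b (Subgroup.centralizer ({x} : Set G)) : ℤ) := ⟨_, rfl⟩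
  have hF : ∀ g x : G, F (g * x * g⁻¹) = F x := by
    intro g x
    rw [hFdef]
    beta_reduce
    rw [indRank_centralizer_conj hMp b g x]
  -- representatives
  obtain ⟨X, hXdef⟩ : ∃ X : Finset G, X = (Finset.univ.filter
      (fun c : ConjClasses G => P (ccOut c))).image ccOut := ⟨_, rfl⟩
  have hX : ∀ x ∈ X, ∃ k : ℕ, orderOf x = p ^ k := by
    intro x hx
    rw [hXdef, Finset.mem_image] at hx
    obtain ⟨c, hc, rfl⟩ := hx
    rw [Finset.mem_filter, hPdef] at hc
    exact hc.2
  have hXrep : ∀ g : G, (∃ k : ℕ, orderOf g = p ^ k) → ∃! x, x ∈ X ∧ IsConj g x := by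
    intro g hg
    have hc : IsConj g (ccOut (ConjClasses.mk g)) := isConj_ccOut_mk g
    refine ⟨ccOut (ConjClasses.mk g), ⟨?_, hc⟩, ?_⟩
    · rw [hXdef, Finset.mem_image]
      refine ⟨ConjClasses.mk g, ?_, rfl⟩
      rw [Finset.mem_filter]
      refine ⟨Finset.mem_univ _, ?_⟩
      obtain ⟨t, ht⟩ := isConj_iff.mp hc
      rw [← ht, hP]
      rw [hPdef]
      exact hg
    · rintro y ⟨hy, hgy⟩
      rw [hXdef, Finset.mem_image] at hy
      obtain ⟨c, -, rfl⟩ := hy
      have h1 : ConjClasses.mk g = c := by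
        rw [ConjClasses.mk_eq_mk_iff_isConj.mpr hgy]
        exact mk_ccOut c
      rw [h1]
  have hk := Cfsg.Agent.Lib.helper78.card_block_eq_sum_blockRank hM b hb X hX hXrep
  have hk' : (Nat.card b : ℤ)
      = ∑ c ∈ Finset.univ.filter (fun c : ConjClasses G => P (ccOut c)),
          F (ccOut c) := by
    rw [hk, hXdef, Finset.sum_image (fun c _ c' _ h => ccOut_injective h), hFdef, Nat.cast_sum]
    rfl
  have hl : (blockRank p b : ℤ) = F 1 := by
    rw [hFdef]
    beta_reduce
    have h1 := Cfsg.Agent.Lib.helper78.finsum_induced_one hMp p hb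
    unfold indRank
    rw [h1]
  have hcount := card_mul_sum_reps P hP F hF
  rw [mul_sub, hk', hcount, hl]
  have h1P : P 1 := by
    rw [hPdef]
    exact ⟨0, by rw [orderOf_one, pow_zero]⟩
  have hsplit : Finset.univ.filter P
      = insert (1 : G) (Finset.univ.filter (fun x : G => x ≠ 1 ∧ ∃ k : ℕ, orderOf x = p ^ k)) := by
    ext y
    simp only [Finset.mem_filter, Finset.mem_univ, true_and, Finset.mem_insert]
    rw [hPdef]
    constructor
    · intro h
      by_cases hy : y = 1
      · exact Or.inl hy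
      · exact Or.inr ⟨hy, h⟩
    · rintro (h | h)
      · rw [h]
        exact ⟨0, by rw [orderOf_one, pow_zero]⟩
      · exact h.2
  have hnot : (1 : G) ∉ Finset.univ.filter (fun x : G => x ≠ 1 ∧ ∃ k : ℕ, orderOf x = p ^ k) := by
    rw [Finset.mem_filter]
    exact fun h => h.2.1 rfl
  rw [hsplit, Finset.sum_insert hnot]
  have hC1 : Nat.card (Subgroup.centralizer ({(1 : G)} : Set G)) = Nat.card G := by
    have hH : Subgroup.centralizer ({(1 : G)} : Set G) = ⊤ := by
      rw [Subgroup.centralizer_eq_top_iff_subset]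
      intro y hy
      rw [Set.mem_singleton_iff] at hy
      rw [hy]
      exact Subgroup.one_mem _
    rw [hH]
    exact Nat.card_congr Subgroup.topEquiv.toEquiv
  rw [hC1, add_sub_cancel_left, hFdef]

/-- **Brauer's formula**, weighted (sum over the set of nontrivial `p`-elements). -/
theorem card_mul_k_sub_l [Finite G] {p : ℕ} {M : Ideal AlgInt} (hM : IsPModular p M)
    (b : Set (IrrCharacter G)) (hb : IsPBlock M b) :
    (Nat.card G : ℤ) * ((Nat.card b : ℤ) - (blockRank p b : ℤ))
      = ∑ᶠ x ∈ {x : G | x ≠ 1 ∧ ∃ k : ℕ, orderOf x = p ^ k},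
          (Nat.card (Subgroup.centralizer ({x} : Set G)) : ℤ)
            * (indRank p M b (Subgroup.centralizer ({x} : Set G)) : ℤ) := by
  classical
  have : Fintype G := Fintype.ofFinite G
  rw [card_mul_k_sub_l_aux hM b hb, finsum_mem_eq_finite_toFinset_sum _ (Set.toFinite _)]
  apply Finset.sum_congr
  · ext x
    simp only [Finset.mem_filter, Finset.mem_univ, true_and, Set.Finite.mem_toFinset,
      Set.mem_setOf_eq]
  · intro x _
    rfl

end KR

section Union

variable {H : Type u} [Group H]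

theorem biUnion_insert_eq (β₀ : Set (IrrCharacter H)) (S : Finset (Set (IrrCharacter H)))
    [DecidableEq (Set (IrrCharacter H))] :
    {ψ : IrrCharacter H | ∃ β ∈ insert β₀ S, ψ ∈ β}
      = β₀ ∪ {ψ : IrrCharacter H | ∃ β ∈ S, ψ ∈ β} := by
  ext ψ
  simp only [Finset.mem_insert, Set.mem_setOf_eq, Set.mem_union]
  constructor
  · rintro ⟨β, hβ | hβ, hψ⟩
    · left
      rw [← hβ]
      exact hψ
    · right
      exact ⟨β, hβ, hψ⟩
  · rintro (h | ⟨β, hβ, hψ⟩)
    · exact ⟨β₀, Or.inl rfl, h⟩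
    · exact ⟨β, Or.inr hβ, hψ⟩

/-- The number of characters in a union of distinct blocks. -/
theorem card_biUnion_blocks [Finite H] {M : Ideal AlgInt} (hM : M.IsPrime)
    (S : Finset (Set (IrrCharacter H))) (hS : ∀ β ∈ S, IsPBlock M β) :
    Nat.card {ψ : IrrCharacter H | ∃ β ∈ S, ψ ∈ β} = ∑ β ∈ S, Nat.card β := by
  classical
  haveI := irr_finite H
  induction S using Finset.induction_on with
  | empty =>
    have h0 : {ψ : IrrCharacter H | ∃ β ∈ (∅ : Finset (Set (IrrCharacter H))), ψ ∈ β} = ∅ := by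
      ext ψ
      simp
    rw [h0, Finset.sum_empty, Nat.card_coe_set_eq, Set.ncard_empty]
  | insert β₀ S hβ₀ ih =>
    have hdisj : Disjoint β₀ {ψ : IrrCharacter H | ∃ β ∈ S, ψ ∈ β} := by
      rw [Set.disjoint_left]
      rintro ψ h1 ⟨β, hβ, h2⟩
      have h3 : β₀ = β := Cfsg.Agent.Lib.helper80.isPBlock_eq_of_mem hM
        (hS β₀ (Finset.mem_insert_self _ _)) (hS β (Finset.mem_insert_of_mem hβ)) h1 h2
      exact hβ₀ (h3 ▸ hβ)
    rw [biUnion_insert_eq, Nat.card_coe_set_eq, Set.ncard_union_eq hdisj, Finset.sum_insert hβ₀,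
      ← Nat.card_coe_set_eq, ← Nat.card_coe_set_eq,
      ih (fun β hβ => hS β (Finset.mem_insert_of_mem hβ))]

/-- The `p`-regular rank of a union of distinct blocks. -/
theorem blockRank_biUnion_blocks [Finite H] {p : ℕ} {M : Ideal AlgInt} (hM : IsPModular p M)
    (S : Finset (Set (IrrCharacter H))) (hS : ∀ β ∈ S, IsPBlock M β) :
    blockRank p {ψ : IrrCharacter H | ∃ β ∈ S, ψ ∈ β} = ∑ β ∈ S, blockRank p β := by
  classical
  have hMp := Cfsg.Agent.Lib.helper20.isPrime_of_isPModular hM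
  haveI : Fintype H := Fintype.ofFinite H
  induction S using Finset.induction_on with
  | empty =>
    have h0 : {ψ : IrrCharacter H | ∃ β ∈ (∅ : Finset (Set (IrrCharacter H))), ψ ∈ β} = ∅ := by
      ext ψ
      simp
    rw [h0, Finset.sum_empty]
    unfold blockRank
    rw [Set.image_empty, Submodule.span_empty]
    exact finrank_bot ℂ _
  | insert β₀ S hβ₀ ih =>
    have hβ₀' := hS β₀ (Finset.mem_insert_self _ _)
    rw [biUnion_insert_eq, Finset.sum_insert hβ₀,
      ← ih (fun β hβ => hS β (Finset.mem_insert_of_mem hβ))]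
    have hsup : Cfsg.Agent.Lib.helper78.regSpan p (β₀ ∪ {ψ : IrrCharacter H | ∃ β ∈ S, ψ ∈ β})
        = Cfsg.Agent.Lib.helper78.regSpan p β₀
          ⊔ Cfsg.Agent.Lib.helper78.regSpan p {ψ : IrrCharacter H | ∃ β ∈ S, ψ ∈ β} := by
      unfold Cfsg.Agent.Lib.helper78.regSpan
      rw [Set.image_union, Submodule.span_union]
    have hinf : Cfsg.Agent.Lib.helper78.regSpan p β₀
        ⊓ Cfsg.Agent.Lib.helper78.regSpan p {ψ : IrrCharacter H | ∃ β ∈ S, ψ ∈ β} = ⊥ := by
      rw [Submodule.eq_bot_iff]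
      intro v hv
      obtain ⟨hv1, hv2⟩ := Submodule.mem_inf.mp hv
      have h1 := Cfsg.Agent.Lib.helper78.bpL_regSpan hM hβ₀' hβ₀' hv1
      rw [if_pos rfl] at h1
      have h2 : Cfsg.Agent.Lib.helper78.regSpan p {ψ : IrrCharacter H | ∃ β ∈ S, ψ ∈ β}
          ≤ LinearMap.ker (Cfsg.Agent.Lib.helper78.bpL β₀) := by
        unfold Cfsg.Agent.Lib.helper78.regSpan
        rw [Submodule.span_le]
        rintro _ ⟨θ, ⟨β, hβ, hθ⟩, rfl⟩
        rw [SetLike.mem_coe, LinearMap.mem_ker]
        apply Cfsg.Agent.Lib.helper78.bpL_pRegularPart_of_not_mem hM hβ₀' θ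
        intro h'
        have h3 : β₀ = β := Cfsg.Agent.Lib.helper80.isPBlock_eq_of_mem hMp hβ₀'
          (hS β (Finset.mem_insert_of_mem hβ)) h' hθ
        exact hβ₀ (h3 ▸ hβ)
      have h3 := h2 hv2
      rw [LinearMap.mem_ker] at h3
      rw [← h1, h3]
    have h4 := Submodule.finrank_sup_add_finrank_inf_eq (Cfsg.Agent.Lib.helper78.regSpan p β₀)
      (Cfsg.Agent.Lib.helper78.regSpan p {ψ : IrrCharacter H | ∃ β ∈ S, ψ ∈ β})
    rw [hinf, finrank_bot, add_zero] at h4
    show Module.finrank ℂ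
        (Cfsg.Agent.Lib.helper78.regSpan p (β₀ ∪ {ψ : IrrCharacter H | ∃ β ∈ S, ψ ∈ β}))
      = Module.finrank ℂ (Cfsg.Agent.Lib.helper78.regSpan p β₀)
        + Module.finrank ℂ
          (Cfsg.Agent.Lib.helper78.regSpan p {ψ : IrrCharacter H | ∃ β ∈ S, ψ ∈ β})
    rw [hsup, h4]

end Union

section Trans

variable {G : Type u} [Group G]

theorem om_irrMap_equivMap (H : Subgroup G) (K' : Subgroup H) [Fintype K']
    [Fintype ↥(K'.map H.subtype)] (ξ' : IrrCharacter K') (z : G → ℂ) :
    om (irrMap (K'.equivMapOfInjective H.subtype H.subtype_injective) ξ' :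
        ↥(K'.map H.subtype) → ℂ) (resFun (K'.map H.subtype) z)
      = om (ξ' : K' → ℂ) (resFun K' (resFun H z)) := by
  unfold om
  rw [irrMap_apply, map_one]
  congr 1
  symm
  apply Fintype.sum_equiv (K'.equivMapOfInjective H.subtype H.subtype_injective).toEquiv
  intro k
  have h1 : (irrMap (K'.equivMapOfInjective H.subtype H.subtype_injective) ξ' :
      ↥(K'.map H.subtype) → ℂ)
        ((K'.equivMapOfInjective H.subtype H.subtype_injective).toEquiv k) = (ξ' : K' → ℂ) k :=
    irrMap_apply' _ ξ' k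
  rw [h1]
  rfl

/-- Transitivity of block induction through a subgroup `H`. -/
theorem isInducedBlock_trans_iff [Fintype G] {M : Ideal AlgInt} (hM : M.IsPrime)
    (b : Set (IrrCharacter G)) (H : Subgroup G) (K' : Subgroup H)
    {γ' : Set (IrrCharacter K')} {β : Set (IrrCharacter H)} (hγβ : IsInducedBlock M K' γ' β) :
    IsInducedBlock M H β b ↔ IsInducedBlock M (K'.map H.subtype)
      (blockMap (K'.equivMapOfInjective H.subtype H.subtype_injective) γ') b := by
  classical
  have : Fintype H := Fintype.ofFinite _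
  have : Fintype K' := Fintype.ofFinite _
  have : Fintype ↥(K'.map H.subtype) := Fintype.ofFinite _
  obtain ⟨hγ', hβ, h1⟩ := (isInducedBlock_iff_om hM K' γ' β).mp hγβ
  rw [isInducedBlock_iff_om hM H β b, isInducedBlock_iff_om hM (K'.map H.subtype) _ b]
  have hres : ∀ z : G → ℂ, IsClassFunction G z → IsClassFunction H (resFun H z) :=
    fun z hz a c => hz (a : G) (c : G)
  constructor
  · rintro ⟨-, hb, h2⟩
    refine ⟨isPBlock_blockMap _ hγ', hb, fun ξ hξ χ hχ z hz hzl => ?_⟩
    obtain ⟨χH, hχH⟩ := Cfsg.Agent.Lib.helper80.isPBlock_nonempty hM hβ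
    have e1 := h1 (irrMap (K'.equivMapOfInjective H.subtype H.subtype_injective).symm ξ) hξ
      χH hχH (resFun H z) (hres z hz) (fun h => hzl _)
    have e2 := h2 χH hχH χ hχ z hz hzl
    have e3 := om_irrMap_equivMap H K'
      (irrMap (K'.equivMapOfInjective H.subtype H.subtype_injective).symm ξ) z
    rw [irrMap_irrMap_symm] at e3
    rw [e3]
    have e4 : om (irrMap (K'.equivMapOfInjective H.subtype H.subtype_injective).symm ξ : K' → ℂ)
          (resFun K' (resFun H z)) - om (χ : G → ℂ) z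
        = (om (irrMap (K'.equivMapOfInjective H.subtype H.subtype_injective).symm ξ : K' → ℂ)
            (resFun K' (resFun H z)) - om (χH : H → ℂ) (resFun H z))
          + (om (χH : H → ℂ) (resFun H z) - om (χ : G → ℂ) z) := by ring
    rw [e4]
    exact Cfsg.Agent.Lib.helper20.memLocalIdeal_add hM e1 e2
  · rintro ⟨-, hb, h2⟩
    refine ⟨hβ, hb, fun χH hχH χ hχ z hz hzl => ?_⟩
    obtain ⟨ξ', hξ'⟩ := Cfsg.Agent.Lib.helper80.isPBlock_nonempty hM hγ'
    have e1 := h1 ξ' hξ' χH hχH (resFun H z) (hres z hz) (fun h => hzl _)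
    have e2 := h2 (irrMap (K'.equivMapOfInjective H.subtype H.subtype_injective) ξ')
      ((irrMap_mem_blockMap _ γ' ξ').mpr hξ') χ hχ z hz hzl
    rw [om_irrMap_equivMap H K' ξ' z] at e2
    have e4 : om (χH : H → ℂ) (resFun H z) - om (χ : G → ℂ) z
        = (om (ξ' : K' → ℂ) (resFun K' (resFun H z)) - om (χ : G → ℂ) z)
          - (om (ξ' : K' → ℂ) (resFun K' (resFun H z)) - om (χH : H → ℂ) (resFun H z)) := by
      ring
    rw [e4]
    exact Cfsg.Agent.Lib.helper20.memLocalIdeal_sub hM e2 e1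

open scoped Classical in
/-- Summing over the blocks `β` of `H` inducing `b` the ranks of the blocks of `K' ≤ H` inducing
`β` gives the ranks of the blocks of `K'` inducing `b`. -/
theorem sum_indRank_trans [Fintype G] {p : ℕ} {M : Ideal AlgInt} (hM : M.IsPrime)
    (b : Set (IrrCharacter G)) (H : Subgroup G) (K' : Subgroup H)
    (hE : ∀ γ' : Set (IrrCharacter K'), IsPBlock M γ' →
      ∃ β : Set (IrrCharacter H), IsInducedBlock M K' γ' β) :
    ∑ β ∈ (blocks M H).filter (fun β => IsInducedBlock M H β b), indRank p M β K'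
      = indRank p M b (K'.map H.subtype) := by
  obtain ⟨ι, hι⟩ : ∃ ι : K' ≃* ↥(K'.map H.subtype),
      ι = K'.equivMapOfInjective H.subtype H.subtype_injective := ⟨_, rfl⟩
  have hT : ∀ (γ' : Set (IrrCharacter K')) (β : Set (IrrCharacter H)),
      IsInducedBlock M K' γ' β → (IsInducedBlock M H β b
        ↔ IsInducedBlock M (K'.map H.subtype) (blockMap ι γ') b) := by
    intro γ' β h
    rw [hι]
    exact isInducedBlock_trans_iff hM b H K' h
  have hR : indRank p M b (K'.map H.subtype) = ∑ γ' ∈ blocks M K',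
      if IsInducedBlock M (K'.map H.subtype) (blockMap ι γ') b then blockRank p γ' else 0 := by
    unfold indRank
    rw [← Finset.sum_filter, ← finsum_mem_coe_finset]
    symm
    apply finsum_mem_eq_of_bijOn (blockMap ι)
    · refine ⟨?_, ?_, ?_⟩
      · intro γ' hγ'
        exact (Finset.mem_filter.mp (Finset.mem_coe.mp hγ')).2
      · intro γ _ γ' _ h
        have h2 := congrArg (blockMap ι.symm) h
        rwa [blockMap_symm_blockMap, blockMap_symm_blockMap] at h2
      · intro γ hγ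
        refine ⟨blockMap ι.symm γ, ?_, blockMap_blockMap_symm ι γ⟩
        apply Finset.mem_coe.mpr
        rw [Finset.mem_filter, blockMap_blockMap_symm]
        exact ⟨mem_blocks.mpr (isPBlock_blockMap _ hγ.1), hγ⟩
    · intro γ' _
      exact (Cfsg.Agent.Lib.helper78.blockRank_blockMap p ι γ').symm
  have hL : ∀ β : Set (IrrCharacter H), indRank p M β K' = ∑ γ' ∈ blocks M K',
      if IsInducedBlock M K' γ' β then blockRank p γ' else 0 := by
    intro β
    unfold indRank
    rw [← Finset.sum_filter, ← finsum_mem_coe_finset]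
    apply finsum_mem_congr
    · ext γ'
      rw [Finset.mem_coe, Finset.mem_filter, mem_blocks]
      exact ⟨fun h => ⟨h.1, h⟩, fun h => h.2⟩
    · intro γ' _
      rfl
  rw [hR, Finset.sum_congr rfl (fun β _ => hL β), Finset.sum_comm]
  refine Finset.sum_congr rfl (fun γ' hγ' => ?_)
  obtain ⟨β₀, hβ₀⟩ := hE γ' (mem_blocks.mp hγ')
  have huniq : ∀ β : Set (IrrCharacter H), IsInducedBlock M K' γ' β → β = β₀ :=
    fun β h => Cfsg.Agent.Lib.helper78.isInducedBlock_unique hM K' h hβ₀
  by_cases hA : IsInducedBlock M (K'.map H.subtype) (blockMap ι γ') b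
  · rw [if_pos hA]
    have hβ₀S : β₀ ∈ (blocks M H).filter (fun β => IsInducedBlock M H β b) :=
      Finset.mem_filter.mpr ⟨mem_blocks.mpr hβ₀.2.1, (hT γ' β₀ hβ₀).mpr hA⟩
    rw [Finset.sum_eq_single_of_mem β₀ hβ₀S, if_pos hβ₀]
    intro β _ hne
    rw [if_neg (fun h => hne (huniq β h))]
  · rw [if_neg hA]
    apply Finset.sum_eq_zero
    intro β hβ
    rw [Finset.mem_filter] at hβ
    rw [if_neg]
    intro h
    have h3 := huniq β h
    subst h3
    exact hA ((hT γ' β h).mp hβ.2)

/-- Brauer's formula, weighted, for the union of the blocks of a subgroup `H` inducing `b`. -/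
theorem card_mul_k_sub_l_subgroup [Finite G] {p : ℕ} {M : Ideal AlgInt} (hM : IsPModular p M)
    (b : Set (IrrCharacter G)) (H : Subgroup G) :
    (Nat.card H : ℤ) * ((Nat.card {ψ : IrrCharacter H |
          ∃ β : Set (IrrCharacter H), ψ ∈ β ∧ IsInducedBlock M H β b} : ℤ)
        - (blockRank p {ψ : IrrCharacter H |
          ∃ β : Set (IrrCharacter H), ψ ∈ β ∧ IsInducedBlock M H β b} : ℤ))
      = ∑ᶠ x ∈ {x : G | x ∈ H ∧ x ≠ 1 ∧ ∃ k : ℕ, orderOf x = p ^ k},
          (Nat.card ↥(Subgroup.centralizer ({x} : Set G) ⊓ H) : ℤ)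
            * (indRank p M b (Subgroup.centralizer ({x} : Set G) ⊓ H) : ℤ) := by
  classical
  have : Fintype G := Fintype.ofFinite G
  have hMp := Cfsg.Agent.Lib.helper20.isPrime_of_isPModular hM
  have : Fintype H := Fintype.ofFinite H
  obtain ⟨S, hSdef⟩ : ∃ S : Finset (Set (IrrCharacter H)),
      S = (blocks M H).filter (fun β => IsInducedBlock M H β b) := ⟨_, rfl⟩
  have hS : ∀ β ∈ S, IsPBlock M β := by
    intro β hβ
    rw [hSdef, Finset.mem_filter] at hβ
    exact mem_blocks.mp hβ.1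
  have hset : {ψ : IrrCharacter H | ∃ β : Set (IrrCharacter H), ψ ∈ β ∧ IsInducedBlock M H β b}
      = {ψ : IrrCharacter H | ∃ β ∈ S, ψ ∈ β} := by
    ext ψ
    simp only [Set.mem_setOf_eq]
    constructor
    · rintro ⟨β, h1, h2⟩
      refine ⟨β, ?_, h1⟩
      rw [hSdef, Finset.mem_filter]
      exact ⟨mem_blocks.mpr h2.1, h2⟩
    · rintro ⟨β, h1, h2⟩
      rw [hSdef, Finset.mem_filter] at h1
      exact ⟨β, h2, h1.2⟩
  rw [hset, card_biUnion_blocks hMp S hS, blockRank_biUnion_blocks hM S hS]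
  have h1 : (Nat.card H : ℤ) * (((∑ β ∈ S, Nat.card β : ℕ) : ℤ)
        - ((∑ β ∈ S, blockRank p β : ℕ) : ℤ))
      = ∑ β ∈ S, (Nat.card H : ℤ) * ((Nat.card β : ℤ) - (blockRank p β : ℤ)) := by
    rw [Nat.cast_sum, Nat.cast_sum, ← Finset.sum_sub_distrib, Finset.mul_sum]
  have h2 : ∀ β ∈ S, (Nat.card H : ℤ) * ((Nat.card β : ℤ) - (blockRank p β : ℤ))
      = ∑ x' ∈ (Set.toFinite {x' : H | x' ≠ 1 ∧ ∃ k : ℕ, orderOf x' = p ^ k}).toFinset,
          (Nat.card (Subgroup.centralizer ({x'} : Set H)) : ℤ)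
            * (indRank p M β (Subgroup.centralizer ({x'} : Set H)) : ℤ) := by
    intro β hβ
    rw [card_mul_k_sub_l hM β (hS β hβ), finsum_mem_eq_finite_toFinset_sum _ (Set.toFinite _)]
  rw [h1, Finset.sum_congr rfl h2, Finset.sum_comm,
    finsum_mem_eq_finite_toFinset_sum _ (Set.toFinite _)]
  have hx' : ∀ x' : H, (x' ≠ 1 ∧ ∃ k : ℕ, orderOf x' = p ^ k) →
      ∑ β ∈ S, (Nat.card (Subgroup.centralizer ({x'} : Set H)) : ℤ)
          * (indRank p M β (Subgroup.centralizer ({x'} : Set H)) : ℤ)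
        = (Nat.card ↥(Subgroup.centralizer ({(x' : G)} : Set G) ⊓ H) : ℤ)
          * (indRank p M b (Subgroup.centralizer ({(x' : G)} : Set G) ⊓ H) : ℤ) := by
    intro x' hx'
    have hmap : (Subgroup.centralizer ({x'} : Set H)).map H.subtype
        = Subgroup.centralizer ({(x' : G)} : Set G) ⊓ H := by
      ext y
      rw [Subgroup.mem_map, Subgroup.mem_inf, Subgroup.mem_centralizer_singleton_iff]
      constructor
      · rintro ⟨k, hk, rfl⟩
        refine ⟨?_, k.2⟩
        have h2 := Subgroup.mem_centralizer_singleton_iff.mp hk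
        exact congrArg Subtype.val h2
      · rintro ⟨h2, h3⟩
        refine ⟨⟨y, h3⟩, ?_, rfl⟩
        rw [Subgroup.mem_centralizer_singleton_iff]
        exact Subtype.ext h2
    have hTR := sum_indRank_trans (p := p) hMp b H (Subgroup.centralizer ({x'} : Set H))
      (fun γ' hγ' => Cfsg.Agent.Lib.helper78.exists_induced_centralizer hM x' hx'.2 γ' hγ')
    rw [← hSdef, hmap] at hTR
    have hc : Nat.card (Subgroup.centralizer ({x'} : Set H))
        = Nat.card ↥(Subgroup.centralizer ({(x' : G)} : Set G) ⊓ H) := by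
      rw [← hmap]
      exact Nat.card_congr ((Subgroup.centralizer ({x'} : Set H)).equivMapOfInjective
        H.subtype H.subtype_injective).toEquiv
    rw [← Finset.mul_sum, ← Nat.cast_sum, hTR, hc]
  have h3 : ∀ x' ∈ (Set.toFinite {x' : H | x' ≠ 1 ∧ ∃ k : ℕ, orderOf x' = p ^ k}).toFinset,
      ∑ β ∈ S, (Nat.card (Subgroup.centralizer ({x'} : Set H)) : ℤ)
          * (indRank p M β (Subgroup.centralizer ({x'} : Set H)) : ℤ)
        = (Nat.card ↥(Subgroup.centralizer ({(x' : G)} : Set G) ⊓ H) : ℤ)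
          * (indRank p M b (Subgroup.centralizer ({(x' : G)} : Set G) ⊓ H) : ℤ) := by
    intro x' hx''
    rw [Set.Finite.mem_toFinset] at hx''
    exact hx' x' hx''
  rw [Finset.sum_congr rfl h3]
  apply Finset.sum_bij (fun (x' : H) _ => (x' : G))
  · intro x' hx'
    rw [Set.Finite.mem_toFinset] at hx' ⊢
    refine ⟨x'.2, fun h => hx'.1 (Subtype.ext h), ?_⟩
    rw [Subgroup.orderOf_coe]
    exact hx'.2
  · intro a _ c _ h
    exact Subtype.ext h
  · intro x hx
    rw [Set.Finite.mem_toFinset] at hx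
    refine ⟨⟨x, hx.1⟩, ?_, rfl⟩
    rw [Set.Finite.mem_toFinset]
    refine ⟨fun h => hx.2.1 (congrArg Subtype.val h), ?_⟩
    rw [← Subgroup.orderOf_coe]
    exact hx.2.2
  · intro x' _
    rfl

end Trans

end Cfsg.Agent.Lib.helper80
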