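import Cfsg.Agent.Lib.helper80.ClaimN

/-!
# Nilpotent blocks and the inner fusion system

* a block is nilpotent iff its fusion system is the inner fusion system of a defect group;
* for a nilpotent block `B` and a `B`-pair `(Q, f)`: `f` is a nilpotent block of `C_G(Q)`, and
  `C_P(Q)` is a defect group of `f` when `(Q, f) ≤ (P, e)`.
-/

set_option autoImplicit false

open Cfsg

namespace Cfsg.Agent.Lib.helper80

universe u

section Pow

variable {G : Type u} [Group G]

/-- If conjugation by `x` and by `u` agree on `Q` (normalized by `x`), so do their powers. -/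
theorem conj_pow_eq_of_conj_eq {Q : Subgroup G} {x u : G}
    (hxN : x ∈ Subgroup.normalizer (Q : Set G))
    (h : ∀ q ∈ Q, x * q * x⁻¹ = u * q * u⁻¹) :
    ∀ (m : ℕ), ∀ q ∈ Q, x ^ m * q * (x ^ m)⁻¹ = u ^ m * q * (u ^ m)⁻¹ := by
  intro m
  induction m with
  | zero => intro q _; simp
  | succ m ih =>
    intro q hq
    have h1 : x ^ (m + 1) * q * (x ^ (m + 1))⁻¹ = x ^ m * (x * q * x⁻¹) * (x ^ m)⁻¹ := by
      rw [pow_succ]
      group
    have h2 : x * q * x⁻¹ ∈ Q := (Subgroup.mem_normalizer_iff.mp hxN q).mp hq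
    rw [h1, ih _ h2, h q hq, pow_succ]
    group

end Pow

section Fusion

variable {G : Type u} [Group G] [Fintype G] {p : ℕ} [Fact p.Prime] {M : Ideal AlgInt}

open Cfsg.Agent.Lib.helper20

/-- In a nilpotent block the fusion system is inner. -/
theorem hom_eq_inner_of_nilpotent (hM : IsPModular p M) {B : Set (IrrCharacter G)}
    {P : Subgroup G} {e : Set (IrrCharacter (Subgroup.centralizer (P : Set G)))}
    {F : FusionSystem P} (hF : IsBlockFusionSystemOn p M B P e F)
    (hnil : IsNilpotentBlock p M B) (Q : Subgroup G) :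
    F.Hom Q = (innerFusionSystem P).Hom Q := by
  ext φ
  constructor
  · intro hφ
    obtain ⟨hQP, g, hg, -, f, hle, hleg⟩ := (hF.2 Q φ).mp hφ
    obtain ⟨u, hu, c, hc, rfl⟩ := exists_mul_of_nilpotent_conj hM hF.1 hnil _ Q f g rfl hle hleg
    refine ⟨hQP, u, hu, ?_⟩
    intro x
    rw [hg x]
    have h1 : (x : G) * c = c * (x : G) := (Subgroup.mem_centralizer_iff.mp hc) _ x.2
    calc u * c * (x : G) * (u * c)⁻¹ = u * (c * (x : G)) * c⁻¹ * u⁻¹ := by group
      _ = u * ((x : G) * c) * c⁻¹ * u⁻¹ := by rw [h1]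
      _ = u * (x : G) * u⁻¹ := by group
  · rintro ⟨hQP, g, hg, hφ⟩
    have h1 : φ = conjHom Q g := MonoidHom.ext fun x => hφ x
    rw [h1]
    exact F.conj_mem hQP hg

/-- If the fusion system of a block is inner, the block is nilpotent. -/
theorem isNilpotentBlock_of_inner (hM : IsPModular p M) {B : Set (IrrCharacter G)}
    {P : Subgroup G} {e : Set (IrrCharacter (Subgroup.centralizer (P : Set G)))}
    {F : FusionSystem P} (hF : IsBlockFusionSystemOn p M B P e F)
    (h : ∀ Q : Subgroup G, F.Hom Q = (innerFusionSystem P).Hom Q) :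
    IsNilpotentBlock p M B := by
  classical
  have hMp := isPrime_of_isPModular hM
  have hp : p.Prime := Fact.out
  have hmax := hF.1
  have hP : IsPGroup p P := hmax.1.1.1
  refine ⟨hmax.1.2.1, ?_⟩
  intro Q₀ f₀ hQf x hxN hxS hreg
  obtain ⟨g, hg⟩ := exists_conj_le_maximal hM hmax hQf
  have hc1 : g⁻¹ * (g * x * g⁻¹) * g = x := by group
  have hx'N : g * x * g⁻¹ ∈ Subgroup.normalizer
      ((Q₀.map (MulAut.conj g).toMonoidHom : Subgroup G) : Set G) := by
    rw [mem_normalizer_conj_iff Q₀ (Q₀.map (MulAut.conj g).toMonoidHom) g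
      (fun c => mem_map_conj), hc1]
    exact hxN
  have hx'S : StabilizesBlock (Subgroup.centralizer
      ((Q₀.map (MulAut.conj g).toMonoidHom : Subgroup G) : Set G)) (conjBlock Q₀ g f₀)
      (g * x * g⁻¹) := by
    rw [stabilizesBlock_conjBlock_iff, hc1]
    exact hxS
  have hQgP : Q₀.map (MulAut.conj g).toMonoidHom ≤ P := subpairLE_le ⟨_, _⟩ ⟨_, _⟩ hg
  have hfix := conjPair_eq_self_of_stabilizes hMp (isPBlock_conjBlock Q₀ g hQf.1.2) hx'N hx'S
  have hle' : SubpairLE p M ((Q₀.map (MulAut.conj g).toMonoidHom).map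
      (MulAut.conj (g * x * g⁻¹)).toMonoidHom)
      (conjBlock _ (g * x * g⁻¹) (conjBlock Q₀ g f₀)) P e := by
    show Relation.ReflTransGen (NormalSubpairRel p M)
      (conjPair (g * x * g⁻¹) ⟨_, conjBlock Q₀ g f₀⟩) ⟨P, e⟩
    rw [hfix]
    exact hg
  have hmem : conjHom (Q₀.map (MulAut.conj g).toMonoidHom) (g * x * g⁻¹)
      ∈ F.Hom (Q₀.map (MulAut.conj g).toMonoidHom) :=
    (hF.2 _ _).mpr ⟨hQgP, g * x * g⁻¹, fun _ => rfl,
      subpairLE_le ⟨_, _⟩ ⟨_, _⟩ hle', conjBlock Q₀ g f₀, hg, hle'⟩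
  rw [h] at hmem
  obtain ⟨-, u, hu, hconj⟩ := hmem
  have hconj' : ∀ q ∈ Q₀.map (MulAut.conj g).toMonoidHom,
      (g * x * g⁻¹) * q * (g * x * g⁻¹)⁻¹ = u * q * u⁻¹ := fun q hq => hconj ⟨q, hq⟩
  obtain ⟨k, hk⟩ := IsPGroup.iff_card.mp hP
  have huk : u ^ (p ^ k) = 1 := by
    have h2 : (⟨u, hu⟩ : P) ^ Nat.card P = 1 := pow_card_eq_one'
    rw [hk] at h2
    exact congrArg Subtype.val h2
  have hpow : (g * x * g⁻¹) ^ (p ^ k) ∈ Subgroup.centralizer
      ((Q₀.map (MulAut.conj g).toMonoidHom : Subgroup G) : Set G) := by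
    rw [Subgroup.mem_centralizer_iff]
    intro q hq
    have h3 := conj_pow_eq_of_conj_eq hx'N hconj' (p ^ k) q hq
    rw [huk] at h3
    have h4 : (g * x * g⁻¹) ^ (p ^ k) * q * ((g * x * g⁻¹) ^ (p ^ k))⁻¹ = q := by
      rw [h3]
      group
    calc q * (g * x * g⁻¹) ^ (p ^ k)
        = ((g * x * g⁻¹) ^ (p ^ k) * q * ((g * x * g⁻¹) ^ (p ^ k))⁻¹) * (g * x * g⁻¹) ^ (p ^ k) := by
          rw [h4]
      _ = (g * x * g⁻¹) ^ (p ^ k) * q := by group
  have hord : (g * x * g⁻¹) ^ orderOf x ∈ Subgroup.centralizer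
      ((Q₀.map (MulAut.conj g).toMonoidHom : Subgroup G) : Set G) := by
    rw [conj_pow, pow_orderOf_eq_one]
    simp
  have hcop : Nat.Coprime (p ^ k) (orderOf x) :=
    Nat.Coprime.pow_left _ ((Nat.Prime.coprime_iff_not_dvd hp).mpr hreg)
  have h5 := mem_of_pow_mem_of_coprime _ hcop hpow hord
  rw [mem_centralizer_map_conj_iff, hc1] at h5
  exact h5

/-- For a nilpotent block `B` and a `B`-pair `(Q, f)`, `f` is a nilpotent block of `C_G(Q)`. -/
theorem isNilpotentBlock_centralizer (hM : IsPModular p M) {B : Set (IrrCharacter G)}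
    (hnil : IsNilpotentBlock p M B) {Q : Subgroup G}
    {f : Set (IrrCharacter (Subgroup.centralizer (Q : Set G)))}
    (hQf : IsBrauerPairOf p M B Q f) : IsNilpotentBlock p M f := by
  classical
  have : Fintype (Subgroup.centralizer (Q : Set G)) := Fintype.ofFinite _
  have hQ : IsPGroup p Q := hQf.1.1
  have hf : IsPBlock M f := hQf.1.2
  have hB : IsPBlock M B := hQf.2.1
  refine ⟨hf, ?_⟩
  intro R' e' hpair x hxN hxS hreg
  have hR'C : R'.map (Subgroup.centralizer (Q : Set G)).subtype ≤ Subgroup.centralizer (Q : Set G) :=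
    Subgroup.map_subtype_le _
  have hcr : CentRel (Subgroup.centralizer (Q : Set G)) R'
      (Q ⊔ R'.map (Subgroup.centralizer (Q : Set G)).subtype) := by
    intro y
    constructor
    · intro hy
      have hyC : y ∈ Subgroup.centralizer (Q : Set G) :=
        Subgroup.centralizer_le (SetLike.coe_subset_coe.mpr le_sup_left) hy
      refine ⟨hyC, ?_⟩
      rw [Subgroup.mem_centralizer_iff]
      intro r hr
      apply Subtype.ext
      exact (Subgroup.mem_centralizer_iff.mp hy) (r : G)
        (Subgroup.mem_sup_right ⟨r, hr, rfl⟩)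
    · rintro ⟨hyC, hc⟩
      have hle : Q ⊔ R'.map (Subgroup.centralizer (Q : Set G)).subtype
          ≤ Subgroup.centralizer ({y} : Set G) := by
        apply sup_le
        · intro q hq
          rw [mem_centralizer_singleton]
          exact ((Subgroup.mem_centralizer_iff.mp hyC) q hq).symm
        · rintro _ ⟨r, hr, rfl⟩
          rw [mem_centralizer_singleton]
          exact (congrArg Subtype.val ((Subgroup.mem_centralizer_iff.mp hc) r hr)).symm
      rw [Subgroup.mem_centralizer_iff]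
      intro r hr
      have := hle hr
      rw [mem_centralizer_singleton] at this
      exact this.symm
  have hRp : IsPGroup p (Q ⊔ R'.map (Subgroup.centralizer (Q : Set G)).subtype : Subgroup G) := by
    apply IsPGroup.to_sup_of_normal_right' hQ (hpair.1.1.map _)
    intro q hq
    apply Subgroup.centralizer_le_normalizer
    rw [Subgroup.mem_centralizer_iff]
    intro r hr
    exact ((Subgroup.mem_centralizer_iff.mp (hR'C hr)) q hq).symm
  have hRQC : Q ⊔ R'.map (Subgroup.centralizer (Q : Set G)).subtype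
      ≤ Q ⊔ Subgroup.centralizer (Q : Set G) := sup_le_sup_left hR'C Q
  have hns : IsNormalSubpair p M Q f (Q ⊔ R'.map (Subgroup.centralizer (Q : Set G)).subtype)
      (upBlock _ R' _ hcr e') := by
    refine ⟨hQf.1, ⟨hRp, isPBlock_upBlock _ R' _ hcr hpair.1.2⟩, le_sup_left,
      hRQC.trans (sup_le Subgroup.le_normalizer (Subgroup.centralizer_le_normalizer _)),
      fun y hy => stabilizesBlock_of_mem_sup_centralizer Q f (hRQC hy), ?_⟩
    intro ξ hξ
    obtain ⟨ξ', hξ', rfl⟩ := exists_of_mem_upBlock _ R' _ hcr hξ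
    rw [brauerOmega_relCent _ R' _ hcr
      (subgroupBlockCoeff (Subgroup.centralizer (Q : Set G)) f) ξ']
    have h8 : (fun c : Subgroup.centralizer (Q : Set G) =>
        subgroupBlockCoeff (Subgroup.centralizer (Q : Set G)) f (c : G)) = blockCoeff f :=
      funext fun c => subgroupBlockCoeff_of_mem _ f c.2
    rw [h8]
    exact hpair.2.2 ξ' hξ'
  have hRB : IsBrauerPairOf p M B _ (upBlock _ R' _ hcr e') :=
    (Cfsg.Agent.S4658.result p M hM _ Q _ f hns.2.1 hns.1
      (Relation.ReflTransGen.single hns) B hB).mpr hQf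
  have hxN' : (x : G) ∈ Subgroup.normalizer
      ((Q ⊔ R'.map (Subgroup.centralizer (Q : Set G)).subtype : Subgroup G) : Set G) := by
    apply mem_normalizer_of_forall_conj_mem
    have hmap : (Q ⊔ R'.map (Subgroup.centralizer (Q : Set G)).subtype).map
        (MulAut.conj (x : G)).toMonoidHom
        ≤ Q ⊔ R'.map (Subgroup.centralizer (Q : Set G)).subtype := by
      rw [Subgroup.map_sup]
      apply sup_le_sup
      · rintro _ ⟨q, hq, rfl⟩
        have h1 : q * (x : G) = (x : G) * q := (Subgroup.mem_centralizer_iff.mp x.2) q hq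
        have h2 : (MulAut.conj (x : G)).toMonoidHom q = q := by
          show (x : G) * q * (x : G)⁻¹ = q
          rw [← h1]
          group
        rw [h2]
        exact hq
      · rintro _ ⟨_, ⟨r, hr, rfl⟩, rfl⟩
        exact ⟨x * r * x⁻¹, (Subgroup.mem_normalizer_iff.mp hxN r).mp hr, rfl⟩
    intro r hr
    exact hmap (conj_mem_map _ (x : G) hr)
  have hxS' := stabilizesBlock_upBlock _ R' _ hcr hxS
  have hreg' : IsPRegular p (x : G) := by
    unfold IsPRegular at hreg ⊢
    rwa [Subgroup.orderOf_coe]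
  have hxC := hnil.2 _ _ hRB (x : G) hxN' hxS' hreg'
  exact ((hcr _).mp hxC).2

/-- For a nilpotent block `B` with maximal pair `(P, e)` and `(Q, f) ≤ (P, e)`: `C_P(Q)` is a
defect group of `f`. -/
theorem isDefectGroup_centralizer_of_nilpotent (hM : IsPModular p M) {B : Set (IrrCharacter G)}
    {P : Subgroup G} {e : Set (IrrCharacter (Subgroup.centralizer (P : Set G)))}
    (hmax : IsMaximalBrauerPair p M B P e) (hnil : IsNilpotentBlock p M B) {Q : Subgroup G}
    {f : Set (IrrCharacter (Subgroup.centralizer (Q : Set G)))}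
    (hle : SubpairLE p M Q f P e) :
    IsDefectGroup p M f ((P ⊓ Subgroup.centralizer (Q : Set G)).subgroupOf
      (Subgroup.centralizer (Q : Set G))) := by
  classical
  have hPe : IsBrauerPair p M P e := hmax.1.1
  have hQP : Q ≤ P := subpairLE_le ⟨Q, f⟩ ⟨P, e⟩ hle
  have hQf : IsBrauerPair p M Q f := subpairLE_isBrauerPair ⟨Q, f⟩ ⟨P, e⟩ hle hPe
  have hf : IsPBlock M f := hQf.2
  obtain ⟨x, hlex, hDx⟩ := exists_conj_defect_centralizer hM hmax hQP hf hle
  obtain ⟨u, hu, c, hc, rfl⟩ := exists_mul_of_nilpotent_conj hM hmax hnil _ Q f x rfl hle hlex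
  have : Fintype (Subgroup.centralizer (Q : Set G)) := Fintype.ofFinite _
  have : Fintype (Subgroup.centralizer
      ((Q.map (MulAut.conj (u * c)).toMonoidHom : Subgroup G) : Set G)) := Fintype.ofFinite _
  have hD' := isDefectGroup_blockMap (centConj Q (u * c)).symm hDx
  rw [conjBlock_eq_blockMap, blockMap_symm_blockMap] at hD'
  have hD'' := IsDefectGroup.conj hD' (⟨c, hc⟩ : Subgroup.centralizer (Q : Set G))
  have heq : (((P ⊓ Subgroup.centralizer
      ((Q.map (MulAut.conj (u * c)).toMonoidHom : Subgroup G) : Set G)).subgroupOf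
      (Subgroup.centralizer ((Q.map (MulAut.conj (u * c)).toMonoidHom : Subgroup G) : Set G))).map
      (centConj Q (u * c)).symm.toMonoidHom).map
      (MulAut.conj (⟨c, hc⟩ : Subgroup.centralizer (Q : Set G))).toMonoidHom
      = (P ⊓ Subgroup.centralizer (Q : Set G)).subgroupOf (Subgroup.centralizer (Q : Set G)) := by
    ext y
    rw [mem_map_conj, Subgroup.mem_subgroupOf]
    constructor
    · rintro ⟨d, hd, hdy⟩
      rw [SetLike.mem_coe, Subgroup.mem_subgroupOf] at hd
      have h1 : (u * c)⁻¹ * (d : G) * (u * c) = c⁻¹ * (y : G) * c := congrArg Subtype.val hdy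
      have h2 : (y : G) = u⁻¹ * (d : G) * u := by
        have : (y : G) = c * (c⁻¹ * (y : G) * c) * c⁻¹ := by group
        rw [this, ← h1]
        group
      refine ⟨?_, y.2⟩
      rw [h2]
      exact P.mul_mem (P.mul_mem (P.inv_mem hu) hd.1) hu
    · rintro ⟨hyP, -⟩
      refine ⟨centConj Q (u * c) ((⟨c, hc⟩ : Subgroup.centralizer (Q : Set G))⁻¹ * y * ⟨c, hc⟩),
        ?_, ?_⟩
      · rw [SetLike.mem_coe, Subgroup.mem_subgroupOf]
        refine ⟨?_, Subtype.property _⟩
        have h3 : ((centConj Q (u * c) ((⟨c, hc⟩ : Subgroup.centralizer (Q : Set G))⁻¹ * y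
            * ⟨c, hc⟩) : _) : G) = u * (y : G) * u⁻¹ := by
          rw [centConj_apply_coe]
          show u * c * (c⁻¹ * (y : G) * c) * (u * c)⁻¹ = u * (y : G) * u⁻¹
          group
        rw [h3]
        exact P.mul_mem (P.mul_mem hu hyP) (P.inv_mem hu)
      · exact (centConj Q (u * c)).symm_apply_apply _
  rw [heq] at hD''
  exact hD''

end Fusion

end Cfsg.Agent.Lib.helper80
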