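import Mathlib
import Cfsg.Agent.Lib.helper2.BGDefs
import Cfsg.Agent.Lib.helper2.BFMain
import Cfsg.Agent.Lib.helper92.BFC5
import Cfsg.Agent.Lib.helper4.CharDecomp

/-!
# S4504, piece R, sub-piece R3 (`R_res_irr`): the restriction of `χ` to the normal closure of
an element of order `p` is irreducible
-/

set_option autoImplicit false

open Cfsg

namespace Cfsg.Agent.Lib.helper2.BG

universe u

/-- Degrees in a list of irreducible characters: the degree of the sum is a natural number
`N ≥ length`, and each member has degree at most `N + 1 - length`. -/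
theorem helper80_list_degree_lt {G : Type*} [Group G] [Finite G] (l : List (IrrCharacter G)) :
    ∃ N : ℕ, (l.map Subtype.val).sum 1 = (N : ℂ) ∧ l.length ≤ N ∧
      ∀ ψ ∈ l, charDegree (ψ : G → ℂ) + l.length ≤ N + 1 := by
  induction l with
  | nil => exact ⟨0, by simp, by simp, by simp⟩
  | cons a l ih =>
    obtain ⟨N, hN, hlen, hle⟩ := ih
    obtain ⟨n, hnpos, hn⟩ := Cfsg.Agent.Lib.helper4.exists_pos_nat_degree a.2
    refine ⟨n + N, ?_, ?_, ?_⟩
    · rw [List.map_cons, List.sum_cons, Pi.add_apply, hN, hn, Nat.cast_add]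
    · rw [List.length_cons]
      omega
    · intro ψ hψ
      rw [List.length_cons]
      rcases List.mem_cons.mp hψ with rfl | hψ
      · have : charDegree (ψ : G → ℂ) = n := by
          unfold charDegree
          rw [hn, Complex.natCast_re, Nat.floor_natCast]
        omega
      · have := hle ψ hψ
        omega

/-- R3 (V1): the restriction of `χ` to the normal closure of `x` is irreducible. -/
theorem helper80_R_res_irr {G : Type u} [Group G] [Finite G] (p : ℕ) [Fact p.Prime]
    (hdiv : p ∣ Nat.card G) (hsq : ¬ p ^ 2 ∣ Nat.card G)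
    (hnn : ∀ H : Subgroup G, H.Normal → Nat.card H ≠ p) (χ : G → ℂ)
    (hχ : Cfsg.IsCharacter G χ) (hfaith : ∀ g : G, χ g = χ 1 → g = 1)
    (hdeg : 2 * Cfsg.charDegree χ + 1 = p) (x : G) (hx : orderOf x = p) :
    Cfsg.IsIrrCharacter ↥(Subgroup.normalClosure ({x} : Set G)) (fun g => χ (g : G)) := by
  classical
  have hp : p.Prime := Fact.out
  have hxS : x ∈ Subgroup.normalClosure ({x} : Set G) :=
    Subgroup.subset_normalClosure (Set.mem_singleton x)
  have hΓn : (Subgroup.normalClosure ({x} : Set G)).Normal := Subgroup.normalClosure_normal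
  haveI : Fintype ↥(Subgroup.normalClosure ({x} : Set G)) := Fintype.ofFinite _
  have hres := Cfsg.Agent.Lib.helper4.isCharacter_restrict
    (Subgroup.normalClosure ({x} : Set G)) hχ
  obtain ⟨l, hl⟩ := Cfsg.Agent.Lib.helper4.exists_irr_list_of_isCharacter hres
  obtain ⟨N, hN, hlen, hle⟩ := helper80_list_degree_lt l
  have hχ1 : χ 1 = (N : ℂ) := by
    rw [← hN]
    exact congrFun hl 1
  have hdegχ : charDegree χ = N := by
    unfold charDegree
    rw [hχ1, Complex.natCast_re, Nat.floor_natCast]
  -- the list has exactly one member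
  by_cases hone : l.length = 1
  · obtain ⟨ψ, rfl⟩ := List.length_eq_one_iff.mp hone
    have : (fun g : ↥(Subgroup.normalClosure ({x} : Set G)) => χ (g : G)) = (ψ : _ → ℂ) := by
      rw [hl]
      simp
    rw [this]
    exact ψ.2
  exfalso
  have hlen0 : l.length ≠ 0 := by
    intro h0
    have : N = 0 := by
      have h1 : l = [] := List.length_eq_zero_iff.mp h0
      have h2 : (N : ℂ) = 0 := by
        rw [← hN, h1]
        simp
      exact_mod_cast h2
    rw [hdegχ, this] at hdeg
    rw [← hdeg] at hp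
    exact Nat.not_prime_one hp
  have hlen2 : 2 ≤ l.length := by omega
  have hsqS : ¬ p ^ 2 ∣ Nat.card (Subgroup.normalClosure ({x} : Set G)) := fun h =>
    hsq (h.trans (Subgroup.card_subgroup_dvd_card _))
  have hdivS : p ∣ Nat.card (Subgroup.normalClosure ({x} : Set G)) := by
    have h1 : orderOf (⟨x, hxS⟩ : Subgroup.normalClosure ({x} : Set G)) = p := by
      rw [← hx]
      exact Subgroup.orderOf_mk x hxS
    rw [← h1]
    exact orderOf_dvd_natCard _
  -- `p`-regular elements of `Γ` are trivial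
  have hreg : ∀ y ∈ Subgroup.normalClosure ({x} : Set G), ¬ p ∣ orderOf y → y = 1 := by
    intro y hy hyp
    apply hfaith
    have h1 : χ y = (l.map Subtype.val).sum ⟨y, hy⟩ := congrFun hl ⟨y, hy⟩
    have h2 : χ 1 = (l.map Subtype.val).sum (1 : ↥(Subgroup.normalClosure ({x} : Set G))) :=
      congrFun hl 1
    rw [h1, h2]
    apply Cfsg.Agent.Lib.helper92.BF.helper92_list_sum_eval
    intro ψ hψ
    have hdegψ : 2 * charDegree (ψ : ↥(Subgroup.normalClosure ({x} : Set G)) → ℂ) + 1 < p := by
      have := hle ψ hψ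
      omega
    obtain ⟨M, hMn, ⟨x₁, hx₁M, hx₁o⟩, hM⟩ :=
      Cfsg.Agent.Lib.helper2.BF.bf_irr _ ↥(Subgroup.normalClosure ({x} : Set G)) rfl p hp hdivS hsqS
        ψ.1 ψ.2 hdegψ
    have := hMn
    have hall : ∀ z : ↥(Subgroup.normalClosure ({x} : Set G)), orderOf z = p → z ∈ M :=
      fun z hz => Cfsg.Agent.Lib.helper92.BF.helper92_mem_of_order p hp hsqS M x₁ hx₁M hx₁o z hz
    have htop : ∀ z : G, ∀ hz : z ∈ Subgroup.normalClosure ({x} : Set G),
        (⟨z, hz⟩ : ↥(Subgroup.normalClosure ({x} : Set G))) ∈ M := by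
      have hle2 : Subgroup.normalClosure ({x} : Set G) ≤ M.map (Subgroup.subtype _) := by
        show Subgroup.closure (Group.conjugatesOfSet {x}) ≤ _
        rw [Subgroup.closure_le]
        intro z hz
        have hzS : z ∈ Subgroup.normalClosure ({x} : Set G) :=
          Subgroup.conjugatesOfSet_subset_normalClosure hz
        obtain ⟨b, hb, hconj⟩ := Group.mem_conjugatesOfSet_iff.mp hz
        rw [Set.mem_singleton_iff] at hb
        subst hb
        obtain ⟨c, hc⟩ := isConj_iff.mp hconj
        have hzo : orderOf z = p := by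
          rw [← hc, ← hx]
          exact (MulAut.conj c).orderOf_eq b
        refine ⟨⟨z, hzS⟩, hall ⟨z, hzS⟩ ?_, rfl⟩
        rw [← hzo]
        exact Subgroup.orderOf_mk z hzS
      intro z hz
      obtain ⟨w, hw, hwz⟩ := hle2 hz
      have : w = ⟨z, hz⟩ := Subtype.ext hwz
      rw [← this]
      exact hw
    have h3 := hM ⟨y, hy⟩ (htop y hy) (by rw [Subgroup.orderOf_mk]; exact hyp)
    exact h3
  -- `Γ` is a `p`-group
  have hDp : IsPGroup p (Subgroup.normalClosure ({x} : Set G)) := by
    intro g
    have ho : orderOf (g : G) ≠ 0 := (orderOf_pos (g : G)).ne'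
    obtain ⟨e, m, hm, hem⟩ := Nat.exists_eq_pow_mul_and_not_dvd ho p hp.ne_one
    refine ⟨e, ?_⟩
    have h1 : ((g : G) ^ p ^ e) = 1 := by
      apply hreg _ (Subgroup.pow_mem _ g.2 _)
      have hpe : p ^ e ≠ 0 := pow_ne_zero _ hp.pos.ne'
      rw [orderOf_pow_of_dvd hpe (by rw [hem]; exact dvd_mul_right _ _), hem,
        Nat.mul_div_cancel_left _ (Nat.pos_of_ne_zero hpe)]
      exact hm
    exact Subtype.ext (by simpa using h1)
  obtain ⟨n, hn⟩ := IsPGroup.iff_card.mp hDp
  have hn1 : n = 1 := by
    have h1 : p ^ n ∣ Nat.card G := by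
      rw [← hn]
      exact Subgroup.card_subgroup_dvd_card _
    have h2 : n ≤ 1 := by
      by_contra h
      push Not at h
      exact hsq ((pow_dvd_pow p h).trans h1)
    have h3 : n ≠ 0 := by
      rintro rfl
      rw [pow_zero] at hn
      have hbot : Subgroup.normalClosure ({x} : Set G) = ⊥ := Subgroup.card_eq_one.mp hn
      rw [hbot, Subgroup.mem_bot] at hxS
      rw [hxS, orderOf_one] at hx
      exact hp.one_lt.ne hx
    omega
  rw [hn1, pow_one] at hn
  exact hnn _ hΓn hn

end Cfsg.Agent.Lib.helper2.BG
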