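import Mathlib
import Cfsg.Prelude.Def_Characters
import Cfsg.Agent.Lib.helper4.RepBasic
import Cfsg.Agent.Lib.helper4.RepEquiv
import Cfsg.Agent.Lib.helper82.CharInt

/-!
# S4504, piece R, Schur part of step (V5)

If a faithful character `χ` of `G` restricts irreducibly to a subgroup `Γ`, then
`C_G(Γ) = Z(G)`.  In particular, when `Γ` is the normal closure of an element of a Sylow
`p`-subgroup, every element centralizing all Sylow `p`-subgroups is central.
-/

set_option autoImplicit false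

namespace Cfsg.Agent.Lib.helper2.BG

universe u

/-- Schur: the centralizer of a subgroup on which a faithful character restricts irreducibly
is the centre. -/
theorem helper80_cent_of_res_irr {G : Type u} [Group G] [Finite G] (χ : G → ℂ)
    (hχ : Cfsg.IsCharacter G χ) (hfaith : ∀ g : G, χ g = χ 1 → g = 1) (Γ : Subgroup G)
    (hirr : Cfsg.IsIrrCharacter Γ (fun γ : Γ => χ (γ : G))) (g : G)
    (hg : ∀ γ ∈ Γ, g * γ = γ * g) : g ∈ Subgroup.center G := by
  obtain ⟨n, ρ, rfl⟩ := hχ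
  set ρΓ : Representation ℂ Γ (Fin n → ℂ) := MonoidHom.comp ρ Γ.subtype with hρΓdef
  have hρΓ : ρΓ.IsIrreducible := by
    obtain ⟨d', σ, hσ, hσc⟩ := hirr
    have hc : σ.character = ρΓ.character := by
      rw [hσc]
      rfl
    obtain ⟨e⟩ := Cfsg.Agent.Lib.helper4.nonempty_equiv_of_character_eq σ ρΓ hc
    exact Cfsg.Agent.Lib.helper4.isIrreducible_of_equiv e hσ
  have := hρΓ
  have hcomm : ∀ m : Γ, ρ g * ρΓ m = ρΓ m * ρ g := by
    intro m
    show ρ g * ρ (m : G) = ρ (m : G) * ρ g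
    rw [← map_mul, ← map_mul, hg m m.2]
  obtain ⟨c, hc⟩ := Cfsg.Agent.Lib.helper82.schur_scalar ρΓ (ρ g) hcomm
  rw [Subgroup.mem_center_iff]
  intro h
  have h1 : ρ (h * g * h⁻¹ * g⁻¹) = 1 := by
    have h2 : ρ h * ρ g = ρ g * ρ h := by
      rw [hc]
      simp
    have h3 : ρ (h * g * h⁻¹ * g⁻¹) = ρ (g * h * h⁻¹ * g⁻¹) := by
      rw [map_mul, map_mul, map_mul, h2, ← map_mul, ← map_mul, ← map_mul]
    rw [h3]
    have : g * h * h⁻¹ * g⁻¹ = 1 := by group
    rw [this, map_one]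
  have h4 : ρ.character (h * g * h⁻¹ * g⁻¹) = ρ.character 1 := by
    show LinearMap.trace ℂ _ (ρ (h * g * h⁻¹ * g⁻¹)) = LinearMap.trace ℂ _ (ρ 1)
    rw [h1, map_one ρ]
  have h5 := hfaith _ h4
  have h6 : h * g = (h * g * h⁻¹ * g⁻¹) * (g * h) := by group
  rw [h6, h5, one_mul]

/-- The `hcent` input of step (V5). -/
theorem helper80_bg_hcent {G : Type u} [Group G] [Finite G] (p : ℕ) [Fact p.Prime]
    (P : Sylow p G) (x : G) (hx : x ∈ (P : Subgroup G)) (χ : G → ℂ)
    (hχ : Cfsg.IsCharacter G χ) (hfaith : ∀ g : G, χ g = χ 1 → g = 1)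
    (hirr : Cfsg.IsIrrCharacter (Subgroup.normalClosure ({x} : Set G))
      (fun γ : Subgroup.normalClosure ({x} : Set G) => χ (γ : G))) :
    ∀ g : G, (∀ Q : Sylow p G, ∀ y ∈ (Q : Subgroup G), g * y = y * g) →
      g ∈ Subgroup.center G := by
  intro g hg
  have hp : p.Prime := Fact.out
  apply helper80_cent_of_res_irr χ hχ hfaith _ hirr g
  obtain ⟨k, hk⟩ := P.isPGroup' ⟨x, hx⟩
  have hxk : x ^ (p ^ k) = 1 := by
    have := congrArg Subtype.val hk
    simpa using this
  -- `g` commutes with every conjugate of `x`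
  have hconj : ∀ h : G, g * (h * x * h⁻¹) = (h * x * h⁻¹) * g := by
    intro h
    have h1 : (h * x * h⁻¹) ^ (p ^ k) = 1 := by
      rw [conj_pow, hxk, mul_one, mul_inv_cancel]
    have h2 : orderOf (h * x * h⁻¹) ∣ p ^ k := orderOf_dvd_of_pow_eq_one h1
    obtain ⟨j, -, hj⟩ := (Nat.dvd_prime_pow hp).mp h2
    have hpg : IsPGroup p (Subgroup.zpowers (h * x * h⁻¹)) :=
      IsPGroup.of_card (n := j) (by rw [Nat.card_zpowers, hj])
    obtain ⟨Q, hQ⟩ := hpg.exists_le_sylow
    exact hg Q _ (hQ (Subgroup.mem_zpowers _))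
  have hle : Subgroup.normalClosure ({x} : Set G) ≤ Subgroup.centralizer ({g} : Set G) := by
    show Subgroup.closure (Group.conjugatesOfSet {x}) ≤ _
    rw [Subgroup.closure_le]
    intro z hz
    obtain ⟨b, hb, hconjb⟩ := Group.mem_conjugatesOfSet_iff.mp hz
    rw [Set.mem_singleton_iff] at hb
    subst hb
    obtain ⟨c, hc⟩ := isConj_iff.mp hconjb
    rw [SetLike.mem_coe, Subgroup.mem_centralizer_iff]
    intro w hw
    rw [Set.mem_singleton_iff] at hw
    subst hw
    rw [← hc]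
    exact hconj c
  intro γ hγ
  have := Subgroup.mem_centralizer_iff.mp (hle hγ) g (Set.mem_singleton g)
  exact this

end Cfsg.Agent.Lib.helper2.BG
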