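import Mathlib

/-!
# S4504, piece R, step (V6): `G = Γ Z(G)` and `Γ` perfect, hence `G / Z(G)` is perfect

Pure group theory.  `Γ` is the normal closure of an element `x` generating a Sylow `p`-subgroup
`P` of order `p`.
-/

set_option autoImplicit false

namespace Cfsg.Agent.Lib.helper2.BG

/-- A Sylow subgroup of prime order is generated by each of its nontrivial elements. -/
theorem helper80_sylow_eq_zpowers {G : Type*} [Group G] [Finite G] (p : ℕ) [Fact p.Prime]
    (P : Sylow p G) (hP : Nat.card P = p) (y : G) (hy : y ∈ (P : Subgroup G)) (hy1 : y ≠ 1) :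
    orderOf y = p ∧ Subgroup.zpowers y = (P : Subgroup G) := by
  have hp : p.Prime := Fact.out
  have hdvd : orderOf y ∣ p := by
    rw [← hP]
    exact Subgroup.orderOf_dvd_natCard (P : Subgroup G) hy
  have ho : orderOf y = p := by
    rcases (Nat.dvd_prime hp).mp hdvd with h | h
    · exact absurd (orderOf_eq_one_iff.mp h) hy1
    · exact h
  refine ⟨ho, ?_⟩
  apply Subgroup.eq_of_le_of_card_ge ((Subgroup.zpowers_le).mpr hy)
  rw [Nat.card_zpowers, ho]
  exact hP.le

/-- (V6), first half: `G = Γ ⊔ Z(G)`. -/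
theorem helper80_bg_sup_center {G : Type*} [Group G] [Finite G] (p : ℕ) [Fact p.Prime]
    (P : Sylow p G) (hP : Nat.card P = p) (x : G) (hx : x ∈ (P : Subgroup G)) (hx1 : x ≠ 1)
    (hK : ∀ k ∈ Subgroup.centralizer ((P : Subgroup G) : Set G), ¬ p ∣ orderOf k →
      k ∈ Subgroup.center G)
    (hfus : ∀ (n : G) (k : ℕ), n * x * n⁻¹ = x ^ k →
      ∃ γ ∈ Subgroup.normalClosure ({x} : Set G), γ * x * γ⁻¹ = x ^ k) :
    Subgroup.normalClosure ({x} : Set G) ⊔ Subgroup.center G = ⊤ := by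
  classical
  have hp : p.Prime := Fact.out
  obtain ⟨hxo, hPx⟩ := helper80_sylow_eq_zpowers p P hP x hx hx1
  have hxΓ : x ∈ Subgroup.normalClosure ({x} : Set G) :=
    Subgroup.subset_normalClosure (Set.mem_singleton x)
  have hPΓ : (P : Subgroup G) ≤ Subgroup.normalClosure ({x} : Set G) := by
    rw [← hPx]
    exact (Subgroup.zpowers_le).mpr hxΓ
  -- the centralizer of `P` lies in `Γ ⊔ Z`
  have hC : ∀ c ∈ Subgroup.centralizer ((P : Subgroup G) : Set G),
      c ∈ Subgroup.normalClosure ({x} : Set G) ⊔ Subgroup.center G := by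
    intro c hc
    have ho : orderOf c ≠ 0 := (orderOf_pos c).ne'
    obtain ⟨e, m, hm, hem⟩ := Nat.exists_eq_pow_mul_and_not_dvd ho p hp.ne_one
    have hcop : Nat.Coprime (p ^ e) m := Nat.Coprime.pow_left e ((Nat.Prime.coprime_iff_not_dvd hp).mpr hm)
    have hgcd := Nat.gcd_eq_gcd_ab (p ^ e) m
    rw [hcop.gcd_eq_one] at hgcd
    have hc1 : c = (c ^ (p ^ e)) ^ (Nat.gcdA (p ^ e) m) * (c ^ m) ^ (Nat.gcdB (p ^ e) m) := by
      rw [← zpow_natCast c (p ^ e), ← zpow_natCast c m, ← zpow_mul, ← zpow_mul, ← zpow_add,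
        ← hgcd]
      simp
    -- the `p`-regular part
    have hk : (c ^ (p ^ e)) ^ (Nat.gcdA (p ^ e) m) ∈ Subgroup.center G := by
      apply hK _ (Subgroup.zpow_mem _ (Subgroup.pow_mem _ hc _) _)
      have h1 : orderOf (c ^ (p ^ e)) = m := by
        have hpe : p ^ e ≠ 0 := pow_ne_zero _ hp.pos.ne'
        rw [orderOf_pow_of_dvd hpe (by rw [hem]; exact dvd_mul_right _ _), hem,
          Nat.mul_div_cancel_left _ (Nat.pos_of_ne_zero hpe)]
      have h2 : orderOf ((c ^ (p ^ e)) ^ (Nat.gcdA (p ^ e) m)) ∣ m := by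
        rw [← h1]
        exact orderOf_dvd_of_mem_zpowers (Subgroup.zpow_mem_zpowers _ _)
      exact fun h => hm (h.trans h2)
    -- the `p`-part
    have hu : (c ^ m) ^ (Nat.gcdB (p ^ e) m) ∈ (P : Subgroup G) := by
      have hucent : (c ^ m) ^ (Nat.gcdB (p ^ e) m) ∈
          Subgroup.centralizer ((P : Subgroup G) : Set G) :=
        Subgroup.zpow_mem _ (Subgroup.pow_mem _ hc _) _
      have h1 : ((c ^ m) ^ (Nat.gcdB (p ^ e) m)) ^ (p ^ e) = 1 := by
        rw [← zpow_natCast, ← zpow_mul, mul_comm, zpow_mul, zpow_natCast, ← pow_mul,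
          mul_comm m, ← hem, pow_orderOf_eq_one, one_zpow]
      have h2 : orderOf ((c ^ m) ^ (Nat.gcdB (p ^ e) m)) ∣ p ^ e := orderOf_dvd_of_pow_eq_one h1
      obtain ⟨j, -, hj⟩ := (Nat.dvd_prime_pow hp).mp h2
      have hpg : IsPGroup p (Subgroup.zpowers ((c ^ m) ^ (Nat.gcdB (p ^ e) m))) :=
        IsPGroup.of_card (n := j) (by rw [Nat.card_zpowers, hj])
      have hle : Subgroup.zpowers ((c ^ m) ^ (Nat.gcdB (p ^ e) m)) ≤
          Subgroup.normalizer ((P : Subgroup G) : Set G) :=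
        ((Subgroup.zpowers_le).mpr hucent).trans (Subgroup.centralizer_le_normalizer _)
      have hsup := IsPGroup.to_sup_of_normal_right' hpg P.isPGroup' hle
      have heq := P.is_maximal' hsup le_sup_right
      have hmem : (c ^ m) ^ (Nat.gcdB (p ^ e) m) ∈
          Subgroup.zpowers ((c ^ m) ^ (Nat.gcdB (p ^ e) m)) ⊔ (P : Subgroup G) :=
        (le_sup_left : Subgroup.zpowers ((c ^ m) ^ (Nat.gcdB (p ^ e) m)) ≤ _)
          (Subgroup.mem_zpowers _)
      rw [heq] at hmem
      exact hmem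
    rw [hc1]
    exact Subgroup.mul_mem _ ((le_sup_right : Subgroup.center G ≤ _) hk)
      ((le_sup_left : Subgroup.normalClosure ({x} : Set G) ≤ _) (hPΓ hu))
  -- the normalizer of `P` lies in `Γ ⊔ Z`
  have hN : Subgroup.normalizer ((P : Subgroup G) : Set G) ≤
      Subgroup.normalClosure ({x} : Set G) ⊔ Subgroup.center G := by
    intro n hn
    have h1 : n * x * n⁻¹ ∈ (P : Subgroup G) := (Subgroup.mem_normalizer_iff.mp hn x).mp hx
    rw [← hPx] at h1
    have h2 : n * x * n⁻¹ ∈ Submonoid.powers x :=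
      (mem_powers_iff_mem_zpowers (x := x)).mpr h1
    obtain ⟨k, hk⟩ := h2
    have hk : x ^ k = n * x * n⁻¹ := hk
    obtain ⟨γ, hγ, hγx⟩ := hfus n k hk.symm
    have hcomm : Commute (γ⁻¹ * n) x := by
      show γ⁻¹ * n * x = x * (γ⁻¹ * n)
      have e1 : n * x = x ^ k * n := by
        rw [hk, inv_mul_cancel_right]
      have e2 : γ⁻¹ * x ^ k = x * γ⁻¹ := by
        rw [← hγx]
        group
      rw [mul_assoc, e1, ← mul_assoc, e2, mul_assoc]
    have hcent : γ⁻¹ * n ∈ Subgroup.centralizer ((P : Subgroup G) : Set G) := by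
      rw [Subgroup.mem_centralizer_iff]
      intro y hy
      have hy' : y ∈ Subgroup.zpowers x := by rw [hPx]; exact hy
      obtain ⟨z, rfl⟩ := Subgroup.mem_zpowers_iff.mp hy'
      exact ((hcomm.zpow_right z).eq).symm
    have h3 : n = γ * (γ⁻¹ * n) := by group
    rw [h3]
    exact Subgroup.mul_mem _ ((le_sup_left : Subgroup.normalClosure ({x} : Set G) ≤ _) hγ)
      (hC _ hcent)
  have : (Subgroup.normalClosure ({x} : Set G)).Normal := Subgroup.normalClosure_normal
  have hfr := Sylow.normalizer_sup_eq_top' P hPΓ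
  rw [eq_top_iff, ← hfr]
  exact sup_le hN le_sup_left

/-- (V6), second half: `Γ` is perfect. -/
theorem helper80_bg_closure_perfect {G : Type*} [Group G] [Finite G] (p : ℕ) [Fact p.Prime]
    (P : Sylow p G) (hP : Nat.card P = p) (x : G) (hx : x ∈ (P : Subgroup G)) (hx1 : x ≠ 1)
    (hnc : ∃ γ ∈ Subgroup.normalClosure ({x} : Set G), ∃ k : ℕ,
      γ * x * γ⁻¹ = x ^ k ∧ x ^ k ≠ x) :
    Subgroup.normalClosure ({x} : Set G) ≤
      ⁅Subgroup.normalClosure ({x} : Set G), Subgroup.normalClosure ({x} : Set G)⁆ := by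
  classical
  obtain ⟨hxo, hPx⟩ := helper80_sylow_eq_zpowers p P hP x hx hx1
  have hxΓ : x ∈ Subgroup.normalClosure ({x} : Set G) :=
    Subgroup.subset_normalClosure (Set.mem_singleton x)
  have : (Subgroup.normalClosure ({x} : Set G)).Normal := Subgroup.normalClosure_normal
  obtain ⟨γ, hγ, k, hk, hkx⟩ := hnc
  have hy : x ^ k * x⁻¹ ∈ ⁅Subgroup.normalClosure ({x} : Set G),
      Subgroup.normalClosure ({x} : Set G)⁆ := by
    have := Subgroup.commutator_mem_commutator hγ hxΓ
    rwa [commutatorElement_def, hk] at this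
  have hyP : x ^ k * x⁻¹ ∈ (P : Subgroup G) :=
    Subgroup.mul_mem _ (Subgroup.pow_mem _ hx _) (Subgroup.inv_mem _ hx)
  have hy1 : x ^ k * x⁻¹ ≠ 1 := by
    intro h
    exact hkx (mul_inv_eq_one.mp h)
  obtain ⟨-, hPy⟩ := helper80_sylow_eq_zpowers p P hP _ hyP hy1
  apply Subgroup.normalClosure_le_normal
  intro z hz
  rw [Set.mem_singleton_iff] at hz
  subst hz
  have hzP : z ∈ Subgroup.zpowers (z ^ k * z⁻¹) := by rw [hPy]; exact hx
  exact ((Subgroup.zpowers_le).mpr hy) hzP

/-- (V6): `G ⧸ Z(G)` is perfect. -/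
theorem helper80_bg_perfect {G : Type*} [Group G] [Finite G] (p : ℕ) [Fact p.Prime]
    (P : Sylow p G) (hP : Nat.card P = p) (x : G) (hx : x ∈ (P : Subgroup G)) (hx1 : x ≠ 1)
    (hK : ∀ k ∈ Subgroup.centralizer ((P : Subgroup G) : Set G), ¬ p ∣ orderOf k →
      k ∈ Subgroup.center G)
    (hfus : ∀ (n : G) (k : ℕ), n * x * n⁻¹ = x ^ k →
      ∃ γ ∈ Subgroup.normalClosure ({x} : Set G), γ * x * γ⁻¹ = x ^ k)
    (hnc : ∃ γ ∈ Subgroup.normalClosure ({x} : Set G), ∃ k : ℕ,
      γ * x * γ⁻¹ = x ^ k ∧ x ^ k ≠ x) :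
    commutator (G ⧸ Subgroup.center G) = ⊤ := by
  have h1 := helper80_bg_sup_center p P hP x hx hx1 hK hfus
  have h2 := helper80_bg_closure_perfect p P hP x hx hx1 hnc
  have h3 : Subgroup.normalClosure ({x} : Set G) ≤ commutator G := by
    rw [commutator_def]
    exact h2.trans (Subgroup.commutator_mono le_top le_top)
  have hfin : commutator G ⊔ Subgroup.center G = ⊤ := by
    rw [eq_top_iff, ← h1]
    exact sup_le_sup_right h3 _
  rw [eq_top_iff]
  intro q _
  obtain ⟨g, rfl⟩ := QuotientGroup.mk_surjective q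
  have hg : g ∈ commutator G ⊔ Subgroup.center G := by rw [hfin]; trivial
  have h4 : (QuotientGroup.mk' (Subgroup.center G)) g ∈
      Subgroup.map (QuotientGroup.mk' (Subgroup.center G))
        (commutator G ⊔ Subgroup.center G) := Subgroup.mem_map_of_mem _ hg
  rw [Subgroup.map_sup, QuotientGroup.map_mk'_self, sup_bot_eq, commutator_def,
    Subgroup.map_commutator] at h4
  rw [commutator_def]
  exact Subgroup.commutator_mono le_top le_top h4

end Cfsg.Agent.Lib.helper2.BG
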