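import Mathlib
import Cfsg.Prelude.Def_Characters
import Cfsg.Prelude.Def_CharExt
import Cfsg.Agent.Lib.helper4.CharTheory
import Cfsg.Agent.Lib.helper4.CharDecomp
import Cfsg.Agent.Lib.helper4.Exceptional
import Cfsg.Agent.Lib.helper79.GaloisChar
import Cfsg.Agent.Lib.helper79.SchurScalar
import Cfsg.Agent.Lib.helper19.DetChar
import Cfsg.Agent.Lib.helper19.LinChar
import Cfsg.Agent.Lib.helper82.CharQuot
import Cfsg.Agent.Lib.helper83.Gagola

/-!
# Character-theoretic part of Blichfeldt's theorem on abelian Hall subgroups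

If no noncentral `p`-element commutes with a noncentral `q`-element, then every irreducible
character that is trivial on the central `p`- and `q`-elements is fixed by all Galois
automorphisms moving only `p`-power roots of unity, or by all those moving only `q`-power
roots of unity.  For characters of degree less than `p - 1` the first alternative forces
all `p`-elements into the kernel.
-/

set_option autoImplicit false

namespace Cfsg.Agent.Lib.helper80

open Cfsg
open scoped ComplexConjugate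

universe u

section BlichChar

variable {G : Type u} [Group G] [Finite G]

/-- The Galois conjugate `g ↦ ξ (g ^ m)` of an irreducible character is irreducible. -/
theorem blich_isIrr_pow {ξ : G → ℂ} (hξ : IsIrrCharacter G ξ) (m : ℕ)
    (hm : m.Coprime (Nat.card G)) : IsIrrCharacter G (fun g => ξ (g ^ m)) := by
  obtain ⟨τ, hτ⟩ :=
    Cfsg.Agent.Lib.helper79.exists_ringEquiv_complex_pow (Nat.card G) Nat.card_pos m hm
  have h1 := Cfsg.Agent.Lib.helper79.isIrrCharacter_ringHom_comp (τ : ℂ →+* ℂ) hξ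
  have h2 : (fun g => (τ : ℂ →+* ℂ) (ξ g)) = fun g => ξ (g ^ m) := by
    funext g
    exact Cfsg.Agent.Lib.helper79.ringHom_character_eq_character_pow (τ : ℂ →+* ℂ)
      (Nat.card G) m Nat.card_pos.ne' (fun ζ hζ => hτ ζ hζ)
      (Cfsg.Agent.Lib.helper4.isCharacter_of_isIrrCharacter hξ) g pow_card_eq_one'
  rw [h2] at h1
  exact h1

/-- The `p`-part `u` of an element `g`, with the formula for `g ^ m` when `m` is `1` modulo
the `p'`-part of the group order. -/
theorem blich_pow_decomp (p : ℕ) (hp : p.Prime) (g : G) :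
    ∃ u : G, (∃ i : ℕ, u = g ^ i) ∧ u ^ (p ^ (Nat.card G).factorization p) = 1 ∧
      ∀ m : ℕ, m ≡ 1 [MOD Nat.card G / p ^ (Nat.card G).factorization p] → 0 < m →
        g ^ m = u ^ (m - 1) * g := by
  have hN : Nat.card G ≠ 0 := Nat.card_pos.ne'
  have har : p ^ (Nat.card G).factorization p * (Nat.card G / p ^ (Nat.card G).factorization p)
      = Nat.card G := Nat.ordProj_mul_ordCompl_eq_self (Nat.card G) p
  have hcop : Nat.Coprime (p ^ (Nat.card G).factorization p)
      (Nat.card G / p ^ (Nat.card G).factorization p) :=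
    (Nat.coprime_ordCompl hp hN).pow_left _
  obtain ⟨e, he1, he0⟩ := Nat.chineseRemainder hcop 1 0
  refine ⟨g ^ e, ⟨e, rfl⟩, ?_, ?_⟩
  · rw [← pow_mul]
    have hdvd : Nat.card G ∣ e * p ^ (Nat.card G).factorization p := by
      have h1 : Nat.card G / p ^ (Nat.card G).factorization p ∣ e :=
        (Nat.modEq_zero_iff_dvd).mp he0
      obtain ⟨c, hc⟩ := h1
      refine ⟨c, ?_⟩
      rw [hc]
      calc Nat.card G / p ^ (Nat.card G).factorization p * c * p ^ (Nat.card G).factorization p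
          = (p ^ (Nat.card G).factorization p *
              (Nat.card G / p ^ (Nat.card G).factorization p)) * c := by ring
        _ = Nat.card G * c := by rw [har]
    obtain ⟨c, hc⟩ := hdvd
    rw [hc, pow_mul, pow_card_eq_one', one_pow]
  · intro m hm hm0
    rw [← pow_mul, ← pow_succ]
    rw [pow_eq_pow_iff_modEq]
    have hord : orderOf g ∣ Nat.card G := orderOf_dvd_natCard g
    refine Nat.ModEq.of_dvd hord ?_
    rw [← har]
    refine (Nat.modEq_and_modEq_iff_modEq_mul hcop).mp ⟨?_, ?_⟩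
    · have h1 : e * (m - 1) + 1 ≡ 1 * (m - 1) + 1
          [MOD p ^ (Nat.card G).factorization p] :=
        (he1.mul_right _).add_right _
      have h2 : 1 * (m - 1) + 1 = m := by omega
      rw [h2] at h1
      exact h1.symm
    · have h1 : Nat.card G / p ^ (Nat.card G).factorization p ∣ m - 1 :=
        (Nat.modEq_iff_dvd' hm0).mp hm.symm
      have h2 : e * (m - 1) ≡ 0 [MOD Nat.card G / p ^ (Nat.card G).factorization p] :=
        (Nat.modEq_zero_iff_dvd).mpr (Dvd.dvd.mul_left h1 e)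
      have h3 : e * (m - 1) + 1 ≡ 0 + 1
          [MOD Nat.card G / p ^ (Nat.card G).factorization p] := h2.add_right _
      rw [zero_add] at h3
      exact hm.trans h3.symm

/-- If no noncentral `p`-element commutes with a noncentral `q`-element, an irreducible
character trivial on the central `p`- and `q`-elements is `p`-rational or `q`-rational. -/
theorem blich_rational (p q : ℕ) (hp : p.Prime) (hq : q.Prime)
    (hC : ∀ u y : G, Commute u y → u ^ (p ^ (Nat.card G).factorization p) = 1 →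
      y ^ (q ^ (Nat.card G).factorization q) = 1 →
      u ∈ Subgroup.center G ∨ y ∈ Subgroup.center G)
    {ξ : G → ℂ} (hξ : IsIrrCharacter G ξ)
    (hZp : ∀ z : G, z ∈ Subgroup.center G → z ^ (p ^ (Nat.card G).factorization p) = 1 →
      ∀ g, ξ (z * g) = ξ g)
    (hZq : ∀ z : G, z ∈ Subgroup.center G → z ^ (q ^ (Nat.card G).factorization q) = 1 →
      ∀ g, ξ (z * g) = ξ g) :
    (∀ m : ℕ, m.Coprime (Nat.card G) →
        m ≡ 1 [MOD Nat.card G / p ^ (Nat.card G).factorization p] → ∀ g, ξ (g ^ m) = ξ g) ∨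
    (∀ m : ℕ, m.Coprime (Nat.card G) →
        m ≡ 1 [MOD Nat.card G / q ^ (Nat.card G).factorization q] → ∀ g, ξ (g ^ m) = ξ g) := by
  classical
  haveI : Fintype G := Fintype.ofFinite G
  by_contra hcon
  push_neg at hcon
  obtain ⟨⟨m, hm, hm1, g1, hg1⟩, ⟨m', hm', hm1', g2, hg2⟩⟩ := hcon
  -- the one-sided vanishing statements
  have side : ∀ (r : ℕ), r.Prime →
      (∀ z : G, z ∈ Subgroup.center G → z ^ (r ^ (Nat.card G).factorization r) = 1 →
        ∀ g, ξ (z * g) = ξ g) →
      ∀ (k : ℕ), k.Coprime (Nat.card G) →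
        k ≡ 1 [MOD Nat.card G / r ^ (Nat.card G).factorization r] →
      ∀ (g u : G), (∀ k' : ℕ, k' ≡ 1 [MOD Nat.card G / r ^ (Nat.card G).factorization r] →
          0 < k' → g ^ k' = u ^ (k' - 1) * g) →
        u ^ (r ^ (Nat.card G).factorization r) = 1 → u ∈ Subgroup.center G →
        ξ (g ^ k) = ξ g := by
    intro r _ hZ k hk hk1 g u hpow hu huc
    rcases Nat.eq_zero_or_pos k with h0 | h0
    · subst h0
      have hcard : Nat.card G = 1 := by simpa using hk
      haveI : Subsingleton G := (Nat.card_eq_one_iff_unique.mp hcard).1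
      rw [Subsingleton.elim (g ^ 0) g]
    · rw [hpow k hk1 h0]
      refine hZ _ (Subgroup.pow_mem _ huc _) ?_ g
      rw [← pow_mul, mul_comm, pow_mul, hu, one_pow]
  have hb : IsIrrCharacter G (fun g => ξ (g ^ m)) := blich_isIrr_pow hξ m hm
  have hd : IsIrrCharacter G (fun g => ξ (g ^ m')) := blich_isIrr_pow hξ m' hm'
  have hba : (fun g => ξ (g ^ m)) ≠ ξ := fun h => hg1 (congrFun h g1)
  have hda : ξ ≠ (fun g => ξ (g ^ m')) := fun h => hg2 (congrFun h g2).symm
  have hzero : classInner (ξ - fun g => ξ (g ^ m)) (ξ - fun g => ξ (g ^ m')) = 0 := by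
    unfold classInner
    rw [Finset.sum_eq_zero, mul_zero]
    intro g _
    obtain ⟨u, ⟨i, rfl⟩, hu, hupow⟩ := blich_pow_decomp p hp g
    obtain ⟨y, ⟨j, rfl⟩, hy, hypow⟩ := blich_pow_decomp q hq g
    have hcomm : Commute (g ^ i) (g ^ j) := (Commute.refl g).pow_pow i j
    rcases hC _ _ hcomm hu hy with hc | hc
    · have h1 : ξ (g ^ m) = ξ g := side p hp hZp m hm hm1 g _ hupow hu hc
      simp [h1]
    · have h1 : ξ (g ^ m') = ξ g := side q hq hZq m' hm' hm1' g _ hypow hy hc
      simp [h1]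
  have hform := Cfsg.Agent.Lib.helper4.classInner_irr_sub_irr hξ hb hξ hd
  rw [hzero] at hform
  rw [if_pos rfl, if_neg hda, if_neg hba] at hform
  by_cases hbd : (fun g => ξ (g ^ m)) = (fun g => ξ (g ^ m'))
  · rw [if_pos hbd] at hform
    norm_num at hform
  · rw [if_neg hbd] at hform
    norm_num at hform

/-- Evaluation of a list sum of functions. -/
theorem blich_list_sum_apply {α : Type*} (l : List (α → ℂ)) (a : α) :
    l.sum a = (l.map fun f => f a).sum := by
  induction l with
  | nil => simp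
  | cons f t ih => simp [ih]

/-- The irreducible constituents of a character of degree `n` have degree at most `n`. -/
theorem blich_deg_le {H : Type u} [Group H] [Finite H] (l : List (IrrCharacter H)) :
    ∀ n : ℕ, (List.map Subtype.val l).sum 1 = (n : ℂ) →
      ∀ ψ ∈ l, ∃ d : ℕ, 0 < d ∧ (ψ : H → ℂ) 1 = d ∧ d ≤ n := by
  induction l with
  | nil =>
    intro n _ ψ hψ
    simp at hψ
  | cons a t ih =>
    intro n hn ψ hψ
    obtain ⟨da, hda0, hda⟩ := Cfsg.Agent.Lib.helper4.exists_pos_nat_degree a.2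
    have hchar : IsCharacter H (List.map Subtype.val t).sum :=
      Cfsg.Agent.Lib.helper4.isCharacter_list_sum _ (by
        intro χ hχ
        obtain ⟨b, _, rfl⟩ := List.mem_map.mp hχ
        exact Cfsg.Agent.Lib.helper4.isCharacter_of_isIrrCharacter b.2)
    obtain ⟨nt, hnt⟩ := Cfsg.Agent.Lib.helper4.exists_nat_degree hchar
    have hsum : da + nt = n := by
      have h1 : ((da + nt : ℕ) : ℂ) = n := by
        rw [← hn, List.map_cons, List.sum_cons, Pi.add_apply, hda, hnt]
        push_cast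
        rfl
      exact_mod_cast h1
    rcases List.mem_cons.mp hψ with rfl | hψt
    · exact ⟨da, hda0, hda, by omega⟩
    · obtain ⟨d, hd0, hd, hdle⟩ := ih nt hnt ψ hψt
      exact ⟨d, hd0, hd, by omega⟩

/-- Multiplicity of an irreducible character in a list sum. -/
theorem blich_mult_pos {H : Type u} [Group H] [Fintype H] (l : List (IrrCharacter H))
    (ψ₀ : IrrCharacter H) :
    ∃ n : ℕ, classInner (List.map Subtype.val l).sum (ψ₀ : H → ℂ) = n ∧
      (ψ₀ ∈ l → 1 ≤ n) := by
  classical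
  induction l with
  | nil =>
    refine ⟨0, ?_, by simp⟩
    rw [List.map_nil, List.sum_nil, Cfsg.Agent.Lib.helper4.classInner_zero_left]
    simp
  | cons a t ih =>
    obtain ⟨n, hn, hpos⟩ := ih
    by_cases ha : a = ψ₀
    · refine ⟨n + 1, ?_, fun _ => by omega⟩
      rw [List.map_cons, List.sum_cons, Cfsg.Agent.Lib.helper4.classInner_add_left, hn, ha,
        Cfsg.Agent.Lib.helper4.classInner_irr_self ψ₀.2]
      push_cast
      ring
    · refine ⟨n, ?_, ?_⟩
      · rw [List.map_cons, List.sum_cons, Cfsg.Agent.Lib.helper4.classInner_add_left, hn,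
          Cfsg.Agent.Lib.helper4.classInner_irr_ne a.2 ψ₀.2 (fun h => ha (Subtype.ext h)),
          zero_add]
      · intro hmem
        rcases List.mem_cons.mp hmem with h | h
        · exact absurd h.symm ha
        · exact hpos h

/-- A character of degree less than `p - 1` that is fixed by all Galois automorphisms moving
only `p`-power roots of unity is trivial on every `p`-element of a commutative subgroup. -/
theorem blich_kernel_aux (p : ℕ) (hp : p.Prime) {ξ : G → ℂ} (hξ : IsCharacter G ξ) (d : ℕ)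
    (hd : ξ 1 = d) (hdp : d + 1 < p)
    (hinv : ∀ m : ℕ, m.Coprime (Nat.card G) →
        m ≡ 1 [MOD Nat.card G / p ^ (Nat.card G).factorization p] → ∀ g, ξ (g ^ m) = ξ g)
    (C : Subgroup G) (hCcomm : ∀ a b : C, a * b = b * a) (uC : C)
    (hu : uC ^ (p ^ (Nat.card G).factorization p) = 1) : ξ uC = ξ 1 := by
  classical
  have hN : Nat.card G ≠ 0 := Nat.card_pos.ne'
  have har : p ^ (Nat.card G).factorization p * (Nat.card G / p ^ (Nat.card G).factorization p)
      = Nat.card G := Nat.ordProj_mul_ordCompl_eq_self (Nat.card G) p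
  have hcop : Nat.Coprime (p ^ (Nat.card G).factorization p)
      (Nat.card G / p ^ (Nat.card G).factorization p) :=
    (Nat.coprime_ordCompl hp hN).pow_left _
  -- the case where `p` does not divide the group order
  rcases Nat.eq_zero_or_pos ((Nat.card G).factorization p) with hv | hv
  · rw [hv, pow_zero, pow_one] at hu
    rw [hu]
    rfl
  have hpa : p ∣ p ^ (Nat.card G).factorization p := dvd_pow_self p hv.ne'
  haveI : Fintype C := Fintype.ofFinite C
  obtain ⟨θ, hθdef⟩ : ∃ θ : C → ℂ, θ = fun c : C => ξ (c : G) := ⟨_, rfl⟩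
  have hθ : IsCharacter C θ := by
    rw [hθdef]
    exact Cfsg.Agent.Lib.helper4.isCharacter_restrict C hξ
  obtain ⟨l, hl⟩ := Cfsg.Agent.Lib.helper4.exists_irr_list_of_isCharacter hθ
  have hlin1 : ∀ ψ : IrrCharacter C, (ψ : C → ℂ) 1 = 1 := fun ψ =>
    Cfsg.Agent.Lib.helper82.irr_one_of_commutative hCcomm ψ.2
  have hlin : ∀ ψ : IrrCharacter C, ∃ f : C →* ℂˣ, ∀ c, (ψ : C → ℂ) c = (f c : ℂ) := fun ψ =>
    Cfsg.Agent.Lib.helper82.exists_hom_of_linear
      (Cfsg.Agent.Lib.helper4.isCharacter_of_isIrrCharacter ψ.2) (hlin1 ψ)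
  have hclaim : ∀ ψ ∈ l, (ψ : C → ℂ) uC = 1 := by
    intro ψ₀ hψ₀
    by_contra hne
    obtain ⟨f₀, hf₀⟩ := hlin ψ₀
    obtain ⟨ω, hω⟩ : ∃ ω : ℂˣ, ω = f₀ uC := ⟨_, rfl⟩
    have hω1 : ω ≠ 1 := by
      intro h
      apply hne
      rw [hf₀, ← hω, h]
      simp
    have hωa : ω ^ (p ^ (Nat.card G).factorization p) = 1 := by
      rw [hω, ← map_pow, hu, map_one]
    have hordp : p ∣ orderOf ω := by
      have h1 : orderOf ω ∣ p ^ (Nat.card G).factorization p := orderOf_dvd_of_pow_eq_one hωa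
      obtain ⟨i, -, hi⟩ := (Nat.dvd_prime_pow hp).mp h1
      rcases Nat.eq_zero_or_pos i with h0 | h0
      · exfalso
        apply hω1
        rw [h0, pow_zero] at hi
        exact orderOf_eq_one_iff.mp hi
      · rw [hi]
        exact dvd_pow_self p h0.ne'
    have hmul : ∀ j : ℕ, 1 ≤ j → j < p → ∃ m : ℕ, m.Coprime (Nat.card G) ∧
        m ≡ 1 [MOD Nat.card G / p ^ (Nat.card G).factorization p] ∧
        m ≡ j [MOD p ^ (Nat.card G).factorization p] := by
      intro j hj1 hjp
      obtain ⟨m, hma, hmr⟩ := Nat.chineseRemainder hcop j 1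
      refine ⟨m, ?_, hmr, hma⟩
      rw [← har]
      refine Nat.Coprime.mul_right ?_ ?_
      · refine Nat.Coprime.pow_right _ ?_
        rw [Nat.coprime_comm, Nat.Prime.coprime_iff_not_dvd hp]
        intro hpm
        have h1 : m ≡ j [MOD p] := Nat.ModEq.of_dvd hpa hma
        have h2 : m ≡ 0 [MOD p] := (Nat.modEq_zero_iff_dvd).mpr hpm
        have h3 : p ∣ j := (Nat.modEq_zero_iff_dvd).mp (h1.symm.trans h2)
        have := Nat.le_of_dvd (by omega) h3
        omega
      · have h1 := Nat.ModEq.gcd_eq hmr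
        unfold Nat.Coprime
        rw [h1]
        simp
    choose! mj hmj using hmul
    have hcardC : Nat.card C ∣ Nat.card G := Subgroup.card_subgroup_dvd_card C
    have hψj : ∀ j, 1 ≤ j → j < p →
        IsIrrCharacter C (fun c => (ψ₀ : C → ℂ) (c ^ mj j)) := by
      intro j h1 h2
      exact blich_isIrr_pow ψ₀.2 (mj j) (Nat.Coprime.coprime_dvd_right hcardC (hmj j h1 h2).1)
    obtain ⟨n₀, hn₀, hn₀pos⟩ := blich_mult_pos l ψ₀
    have hn₀1 : 1 ≤ n₀ := hn₀pos hψ₀
    have hmultj : ∀ j, 1 ≤ j → j < p →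
        classInner θ (fun c => (ψ₀ : C → ℂ) (c ^ mj j)) = n₀ := by
      intro j h1 h2
      have hcop' : (mj j).Coprime (Nat.card C) :=
        Nat.Coprime.coprime_dvd_right hcardC (hmj j h1 h2).1
      have h3 := Cfsg.Agent.Lib.helper79.classInner_pow_coprime (mj j) hcop' θ (ψ₀ : C → ℂ)
      have h4 : (fun c : C => θ (c ^ mj j)) = θ := by
        funext c
        rw [hθdef]
        show ξ ((c ^ mj j : C) : G) = ξ c
        rw [Subgroup.coe_pow]
        exact hinv (mj j) (hmj j h1 h2).1 (hmj j h1 h2).2.1 c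
      rw [h4] at h3
      rw [h3, ← hn₀, ← hl]
    have hval : ∀ j, 1 ≤ j → j < p → (ψ₀ : C → ℂ) (uC ^ mj j) = ((ω ^ j : ℂˣ) : ℂ) := by
      intro j h1 h2
      rw [hf₀, map_pow, ← hω]
      congr 1
      rw [pow_eq_pow_iff_modEq]
      exact Nat.ModEq.of_dvd (orderOf_dvd_of_pow_eq_one hωa) (hmj j h1 h2).2.2
    have hinj : ∀ j j', 1 ≤ j → j < p → 1 ≤ j' → j' < p →
        (fun c => (ψ₀ : C → ℂ) (c ^ mj j)) = (fun c => (ψ₀ : C → ℂ) (c ^ mj j')) → j = j' := by
      intro j j' h1 h2 h1' h2' heq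
      have h5 : (ψ₀ : C → ℂ) (uC ^ mj j) = (ψ₀ : C → ℂ) (uC ^ mj j') := congrFun heq uC
      rw [hval j h1 h2, hval j' h1' h2'] at h5
      have h6 : ω ^ j = ω ^ j' := Units.ext h5
      rw [pow_eq_pow_iff_modEq] at h6
      have h7 : j ≡ j' [MOD p] := Nat.ModEq.of_dvd hordp h6
      unfold Nat.ModEq at h7
      rwa [Nat.mod_eq_of_lt h2, Nat.mod_eq_of_lt h2'] at h7
    -- counting
    haveI : Fintype (IrrCharacter C) := Fintype.ofFinite _
    have hsum := congrFun (Cfsg.Agent.Lib.helper4.classFunction_eq_sum_irr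
      (Cfsg.Agent.Lib.helper4.isClassFunction_of_isCharacter hθ)) 1
    choose nχ hnχ using fun χ : IrrCharacter C =>
      Cfsg.Agent.Lib.helper4.exists_nat_classInner_irr hθ χ.2
    have hθ1 : θ 1 = d := by
      rw [hθdef]
      show ξ ((1 : C) : G) = d
      rw [Subgroup.coe_one, hd]
    have hdsum : d = ∑ χ : IrrCharacter C, nχ χ := by
      have h1 : (d : ℂ) = ((∑ χ : IrrCharacter C, nχ χ : ℕ) : ℂ) := by
        rw [← hθ1, hsum, Finset.sum_apply, Nat.cast_sum]
        refine Finset.sum_congr rfl (fun χ _ => ?_)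
        rw [Pi.smul_apply, smul_eq_mul, hnχ χ, hlin1 χ, mul_one]
      exact_mod_cast h1
    let J : ℕ → IrrCharacter C := fun j =>
      if h : 1 ≤ j ∧ j < p then ⟨_, hψj j h.1 h.2⟩ else ψ₀
    have hJinj : Set.InjOn J (Finset.Icc 1 (p - 1) : Finset ℕ) := by
      intro j hj j' hj' heq
      have hj1 : 1 ≤ j ∧ j < p := by
        have := Finset.mem_Icc.mp hj
        omega
      have hj1' : 1 ≤ j' ∧ j' < p := by
        have := Finset.mem_Icc.mp hj'
        omega
      simp only [J, dif_pos hj1, dif_pos hj1'] at heq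
      exact hinj j j' hj1.1 hj1.2 hj1'.1 hj1'.2 (Subtype.ext_iff.mp heq)
    have hcardS : ((Finset.Icc 1 (p - 1)).image J).card = p - 1 := by
      rw [Finset.card_image_of_injOn hJinj]
      simp
    have hge : ∀ χ ∈ (Finset.Icc 1 (p - 1)).image J, 1 ≤ nχ χ := by
      intro χ hχ
      obtain ⟨j, hj, rfl⟩ := Finset.mem_image.mp hχ
      have hj1 : 1 ≤ j ∧ j < p := by
        have := Finset.mem_Icc.mp hj
        omega
      have h1 : (nχ (J j) : ℂ) = n₀ := by
        rw [← hnχ (J j)]
        simp only [J, dif_pos hj1]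
        exact hmultj j hj1.1 hj1.2
      have h2 : nχ (J j) = n₀ := by exact_mod_cast h1
      omega
    have hle : p - 1 ≤ d := by
      rw [hdsum, ← hcardS, Finset.card_eq_sum_ones]
      calc ∑ _χ ∈ (Finset.Icc 1 (p - 1)).image J, 1
          ≤ ∑ χ ∈ (Finset.Icc 1 (p - 1)).image J, nχ χ := Finset.sum_le_sum hge
        _ ≤ ∑ χ : IrrCharacter C, nχ χ :=
            Finset.sum_le_sum_of_subset (Finset.subset_univ _)
    omega
  have h1 : θ uC = θ 1 := by
    rw [hl, blich_list_sum_apply, blich_list_sum_apply]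
    congr 1
    rw [List.map_map, List.map_map]
    apply List.map_congr_left
    intro ψ hψ
    simp only [Function.comp_apply]
    rw [hclaim ψ hψ, hlin1 ψ]
  rw [hθdef] at h1
  exact h1

/-- A character of degree less than `p - 1` that is fixed by all Galois automorphisms moving
only `p`-power roots of unity has all `p`-elements in its kernel. -/
theorem blich_kernel (p : ℕ) (hp : p.Prime) {ξ : G → ℂ} (hξ : IsCharacter G ξ) (d : ℕ)
    (hd : ξ 1 = d) (hdp : d + 1 < p)
    (hinv : ∀ m : ℕ, m.Coprime (Nat.card G) →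
        m ≡ 1 [MOD Nat.card G / p ^ (Nat.card G).factorization p] → ∀ g, ξ (g ^ m) = ξ g)
    (u : G) (hu : u ^ (p ^ (Nat.card G).factorization p) = 1) : ξ u = ξ 1 := by
  have hcomm : ∀ a b : Subgroup.zpowers u, a * b = b * a := by
    intro a b
    obtain ⟨i, hi⟩ := Subgroup.mem_zpowers_iff.mp a.2
    obtain ⟨j, hj⟩ := Subgroup.mem_zpowers_iff.mp b.2
    apply Subtype.ext
    rw [Subgroup.coe_mul, Subgroup.coe_mul, ← hi, ← hj, ← zpow_add, ← zpow_add, add_comm]
  exact blich_kernel_aux p hp hξ d hd hdp hinv (Subgroup.zpowers u) hcomm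
    ⟨u, Subgroup.mem_zpowers u⟩ (Subtype.ext (by simpa using hu))

/-- Twisting an irreducible character by a power of its determinant so that the central
elements of order dividing `M` (prime to the degree) lie in the kernel. -/
theorem blich_twist {ψ : G → ℂ} (hψ : IsIrrCharacter G ψ) (d : ℕ) (hd : ψ 1 = d) (M : ℕ)
    (hM0 : 0 < M) (hM : Nat.Coprime d M) :
    ∃ ξ : G → ℂ, IsIrrCharacter G ξ ∧ ξ 1 = d ∧
      (∀ z : G, z ∈ Subgroup.center G → z ^ M = 1 → ∀ g, ξ (z * g) = ξ g) ∧
      (∀ a b : G, ξ (a * b * a⁻¹ * b⁻¹) = ψ (a * b * a⁻¹ * b⁻¹)) := by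
  classical
  haveI : Fintype G := Fintype.ofFinite G
  obtain ⟨d', hd'0, hd'⟩ := Cfsg.Agent.Lib.helper4.exists_pos_nat_degree hψ
  have hdd : d' = d := by
    have : (d' : ℂ) = d := by rw [← hd', hd]
    exact_mod_cast this
  subst hdd
  obtain ⟨k, ρ, hirr, rfl⟩ := hψ
  have hk : (Module.finrank ℂ (Fin k → ℂ) : ℂ) = d' := by
    rw [← hd, Representation.char_one]
  obtain ⟨s, hs⟩ : ∃ s : ℕ, M ∣ 1 + d' * s := by
    rcases Nat.lt_or_ge 1 M with h1 | h1
    · obtain ⟨m, -, hm⟩ := Nat.exists_mul_mod_eq_one_of_coprime hM h1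
      obtain ⟨c, h2⟩ : ∃ c : ℕ, d' * m = M * c + 1 := by
        refine ⟨d' * m / M, ?_⟩
        have := Nat.div_add_mod (d' * m) M
        omega
      refine ⟨m * (M - 1), c * (M - 1) + 1, ?_⟩
      have h3 : d' * (m * (M - 1)) = (d' * m) * (M - 1) := by ring
      rw [h3, h2]
      obtain ⟨M', rfl⟩ : ∃ M', M = M' + 1 := ⟨M - 1, by omega⟩
      simp only [Nat.add_sub_cancel]
      ring
    · have h2 : M = 1 := by omega
      exact ⟨0, by rw [h2]; exact one_dvd _⟩
  obtain ⟨f, hf⟩ : ∃ f : G →* ℂˣ, ∀ g, ((f g : ℂˣ) : ℂ) = LinearMap.det (ρ g) :=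
    ⟨Cfsg.Agent.Lib.helper19.detHom ρ, Cfsg.Agent.Lib.helper19.detHom_apply ρ⟩
  have hχ : IsIrrCharacter G ρ.character := ⟨k, ρ, hirr, rfl⟩
  refine ⟨fun g => ρ.character g * (((f ^ s) g : ℂˣ) : ℂ), ?_, ?_, ?_, ?_⟩
  · have hlam : IsIrrCharacter G (fun g => (((f ^ s) g : ℂˣ) : ℂ)) :=
      Cfsg.Agent.Lib.helper82.isIrrCharacter_of_hom (f ^ s)
    have hchar : IsCharacter G (ρ.character * fun g => (((f ^ s) g : ℂˣ) : ℂ)) :=
      Cfsg.Agent.Lib.helper4.isCharacter_mul
        (Cfsg.Agent.Lib.helper4.isCharacter_of_isIrrCharacter hχ)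
        (Cfsg.Agent.Lib.helper4.isCharacter_of_isIrrCharacter hlam)
    refine Cfsg.Agent.Lib.helper4.isIrrCharacter_of_isCharacter_of_norm_one hchar ?_
    have h1 := Cfsg.Agent.Lib.helper4.classInner_irr_self hχ
    rw [← h1]
    unfold classInner
    congr 1
    refine Finset.sum_congr rfl (fun g _ => ?_)
    simp only [map_mul]
    have hnorm : (((f ^ s) g : ℂˣ) : ℂ) * conj (((f ^ s) g : ℂˣ) : ℂ) = 1 := by
      have hpow : (((f ^ s) g : ℂˣ) : ℂ) ^ (Nat.card G) = 1 := by
        rw [← Units.val_pow_eq_pow_val, ← map_pow, pow_card_eq_one', map_one, Units.val_one]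
      have hn1 : ‖(((f ^ s) g : ℂˣ) : ℂ)‖ = 1 :=
        Complex.norm_eq_one_of_pow_eq_one hpow Nat.card_pos.ne'
      rw [Complex.mul_conj, Complex.normSq_eq_norm_sq, hn1]
      simp
    linear_combination (ρ.character g * conj (ρ.character g)) * hnorm
  · show ρ.character 1 * (((f ^ s) 1 : ℂˣ) : ℂ) = d'
    rw [map_one, Units.val_one, mul_one, hd]
  · intro z hz hzM g
    obtain ⟨t, ht, htmul⟩ := Cfsg.Agent.Lib.helper79.central_character_mul ρ hirr z
      (fun g => Subgroup.mem_center_iff.mp hz g)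
    have hfin : Module.finrank ℂ (Fin k → ℂ) = d' := by exact_mod_cast hk
    have hdet : ((f z : ℂˣ) : ℂ) = t ^ d' := by
      rw [hf, ht, LinearMap.det_smul, LinearMap.det_id, mul_one, hfin]
    have htM : t ^ M = 1 := by
      have h1 : ρ (z ^ M) = (t ^ M) • (LinearMap.id : (Fin k → ℂ) →ₗ[ℂ] (Fin k → ℂ)) := by
        rw [map_pow, ht]
        ext v i
        simp [smul_pow]
      rw [hzM, map_one] at h1
      have h2 := congrArg (LinearMap.trace ℂ (Fin k → ℂ)) h1
      rw [LinearMap.trace_one, map_smul, LinearMap.trace_id, hk, smul_eq_mul] at h2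
      have hd0 : (d' : ℂ) ≠ 0 := by exact_mod_cast hd'0.ne'
      have h3 : (t ^ M - 1) * (d' : ℂ) = 0 := by linear_combination -h2
      rcases mul_eq_zero.mp h3 with h4 | h4
      · exact sub_eq_zero.mp h4
      · exact absurd h4 hd0
    show ρ.character (z * g) * (((f ^ s) (z * g) : ℂˣ) : ℂ)
      = ρ.character g * (((f ^ s) g : ℂˣ) : ℂ)
    rw [htmul, map_mul, Units.val_mul]
    have h2 : (((f ^ s) z : ℂˣ) : ℂ) = (t ^ d') ^ s := by
      rw [MonoidHom.pow_apply, Units.val_pow_eq_pow_val, hdet]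
    rw [h2]
    have h3 : t * (t ^ d') ^ s = 1 := by
      rw [← pow_mul, ← pow_succ']
      obtain ⟨c, hc⟩ := hs
      have h4 : d' * s + 1 = M * c := by omega
      rw [h4, pow_mul, htM, one_pow]
    linear_combination (ρ.character g * (((f ^ s) g : ℂˣ) : ℂ)) * h3
  · intro a b
    have h1 : (f ^ s) (a * b * a⁻¹ * b⁻¹) = 1 := by
      rw [map_mul, map_mul, map_mul, map_inv, map_inv,
        mul_right_comm ((f ^ s) a) ((f ^ s) b), mul_inv_cancel, one_mul, mul_inv_cancel]
    show ρ.character _ * (((f ^ s) (a * b * a⁻¹ * b⁻¹) : ℂˣ) : ℂ) = _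
    rw [h1, Units.val_one, mul_one]

/-- Under the non-commuting hypothesis `hC` and with a faithful character of degree `n`, where
`n + 1 < p` and `n + 1 < q`, every `p`-element commutes with every `q`-element. -/
theorem blich_commute (χ : G → ℂ) (hχ : IsCharacter G χ)
    (hfaith : ∀ g : G, χ g = χ 1 → g = 1) (n : ℕ) (hn : χ 1 = n) (p q : ℕ) (hp : p.Prime)
    (hq : q.Prime) (hnp : n + 1 < p) (hnq : n + 1 < q)
    (hC : ∀ u y : G, Commute u y → u ^ (p ^ (Nat.card G).factorization p) = 1 →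
      y ^ (q ^ (Nat.card G).factorization q) = 1 →
      u ∈ Subgroup.center G ∨ y ∈ Subgroup.center G)
    (u y : G) (hu : u ^ (p ^ (Nat.card G).factorization p) = 1)
    (hy : y ^ (q ^ (Nat.card G).factorization q) = 1) : u * y = y * u := by
  haveI : Fintype G := Fintype.ofFinite G
  obtain ⟨l, hl⟩ := Cfsg.Agent.Lib.helper4.exists_irr_list_of_isCharacter hχ
  have hdeg := blich_deg_le l n (by rw [← hl]; exact hn)
  have hcomm1 : u * y * u⁻¹ * y⁻¹ = 1 := by
    apply hfaith
    rw [hl, blich_list_sum_apply, blich_list_sum_apply]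
    congr 1
    rw [List.map_map, List.map_map]
    apply List.map_congr_left
    intro ψ hψ
    simp only [Function.comp_apply]
    obtain ⟨d, hd0, hd, hdn⟩ := hdeg ψ hψ
    have hcopM : Nat.Coprime d
        (p ^ (Nat.card G).factorization p * q ^ (Nat.card G).factorization q) := by
      refine Nat.Coprime.mul_right (Nat.Coprime.pow_right _ ?_) (Nat.Coprime.pow_right _ ?_)
      · exact (Nat.coprime_of_lt_prime hd0.ne' (by omega) hp).symm
      · exact (Nat.coprime_of_lt_prime hd0.ne' (by omega) hq).symm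
    obtain ⟨ξ, hξirr, hξ1, hξZ, hξc⟩ := blich_twist ψ.2 d hd _
      (Nat.mul_pos (pow_pos hp.pos _) (pow_pos hq.pos _)) hcopM
    have hξchar := Cfsg.Agent.Lib.helper4.isCharacter_of_isIrrCharacter hξirr
    have hrat := blich_rational p q hp hq hC hξirr
      (fun z hz hzp g => hξZ z hz (by rw [pow_mul, hzp, one_pow]) g)
      (fun z hz hzq g => hξZ z hz (by rw [mul_comm, pow_mul, hzq, one_pow]) g)
    have hker : ξ (u * y * u⁻¹ * y⁻¹) = ξ 1 := by
      rcases hrat with h | h
      · have hk := blich_kernel p hp hξchar d hξ1 (by omega) h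
        have e1 : u * y * u⁻¹ * y⁻¹ = u * (y * u⁻¹ * y⁻¹) := by group
        rw [e1]
        refine Cfsg.Agent.Lib.helper83.isCharacter_ker_mul hξchar (hk u hu) (hk _ ?_)
        rw [conj_pow, inv_pow, hu]
        group
      · have hk := blich_kernel q hq hξchar d hξ1 (by omega) h
        have e1 : u * y * u⁻¹ * y⁻¹ = (u * y * u⁻¹) * y⁻¹ := by group
        rw [e1]
        refine Cfsg.Agent.Lib.helper83.isCharacter_ker_mul hξchar (hk _ ?_) (hk _ ?_)
        · rw [conj_pow, hy]
          group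
        · rw [inv_pow, hy, inv_one]
    rw [← hξc, hker, hξ1, hd]
  have h2 : u * y * u⁻¹ * y⁻¹ * y * u = y * u := by rw [hcomm1, one_mul]
  rw [← h2]
  group

end BlichChar

end Cfsg.Agent.Lib.helper80
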