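import Mathlib
import Cfsg.Agent.Lib.helper80.BlichChar

/-!
# Blichfeldt's theorem: abelian Hall subgroups for the primes greater than `n + 1`

A finite group with a faithful character of degree `n` has an abelian subgroup whose order
involves only primes greater than `n + 1` and whose index involves only primes at most
`n + 1`.  The proof is by induction on the group order through centralizers of noncentral
elements of prime power order.
-/

set_option autoImplicit false

namespace Cfsg.Agent.Lib.helper80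

open Cfsg

universe u

section BlichGroup

variable {G : Type u} [Group G] [Finite G]

/-- An element of `p`-power order is killed by the `p`-part of the group order. -/
theorem blich_pow_fact (p : ℕ) (hp : p.Prime) (g : G) (k : ℕ) (h : g ^ (p ^ k) = 1) :
    g ^ (p ^ (Nat.card G).factorization p) = 1 := by
  have h1 : orderOf g ∣ p ^ k := orderOf_dvd_of_pow_eq_one h
  obtain ⟨i, -, hi⟩ := (Nat.dvd_prime_pow hp).mp h1
  have h2 : p ^ i ∣ Nat.card G := hi ▸ orderOf_dvd_natCard g
  have h3 : i ≤ (Nat.card G).factorization p :=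
    (hp.pow_dvd_iff_le_factorization Nat.card_pos.ne').mp h2
  apply orderOf_dvd_iff_pow_eq_one.mp
  rw [hi]
  exact pow_dvd_pow p h3

/-- A conjugate of an element killed by `k` is killed by `k`. -/
theorem blich_conj_pow (m y : G) (k : ℕ) (h : y ^ k = 1) : (m⁻¹ * y * m) ^ k = 1 := by
  have h1 := conj_pow (a := m⁻¹) (b := y) (i := k)
  rw [inv_inv] at h1
  rw [h1, h]
  group

/-- The cyclic group generated by an element of `p`-power order is a `p`-group. -/
theorem blich_isPGroup_zpowers (p : ℕ) (g : G) (k : ℕ) (hg : g ^ (p ^ k) = 1) :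
    IsPGroup p (Subgroup.zpowers g) := by
  intro x
  obtain ⟨i, hi⟩ := Subgroup.mem_zpowers_iff.mp x.2
  refine ⟨k, Subtype.ext ?_⟩
  rw [Subgroup.coe_pow, ← hi, Subgroup.coe_one, ← zpow_natCast, ← zpow_mul, mul_comm, zpow_mul,
    zpow_natCast, hg, one_zpow]

/-- A `p`-element is conjugate into any subgroup of index prime to `p`. -/
theorem blich_conj_mem {K : Type u} [Group K] [Finite K] (p : ℕ) (hp : p.Prime)
    (H : Subgroup K) (hH : ¬ p ∣ H.index) (g : K) (k : ℕ) (hg : g ^ (p ^ k) = 1) :
    ∃ c : K, c⁻¹ * g * c ∈ H := by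
  haveI : Fact p.Prime := ⟨hp⟩
  have hpg : IsPGroup p (Subgroup.zpowers g) := blich_isPGroup_zpowers p g k hg
  have hcard : ¬ p ∣ Nat.card (K ⧸ H) := hH
  obtain ⟨x, hx⟩ := hpg.nonempty_fixed_point_of_prime_not_dvd_card (K ⧸ H) hcard
  induction x using QuotientGroup.induction_on with
  | H c =>
    refine ⟨c, ?_⟩
    have h1 := MulAction.mem_fixedPoints.mp hx ⟨g, Subgroup.mem_zpowers g⟩
    have h2 : ((g * c : K) : K ⧸ H) = (c : K ⧸ H) := h1
    rw [QuotientGroup.eq] at h2
    have h3 := H.inv_mem h2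
    have h4 : ((g * c)⁻¹ * c)⁻¹ = c⁻¹ * g * c := by group
    rw [h4] at h3
    exact h3

/-- Conjugate elements have centralizers of the same index. -/
theorem blich_index_centralizer_conj (x c : G) :
    (Subgroup.centralizer ({c⁻¹ * x * c} : Set G)).index
      = (Subgroup.centralizer ({x} : Set G)).index := by
  rw [← Cfsg.Agent.Lib.helper4.card_isConj_eq_index, ← Cfsg.Agent.Lib.helper4.card_isConj_eq_index]
  have hconj : IsConj (c⁻¹ * x * c) x := by
    rw [isConj_iff]
    exact ⟨c, by group⟩
  exact Nat.card_congr (Equiv.subtypeEquivRight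
    (fun y => ⟨fun h => h.trans hconj, fun h => h.trans hconj.symm⟩))

/-- With a faithful character of degree less than `p`, every `p`-subgroup is abelian. -/
theorem blich_sylow_comm (χ : G → ℂ) (hχ : IsCharacter G χ)
    (hfaith : ∀ g : G, χ g = χ 1 → g = 1) (n : ℕ) (hn : χ 1 = n) (p : ℕ) (hp : p.Prime)
    (hnp : n < p) (P : Subgroup G) (hP : IsPGroup p P) :
    ∀ a ∈ P, ∀ b ∈ P, a * b = b * a := by
  intro a ha b hb
  haveI : Fact p.Prime := ⟨hp⟩
  haveI : Fintype P := Fintype.ofFinite P
  have hθ : IsCharacter P (fun c : P => χ (c : G)) :=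
    Cfsg.Agent.Lib.helper4.isCharacter_restrict P hχ
  obtain ⟨l, hl⟩ := Cfsg.Agent.Lib.helper4.exists_irr_list_of_isCharacter hθ
  have hdeg := blich_deg_le l n (by rw [← hl]; exact hn)
  obtain ⟨k, hk⟩ := IsPGroup.exists_card_eq hP
  have h1 : (fun c : P => χ (c : G)) (⟨a, ha⟩ * ⟨b, hb⟩ * ⟨a, ha⟩⁻¹ * ⟨b, hb⟩⁻¹)
      = (fun c : P => χ (c : G)) 1 := by
    rw [hl, blich_list_sum_apply, blich_list_sum_apply]
    congr 1
    rw [List.map_map, List.map_map]
    apply List.map_congr_left
    intro ψ hψ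
    simp only [Function.comp_apply]
    obtain ⟨d, hd0, hd, hdn⟩ := hdeg ψ hψ
    have hdvd : d ∣ Nat.card P := by
      have h2 := Cfsg.Agent.Lib.helper82.irr_degree_dvd_card ψ
      have hcd : charDegree (ψ : P → ℂ) = d := by
        unfold charDegree
        rw [hd]
        simp
      rwa [hcd] at h2
    rw [hk] at hdvd
    obtain ⟨i, -, hi⟩ := (Nat.dvd_prime_pow hp).mp hdvd
    have hd1 : d = 1 := by
      rcases Nat.eq_zero_or_pos i with h0 | h0
      · rw [hi, h0, pow_zero]
      · exfalso
        have h3 : p ≤ d := by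
          rw [hi]
          exact Nat.le_self_pow h0.ne' p
        omega
    have hψ1 : (ψ : P → ℂ) 1 = 1 := by
      rw [hd, hd1]
      simp
    obtain ⟨f, hf⟩ := Cfsg.Agent.Lib.helper82.exists_hom_of_linear
      (Cfsg.Agent.Lib.helper4.isCharacter_of_isIrrCharacter ψ.2) hψ1
    rw [hf, hf, map_mul, map_mul, map_mul, map_inv, map_inv,
      mul_right_comm (f ⟨a, ha⟩) (f ⟨b, hb⟩), mul_inv_cancel, one_mul, mul_inv_cancel, map_one]
  have hc : χ (a * b * a⁻¹ * b⁻¹) = χ 1 := h1
  have h2 := hfaith _ hc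
  have h3 : a * b * a⁻¹ * b⁻¹ * b * a = b * a := by rw [h2, one_mul]
  rw [← h3]
  group

/-- Transfer of an abelian Hall subgroup from a subgroup of suitable index. -/
theorem blich_of_subgroup (n : ℕ) (H : Subgroup G)
    (hH : ∀ q : ℕ, q.Prime → q ∣ H.index → q ≤ n + 1)
    (A : Subgroup H) (hA : ∀ x ∈ A, ∀ y ∈ A, x * y = y * x)
    (hcard : ∀ q : ℕ, q.Prime → q ∣ Nat.card A → n + 1 < q)
    (hidx : ∀ q : ℕ, q.Prime → q ∣ A.index → q ≤ n + 1) :
    ∃ B : Subgroup G, (∀ x ∈ B, ∀ y ∈ B, x * y = y * x) ∧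
      (∀ q : ℕ, q.Prime → q ∣ Nat.card B → n + 1 < q) ∧
      ∀ q : ℕ, q.Prime → q ∣ B.index → q ≤ n + 1 := by
  refine ⟨A.map H.subtype, ?_, ?_, ?_⟩
  · rintro x ⟨a, ha, rfl⟩ y ⟨b, hb, rfl⟩
    have h1 := hA a ha b hb
    exact congrArg Subtype.val h1
  · intro q hq hdvd
    rw [Subgroup.card_map_of_injective H.subtype_injective] at hdvd
    exact hcard q hq hdvd
  · intro q hq hdvd
    rw [Subgroup.index_map_subtype] at hdvd
    rcases (Nat.Prime.dvd_mul hq).mp hdvd with h | h
    · exact hidx q hq h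
    · exact hH q hq h

/-- An `r`-element of a subgroup `M` is conjugate, inside `M`, into the image of a subgroup
of `M` of index prime to `r`. -/
theorem blich_step (M : Subgroup G) (AM : Subgroup M) (r : ℕ) (hr : r.Prime)
    (hrAM : ¬ r ∣ AM.index) (g : G) (hgM : g ∈ M) (k : ℕ) (hg : g ^ (r ^ k) = 1) :
    ∃ m : G, m⁻¹ * g * m ∈ AM.map M.subtype := by
  obtain ⟨c, hc⟩ := blich_conj_mem r hr AM hrAM ⟨g, hgM⟩ k (Subtype.ext (by simpa using hg))
  exact ⟨(c : G), ⟨_, hc, rfl⟩⟩

/-- The image of an abelian subgroup of a subgroup is abelian. -/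
theorem blich_map_comm (M : Subgroup G) (AM : Subgroup M)
    (hab : ∀ x ∈ AM, ∀ y ∈ AM, x * y = y * x) :
    ∀ x ∈ AM.map M.subtype, ∀ y ∈ AM.map M.subtype, x * y = y * x := by
  rintro x ⟨a, ha, rfl⟩ y ⟨b, hb, rfl⟩
  exact congrArg Subtype.val (hab a ha b hb)

end BlichGroup

/-- **Blichfeldt's theorem**, in a form suited to induction on the group order. -/
theorem blichfeldt_aux : ∀ (N : ℕ) (G : Type u) [Group G] [Finite G], Nat.card G = N →
    ∀ (χ : G → ℂ), IsCharacter G χ → (∀ g : G, χ g = χ 1 → g = 1) → ∀ n : ℕ, χ 1 = n →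
    ∃ A : Subgroup G, (∀ x ∈ A, ∀ y ∈ A, x * y = y * x) ∧
      (∀ q : ℕ, q.Prime → q ∣ Nat.card A → n + 1 < q) ∧
      ∀ q : ℕ, q.Prime → q ∣ A.index → q ≤ n + 1 := by
  intro N
  induction N using Nat.strong_induction_on with
  | _ N ih =>
  intro G _ _ hN χ hχ hfaith n hn
  -- the induction hypothesis for proper subgroups
  have hIH : ∀ H : Subgroup G, H ≠ ⊤ → ∃ A : Subgroup H,
      (∀ x ∈ A, ∀ y ∈ A, x * y = y * x) ∧
      (∀ q : ℕ, q.Prime → q ∣ Nat.card A → n + 1 < q) ∧
      ∀ q : ℕ, q.Prime → q ∣ A.index → q ≤ n + 1 := by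
    intro H hH
    have hlt : Nat.card H < N := by
      rw [← hN]
      exact lt_of_le_of_ne (Subgroup.card_le_card_group H)
        (fun h => hH ((Subgroup.card_eq_iff_eq_top H).mp h))
    exact ih (Nat.card H) hlt H rfl (fun h : H => χ (h : G))
      (Cfsg.Agent.Lib.helper4.isCharacter_restrict H hχ)
      (fun g hg => Subtype.ext (hfaith g hg)) n hn
  by_cases hS1 : ∃ H : Subgroup G, H ≠ ⊤ ∧ ∀ q : ℕ, q.Prime → q ∣ H.index → q ≤ n + 1
  · obtain ⟨H, hH, hidxH⟩ := hS1
    obtain ⟨A, hA, hcard, hidx⟩ := hIH H hH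
    exact blich_of_subgroup n H hidxH A hA hcard hidx
  push_neg at hS1
  by_cases hA : ∀ p : ℕ, p.Prime → n + 1 < p →
      ∀ x : G, x ^ (p ^ (Nat.card G).factorization p) = 1 → x ∈ Subgroup.center G
  · -- all relevant elements of prime power order are central
    let A : Subgroup G :=
      { carrier := {z | z ∈ Subgroup.center G ∧ ∀ q : ℕ, q.Prime → q ∣ orderOf z → n + 1 < q}
        mul_mem' := by
          rintro a b ⟨ha, ha'⟩ ⟨hb, hb'⟩
          refine ⟨Subgroup.mul_mem _ ha hb, ?_⟩
          intro q hq hdvd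
          have hcomm : Commute a b := Subgroup.mem_center_iff.mp hb a
          have h1 : orderOf (a * b) ∣ Nat.lcm (orderOf a) (orderOf b) :=
            hcomm.orderOf_mul_dvd_lcm
          have h2 : q ∣ orderOf a * orderOf b :=
            (hdvd.trans h1).trans (Nat.lcm_dvd_mul _ _)
          rcases (Nat.Prime.dvd_mul hq).mp h2 with h | h
          · exact ha' q hq h
          · exact hb' q hq h
        one_mem' := by
          refine ⟨Subgroup.one_mem _, ?_⟩
          intro q hq hdvd
          rw [orderOf_one] at hdvd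
          exact absurd (Nat.dvd_one.mp hdvd) hq.ne_one
        inv_mem' := by
          rintro a ⟨ha, ha'⟩
          refine ⟨Subgroup.inv_mem _ ha, ?_⟩
          intro q hq hdvd
          rw [orderOf_inv] at hdvd
          exact ha' q hq hdvd }
    refine ⟨A, ?_, ?_, ?_⟩
    · rintro x ⟨hx, -⟩ y ⟨hy, -⟩
      exact Subgroup.mem_center_iff.mp hy x
    · intro q hq hdvd
      haveI : Fact q.Prime := ⟨hq⟩
      obtain ⟨a, ha⟩ := exists_prime_orderOf_dvd_card' q hdvd
      have h1 : orderOf (a : G) = q := by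
        rw [Subgroup.orderOf_coe]
        exact ha
      exact a.2.2 q hq (by rw [h1])
    · intro q hq hdvd
      by_contra hlt
      push_neg at hlt
      haveI : Fact q.Prime := ⟨hq⟩
      obtain ⟨Q⟩ : Nonempty (Sylow q G) := inferInstance
      have hQA : (Q : Subgroup G) ≤ A := by
        intro g hg
        obtain ⟨k, hk⟩ := Q.isPGroup' ⟨g, hg⟩
        have hgk : g ^ (q ^ k) = 1 := by simpa using congrArg Subtype.val hk
        refine ⟨hA q hq hlt g (blich_pow_fact q hq g k hgk), ?_⟩
        intro r hr hrdvd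
        have h1 : r ∣ q ^ k := hrdvd.trans (orderOf_dvd_of_pow_eq_one hgk)
        have h2 : r = q := (Nat.prime_dvd_prime_iff_eq hr hq).mp (hr.dvd_of_dvd_pow h1)
        rw [h2]
        exact hlt
      have h1 : A.index ∣ (Q : Subgroup G).index := Subgroup.index_dvd_of_le hQA
      exact Q.not_dvd_index (hdvd.trans h1)
  · -- a noncentral element of prime power order leads to a contradiction
    exfalso
    push_neg at hA
    obtain ⟨p, hp, hnp, x, hx, hxc⟩ := hA
    haveI : Fact p.Prime := ⟨hp⟩
    have hne_top : ∀ g : G, g ∉ Subgroup.center G →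
        Subgroup.centralizer ({g} : Set G) ≠ ⊤ := by
      intro g hg h
      apply hg
      rw [Subgroup.centralizer_eq_top_iff_subset] at h
      exact h (Set.mem_singleton g)
    have hmem_cent : ∀ g h : G, h * g = g * h → g ∈ Subgroup.centralizer ({h} : Set G) := by
      intro g h hgh
      rw [Subgroup.mem_centralizer_iff]
      intro h' hh'
      rw [Set.mem_singleton_iff] at hh'
      subst hh'
      exact hgh
    obtain ⟨q, hq, hqdvd, hnq⟩ := hS1 _ (hne_top x hxc)
    haveI : Fact q.Prime := ⟨hq⟩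
    -- centralizers of `r`-elements have index prime to `r` when `n < r`
    have hcent : ∀ (r : ℕ), r.Prime → n < r → ∀ g : G,
        g ^ (r ^ (Nat.card G).factorization r) = 1 →
        ¬ r ∣ (Subgroup.centralizer ({g} : Set G)).index := by
      intro r hr hnr g hg
      haveI : Fact r.Prime := ⟨hr⟩
      have hpg : IsPGroup r (Subgroup.zpowers g) := blich_isPGroup_zpowers r g _ hg
      obtain ⟨P, hP⟩ := hpg.exists_le_sylow
      have hgP : g ∈ P := hP (Subgroup.mem_zpowers g)
      have hle : (P : Subgroup G) ≤ Subgroup.centralizer ({g} : Set G) := by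
        intro a ha
        exact hmem_cent a g
          (blich_sylow_comm χ hχ hfaith n hn r hr hnr P P.isPGroup' g hgP a ha)
      intro hdvd
      exact P.not_dvd_index (hdvd.trans (Subgroup.index_dvd_of_le hle))
    -- first claim: the `q`-elements commuting with `x` are central
    have hB1 : ∀ y : G, x * y = y * x → y ^ (q ^ (Nat.card G).factorization q) = 1 →
        y ∈ Subgroup.center G := by
      intro y hxy hy
      by_contra hyc
      obtain ⟨AM, hab, -, hidx⟩ := hIH _ (hne_top y hyc)
      have hqM := hcent q hq (by omega) y hy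
      have hqAM : ¬ q ∣ AM.index := fun h => absurd (hidx q hq h) (by omega)
      have hpAM : ¬ p ∣ AM.index := fun h => absurd (hidx p hp h) (by omega)
      have hxM : x ∈ Subgroup.centralizer ({y} : Set G) := hmem_cent x y hxy.symm
      obtain ⟨m, hm⟩ := blich_step _ AM p hp hpAM x hxM _ hx
      have hle : AM.map (Subgroup.centralizer ({y} : Set G)).subtype
          ≤ Subgroup.centralizer ({m⁻¹ * x * m} : Set G) := by
        intro a ha
        exact hmem_cent a _ (blich_map_comm _ AM hab _ hm a ha)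
      have h1 : ¬ q ∣ (AM.map (Subgroup.centralizer ({y} : Set G)).subtype).index := by
        rw [Subgroup.index_map_subtype]
        exact fun h => ((Nat.Prime.dvd_mul hq).mp h).elim hqAM hqM
      have h2 : ¬ q ∣ (Subgroup.centralizer ({m⁻¹ * x * m} : Set G)).index :=
        fun h => h1 (h.trans (Subgroup.index_dvd_of_le hle))
      rw [blich_index_centralizer_conj] at h2
      exact h2 hqdvd
    -- second claim: the same for every noncentral `p`-element
    have hB2 : ∀ u : G, u ^ (p ^ (Nat.card G).factorization p) = 1 → u ∉ Subgroup.center G →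
        ∀ y : G, u * y = y * u → y ^ (q ^ (Nat.card G).factorization q) = 1 →
        y ∈ Subgroup.center G := by
      intro u hu huc y huy hy
      obtain ⟨AM, hab, -, hidx⟩ := hIH _ (hne_top u huc)
      have hpM := hcent p hp (by omega) u hu
      have hqAM : ¬ q ∣ AM.index := fun h => absurd (hidx q hq h) (by omega)
      have hpAM : ¬ p ∣ AM.index := fun h => absurd (hidx p hp h) (by omega)
      have hpB : ¬ p ∣ (AM.map (Subgroup.centralizer ({u} : Set G)).subtype).index := by
        rw [Subgroup.index_map_subtype]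
        exact fun h => ((Nat.Prime.dvd_mul hp).mp h).elim hpAM hpM
      obtain ⟨g, hg⟩ := blich_conj_mem p hp _ hpB x _ hx
      have hyM : y ∈ Subgroup.centralizer ({u} : Set G) := hmem_cent y u huy
      obtain ⟨m, hm⟩ := blich_step _ AM q hq hqAM y hyM _ hy
      have hcomm := blich_map_comm _ AM hab _ hg _ hm
      -- `hcomm : g⁻¹ * x * g * (m⁻¹ * y * m) = m⁻¹ * y * m * (g⁻¹ * x * g)`
      have hxy'' : x * (g * (m⁻¹ * y * m) * g⁻¹) = g * (m⁻¹ * y * m) * g⁻¹ * x := by
        have e1 : x * (g * (m⁻¹ * y * m) * g⁻¹)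
            = g * (g⁻¹ * x * g * (m⁻¹ * y * m)) * g⁻¹ := by group
        have e2 : g * (m⁻¹ * y * m) * g⁻¹ * x
            = g * (m⁻¹ * y * m * (g⁻¹ * x * g)) * g⁻¹ := by group
        rw [e1, e2, hcomm]
      have hy'' : (g * (m⁻¹ * y * m) * g⁻¹) ^ (q ^ (Nat.card G).factorization q) = 1 := by
        have h1 := blich_conj_pow m y _ hy
        have h2 := blich_conj_pow g⁻¹ (m⁻¹ * y * m) _ h1
        rw [inv_inv] at h2
        exact h2
      have hcen := hB1 _ hxy'' hy''
      have h3 := (inferInstance : (Subgroup.center G).Normal).conj_mem _ hcen (m * g⁻¹)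
      have e3 : m * g⁻¹ * (g * (m⁻¹ * y * m) * g⁻¹) * (m * g⁻¹)⁻¹ = y := by group
      rw [e3] at h3
      exact h3
    -- the non-commuting configuration
    have hC : ∀ u y : G, Commute u y → u ^ (p ^ (Nat.card G).factorization p) = 1 →
        y ^ (q ^ (Nat.card G).factorization q) = 1 →
        u ∈ Subgroup.center G ∨ y ∈ Subgroup.center G := by
      intro u y huy hu hy
      by_cases huc : u ∈ Subgroup.center G
      · exact Or.inl huc
      · exact Or.inr (hB2 u hu huc y huy hy)
    have hcomm := blich_commute χ hχ hfaith n hn p q hp hq hnp hnq hC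
    obtain ⟨Q⟩ : Nonempty (Sylow q G) := inferInstance
    have hle : (Q : Subgroup G) ≤ Subgroup.centralizer ({x} : Set G) := by
      intro y hyQ
      obtain ⟨k, hk⟩ := Q.isPGroup' ⟨y, hyQ⟩
      have hyk : y ^ (q ^ k) = 1 := by simpa using congrArg Subtype.val hk
      exact hmem_cent y x (hcomm x y hx (blich_pow_fact q hq y k hyk))
    exact Q.not_dvd_index (hqdvd.trans (Subgroup.index_dvd_of_le hle))

end Cfsg.Agent.Lib.helper80
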