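import Cfsg.Agent.Lib.helper80.NilpFusion

/-!
# The fusion system of a block: construction

`blockFusion hM hmax` is the fusion system on `P` of the block `B` with maximal pair `(P, e)`:
its maps from `Q ≤ P` are the conjugations by elements `g` carrying the pair on `Q` below
`(P, e)` to a pair below `(P, e)`.
-/

set_option autoImplicit false

open Cfsg

namespace Cfsg.Agent.Lib.helper80

universe u

section Def

variable {G : Type u} [Group G] [Fintype G] {p : ℕ} [Fact p.Prime] {M : Ideal AlgInt}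

open Cfsg.Agent.Lib.helper20

/-- Two pairs below the same pair with the same subgroup are equal. -/
theorem pair_eq_of_le_of_eq (hM : IsPModular p M) {X Y Z : BrauerPairIdx G}
    (hZ : IsBrauerPair p M Z.1 Z.2)
    (hX : Relation.ReflTransGen (NormalSubpairRel p M) X Z)
    (hY : Relation.ReflTransGen (NormalSubpairRel p M) Y Z) (h : X.1 = Y.1) : X = Y := by
  obtain ⟨Q, f⟩ := X
  obtain ⟨Q', f'⟩ := Y
  obtain ⟨P, e⟩ := Z
  dsimp only at h hZ
  subst h
  rw [subpairLE_unique hM P e hZ _ Q f f' rfl hX hY]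

/-- The conjugate of a pair below `(P, e)` by an element of `P` is below `(P, e)`. -/
theorem subpairLE_conj_of_mem (hM : IsPModular p M) {P Q : Subgroup G}
    {e : Set (IrrCharacter (Subgroup.centralizer (P : Set G)))}
    {f : Set (IrrCharacter (Subgroup.centralizer (Q : Set G)))} (hPe : IsBrauerPair p M P e)
    (hle : SubpairLE p M Q f P e) {g : G} (hg : g ∈ P) :
    SubpairLE p M (Q.map (MulAut.conj g).toMonoidHom) (conjBlock Q g f) P e := by
  have hMp := isPrime_of_isPModular hM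
  have h1 : Relation.ReflTransGen (NormalSubpairRel p M) (conjPair g ⟨Q, f⟩) (conjPair g ⟨P, e⟩) :=
    subpairLE_conj g hle
  rw [conjPair_eq_self_of_stabilizes hMp hPe.2 (Subgroup.le_normalizer hg)
    (stabilizesBlock_of_mem_sup_centralizer P e (Subgroup.mem_sup_left hg))] at h1
  exact h1

/-- The fusion system of the block `B` on its maximal pair `(P, e)`. -/
def blockFusion (hM : IsPModular p M) {B : Set (IrrCharacter G)} {P : Subgroup G}
    {e : Set (IrrCharacter (Subgroup.centralizer (P : Set G)))}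
    (hmax : IsMaximalBrauerPair p M B P e) : FusionSystem P where
  Hom Q := {φ | Q ≤ P ∧ ∃ g : G, (∀ u : Q, φ u = g * (u : G) * g⁻¹) ∧
    Q.map (MulAut.conj g).toMonoidHom ≤ P ∧
    ∃ f : Set (IrrCharacter (Subgroup.centralizer (Q : Set G))),
      SubpairLE p M Q f P e ∧
        SubpairLE p M (Q.map (MulAut.conj g).toMonoidHom) (conjBlock Q g f) P e}
  le_of_mem := by
    rintro Q φ ⟨hQP, g, hg, hQgP, -⟩
    refine ⟨hQP, fun x => ?_⟩
    rw [hg x]
    exact hQgP (conj_mem_map Q g x.2)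
  injective_of_mem := by
    rintro Q φ ⟨-, g, hg, -⟩ a b hab
    have h : g * (a : G) * g⁻¹ = g * (b : G) * g⁻¹ := ((hg a).symm.trans hab).trans (hg b)
    exact Subtype.ext (mul_left_cancel (mul_right_cancel h))
  conj_mem := by
    intro Q g hQP hg
    have hPe : IsBrauerPair p M P e := hmax.1.1
    obtain ⟨f, -, hle⟩ := exists_subpairLE hM _ P Q e hPe hQP rfl
    have hleg := subpairLE_conj_of_mem hM hPe hle hg
    exact ⟨hQP, g, fun _ => rfl, subpairLE_le ⟨_, _⟩ ⟨P, e⟩ hleg, f, hle, hleg⟩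
  comp_mem := by
    rintro Q₁ Q₂ φ ψ ⟨hQ₁P, g, hg, hQ₁gP, f₁, hle₁, hleg₁⟩ ⟨hQ₂P, h, hh, hQ₂hP, f₂, hle₂, hleh₂⟩ hval
    have hPe : IsBrauerPair p M P e := hmax.1.1
    have hQ₂f₂ : IsBrauerPair p M Q₂ f₂ := subpairLE_isBrauerPair ⟨Q₂, f₂⟩ ⟨P, e⟩ hle₂ hPe
    have hQ₁gQ₂ : Q₁.map (MulAut.conj g).toMonoidHom ≤ Q₂ := by
      rintro _ ⟨u, hu, rfl⟩
      have := hval ⟨u, hu⟩
      rw [hg] at this
      exact this
    obtain ⟨f', -, hle'⟩ := exists_subpairLE hM _ Q₂ _ f₂ hQ₂f₂ hQ₁gQ₂ rfl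
    have hff : f' = conjBlock Q₁ g f₁ := subpairLE_unique hM P e hPe _ _ f' _ rfl
      (Relation.ReflTransGen.trans hle' hle₂) hleg₁
    subst hff
    have h1 : Relation.ReflTransGen (NormalSubpairRel p M)
        (conjPair h (conjPair g ⟨Q₁, f₁⟩)) (conjPair h ⟨Q₂, f₂⟩) := subpairLE_conj h hle'
    rw [conjPair_mul] at h1
    have h2 : SubpairLE p M (Q₁.map (MulAut.conj (h * g)).toMonoidHom)
        (conjBlock Q₁ (h * g) f₁) P e := Relation.ReflTransGen.trans h1 hleh₂
    refine ⟨hQ₁P, h * g, fun x => ?_, subpairLE_le ⟨_, _⟩ ⟨P, e⟩ h2, f₁, hle₁, h2⟩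
    show ψ (φ.codRestrict Q₂ hval x) = h * g * (x : G) * (h * g)⁻¹
    rw [hh]
    show h * φ x * h⁻¹ = _
    rw [hg, mul_inv_rev]
    simp only [mul_assoc]
  inv_mem := by
    rintro Q φ ⟨hQP, g, hg, hQgP, f, hle, hleg⟩
    have hrange := range_conj_eq_map Q g φ hg
    have key : ∀ (R : Subgroup G), R = Q.map (MulAut.conj g).toMonoidHom →
        ∃ f' : Set (IrrCharacter (Subgroup.centralizer (R : Set G))),
          SubpairLE p M R f' P e ∧
            SubpairLE p M (R.map (MulAut.conj g⁻¹).toMonoidHom) (conjBlock R g⁻¹ f') P e := by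
      intro R hR
      subst hR
      refine ⟨conjBlock Q g f, hleg, ?_⟩
      show Relation.ReflTransGen (NormalSubpairRel p M)
        (conjPair g⁻¹ (conjPair g ⟨Q, f⟩)) ⟨P, e⟩
      rw [conjPair_inv_conjPair]
      exact hle
    obtain ⟨f', hle', hleg'⟩ := key φ.range hrange
    refine ⟨conjHom φ.range g⁻¹, ⟨?_, g⁻¹, fun _ => rfl, subpairLE_le ⟨_, _⟩ ⟨P, e⟩ hleg',
      f', hle', hleg'⟩, ?_⟩
    · rw [hrange]
      exact hQgP
    · intro x
      show g⁻¹ * φ x * g⁻¹⁻¹ = (x : G)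
      rw [hg]
      group

theorem isBlockFusionSystemOn_blockFusion (hM : IsPModular p M) {B : Set (IrrCharacter G)}
    {P : Subgroup G} {e : Set (IrrCharacter (Subgroup.centralizer (P : Set G)))}
    (hmax : IsMaximalBrauerPair p M B P e) :
    IsBlockFusionSystemOn p M B P e (blockFusion hM hmax) :=
  ⟨hmax, fun _ _ => Iff.rfl⟩

end Def

end Cfsg.Agent.Lib.helper80
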