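import Cfsg.Agent.Lib.helper80.BlockFusionAut

/-!
# The fusion system of a block: receptive subgroups, saturation

If `(Q, f) ≤ (P, e)` and `N_P(Q)` is a defect group of the block of the stabilizer of `(Q, f)`
with the idempotent of `f`, then `Q` is receptive in the fusion system of the block. Hence the
fusion system of a block is saturated.
-/

set_option autoImplicit false

open Cfsg

namespace Cfsg.Agent.Lib.helper80

universe u

section Sup

variable {G : Type u} [Group G]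

/-- Elements of `A K` are products, for `A` normalizing `K`. -/
theorem exists_mul_of_mem_sup_of_le_normalizer (A K : Subgroup G)
    (hAK : A ≤ Subgroup.normalizer (K : Set G)) {r : G} (hr : r ∈ A ⊔ K) :
    ∃ a ∈ A, ∃ k ∈ K, r = a * k := by
  rw [Subgroup.sup_eq_closure] at hr
  induction hr using Subgroup.closure_induction with
  | mem x hx =>
    rcases hx with hx | hx
    · exact ⟨x, hx, 1, Subgroup.one_mem _, (mul_one x).symm⟩
    · exact ⟨1, Subgroup.one_mem _, x, hx, (one_mul x).symm⟩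
  | one => exact ⟨1, Subgroup.one_mem _, 1, Subgroup.one_mem _, (mul_one 1).symm⟩
  | mul x y _ _ hx hy =>
    obtain ⟨a1, ha1, k1, hk1, rfl⟩ := hx
    obtain ⟨a2, ha2, k2, hk2, rfl⟩ := hy
    have h1 : a2⁻¹ * k1 * a2 ∈ K := by
      have h2 := (Subgroup.mem_normalizer_iff.mp (hAK (A.inv_mem ha2)) k1).mp hk1
      rwa [inv_inv] at h2
    refine ⟨a1 * a2, A.mul_mem ha1 ha2, (a2⁻¹ * k1 * a2) * k2, K.mul_mem h1 hk2, ?_⟩
    group
  | inv x _ hx =>
    obtain ⟨a, ha, k, hk, rfl⟩ := hx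
    have h1 : a * k⁻¹ * a⁻¹ ∈ K :=
      (Subgroup.mem_normalizer_iff.mp (hAK ha) k⁻¹).mp (K.inv_mem hk)
    refine ⟨a⁻¹, A.inv_mem ha, a * k⁻¹ * a⁻¹, h1, ?_⟩
    group

end Sup

section Receptive

variable {G : Type u} [Group G] [Fintype G] {p : ℕ} [Fact p.Prime] {M : Ideal AlgInt}

open Cfsg.Agent.Lib.helper20

omit [Fact p.Prime] in
/-- A pair of the block of `H` with the idempotent of `f` is normally above `(Q, f)` in `G`. -/
theorem isNormalSubpair_of_up' (Q : Subgroup G) (hQ : IsPGroup p Q)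
    {f : Set (IrrCharacter (Subgroup.centralizer (Q : Set G)))} (hf : IsPBlock M f)
    (H : Subgroup G) (hHN : H ≤ Subgroup.normalizer (Q : Set G))
    (hst : ∀ y ∈ H, StabilizesBlock (Subgroup.centralizer (Q : Set G)) f y)
    {F : Set (IrrCharacter H)}
    (hFc : ∀ t : H, blockCoeff F t
      = subgroupBlockCoeff (Subgroup.centralizer (Q : Set G)) f (t : G))
    {X' : BrauerPairIdx H} {X : BrauerPairIdx G} (hX : Up H X' X)
    (hpair : IsBrauerPairOf p M F X'.1 X'.2) (hQX : Q ≤ X.1) :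
    IsNormalSubpair p M Q f X.1 X.2 := by
  obtain ⟨R', e'⟩ := X'
  obtain ⟨R, e⟩ := X
  obtain ⟨h1, h2, h3⟩ := hX
  dsimp only at h1 h2 h3 hpair hQX ⊢
  subst h1
  subst h3
  have hRH : R'.map H.subtype ≤ H := Subgroup.map_subtype_le _
  refine ⟨⟨hQ, hf⟩, ⟨hpair.1.1.map _, isPBlock_upBlock H _ _ h2 hpair.1.2⟩, hQX,
    fun y hy => hHN (hRH hy), fun y hy => hst y (hRH hy), ?_⟩
  intro ξ hξ
  obtain ⟨ξ', hξ', rfl⟩ := exists_of_mem_upBlock H _ _ h2 hξ
  rw [brauerOmega_relCent H R' _ h2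
    (subgroupBlockCoeff (Subgroup.centralizer (Q : Set G)) f) ξ']
  have h8 : (fun c : H => subgroupBlockCoeff (Subgroup.centralizer (Q : Set G)) f (c : G))
      = blockCoeff F := funext fun c => (hFc c).symm
  rw [h8]
  exact hpair.2.2 ξ' hξ'

/-- If `N_P(Q)` is a defect group of the stabilizer block of `(Q, f) ≤ (P, e)`, then `Q` is
receptive in the fusion system of the block. -/
theorem isReceptive_of_defect (hM : IsPModular p M) {B : Set (IrrCharacter G)}
    {P : Subgroup G} {e : Set (IrrCharacter (Subgroup.centralizer (P : Set G)))}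
    {F : FusionSystem P} (hF : IsBlockFusionSystemOn p M B P e F) {Q : Subgroup G}
    {f : Set (IrrCharacter (Subgroup.centralizer (Q : Set G)))} (hQP : Q ≤ P)
    (hf : IsPBlock M f) (hle : SubpairLE p M Q f P e) (T : Subgroup G)
    (hT : ∀ y : G, y ∈ T ↔ y ∈ Subgroup.normalizer (Q : Set G) ∧
      StabilizesBlock (Subgroup.centralizer (Q : Set G)) f y)
    {F' : Set (IrrCharacter T)} (hF' : IsPBlock M F')
    (hF'c : ∀ t : T, blockCoeff F' t
      = subgroupBlockCoeff (Subgroup.centralizer (Q : Set G)) f (t : G))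
    (hD : IsDefectGroup p M F' ((P ⊓ Subgroup.normalizer (Q : Set G)).subgroupOf T)) :
    F.IsReceptive Q := by
  classical
  have hMp := isPrime_of_isPModular hM
  have hmax := hF.1
  have hPe : IsBrauerPair p M P e := hmax.1.1
  have hP : IsPGroup p P := hPe.1
  have hQ : IsPGroup p Q := hP.to_le hQP
  have : Fintype T := Fintype.ofFinite _
  have hTN : T ≤ Subgroup.normalizer (Q : Set G) := fun y hy => ((hT y).mp hy).1
  have hCT : Subgroup.centralizer (Q : Set G) ≤ T := fun y hy =>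
    (hT y).mpr ⟨Subgroup.centralizer_le_normalizer _ hy,
      stabilizesBlock_of_mem_sup_centralizer Q f (Subgroup.mem_sup_right hy)⟩
  have hNT : P ⊓ Subgroup.normalizer (Q : Set G) ≤ T :=
    inf_normalizer_le_stabilizer hM hPe hQP hf hle T hT
  have hQNP : Q ≤ P ⊓ Subgroup.normalizer (Q : Set G) := le_inf hQP Subgroup.le_normalizer
  -- the subgroup `L = N_P(Q) C_G(Q)`
  obtain ⟨L, hLdef⟩ : ∃ L : Subgroup G,
      L = (P ⊓ Subgroup.normalizer (Q : Set G)) ⊔ Subgroup.centralizer (Q : Set G) := ⟨_, rfl⟩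
  have hNL : P ⊓ Subgroup.normalizer (Q : Set G) ≤ L := by rw [hLdef]; exact le_sup_left
  have hCL : Subgroup.centralizer (Q : Set G) ≤ L := by rw [hLdef]; exact le_sup_right
  have hLT : L ≤ T := by rw [hLdef]; exact sup_le hNT hCT
  have hQL : Q ≤ L := hQNP.trans hNL
  have hLN : L ≤ Subgroup.normalizer (Q : Set G) := hLT.trans hTN
  have hLst : ∀ y ∈ L, StabilizesBlock (Subgroup.centralizer (Q : Set G)) f y := fun y hy =>
    ((hT y).mp (hLT hy)).2
  have : Fintype L := Fintype.ofFinite _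
  obtain ⟨FL, hFL, hFLc⟩ := exists_block_of_stable hM Q hQ hf L hQL hCL hLN hLst
  -- the pair on `N_P(Q)`, a maximal pair of the block of `L`
  obtain ⟨eN, hnsN, hleN⟩ := exists_normalizer_pair hM hPe hQP hle
  have hCNL : Subgroup.centralizer ((P ⊓ Subgroup.normalizer (Q : Set G) : Subgroup G) : Set G)
      ≤ L := le_trans (Subgroup.centralizer_le (SetLike.coe_subset_coe.mpr hQNP)) hCL
  obtain ⟨hcY, hUpY⟩ := up_of_le L _ hNL hCNL eN
  have hpairY := isBrauerPairOf_down L hFL hFLc hnsN _ (hnsN.2.1.1.comap_subtype) hcY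
  have hmaxY : IsMaximalBrauerPair p M FL
      ((P ⊓ Subgroup.normalizer (Q : Set G)).subgroupOf L)
      (blockMap (relCent L _ _ hcY).symm eN) := by
    refine ⟨hpairY, ?_⟩
    intro R' g' hpair' hle'
    have hYR : (P ⊓ Subgroup.normalizer (Q : Set G)).subgroupOf L ≤ R' :=
      subpairLE_le ⟨_, _⟩ ⟨R', g'⟩ hle'
    have hQR' : Q ≤ R'.map L.subtype := fun q hq =>
      ⟨⟨q, hQL hq⟩, hYR (Subgroup.mem_subgroupOf.mpr (hQNP hq)), rfl⟩
    have hCR' : Subgroup.centralizer ((R'.map L.subtype : Subgroup G) : Set G) ≤ L :=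
      le_trans (Subgroup.centralizer_le (SetLike.coe_subset_coe.mpr hQR')) hCL
    obtain ⟨Z, hZ⟩ := up_exists L ⟨R', g'⟩ hCR'
    have hZ1 : Z.1 = R'.map L.subtype := hZ.1
    have hnsZ := isNormalSubpair_of_up' Q hQ hf L hLN hLst hFLc hZ hpair' (hZ1 ▸ hQR')
    obtain ⟨Z₁, Z₂⟩ := Z
    dsimp only at hnsZ hZ1
    have hZ₁T : Z₁ ≤ T := fun y hy => (hT y).mpr ⟨hnsZ.2.2.2.1 hy, hnsZ.2.2.2.2.1 y hy⟩
    have hCZ₁T : Subgroup.centralizer (Z₁ : Set G) ≤ T :=
      le_trans (Subgroup.centralizer_le (SetLike.coe_subset_coe.mpr hnsZ.2.2.1)) hCT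
    obtain ⟨hcZ, hUpZ⟩ := up_of_le T Z₁ hZ₁T hCZ₁T Z₂
    have hpairZ := isBrauerPairOf_down T hF' hF'c hnsZ _ (hnsZ.2.1.1.comap_subtype) hcZ
    obtain ⟨D₁, e₁, hmax₁, hle₁⟩ := exists_maximal_above hM _ _ _ rfl hpairZ
    have hD₁ := isDefectGroup_of_maximal hM hmax₁
    have hcard₁ := IsDefectGroup.card_eq hM hF' hD hD₁
    have hZD₁ : Z₁.subgroupOf T ≤ D₁ := subpairLE_le ⟨_, _⟩ ⟨D₁, e₁⟩ hle₁
    have hc1 : Nat.card R' = Nat.card Z₁ := by
      rw [hZ1]
      exact (Subgroup.card_map_of_injective (Subgroup.subtype_injective L)).symm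
    have hc2 : Nat.card (Z₁.subgroupOf T) = Nat.card Z₁ := card_subgroupOf_of_le hZ₁T
    have hc3 : Nat.card (Z₁.subgroupOf T) ≤ Nat.card D₁ := Subgroup.card_le_of_le hZD₁
    have hc4 : Nat.card ((P ⊓ Subgroup.normalizer (Q : Set G)).subgroupOf T)
        = Nat.card (P ⊓ Subgroup.normalizer (Q : Set G) : Subgroup G) :=
      card_subgroupOf_of_le hNT
    have hc5 : Nat.card ((P ⊓ Subgroup.normalizer (Q : Set G)).subgroupOf L)
        = Nat.card (P ⊓ Subgroup.normalizer (Q : Set G) : Subgroup G) :=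
      card_subgroupOf_of_le hNL
    exact (Subgroup.eq_of_le_of_card_ge hYR (by omega)).symm
  -- receptivity
  refine ⟨hQP, ?_⟩
  intro R φ hφ hrange
  obtain ⟨hRP, g, hg, hRgP, fR, hleR, hlegR⟩ := (hF.2 R φ).mp hφ
  have hRg : R.map (MulAut.conj g).toMonoidHom = Q := by
    rw [← range_conj_eq_map R g φ hg]
    exact hrange
  have hpairEq : conjPair g ⟨R, fR⟩ = ⟨Q, f⟩ :=
    pair_eq_of_le_of_eq hM (Z := ⟨P, e⟩) hPe hlegR hle hRg
  obtain ⟨N, hNdef⟩ : ∃ N : Subgroup G, N = FusionSystem.extender P R φ := ⟨_, rfl⟩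
  have hNle : N ≤ P ⊓ Subgroup.normalizer (R : Set G) := by
    rw [hNdef]
    unfold FusionSystem.extender
    rw [Subgroup.closure_le]
    rintro y ⟨hyP, hyN, -⟩
    exact ⟨hyP, hyN⟩
  have hRN : R ≤ N := by
    rw [hNdef]
    intro y hy
    apply Subgroup.subset_closure
    refine ⟨hRP hy, Subgroup.le_normalizer hy, φ ⟨y, hy⟩, (F.le_of_mem hφ).2 ⟨y, hy⟩, ?_⟩
    intro x hx
    have h1 : (⟨y * x * y⁻¹, hx⟩ : R) = ⟨y, hy⟩ * x * ⟨y, hy⟩⁻¹ := Subtype.ext rfl
    rw [h1, map_mul, map_mul, map_inv]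
  have hNgL : N.map (MulAut.conj g).toMonoidHom ≤ L := by
    rw [Subgroup.map_le_iff_le_comap, hNdef]
    unfold FusionSystem.extender
    rw [Subgroup.closure_le]
    rintro y ⟨hyP, hyN, h, hhP, hh⟩
    show g * y * g⁻¹ ∈ L
    have hconj : ∀ x ∈ R, g * (y * x * y⁻¹) * g⁻¹ = h * (g * x * g⁻¹) * h⁻¹ := by
      intro x hxR
      have hx : y * x * y⁻¹ ∈ R := (Subgroup.mem_normalizer_iff.mp hyN x).mp hxR
      have h2 := hh ⟨x, hxR⟩ hx
      rw [hg, hg] at h2
      exact h2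
    have hhN : h ∈ Subgroup.normalizer (Q : Set G) := by
      apply mem_normalizer_of_forall_conj_mem
      intro u hu
      rw [← hRg] at hu ⊢
      obtain ⟨x, hx, rfl⟩ := hu
      show h * (g * x * g⁻¹) * h⁻¹ ∈ R.map (MulAut.conj g).toMonoidHom
      rw [← hconj x hx]
      exact conj_mem_map R g ((Subgroup.mem_normalizer_iff.mp hyN x).mp hx)
    have hcC : h⁻¹ * (g * y * g⁻¹) ∈ Subgroup.centralizer (Q : Set G) := by
      rw [Subgroup.mem_centralizer_iff]
      intro u hu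
      rw [← hRg] at hu
      obtain ⟨x, hx, rfl⟩ := hu
      show g * x * g⁻¹ * (h⁻¹ * (g * y * g⁻¹)) = h⁻¹ * (g * y * g⁻¹) * (g * x * g⁻¹)
      have h2 := hconj x hx
      calc g * x * g⁻¹ * (h⁻¹ * (g * y * g⁻¹))
          = h⁻¹ * (h * (g * x * g⁻¹) * h⁻¹) * (g * y * g⁻¹) := by group
        _ = h⁻¹ * (g * (y * x * y⁻¹) * g⁻¹) * (g * y * g⁻¹) := by rw [h2]
        _ = h⁻¹ * (g * y * g⁻¹) * (g * x * g⁻¹) := by group
    have h3 : g * y * g⁻¹ = h * (h⁻¹ * (g * y * g⁻¹)) := by group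
    rw [h3]
    exact L.mul_mem (hNL ⟨hhP, hhN⟩) (hCL hcC)
  -- the pair on `N` and its conjugate
  have hNP : N ≤ P := hNle.trans inf_le_left
  obtain ⟨eφ, heφ, hleφ⟩ := exists_subpairLE hM _ P N e hPe hNP rfl
  obtain ⟨f₁, hf₁, hle₁⟩ := exists_subpairLE hM _ N R eφ ⟨hP.to_le hNP, heφ⟩ hRN rfl
  have hff : f₁ = fR := subpairLE_unique hM P e hPe _ R f₁ fR rfl
    (Relation.ReflTransGen.trans hle₁ hleφ) hleR
  subst hff
  have hnsφ : IsNormalSubpair p M R f₁ N eφ :=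
    normalSubpair_of_subpairLE hM ⟨R, f₁⟩ ⟨N, eφ⟩ hle₁ ⟨hP.to_le hRP, hf₁⟩
      (hNle.trans inf_le_right)
  have hnsg : NormalSubpairRel p M (conjPair g ⟨R, f₁⟩) (conjPair g ⟨N, eφ⟩) :=
    isNormalSubpair_conj R N g hnsφ
  rw [hpairEq] at hnsg
  have hnsg' : IsNormalSubpair p M Q f (N.map (MulAut.conj g).toMonoidHom)
      (conjBlock N g eφ) := hnsg
  have hCNg : Subgroup.centralizer ((N.map (MulAut.conj g).toMonoidHom : Subgroup G) : Set G)
      ≤ L := le_trans (Subgroup.centralizer_le (SetLike.coe_subset_coe.mpr hnsg'.2.2.1)) hCL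
  obtain ⟨hcX, hUpX⟩ := up_of_le L _ hNgL hCNg (conjBlock N g eφ)
  have hpairX := isBrauerPairOf_down L hFL hFLc hnsg' _ (hnsg'.2.1.1.comap_subtype) hcX
  obtain ⟨l, hlel⟩ := exists_conj_le_maximal hM hmaxY hpairX
  have hch := up_chain hlel (up_conj hUpX l) hUpY
  have hlL : (l : G) ∈ (P ⊓ Subgroup.normalizer (Q : Set G))
      ⊔ Subgroup.centralizer (Q : Set G) := by
    rw [← hLdef]
    exact l.2
  have hNC : P ⊓ Subgroup.normalizer (Q : Set G) ≤ Subgroup.normalizer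
      ((Subgroup.centralizer (Q : Set G) : Subgroup G) : Set G) := fun y hy =>
    normalizer_le_normalizer_centralizer Q hy.2
  obtain ⟨n, hn, c, hc, hlnc⟩ := exists_mul_of_mem_sup_of_le_normalizer _ _ hNC hlL
  have hch2 : Relation.ReflTransGen (NormalSubpairRel p M)
      (conjPair n⁻¹ (conjPair (l : G) (conjPair g ⟨N, eφ⟩)))
      (conjPair n⁻¹ ⟨P ⊓ Subgroup.normalizer (Q : Set G), eN⟩) := subpairLE_conj n⁻¹ hch
  have hfixN : conjPair n⁻¹ ⟨P ⊓ Subgroup.normalizer (Q : Set G), eN⟩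
      = ⟨P ⊓ Subgroup.normalizer (Q : Set G), eN⟩ :=
    conjPair_eq_self_of_stabilizes hMp hnsN.2.1.2
      (Subgroup.le_normalizer (Subgroup.inv_mem _ hn))
      (stabilizesBlock_of_mem_sup_centralizer _ eN
        (Subgroup.mem_sup_left (Subgroup.inv_mem _ hn)))
  rw [hfixN, conjPair_mul, conjPair_mul, hlnc] at hch2
  have hncg : n⁻¹ * (n * c) * g = c * g := by group
  rw [hncg] at hch2
  have hfin : SubpairLE p M (N.map (MulAut.conj (c * g)).toMonoidHom)
      (conjBlock N (c * g) eφ) P e := Relation.ReflTransGen.trans hch2 hleN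
  have hψ : conjHom N (c * g) ∈ F.Hom N :=
    (hF.2 N _).mpr ⟨hNP, c * g, fun _ => rfl, subpairLE_le ⟨_, _⟩ ⟨P, e⟩ hfin, eφ, hleφ, hfin⟩
  subst hNdef
  refine ⟨conjHom _ (c * g), hψ, ?_⟩
  intro x hR hN
  show c * g * x * (c * g)⁻¹ = φ ⟨x, hR⟩
  rw [hg]
  have hxQ : g * x * g⁻¹ ∈ Q := by
    rw [← hRg]
    exact conj_mem_map R g hR
  have h4 := (Subgroup.mem_centralizer_iff.mp hc) _ hxQ
  calc c * g * x * (c * g)⁻¹ = c * (g * x * g⁻¹) * c⁻¹ := by group
    _ = (g * x * g⁻¹) * c * c⁻¹ := by rw [h4]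
    _ = g * x * g⁻¹ := by group

/-- **The fusion system of a block is saturated.** -/
theorem isSaturated_of_isBlockFusionSystemOn (hM : IsPModular p M) {B : Set (IrrCharacter G)}
    {P : Subgroup G} {e : Set (IrrCharacter (Subgroup.centralizer (P : Set G)))}
    {F : FusionSystem P} (hF : IsBlockFusionSystemOn p M B P e F) : F.IsSaturated p := by
  classical
  have hMp := isPrime_of_isPModular hM
  have hmax := hF.1
  have hPe : IsBrauerPair p M P e := hmax.1.1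
  intro Q hQP
  obtain ⟨f, hf, hle⟩ := exists_subpairLE hM _ P Q e hPe hQP rfl
  obtain ⟨x, hlex, hx⟩ := exists_conj_defect_normalizer hM hmax hQP hf hle
    (stabSub hMp Q f hf) (mem_stabSub hMp Q f hf)
  have hf' : IsPBlock M (conjBlock Q x f) := isPBlock_conjBlock Q x hf
  have hQxP : Q.map (MulAut.conj x).toMonoidHom ≤ P := subpairLE_le ⟨_, _⟩ ⟨P, e⟩ hlex
  obtain ⟨F', hF', hF'c, hD⟩ := hx (stabSub hMp _ (conjBlock Q x f) hf')
    (mem_stabSub hMp _ (conjBlock Q x f) hf')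
  refine ⟨Q.map (MulAut.conj x).toMonoidHom, ?_, ?_, ?_⟩
  · refine ⟨conjHom Q x, (hF.2 Q _).mpr ⟨hQP, x, fun _ => rfl, hQxP, f, hle, hlex⟩, ?_⟩
    exact range_conj_eq_map Q x (conjHom Q x) (fun _ => rfl)
  · exact isFullyAutomized_of_defect hM hF hQxP hf' hlex _
      (mem_stabSub hMp _ (conjBlock Q x f) hf') hF' hF'c hD
  · exact isReceptive_of_defect hM hF hQxP hf' hlex _
      (mem_stabSub hMp _ (conjBlock Q x f) hf') hF' hF'c hD

end Receptive

end Cfsg.Agent.Lib.helper80
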