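import Cfsg.Agent.Lib.helper80.Nilpotent
import Cfsg.Agent.S4657

/-!
# Centric pairs whose stabilizer is the whole group

For a Brauer pair `(Q, f)` of `B` stabilized by all of `G`: `B` has the idempotent of `f`; and if
`Q` is centric in the fusion system of `B`, the block of `Q C_G(Q)` with the idempotent of `f` is
nilpotent with defect group `Q`.
-/

set_option autoImplicit false

open Cfsg

namespace Cfsg.Agent.Lib.helper80

universe u

section Sup

variable {G : Type u} [Group G]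

/-- Elements of `Q C_G(Q)` are products. -/
theorem exists_mul_of_mem_sup_centralizer (Q : Subgroup G) {r : G}
    (hr : r ∈ Q ⊔ Subgroup.centralizer (Q : Set G)) :
    ∃ q ∈ Q, ∃ c ∈ Subgroup.centralizer (Q : Set G), r = q * c := by
  rw [Subgroup.sup_eq_closure] at hr
  induction hr using Subgroup.closure_induction with
  | mem x hx =>
    rcases hx with hx | hx
    · exact ⟨x, hx, 1, Subgroup.one_mem _, (mul_one x).symm⟩
    · exact ⟨1, Subgroup.one_mem _, x, hx, (one_mul x).symm⟩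
  | one => exact ⟨1, Subgroup.one_mem _, 1, Subgroup.one_mem _, (mul_one 1).symm⟩
  | mul x y _ _ hx hy =>
    obtain ⟨q1, hq1, c1, hc1, rfl⟩ := hx
    obtain ⟨q2, hq2, c2, hc2, rfl⟩ := hy
    refine ⟨q1 * q2, Subgroup.mul_mem _ hq1 hq2, c1 * c2, Subgroup.mul_mem _ hc1 hc2, ?_⟩
    have h1 : q2 * c1 = c1 * q2 := (Subgroup.mem_centralizer_iff.mp hc1) q2 hq2
    calc q1 * c1 * (q2 * c2) = q1 * (c1 * q2) * c2 := by group
      _ = q1 * (q2 * c1) * c2 := by rw [h1]
      _ = q1 * q2 * (c1 * c2) := by group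
  | inv x _ hx =>
    obtain ⟨q, hq, c, hc, rfl⟩ := hx
    refine ⟨q⁻¹, Subgroup.inv_mem _ hq, c⁻¹, Subgroup.inv_mem _ hc, ?_⟩
    have h1 : q * c = c * q := (Subgroup.mem_centralizer_iff.mp hc) q hq
    rw [h1]
    group

/-- A `p`-regular element of `Q C_G(Q)`, `Q` a finite `p`-group, centralizes `Q`. -/
theorem mem_centralizer_of_pRegular_of_mem_sup [Finite G] {p : ℕ} [Fact p.Prime]
    (Q : Subgroup G) (hQ : IsPGroup p Q) {x : G}
    (hx : x ∈ Q ⊔ Subgroup.centralizer (Q : Set G)) (hreg : IsPRegular p x) :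
    x ∈ Subgroup.centralizer (Q : Set G) := by
  have hp : p.Prime := Fact.out
  obtain ⟨q, hq, c, hc, rfl⟩ := exists_mul_of_mem_sup_centralizer Q hx
  have h1 : q * c = c * q := (Subgroup.mem_centralizer_iff.mp hc) q hq
  obtain ⟨k, hk⟩ := (IsPGroup.iff_card.mp hQ)
  have hqk : q ^ (p ^ k) = 1 := by
    have h2 : (⟨q, hq⟩ : Q) ^ Nat.card Q = 1 := pow_card_eq_one'
    rw [hk] at h2
    exact congrArg Subtype.val h2
  have hpow : (q * c) ^ (p ^ k) ∈ Subgroup.centralizer (Q : Set G) := by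
    rw [(Commute.mul_pow (show Commute q c from h1) _), hqk, one_mul]
    exact Subgroup.pow_mem _ hc _
  have hord : (q * c) ^ orderOf (q * c) ∈ Subgroup.centralizer (Q : Set G) := by
    rw [pow_orderOf_eq_one]
    exact Subgroup.one_mem _
  have hcop : Nat.Coprime (p ^ k) (orderOf (q * c)) :=
    Nat.Coprime.pow_left _ ((Nat.Prime.coprime_iff_not_dvd hp).mpr hreg)
  exact mem_of_pow_mem_of_coprime _ hcop hpow hord

end Sup

section Stable

variable {G : Type u} [Group G] [Fintype G] {p : ℕ} [Fact p.Prime] {M : Ideal AlgInt}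

open Cfsg.Agent.Lib.helper20

/-- The idempotent of a block `f` of `C_G(Q)` is a block idempotent of any subgroup `H` with
`Q C_G(Q) ≤ H ≤ N_G(Q)` stabilizing `f`. -/
theorem exists_block_of_stable (hM : IsPModular p M) (Q : Subgroup G) (hQ : IsPGroup p Q)
    {f : Set (IrrCharacter (Subgroup.centralizer (Q : Set G)))} (hf : IsPBlock M f)
    (H : Subgroup G) (hQH : Q ≤ H) (hCH : Subgroup.centralizer (Q : Set G) ≤ H)
    (hHN : H ≤ Subgroup.normalizer (Q : Set G))
    (hst : ∀ y ∈ H, StabilizesBlock (Subgroup.centralizer (Q : Set G)) f y) :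
    ∃ F : Set (IrrCharacter H), IsPBlock M F ∧ ∀ t : H, blockCoeff F t
      = subgroupBlockCoeff (Subgroup.centralizer (Q : Set G)) f (t : G) := by
  classical
  have hMp := isPrime_of_isPModular hM
  have : Fintype H := Fintype.ofFinite _
  have : Fintype (Subgroup.centralizer (Q : Set G)) := Fintype.ofFinite _
  obtain ⟨F, hF, hcov⟩ := exists_cover hM Q H hQ hQH hCH hHN hf
  have horb : orbSet (Subgroup.centralizer (Q : Set G)) H f = f := by
    apply Set.Subset.antisymm _ (subset_orbSet _ _ f)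
    rintro ξ ⟨h, hn, hh, hξ⟩
    rw [(stabilizesBlock_iff_eq hMp _ h hn hf).mp (hst h hh)] at hξ
    exact hξ
  refine ⟨F, hF, ?_⟩
  intro t
  have h1 := hcov (t : G)
  rw [extFun_coe, horb] at h1
  exact h1

/-- If every element of `G` stabilizes the `B`-pair `(Q, f)`, the idempotent of `B` is that of
`f`. -/
theorem blockCoeff_eq_of_stable (hM : IsPModular p M) {B : Set (IrrCharacter G)}
    {Q : Subgroup G} {f : Set (IrrCharacter (Subgroup.centralizer (Q : Set G)))}
    (hQf : IsBrauerPairOf p M B Q f)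
    (hG : ∀ x : G, x ∈ Subgroup.normalizer (Q : Set G) ∧
      StabilizesBlock (Subgroup.centralizer (Q : Set G)) f x) (g : G) :
    blockCoeff B g = subgroupBlockCoeff (Subgroup.centralizer (Q : Set G)) f g := by
  classical
  have hMp := isPrime_of_isPModular hM
  have : Fintype (⊤ : Subgroup G) := Fintype.ofFinite _
  have : Fintype (Subgroup.centralizer (Q : Set G)) := Fintype.ofFinite _
  have hQ : IsPGroup p Q := hQf.1.1
  have hf : IsPBlock M f := hQf.1.2
  obtain ⟨F₀, hF₀, hF₀c⟩ := exists_block_of_stable hM Q hQ hf ⊤ le_top le_top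
    (fun y _ => (hG y).1) (fun y _ => (hG y).2)
  have hB₁c : ∀ g : G, blockCoeff (blockMap Subgroup.topEquiv F₀) g
      = subgroupBlockCoeff (Subgroup.centralizer (Q : Set G)) f g := by
    intro g
    rw [blockCoeff_blockMap, hF₀c]
    rfl
  have hpair : IsBrauerPairOf p M (blockMap Subgroup.topEquiv F₀) Q f := by
    refine ⟨hQf.1, isPBlock_blockMap _ hF₀, ?_⟩
    intro ξ hξ
    rw [brauerOmega_congr Q (fun x _ => hB₁c x), brauerOmega_eq_om]
    have h1 : om (ξ : Subgroup.centralizer (Q : Set G) → ℂ)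
        (fun x : Subgroup.centralizer (Q : Set G) =>
          subgroupBlockCoeff (Subgroup.centralizer (Q : Set G)) f x)
        = om (ξ : Subgroup.centralizer (Q : Set G) → ℂ) (blockCoeff f) :=
      om_congr _ (fun x => subgroupBlockCoeff_of_mem _ f x.2)
    rw [h1, om_blockCoeff, if_pos hξ, sub_self]
    exact memLocalIdeal_zero hMp
  obtain ⟨B₀, -, huniq⟩ := Cfsg.Agent.S4657.result p M hM Q f hQf.1
  rw [huniq B hQf, ← huniq _ hpair]
  exact hB₁c g

/-- For a centric pair `(Q, f) ≤ (P, e)` of a block with fusion system `F`: the block of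
`Q C_G(Q)` with the idempotent of `f` has defect group `Q`. -/
theorem defect_le_of_centric (hM : IsPModular p M) {B : Set (IrrCharacter G)} {P : Subgroup G}
    {e : Set (IrrCharacter (Subgroup.centralizer (P : Set G)))} {F : FusionSystem P}
    (hF : IsBlockFusionSystemOn p M B P e F) {Q : Subgroup G}
    {f : Set (IrrCharacter (Subgroup.centralizer (Q : Set G)))} (hQP : Q ≤ P)
    (hf : IsPBlock M f) (hle : SubpairLE p M Q f P e) (hcen : F.IsCentric Q)
    (H : Subgroup G) (hH : H = Q ⊔ Subgroup.centralizer (Q : Set G))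
    {F' : Set (IrrCharacter H)} (hF' : IsPBlock M F')
    (hF'c : ∀ t : H, blockCoeff F' t
      = subgroupBlockCoeff (Subgroup.centralizer (Q : Set G)) f (t : G))
    {D₀ : Subgroup H} (hD₀ : IsDefectGroup p M F' D₀) :
    D₀ ≤ Q.subgroupOf H := by
  classical
  have hMp := isPrime_of_isPModular hM
  have hmax := hF.1
  have hPe : IsBrauerPair p M P e := hmax.1.1
  have hB : IsPBlock M B := hmax.1.2.1
  have hP : IsPGroup p P := hPe.1
  have hQ : IsPGroup p Q := hP.to_le hQP
  have hQfB : IsBrauerPairOf p M B Q f :=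
    (Cfsg.Agent.S4658.result p M hM P Q e f hPe ⟨hQ, hf⟩ hle B hB).mp hmax.1
  have : Fintype H := Fintype.ofFinite _
  have hQH : Q ≤ H := hH ▸ le_sup_left
  have hHN : H ≤ Subgroup.normalizer (Q : Set G) :=
    hH ▸ sup_le Subgroup.le_normalizer (Subgroup.centralizer_le_normalizer _)
  have hnorm : (Q.subgroupOf H).Normal := Subgroup.normal_subgroupOf_of_le_normalizer hHN
  have hQD₀ : Q.subgroupOf H ≤ D₀ := normal_le_defectGroup hM (Q.subgroupOf H)
    hQ.comap_subtype hF' hD₀
  have hR₀p : IsPGroup p (D₀.map H.subtype) := (IsDefectGroup.isPGroup hD₀).map _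
  have hR₀H : D₀.map H.subtype ≤ H := Subgroup.map_subtype_le _
  have hQR₀ : Q ≤ D₀.map H.subtype := fun u hu =>
    ⟨⟨u, hQH hu⟩, hQD₀ (Subgroup.mem_subgroupOf.mpr hu), rfl⟩
  have hR₀N : D₀.map H.subtype ≤ Subgroup.normalizer (Q : Set G) := hR₀H.trans hHN
  have hstab : ∀ x ∈ D₀.map H.subtype,
      StabilizesBlock (Subgroup.centralizer (Q : Set G)) f x := fun x hx =>
    stabilizesBlock_of_mem_sup_centralizer Q f (by rw [← hH]; exact hR₀H hx)
  have hD₀' := hD₀
  obtain ⟨l, hl, hsl⟩ := hD₀'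
  have hlR : (l : G) ∈ Subgroup.centralizer ((D₀.map H.subtype : Subgroup G) : Set G) := by
    rw [Subgroup.mem_centralizer_iff]
    rintro _ ⟨d, hd, rfl⟩
    have := IsSylowCent.le hsl hd
    rw [mem_centralizer_singleton] at this
    exact (congrArg Subtype.val this).symm
  have hey₀ : ¬ MemLocalIdeal M (subgroupBlockCoeff (Subgroup.centralizer (Q : Set G)) f
      (l : G)) := by
    rw [← hF'c]
    exact hl.2.1
  obtain ⟨g₀, hns₀⟩ := exists_normalSubpair_up hM Q _ hR₀p hQR₀ hR₀N hf hstab hlR hey₀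
  have hle₀ : SubpairLE p M Q f _ g₀ := Relation.ReflTransGen.single hns₀
  have hR₀B : IsBrauerPairOf p M B _ g₀ :=
    (Cfsg.Agent.S4658.result p M hM _ Q g₀ f hns₀.2.1 hns₀.1 hle₀ B hB).mpr hQfB
  obtain ⟨x, hx⟩ := exists_conj_le_maximal hM hmax hR₀B
  have hle_x : SubpairLE p M (Q.map (MulAut.conj x).toMonoidHom) (conjBlock Q x f) P e :=
    Relation.ReflTransGen.trans (subpairLE_conj x hle₀) hx
  have hconj : F.IsConj Q (Q.map (MulAut.conj x).toMonoidHom) :=
    (isConj_blockFusion_iff hM hF hle _).mpr ⟨x, rfl, hle_x⟩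
  have hcx := hcen.2 _ hconj
  intro d hd
  rw [Subgroup.mem_subgroupOf]
  have hdH : (d : G) ∈ Q ⊔ Subgroup.centralizer (Q : Set G) := by
    rw [← hH]
    exact d.2
  obtain ⟨q, hq, c, hc, hdqc⟩ := exists_mul_of_mem_sup_centralizer Q hdH
  have hdR : (d : G) ∈ D₀.map H.subtype := ⟨d, hd, rfl⟩
  have hcR : c ∈ D₀.map H.subtype := by
    have : c = q⁻¹ * (d : G) := by rw [hdqc]; group
    rw [this]
    exact Subgroup.mul_mem _ (Subgroup.inv_mem _ (hQR₀ hq)) hdR
  have hcP : x * c * x⁻¹ ∈ P := subpairLE_le ⟨_, _⟩ ⟨_, _⟩ hx (conj_mem_map _ x hcR)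
  have hcC : x * c * x⁻¹ ∈ Subgroup.centralizer
      ((Q.map (MulAut.conj x).toMonoidHom : Subgroup G) : Set G) := conj_mem_centralizer_map Q x hc
  have hcQx : x * c * x⁻¹ ∈ Q.map (MulAut.conj x).toMonoidHom := hcx ⟨hcP, hcC⟩
  rw [mem_map_conj] at hcQx
  have hcQ : c ∈ Q := by
    have : x⁻¹ * (x * c * x⁻¹) * x = c := by group
    rwa [this] at hcQx
  rw [hdqc]
  exact Subgroup.mul_mem _ hq hcQ

/-- For a centric pair `(Q, f) ≤ (P, e)` of a block with fusion system `F`: the block of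
`Q C_G(Q)` with the idempotent of `f` is nilpotent. -/
theorem isNilpotentBlock_of_centric (hM : IsPModular p M) {B : Set (IrrCharacter G)}
    {P : Subgroup G} {e : Set (IrrCharacter (Subgroup.centralizer (P : Set G)))}
    {F : FusionSystem P} (hF : IsBlockFusionSystemOn p M B P e F) {Q : Subgroup G}
    {f : Set (IrrCharacter (Subgroup.centralizer (Q : Set G)))} (hQP : Q ≤ P)
    (hf : IsPBlock M f) (hle : SubpairLE p M Q f P e) (hcen : F.IsCentric Q)
    (H : Subgroup G) (hH : H = Q ⊔ Subgroup.centralizer (Q : Set G))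
    {F' : Set (IrrCharacter H)} (hF' : IsPBlock M F')
    (hF'c : ∀ t : H, blockCoeff F' t
      = subgroupBlockCoeff (Subgroup.centralizer (Q : Set G)) f (t : G)) :
    IsNilpotentBlock p M F' := by
  classical
  have hMp := isPrime_of_isPModular hM
  have hQ : IsPGroup p Q := (hF.1.1.1.1).to_le hQP
  have : Fintype H := Fintype.ofFinite _
  refine ⟨hF', ?_⟩
  intro R' g' hpair x _ _ hreg
  obtain ⟨P', e', hmax', hle'⟩ := exists_maximal_above hM _ R' g' rfl hpair
  have hD' := isDefectGroup_of_maximal hM hmax'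
  have hP'Q : P' ≤ Q.subgroupOf H := defect_le_of_centric hM hF hQP hf hle hcen H hH hF' hF'c hD'
  have hR'P' : R' ≤ P' := subpairLE_le ⟨_, _⟩ ⟨_, _⟩ hle'
  have hxreg : IsPRegular p (x : G) := by
    unfold IsPRegular at hreg ⊢
    rwa [Subgroup.orderOf_coe]
  have hxH : (x : G) ∈ Q ⊔ Subgroup.centralizer (Q : Set G) := by
    rw [← hH]
    exact x.2
  have hxC := mem_centralizer_of_pRegular_of_mem_sup Q hQ hxH hxreg
  rw [Subgroup.mem_centralizer_iff]
  intro r hr
  apply Subtype.ext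
  have hrQ : (r : G) ∈ Q := Subgroup.mem_subgroupOf.mp (hP'Q (hR'P' hr))
  exact (Subgroup.mem_centralizer_iff.mp hxC) _ hrQ

end Stable

end Cfsg.Agent.Lib.helper80
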