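import Mathlib

/-!
# A sign-reversing involution on normal chains of `p`-subgroups

For a nontrivial `p`-element `x` of a finite group `G`, the normal chains `s` of nontrivial
`p`-subgroups stabilized by `x`, other than the chain `{⟨x⟩}`, are paired by an involution changing
the length by one and preserving `C_G(x) ∩ N_G(s)`.  Consequently the alternating sum of any
function of `C_G(x) ∩ N_G(s)` over these chains is its value at `C_G(x)`.
-/

set_option autoImplicit false

namespace Cfsg.Agent.Lib.helper80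

universe u

section ChainInv

variable {G : Type u} [Group G]

/-- The subgroup generated by the `T`-conjugates of `x`. -/
def nclX (x : G) (T : Subgroup G) : Subgroup G :=
  Subgroup.closure {y | ∃ t ∈ T, y = t * x * t⁻¹}

theorem mem_nclX_self (x : G) (T : Subgroup G) : x ∈ nclX x T :=
  Subgroup.subset_closure ⟨1, T.one_mem, by simp⟩

theorem zpowers_le_nclX (x : G) (T : Subgroup G) : Subgroup.zpowers x ≤ nclX x T :=
  (Subgroup.zpowers_le).mpr (mem_nclX_self x T)

theorem nclX_le (x : G) (T : Subgroup G) (hx : x ∈ T) : nclX x T ≤ T := by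
  unfold nclX
  rw [Subgroup.closure_le]
  rintro _ ⟨t, ht, rfl⟩
  exact T.mul_mem (T.mul_mem ht hx) (T.inv_mem ht)

theorem nclX_le_of_normal (x : G) (T M : Subgroup G) (hx : x ∈ M)
    (hT : T ≤ Subgroup.normalizer (M : Set G)) : nclX x T ≤ M := by
  unfold nclX
  rw [Subgroup.closure_le]
  rintro _ ⟨t, ht, rfl⟩
  exact (Subgroup.mem_normalizer_iff.mp (hT ht) x).mp hx

theorem le_normalizer_nclX (x : G) (T H : Subgroup G)
    (hH : ∀ h ∈ H, ∀ t ∈ T, ∃ t' ∈ T, h * (t * x * t⁻¹) * h⁻¹ = t' * x * t'⁻¹) :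
    H ≤ Subgroup.normalizer ((nclX x T : Subgroup G) : Set G) := by
  unfold nclX
  rw [Subgroup.le_normalizer_closure_iff]
  rintro h hh _ ⟨t, ht, rfl⟩
  obtain ⟨t', ht', he⟩ := hH h hh t ht
  rw [he]
  exact Subgroup.subset_closure ⟨t', ht', rfl⟩

theorem self_le_normalizer_nclX (x : G) (T : Subgroup G) :
    T ≤ Subgroup.normalizer ((nclX x T : Subgroup G) : Set G) := by
  apply le_normalizer_nclX
  intro h hh t ht
  exact ⟨h * t, T.mul_mem hh ht, by group⟩

theorem mem_normalizer_sup' {g : G} {A B : Subgroup G}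
    (hA : g ∈ Subgroup.normalizer (A : Set G)) (hB : g ∈ Subgroup.normalizer (B : Set G)) :
    g ∈ Subgroup.normalizer ((A ⊔ B : Subgroup G) : Set G) := by
  rw [Subgroup.mem_normalizer_iff_map_conj_eq] at hA hB ⊢
  rw [Subgroup.map_sup, hA, hB]

theorem mem_normalizer_finset_sup {g : G} (s : Finset (Subgroup G))
    (h : ∀ Q ∈ s, g ∈ Subgroup.normalizer ((Q : Subgroup G) : Set G)) :
    g ∈ Subgroup.normalizer ((s.sup id : Subgroup G) : Set G) := by
  classical
  induction s using Finset.induction_on with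
  | empty =>
    rw [Finset.sup_empty, Subgroup.mem_normalizer_iff]
    intro y
    simp [Subgroup.mem_bot]
  | insert a s ha ih =>
    rw [Finset.sup_insert]
    exact mem_normalizer_sup' (h a (Finset.mem_insert_self a s))
      (ih (fun Q hQ => h Q (Finset.mem_insert_of_mem hQ)))

/-- Nonempty chains of nontrivial `p`-subgroups, every member normal in the largest one. -/
def IsNChain (p : ℕ) (s : Finset (Subgroup G)) : Prop :=
  s.Nonempty ∧ (∀ Q ∈ s, ∀ R ∈ s, Q ≤ R ∨ R ≤ Q) ∧ (∀ Q ∈ s, Q ≠ ⊥ ∧ IsPGroup p Q) ∧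
    ∃ T ∈ s, ∀ Q ∈ s, Q ≤ T ∧ T ≤ Subgroup.normalizer ((Q : Subgroup G) : Set G)

/-- The stabilizer of a chain. -/
def chainStab (s : Finset (Subgroup G)) : Subgroup G :=
  ⨅ Q ∈ s, Subgroup.normalizer ((Q : Subgroup G) : Set G)

theorem mem_chainStab {s : Finset (Subgroup G)} {g : G} :
    g ∈ chainStab s ↔ ∀ Q ∈ s, g ∈ Subgroup.normalizer ((Q : Subgroup G) : Set G) := by
  unfold chainStab
  simp only [Subgroup.mem_iInf]

theorem IsNChain.sup_mem {p : ℕ} {s : Finset (Subgroup G)} (h : IsNChain p s) :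
    s.sup id ∈ s ∧ ∀ Q ∈ s, Q ≤ s.sup id ∧
      s.sup id ≤ Subgroup.normalizer ((Q : Subgroup G) : Set G) := by
  obtain ⟨-, -, -, T, hT, hTs⟩ := h
  have h1 : s.sup id = T :=
    le_antisymm (Finset.sup_le (fun Q hQ => (hTs Q hQ).1)) (Finset.le_sup (f := id) hT)
  rw [h1]
  exact ⟨hT, hTs⟩

theorem sup_mem_of_chain (s : Finset (Subgroup G)) (hne : s.Nonempty)
    (hch : ∀ Q ∈ s, ∀ R ∈ s, Q ≤ R ∨ R ≤ Q) : s.sup id ∈ s := by
  obtain ⟨m, hm, hmax⟩ := Finset.exists_maximal hne
  have h1 : ∀ Q ∈ s, Q ≤ m := by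
    intro Q hQ
    rcases hch Q hQ m hm with h | h
    · exact h
    · exact hmax hQ h
  have h2 : s.sup id = m := le_antisymm (Finset.sup_le h1) (Finset.le_sup (f := id) hm)
  rw [h2]
  exact hm

/-- A proper subgroup of a finite `p`-group lies in a proper normal subgroup. -/
theorem exists_normal_proper_of_ne [Finite G] {p : ℕ} [Fact p.Prime] {T A : Subgroup G}
    (hT : IsPGroup p T) (hAT : A ≤ T) (hne : A ≠ T) :
    ∃ M : Subgroup G, A ≤ M ∧ M ≤ T ∧ M ≠ T ∧ T ≤ Subgroup.normalizer (M : Set G) := by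
  have hne' : A.subgroupOf T ≠ ⊤ := by
    intro h
    rw [Subgroup.subgroupOf_eq_top] at h
    exact hne (le_antisymm hAT h)
  have hnil : Group.IsNilpotent T := hT.isNilpotent
  obtain ⟨M', hM', hAM'⟩ := (eq_top_or_exists_le_coatom (A.subgroupOf T)).resolve_left hne'
  have hMn : M'.Normal :=
    Subgroup.NormalizerCondition.normal_of_coatom M' normalizerCondition_of_isNilpotent hM'
  refine ⟨M'.map T.subtype, ?_, ?_, ?_, ?_⟩
  · intro a ha
    exact ⟨⟨a, hAT ha⟩, hAM' (Subgroup.mem_subgroupOf.mpr ha), rfl⟩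
  · exact Subgroup.map_subtype_le M'
  · intro h
    apply hM'.1
    rw [eq_top_iff]
    intro t _
    have h1 : (t : G) ∈ M'.map T.subtype := by
      rw [h]
      exact t.2
    obtain ⟨m, hm, hmt⟩ := h1
    have h2 : m = t := Subtype.ext hmt
    rw [← h2]
    exact hm
  · intro t ht
    refine Subgroup.le_normalizer_map T.subtype ⟨⟨t, ht⟩, ?_, rfl⟩
    rw [SetLike.mem_coe, Subgroup.normalizer_eq_top_iff.mpr hMn]
    exact Subgroup.mem_top _

/-- If `T` is generated by `A` and the `T`-conjugates of `x ∈ A`, then `A = T`. -/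
theorem eq_of_le_sup_nclX [Finite G] {p : ℕ} [Fact p.Prime] {T A : Subgroup G} {x : G}
    (hT : IsPGroup p T) (hAT : A ≤ T) (hx : x ∈ A) (h : T ≤ A ⊔ nclX x T) : A = T := by
  by_contra hne
  obtain ⟨M, hAM, hMT, hMne, hTM⟩ := exists_normal_proper_of_ne hT hAT hne
  have h1 : nclX x T ≤ M := nclX_le_of_normal x T M (hAM hx) hTM
  exact hMne (le_antisymm hMT (h.trans (sup_le hAM h1)))

/-- The top of the chain enlarged by `x`. -/
def chTp (x : G) (s : Finset (Subgroup G)) : Subgroup G := s.sup id ⊔ Subgroup.zpowers x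

/-- The normal closure of `x` in the enlarged top. -/
def chY (x : G) (s : Finset (Subgroup G)) : Subgroup G := nclX x (chTp x s)

open Classical in
/-- The largest member not containing the normal closure (or `⊥`). -/
noncomputable def chQm (x : G) (s : Finset (Subgroup G)) : Subgroup G :=
  (s.filter (fun Q => ¬ chY x s ≤ Q)).sup id

/-- The subgroup toggled by the involution. -/
noncomputable def chW (x : G) (s : Finset (Subgroup G)) : Subgroup G := chQm x s ⊔ chY x s

open Classical in
/-- The involution. -/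
noncomputable def chTau (x : G) (s : Finset (Subgroup G)) : Finset (Subgroup G) :=
  if chW x s ∈ s then s.erase (chW x s) else insert (chW x s) s

theorem zpowers_le_chTp (x : G) (s : Finset (Subgroup G)) : Subgroup.zpowers x ≤ chTp x s :=
  le_sup_right

theorem mem_chTp_self (x : G) (s : Finset (Subgroup G)) : x ∈ chTp x s :=
  zpowers_le_chTp x s (Subgroup.mem_zpowers x)

theorem zpowers_le_chY (x : G) (s : Finset (Subgroup G)) : Subgroup.zpowers x ≤ chY x s :=
  zpowers_le_nclX x _

theorem chY_le_chTp (x : G) (s : Finset (Subgroup G)) : chY x s ≤ chTp x s :=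
  nclX_le x _ (mem_chTp_self x s)

theorem chY_le_chW (x : G) (s : Finset (Subgroup G)) : chY x s ≤ chW x s := le_sup_right

theorem chQm_le_sup (x : G) (s : Finset (Subgroup G)) : chQm x s ≤ s.sup id := by
  classical
  exact Finset.sup_mono (Finset.filter_subset _ _)

theorem chW_le_chTp (x : G) (s : Finset (Subgroup G)) : chW x s ≤ chTp x s :=
  sup_le ((chQm_le_sup x s).trans le_sup_left) (chY_le_chTp x s)

theorem mem_chW_self (x : G) (s : Finset (Subgroup G)) : x ∈ chW x s :=
  chY_le_chW x s (zpowers_le_chY x s (Subgroup.mem_zpowers x))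

/-- An element centralizing `x` and stabilizing the chain normalizes the toggled subgroup. -/
theorem mem_normalizer_chW {x g : G} {s : Finset (Subgroup G)}
    (hg : g ∈ Subgroup.centralizer ({x} : Set G)) (hgs : g ∈ chainStab s) :
    g ∈ Subgroup.normalizer ((chW x s : Subgroup G) : Set G) := by
  classical
  rw [mem_chainStab] at hgs
  have hgx : g * x = x * g := (Subgroup.mem_centralizer_singleton_iff.mp hg)
  have hT : g ∈ Subgroup.normalizer ((s.sup id : Subgroup G) : Set G) :=
    mem_normalizer_finset_sup s hgs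
  have hX : g ∈ Subgroup.normalizer ((Subgroup.zpowers x : Subgroup G) : Set G) := by
    have h1 : Subgroup.centralizer ({x} : Set G)
        ≤ Subgroup.normalizer ((Subgroup.zpowers x : Subgroup G) : Set G) := by
      have h2 : Subgroup.centralizer ((Subgroup.zpowers x : Subgroup G) : Set G)
          = Subgroup.centralizer ({x} : Set G) := by
        rw [Subgroup.zpowers_eq_closure, Subgroup.centralizer_closure]
      rw [← h2]
      exact Subgroup.centralizer_le_normalizer _
    exact h1 hg
  have hTp : g ∈ Subgroup.normalizer ((chTp x s : Subgroup G) : Set G) :=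
    mem_normalizer_sup' hT hX
  have hY : g ∈ Subgroup.normalizer ((chY x s : Subgroup G) : Set G) := by
    have h1 := le_normalizer_nclX x (chTp x s)
      (Subgroup.centralizer ({x} : Set G) ⊓
        Subgroup.normalizer ((chTp x s : Subgroup G) : Set G)) (by
        rintro h ⟨hh1, hh2⟩ t ht
        have hhx : h * x = x * h := (Subgroup.mem_centralizer_singleton_iff.mp hh1)
        refine ⟨h * t * h⁻¹, (Subgroup.mem_normalizer_iff.mp hh2 t).mp ht, ?_⟩
        have e1 : h * (t * x * t⁻¹) * h⁻¹ = h * t * (h⁻¹ * (h * x) * h⁻¹) * (h * t⁻¹ * h⁻¹) := by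
          group
        rw [e1, hhx]
        group)
    exact h1 ⟨hg, hTp⟩
  have hQ : g ∈ Subgroup.normalizer ((chQm x s : Subgroup G) : Set G) :=
    mem_normalizer_finset_sup _ (fun Q hQ => hgs Q (Finset.mem_filter.mp hQ).1)
  exact mem_normalizer_sup' hQ hY

section Facts

variable [Finite G] {p : ℕ} [Fact p.Prime] {x : G} {s : Finset (Subgroup G)}

theorem chTp_le_normalizer (hs : IsNChain p s) (hx : x ∈ chainStab s) :
    ∀ Q ∈ s, chTp x s ≤ Subgroup.normalizer ((Q : Subgroup G) : Set G) := by
  intro Q hQ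
  exact sup_le (hs.sup_mem.2 Q hQ).2 ((Subgroup.zpowers_le).mpr (mem_chainStab.mp hx Q hQ))

theorem isPGroup_chTp (hs : IsNChain p s) (hx : x ∈ chainStab s)
    (hxp : IsPGroup p (Subgroup.zpowers x)) : IsPGroup p (chTp x s) := by
  have hT := hs.sup_mem.1
  exact IsPGroup.to_sup_of_normal_left' (hs.2.2.1 _ hT).2 hxp
    ((Subgroup.zpowers_le).mpr (mem_chainStab.mp hx _ hT))

theorem chTp_le_normalizer_chW (hs : IsNChain p s) (hx : x ∈ chainStab s) :
    chTp x s ≤ Subgroup.normalizer ((chW x s : Subgroup G) : Set G) := by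
  classical
  intro g hg
  have hQ : g ∈ Subgroup.normalizer ((chQm x s : Subgroup G) : Set G) :=
    mem_normalizer_finset_sup _
      (fun Q hQ => chTp_le_normalizer hs hx Q (Finset.mem_filter.mp hQ).1 hg)
  exact mem_normalizer_sup' hQ (self_le_normalizer_nclX x (chTp x s) hg)

theorem chW_comparable (hs : IsNChain p s) :
    ∀ Q ∈ s, Q ≤ chW x s ∨ chW x s ≤ Q := by
  classical
  intro Q hQ
  by_cases hY : chY x s ≤ Q
  · right
    refine sup_le (Finset.sup_le ?_) hY
    intro Q' hQ'
    rw [Finset.mem_filter] at hQ'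
    rcases hs.2.1 Q' hQ'.1 Q hQ with h | h
    · exact h
    · exact absurd (hY.trans h) hQ'.2
  · left
    exact (Finset.le_sup (f := id) (Finset.mem_filter.mpr ⟨hQ, hY⟩)).trans le_sup_left

theorem mem_chTau_iff {Q : Subgroup G} :
    Q ∈ chTau x s ↔ (Q ∈ s ∧ Q ≠ chW x s) ∨ (Q = chW x s ∧ chW x s ∉ s) := by
  classical
  unfold chTau
  by_cases hW : chW x s ∈ s
  · rw [if_pos hW, Finset.mem_erase]
    constructor
    · rintro ⟨h1, h2⟩
      exact Or.inl ⟨h2, h1⟩
    · rintro (⟨h1, h2⟩ | ⟨-, h2⟩)
      · exact ⟨h2, h1⟩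
      · exact absurd hW h2
  · rw [if_neg hW, Finset.mem_insert]
    constructor
    · rintro (h | h)
      · exact Or.inr ⟨h, hW⟩
      · exact Or.inl ⟨h, fun h' => hW (h' ▸ h)⟩
    · rintro (⟨h1, -⟩ | ⟨h1, -⟩)
      · exact Or.inr h1
      · exact Or.inl h1

theorem mem_chTau_cases {Q : Subgroup G} (h : Q ∈ chTau x s) : Q ∈ s ∨ Q = chW x s := by
  rcases mem_chTau_iff.mp h with h | h
  · exact Or.inl h.1
  · exact Or.inr h.1

theorem chTau_sup_le (hs : IsNChain p s) : (chTau x s).sup id ≤ chTp x s := by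
  apply Finset.sup_le
  intro Q hQ
  rcases mem_chTau_cases hQ with h | h
  · exact ((hs.sup_mem.2 Q h).1).trans le_sup_left
  · rw [id, h]
    exact chW_le_chTp x s

/-- If all members of `s` contain the closure, the toggled subgroup is the closure. -/
theorem chW_eq_chY_of_forall (h : ∀ Q ∈ s, chY x s ≤ Q) : chW x s = chY x s := by
  classical
  apply sup_eq_right.mpr
  apply Finset.sup_le
  intro Q hQ
  rw [Finset.mem_filter] at hQ
  exact absurd (h Q hQ.1) hQ.2

theorem chW_singleton_zpowers (x : G) :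
    chW x ({Subgroup.zpowers x} : Finset (Subgroup G)) = Subgroup.zpowers x := by
  have h1 : chTp x ({Subgroup.zpowers x} : Finset (Subgroup G)) = Subgroup.zpowers x := by
    unfold chTp
    rw [Finset.sup_singleton, id, sup_idem]
  have h2 : chY x ({Subgroup.zpowers x} : Finset (Subgroup G)) = Subgroup.zpowers x := by
    apply le_antisymm
    · have := chY_le_chTp x ({Subgroup.zpowers x} : Finset (Subgroup G))
      rwa [h1] at this
    · exact zpowers_le_chY x _
  rw [chW_eq_chY_of_forall, h2]
  intro Q hQ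
  rw [Finset.mem_singleton] at hQ
  rw [hQ, h2]

theorem chTau_nonempty (hs : IsNChain p s) (hx : x ∈ chainStab s)
    (hne : s ≠ {Subgroup.zpowers x}) : (chTau x s).Nonempty := by
  classical
  by_contra hemp
  rw [Finset.not_nonempty_iff_eq_empty] at hemp
  have hall : ∀ Q ∈ s, Q = chW x s := by
    intro Q hQ
    by_contra hQW
    have : Q ∈ chTau x s := mem_chTau_iff.mpr (Or.inl ⟨hQ, hQW⟩)
    rw [hemp] at this
    exact absurd this (Finset.notMem_empty Q)
  have hWs : chW x s ∈ s := by
    obtain ⟨Q, hQ⟩ := hs.1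
    rw [← hall Q hQ]
    exact hQ
  have hT : s.sup id = chW x s :=
    le_antisymm (Finset.sup_le (fun Q hQ => (hall Q hQ).le)) (Finset.le_sup (f := id) hWs)
  have hWY : chW x s = chY x s := by
    apply chW_eq_chY_of_forall
    intro Q hQ
    rw [hall Q hQ]
    exact chY_le_chW x s
  have hXT : Subgroup.zpowers x ≤ s.sup id := by
    rw [hT, hWY]
    exact zpowers_le_chY x s
  have hTp : chTp x s = s.sup id := sup_eq_left.mpr hXT
  have hTY : s.sup id = nclX x (s.sup id) := by
    have h1 : chY x s = nclX x (chTp x s) := rfl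
    rw [hTp] at h1
    rw [← h1, ← hWY, ← hT]
  have hTpg : IsPGroup p (s.sup id : Subgroup G) := (hs.2.2.1 _ hs.sup_mem.1).2
  have hXeq : Subgroup.zpowers x = s.sup id :=
    eq_of_le_sup_nclX hTpg hXT (Subgroup.mem_zpowers x) (by
      calc s.sup id = nclX x (s.sup id) := hTY
        _ ≤ Subgroup.zpowers x ⊔ nclX x (s.sup id) := le_sup_right)
  apply hne
  ext Q
  rw [Finset.mem_singleton]
  constructor
  · intro hQ
    rw [hall Q hQ, hXeq, hT]
  · intro hQ
    rw [hQ, hXeq, hT]
    exact hWs

theorem chTp_chTau (hs : IsNChain p s) (hx : x ∈ chainStab s) :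
    chTp x (chTau x s) = chTp x s := by
  classical
  apply le_antisymm
  · exact sup_le (chTau_sup_le hs) (zpowers_le_chTp x s)
  · refine sup_le ?_ le_sup_right
    by_cases hW : chW x s ∈ s
    · by_cases hWT : chW x s = s.sup id
      · -- the top is erased
        have hXT : Subgroup.zpowers x ≤ s.sup id := by
          rw [← hWT]
          exact (zpowers_le_chY x s).trans (chY_le_chW x s)
        have hTp : chTp x s = s.sup id := sup_eq_left.mpr hXT
        have hTpg : IsPGroup p (s.sup id : Subgroup G) := (hs.2.2.1 _ hs.sup_mem.1).2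
        have hQm : chQm x s ≤ (chTau x s).sup id := by
          apply Finset.sup_le
          intro Q hQ
          rw [Finset.mem_filter] at hQ
          have hQW : Q ≠ chW x s := fun h => hQ.2 (h ▸ chY_le_chW x s)
          exact Finset.le_sup (f := id) (mem_chTau_iff.mpr (Or.inl ⟨hQ.1, hQW⟩))
        have hA : (chTau x s).sup id ⊔ Subgroup.zpowers x ≤ s.sup id := by
          have := sup_le (chTau_sup_le (x := x) hs) (zpowers_le_chTp x s)
          rwa [hTp] at this
        have hY : chY x s = nclX x (s.sup id) := by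
          have h1 : chY x s = nclX x (chTp x s) := rfl
          rw [hTp] at h1
          exact h1
        have key := eq_of_le_sup_nclX hTpg hA
          (le_sup_right (a := (chTau x s).sup id) (Subgroup.mem_zpowers x)) (by
          calc s.sup id = chQm x s ⊔ chY x s := hWT.symm
            _ ≤ ((chTau x s).sup id ⊔ Subgroup.zpowers x) ⊔ nclX x (s.sup id) := by
              rw [hY]
              exact sup_le_sup_right (hQm.trans le_sup_left) _)
        exact key.symm.le
      · have : s.sup id ∈ chTau x s :=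
          mem_chTau_iff.mpr (Or.inl ⟨hs.sup_mem.1, fun h => hWT h.symm⟩)
        exact (Finset.le_sup (f := id) this).trans le_sup_left
    · have hsub : s ⊆ chTau x s := by
        intro Q hQ
        exact mem_chTau_iff.mpr (Or.inl ⟨hQ, fun h => hW (h ▸ hQ)⟩)
      exact (Finset.sup_mono hsub).trans le_sup_left

theorem chY_chTau (hs : IsNChain p s) (hx : x ∈ chainStab s) :
    chY x (chTau x s) = chY x s := by
  unfold chY
  rw [chTp_chTau hs hx]

theorem chW_chTau (hs : IsNChain p s) (hx : x ∈ chainStab s) :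
    chW x (chTau x s) = chW x s := by
  classical
  have hY := chY_chTau hs hx
  have hQ : chQm x (chTau x s) = chQm x s := by
    unfold chQm
    rw [hY]
    congr 1
    ext Q
    rw [Finset.mem_filter, Finset.mem_filter, mem_chTau_iff]
    constructor
    · rintro ⟨h1 | h1, h2⟩
      · exact ⟨h1.1, h2⟩
      · exact absurd (h1.1 ▸ chY_le_chW x s) h2
    · rintro ⟨h1, h2⟩
      exact ⟨Or.inl ⟨h1, fun h => h2 (h ▸ chY_le_chW x s)⟩, h2⟩
  unfold chW
  rw [hQ, hY]

open Classical in
theorem chTau_of_mem {x : G} {s : Finset (Subgroup G)} (h : chW x s ∈ s) :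
    chTau x s = s.erase (chW x s) := by
  classical
  unfold chTau
  rw [if_pos h]

open Classical in
theorem chTau_of_not_mem {x : G} {s : Finset (Subgroup G)} (h : chW x s ∉ s) :
    chTau x s = insert (chW x s) s := by
  classical
  unfold chTau
  rw [if_neg h]

theorem chTau_chTau (hs : IsNChain p s) (hx : x ∈ chainStab s) :
    chTau x (chTau x s) = s := by
  classical
  have hW := chW_chTau hs hx
  by_cases h : chW x s ∈ s
  · have h1 : chTau x s = s.erase (chW x s) := chTau_of_mem h
    have h2 : chW x (chTau x s) ∉ chTau x s := by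
      rw [hW, h1]
      exact Finset.notMem_erase _ _
    rw [chTau_of_not_mem h2, hW, h1, Finset.insert_erase h]
  · have h1 : chTau x s = insert (chW x s) s := chTau_of_not_mem h
    have h2 : chW x (chTau x s) ∈ chTau x s := by
      rw [hW, h1]
      exact Finset.mem_insert_self _ _
    rw [chTau_of_mem h2, hW, h1, Finset.erase_insert h]

theorem chTau_ne_self : chTau x s ≠ s := by
  classical
  intro h
  by_cases hW : chW x s ∈ s
  · have h1 : chW x s ∉ chTau x s := by
      unfold chTau
      rw [if_pos hW]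
      exact Finset.notMem_erase _ _
    rw [h] at h1
    exact h1 hW
  · have h1 : chW x s ∈ chTau x s := by
      unfold chTau
      rw [if_neg hW]
      exact Finset.mem_insert_self _ _
    rw [h] at h1
    exact hW h1

theorem isNChain_chTau (hs : IsNChain p s) (hx : x ∈ chainStab s)
    (hxp : IsPGroup p (Subgroup.zpowers x)) (hx1 : x ≠ 1) (hne : s ≠ {Subgroup.zpowers x}) :
    IsNChain p (chTau x s) := by
  have hne' := chTau_nonempty hs hx hne
  have hch : ∀ Q ∈ chTau x s, ∀ R ∈ chTau x s, Q ≤ R ∨ R ≤ Q := by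
    intro Q hQ R hR
    rcases mem_chTau_cases hQ with h1 | h1 <;> rcases mem_chTau_cases hR with h2 | h2
    · exact hs.2.1 Q h1 R h2
    · rw [h2]
      exact chW_comparable hs Q h1
    · rw [h1]
      exact (chW_comparable hs R h2).symm
    · rw [h1, h2]
      exact Or.inl le_rfl
  refine ⟨hne', hch, ?_, (chTau x s).sup id, sup_mem_of_chain _ hne' hch, ?_⟩
  · intro Q hQ
    rcases mem_chTau_cases hQ with h1 | h1
    · exact hs.2.2.1 Q h1
    · rw [h1]
      refine ⟨?_, (isPGroup_chTp hs hx hxp).to_le (chW_le_chTp x s)⟩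
      intro hbot
      have := mem_chW_self x s
      rw [hbot, Subgroup.mem_bot] at this
      exact hx1 this
  · intro Q hQ
    refine ⟨Finset.le_sup (f := id) hQ, (chTau_sup_le hs).trans ?_⟩
    rcases mem_chTau_cases hQ with h1 | h1
    · exact chTp_le_normalizer hs hx Q h1
    · rw [h1]
      exact chTp_le_normalizer_chW hs hx

theorem mem_chainStab_chTau (hs : IsNChain p s) (hx : x ∈ chainStab s) :
    x ∈ chainStab (chTau x s) := by
  rw [mem_chainStab]
  intro Q hQ
  rcases mem_chTau_cases hQ with h1 | h1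
  · exact mem_chainStab.mp hx Q h1
  · rw [h1]
    exact chTp_le_normalizer_chW hs hx (mem_chTp_self x s)

theorem chTau_ne_singleton (hs : IsNChain p s) (hx : x ∈ chainStab s)
    (hne : s ≠ {Subgroup.zpowers x}) : chTau x s ≠ {Subgroup.zpowers x} := by
  classical
  intro h
  have hW : chW x s = Subgroup.zpowers x := by
    rw [← chW_chTau hs hx, h, chW_singleton_zpowers]
  by_cases hWs : chW x s ∈ s
  · have h1 : chW x s ∉ chTau x s := by
      unfold chTau
      rw [if_pos hWs]
      exact Finset.notMem_erase _ _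
    rw [h, hW] at h1
    exact h1 (Finset.mem_singleton_self _)
  · apply hne
    have h1 : s ⊆ chTau x s := by
      intro Q hQ
      exact mem_chTau_iff.mpr (Or.inl ⟨hQ, fun h => hWs (h ▸ hQ)⟩)
    rw [h] at h1
    exact (Finset.Nonempty.subset_singleton_iff hs.1).mp h1

theorem inf_chainStab_chTau (hs : IsNChain p s) (hx : x ∈ chainStab s) :
    Subgroup.centralizer ({x} : Set G) ⊓ chainStab (chTau x s)
      = Subgroup.centralizer ({x} : Set G) ⊓ chainStab s := by
  classical
  have hW := chW_chTau hs hx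
  ext g
  rw [Subgroup.mem_inf, Subgroup.mem_inf, mem_chainStab, mem_chainStab]
  constructor
  · rintro ⟨hc, h⟩
    refine ⟨hc, ?_⟩
    intro Q hQ
    by_cases hQW : Q = chW x s
    · rw [hQW, ← hW]
      exact mem_normalizer_chW hc (mem_chainStab.mpr h)
    · exact h Q (mem_chTau_iff.mpr (Or.inl ⟨hQ, hQW⟩))
  · rintro ⟨hc, h⟩
    refine ⟨hc, ?_⟩
    intro Q hQ
    rcases mem_chTau_cases hQ with h1 | h1
    · exact h Q h1
    · rw [h1]
      exact mem_normalizer_chW hc (mem_chainStab.mpr h)

theorem sign_chTau (hs : IsNChain p s) (hx : x ∈ chainStab s)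
    (hne : s ≠ {Subgroup.zpowers x}) :
    (-1 : ℤ) ^ ((chTau x s).card - 1) = -(-1 : ℤ) ^ (s.card - 1) := by
  classical
  have hne' := chTau_nonempty hs hx hne
  by_cases hW : chW x s ∈ s
  · have h1 : chTau x s = s.erase (chW x s) := by
      unfold chTau
      rw [if_pos hW]
    have h2 : (chTau x s).card = s.card - 1 := by
      rw [h1, Finset.card_erase_of_mem hW]
    have h3 : 0 < (chTau x s).card := Finset.card_pos.mpr hne'
    obtain ⟨n, hn⟩ : ∃ n, s.card = n + 2 := ⟨s.card - 2, by omega⟩
    rw [h2, hn]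
    have e1 : n + 2 - 1 - 1 = n := by omega
    have e2 : n + 2 - 1 = n + 1 := by omega
    rw [e1, e2, pow_succ]
    ring
  · have h1 : chTau x s = insert (chW x s) s := by
      unfold chTau
      rw [if_neg hW]
    have h2 : (chTau x s).card = s.card + 1 := by
      rw [h1, Finset.card_insert_of_notMem hW]
    have h3 : 0 < s.card := Finset.card_pos.mpr hs.1
    obtain ⟨n, hn⟩ : ∃ n, s.card = n + 1 := ⟨s.card - 1, by omega⟩
    rw [h2, hn]
    have e1 : n + 1 + 1 - 1 = n + 1 := by omega
    have e2 : n + 1 - 1 = n := by omega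
    rw [e1, e2, pow_succ]
    ring

/-- **The alternating sum over the normal chains stabilized by `x`** of a function of
`C_G(x) ∩ N_G(s)` is its value at `C_G(x)`. -/
theorem chain_sum_eq (hx1 : x ≠ 1) (hxp : IsPGroup p (Subgroup.zpowers x))
    (Φ : Subgroup G → ℤ) (S : Finset (Finset (Subgroup G)))
    (hS : ∀ s, s ∈ S ↔ IsNChain p s ∧ x ∈ chainStab s) :
    ∑ s ∈ S, (-1 : ℤ) ^ (s.card - 1) * Φ (Subgroup.centralizer ({x} : Set G) ⊓ chainStab s)
      = Φ (Subgroup.centralizer ({x} : Set G)) := by
  classical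
  have hXN : Subgroup.centralizer ({x} : Set G)
      ≤ Subgroup.normalizer ((Subgroup.zpowers x : Subgroup G) : Set G) := by
    have h2 : Subgroup.centralizer ((Subgroup.zpowers x : Subgroup G) : Set G)
        = Subgroup.centralizer ({x} : Set G) := by
      rw [Subgroup.zpowers_eq_closure, Subgroup.centralizer_closure]
    rw [← h2]
    exact Subgroup.centralizer_le_normalizer _
  have hstab0 : chainStab ({Subgroup.zpowers x} : Finset (Subgroup G))
      = Subgroup.normalizer ((Subgroup.zpowers x : Subgroup G) : Set G) := by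
    ext g
    rw [mem_chainStab]
    constructor
    · intro h
      exact h _ (Finset.mem_singleton_self _)
    · intro h Q hQ
      rw [Finset.mem_singleton] at hQ
      rw [hQ]
      exact h
  have hs0 : ({Subgroup.zpowers x} : Finset (Subgroup G)) ∈ S := by
    rw [hS]
    refine ⟨⟨Finset.singleton_nonempty _, ?_, ?_, Subgroup.zpowers x,
      Finset.mem_singleton_self _, ?_⟩, ?_⟩
    · intro Q hQ R hR
      rw [Finset.mem_singleton] at hQ hR
      rw [hQ, hR]
      exact Or.inl le_rfl
    · intro Q hQ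
      rw [Finset.mem_singleton] at hQ
      rw [hQ]
      refine ⟨?_, hxp⟩
      intro h
      rw [Subgroup.zpowers_eq_bot] at h
      exact hx1 h
    · intro Q hQ
      rw [Finset.mem_singleton] at hQ
      rw [hQ]
      exact ⟨le_rfl, Subgroup.le_normalizer⟩
    · rw [hstab0]
      exact Subgroup.le_normalizer (Subgroup.mem_zpowers x)
  rw [← Finset.add_sum_erase S _ hs0]
  have h0 : ∑ s ∈ S.erase {Subgroup.zpowers x},
      (-1 : ℤ) ^ (s.card - 1) * Φ (Subgroup.centralizer ({x} : Set G) ⊓ chainStab s) = 0 := by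
    apply Finset.sum_involution (fun s _ => chTau x s)
    · intro s hs
      rw [Finset.mem_erase, hS] at hs
      rw [inf_chainStab_chTau hs.2.1 hs.2.2, sign_chTau hs.2.1 hs.2.2 hs.1]
      ring
    · intro s _ _
      exact chTau_ne_self
    · intro s hs
      rw [Finset.mem_erase, hS] at hs
      rw [Finset.mem_erase, hS]
      exact ⟨chTau_ne_singleton hs.2.1 hs.2.2 hs.1,
        isNChain_chTau hs.2.1 hs.2.2 hxp hx1 hs.1, mem_chainStab_chTau hs.2.1 hs.2.2⟩
    · intro s hs
      rw [Finset.mem_erase, hS] at hs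
      exact chTau_chTau hs.2.1 hs.2.2
  rw [h0, add_zero, Finset.card_singleton, hstab0, inf_eq_left.mpr hXN]
  simp

end Facts

end ChainInv

end Cfsg.Agent.Lib.helper80
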