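import Mathlib

set_option autoImplicit false

namespace Cfsg.Agent.Lib.helper80

/-- PIECE C5 (pure linear algebra): a nontrivial complex linear relation among finitely many
integer vectors yields an integer relation whose coefficients are not all divisible by `p`. -/
theorem d1_int_relation_of_complex {J : Type*} (m : ℕ) (w : Fin (m + 1) → J → ℤ)
    (q : Fin (m + 1) → ℂ) (hq : q ≠ 0) (h : ∀ j, ∑ k, q k * (w k j : ℂ) = 0)
    (p : ℕ) [Fact p.Prime] :
    ∃ n : Fin (m + 1) → ℤ, (∃ k, ¬ (p : ℤ) ∣ n k) ∧ ∀ j, ∑ k, n k * w k j = 0 := by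
  classical
  have hp : p.Prime := Fact.out
  -- a coefficient which is not zero
  obtain ⟨k0, hk0⟩ : ∃ k0, q k0 ≠ 0 := by
    by_contra hcon
    push_neg at hcon
    exact hq (funext hcon)
  -- a rational functional not vanishing there
  obtain ⟨φ, hφ⟩ : ∃ φ : Module.Dual ℚ ℂ, φ (q k0) ≠ 0 := by
    by_contra hcon
    push_neg at hcon
    exact hk0 ((Module.forall_dual_apply_eq_zero_iff ℚ (q k0)).1 hcon)
  -- the rational relation
  have hr : ∀ j, ∑ k, φ (q k) * (w k j : ℚ) = 0 := by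
    intro j
    have h0 := congrArg φ (h j)
    rw [map_sum, map_zero] at h0
    rw [← h0]
    refine Finset.sum_congr rfl (fun k _ => ?_)
    have e : q k * (w k j : ℂ) = (w k j : ℚ) • q k := by
      rw [Algebra.smul_def, mul_comm]
      simp
    rw [e, map_smul, smul_eq_mul, mul_comm]
  -- clear the denominators
  obtain ⟨D, hD⟩ : ∃ D : ℤ, D = ∏ k, ((φ (q k)).den : ℤ) := ⟨_, rfl⟩
  have hD0 : D ≠ 0 := by
    rw [hD]
    exact Finset.prod_ne_zero_iff.2 (fun k _ => by exact_mod_cast (φ (q k)).den_nz)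
  obtain ⟨N, hN⟩ : ∃ N : Fin (m + 1) → ℤ, N = fun k =>
      (φ (q k)).num * ∏ k' ∈ Finset.univ.erase k, ((φ (q k')).den : ℤ) := ⟨_, rfl⟩
  have hNq : ∀ k, (N k : ℚ) = φ (q k) * (D : ℚ) := by
    intro k
    have hDk : D = ((φ (q k)).den : ℤ) * ∏ k' ∈ Finset.univ.erase k, ((φ (q k')).den : ℤ) := by
      rw [hD]
      exact (Finset.mul_prod_erase Finset.univ (fun k' => ((φ (q k')).den : ℤ))
        (Finset.mem_univ k)).symm
    rw [hN, hDk]
    push_cast
    have hden : ((φ (q k)).den : ℚ) ≠ 0 := by exact_mod_cast (φ (q k)).den_nz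
    have hnum : ((φ (q k)).num : ℚ) = φ (q k) * ((φ (q k)).den : ℚ) := by
      rw [Rat.mul_den_eq_num]
    rw [hnum]
    ring
  have hNrel : ∀ j, ∑ k, N k * w k j = 0 := by
    intro j
    have : ((∑ k, N k * w k j : ℤ) : ℚ) = 0 := by
      push_cast
      have e : ∑ k, (N k : ℚ) * (w k j : ℚ) = (D : ℚ) * ∑ k, φ (q k) * (w k j : ℚ) := by
        rw [Finset.mul_sum]
        refine Finset.sum_congr rfl (fun k _ => ?_)
        rw [hNq k]
        ring
      rw [e, hr j, mul_zero]
    exact_mod_cast this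
  have hN0 : N k0 ≠ 0 := by
    intro h0
    have h1 : (N k0 : ℚ) = 0 := by rw [h0]; simp
    rw [hNq k0] at h1
    rcases mul_eq_zero.1 h1 with h2 | h2
    · exact hφ h2
    · exact hD0 (by exact_mod_cast h2)
  -- extract the gcd
  obtain ⟨g, hg, hg1⟩ := Finset.extract_gcd N (Finset.univ_nonempty (α := Fin (m + 1)))
  have hd0 : (Finset.univ : Finset (Fin (m + 1))).gcd N ≠ 0 := by
    intro h0
    exact hN0 ((Finset.gcd_eq_zero_iff.1 h0) k0 (Finset.mem_univ k0))
  refine ⟨g, ?_, ?_⟩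
  · by_contra hcon
    push_neg at hcon
    have hdvd : (p : ℤ) ∣ (Finset.univ : Finset (Fin (m + 1))).gcd g :=
      Finset.dvd_gcd (fun k _ => hcon k)
    rw [hg1] at hdvd
    have h2 : (p : ℤ) ∣ 1 := hdvd
    have h3 : p ∣ 1 := by exact_mod_cast h2
    exact hp.one_lt.ne' (Nat.dvd_one.1 h3)
  · intro j
    have e : (Finset.univ : Finset (Fin (m + 1))).gcd N * ∑ k, g k * w k j = 0 := by
      rw [Finset.mul_sum, ← hNrel j]
      refine Finset.sum_congr rfl (fun k _ => ?_)
      rw [hg k (Finset.mem_univ k)]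
      ring
    rcases mul_eq_zero.1 e with h0 | h0
    · exact absurd h0 hd0
    · exact h0

end Cfsg.Agent.Lib.helper80
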