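import Cfsg.Agent.Lib.helper80.D1C6Aux
import Cfsg.Agent.Lib.helper17.D1C3
import Cfsg.Agent.Lib.helper4.D1C4

set_option autoImplicit false

namespace Cfsg.Agent.Lib.helper80

open Cfsg Cfsg.Agent.Lib.helper84

variable {G : Type*} [Group G] [Fintype G]

/-- PIECE C6 (generic identity). -/
theorem d1_generic_PI (p : ℕ) [Fact p.Prime] (S : Finset (IrrCharacter G)) (hS : d1GalStable S)
    (δ : d1L S →ₗ[ℤ] d1L S) (hδ : ∀ g : G, δ ∘ₗ d1Rho S g = d1Rho S g ∘ₗ δ) :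
    ∃ q : Polynomial ℤ, q.natDegree ≤ ∑ χ ∈ S, Cfsg.charDegree (χ : G → ℂ) ∧
      (∃ k, ¬ (p : ℤ) ∣ q.coeff k) ∧ Polynomial.aeval δ q = 0 :=
  d1_generic_PI_aux p S δ (Cfsg.Agent.Lib.helper4.d1_end_is_right_mul S hS δ hδ)
    (fun a ha b hb => Cfsg.Agent.Lib.helper17.d1_mul_eq_zero_of_rep_zero' S hS a ha b hb)

end Cfsg.Agent.Lib.helper80
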