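import Cfsg.Agent.Lib.helper84.Def1Defs
import Cfsg.Agent.Lib.helper80.D1C5

set_option autoImplicit false

namespace Cfsg.Agent.Lib.helper80

open Cfsg Cfsg.Agent.Lib.helper84

variable {G : Type*} [Group G] [Fintype G]

/-- the coefficients of `d1Iota x`. -/
theorem d1Iota_coeff (x : MonoidAlgebra ℤ G) (g : G) :
    (d1Iota x).coeff g = ((x.coeff g : ℤ) : ℂ) := rfl

/-- the degree of an irreducible character is the dimension of a representation affording it. -/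
theorem d1_charDegree_eq (χ : IrrCharacter G) (n : ℕ) (ρ : Representation ℂ G (Fin n → ℂ))
    (hρ : ρ.character = (χ : G → ℂ)) : Cfsg.charDegree (χ : G → ℂ) = n := by
  unfold Cfsg.charDegree
  rw [← hρ, Representation.char_one]
  simp

/-- PIECE C6 with the conclusions of C4 and C3' as explicit hypotheses. -/
theorem d1_generic_PI_aux (p : ℕ) [Fact p.Prime] (S : Finset (IrrCharacter G))
    (δ : d1L S →ₗ[ℤ] d1L S)
    (hC4 : ∃ u : MonoidAlgebra ℤ G, ∀ (k : ℕ) (a : d1L S),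
      (Fintype.card G : ℤ) ^ k • (((δ ^ k) a : d1L S) : MonoidAlgebra ℤ G)
        = (a : MonoidAlgebra ℤ G) * u ^ k)
    (hC3 : ∀ (a : MonoidAlgebra ℤ G), a ∈ d1L S → ∀ (b : MonoidAlgebra ℂ G),
      (∀ χ ∈ S, ∃ (n : ℕ) (ρ : Representation ℂ G (Fin n → ℂ)),
        ρ.IsIrreducible ∧ ρ.character = (χ : G → ℂ) ∧ ρ.asAlgebraHom b = 0) →
      d1Iota a * b = 0) :
    ∃ q : Polynomial ℤ, q.natDegree ≤ ∑ χ ∈ S, Cfsg.charDegree (χ : G → ℂ) ∧
      (∃ k, ¬ (p : ℤ) ∣ q.coeff k) ∧ Polynomial.aeval δ q = 0 := by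
  classical
  obtain ⟨u, hu⟩ := hC4
  have hG0 : (Fintype.card G : ℂ) ≠ 0 := by
    exact_mod_cast Fintype.card_ne_zero
  obtain ⟨z, hz⟩ : ∃ z : MonoidAlgebra ℂ G, z = (Fintype.card G : ℂ)⁻¹ • d1Iota u := ⟨_, rfl⟩
  -- ι(δ^k a) = ιa * z^k
  have hA : ∀ (k : ℕ) (a : d1L S),
      d1Iota (((δ ^ k) a : d1L S) : MonoidAlgebra ℤ G) = d1Iota (a : MonoidAlgebra ℤ G) * z ^ k := by
    intro k a
    have h1 := congrArg d1Iota (hu k a)
    rw [map_zsmul, map_mul, map_pow] at h1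
    rw [hz, smul_pow, mul_smul_comm, ← h1, ← Int.cast_smul_eq_zsmul ℂ, smul_smul]
    push_cast
    rw [← mul_pow, inv_mul_cancel₀ hG0, one_pow, one_smul]
  -- representations affording the characters
  choose n ρ hirr hchar using fun χ : IrrCharacter G => χ.2
  obtain ⟨Q, hQ⟩ : ∃ Q : Polynomial ℂ,
      Q = ∏ χ ∈ S, LinearMap.charpoly ((ρ χ).asAlgebraHom z) := ⟨_, rfl⟩
  have hQmonic : Q.Monic := by
    rw [hQ]
    exact Polynomial.monic_prod_of_monic _ _ (fun χ _ => LinearMap.charpoly_monic _)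
  have hQdeg : Q.natDegree = ∑ χ ∈ S, Cfsg.charDegree (χ : G → ℂ) := by
    rw [hQ, Polynomial.natDegree_prod_of_monic _ _ (fun χ _ => LinearMap.charpoly_monic _)]
    refine Finset.sum_congr rfl (fun χ _ => ?_)
    rw [LinearMap.charpoly_natDegree, d1_charDegree_eq χ (n χ) (ρ χ) (hchar χ)]
    simp
  obtain ⟨m, hm⟩ : ∃ m : ℕ, m = Q.natDegree := ⟨_, rfl⟩
  obtain ⟨b, hb⟩ : ∃ b : MonoidAlgebra ℂ G, b = Polynomial.aeval z Q := ⟨_, rfl⟩
  have hbz : ∀ χ ∈ S, (ρ χ).asAlgebraHom b = 0 := by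
    intro χ hχ
    rw [hb, ← Polynomial.aeval_algHom_apply, hQ, ← Finset.mul_prod_erase S _ hχ, map_mul,
      LinearMap.aeval_self_charpoly, zero_mul]
  have hkill : ∀ a : d1L S, d1Iota (a : MonoidAlgebra ℤ G) * b = 0 := by
    intro a
    exact hC3 a a.2 b (fun χ hχ => ⟨n χ, ρ χ, hirr χ, hchar χ, hbz χ hχ⟩)
  have hsum : ∀ a : d1L S, ∑ k ∈ Finset.range (m + 1),
      Q.coeff k • d1Iota (((δ ^ k) a : d1L S) : MonoidAlgebra ℤ G) = 0 := by
    intro a
    have h1 := hkill a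
    rw [hb, Polynomial.aeval_eq_sum_range, ← hm, Finset.mul_sum] at h1
    rw [← h1]
    refine Finset.sum_congr rfl (fun k _ => ?_)
    rw [hA k a, mul_smul_comm]
  -- apply C5
  obtain ⟨w, hw⟩ : ∃ w : Fin (m + 1) → (d1L S × G) → ℤ, w = fun (k : Fin (m + 1)) (aj : d1L S × G) =>
      ((((δ ^ (k : ℕ)) aj.1 : d1L S) : MonoidAlgebra ℤ G)).coeff aj.2 := ⟨_, rfl⟩
  obtain ⟨qc, hqc⟩ : ∃ qc : Fin (m + 1) → ℂ, qc = fun (k : Fin (m + 1)) => Q.coeff (k : ℕ) := ⟨_, rfl⟩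
  have hqc0 : qc ≠ 0 := by
    intro h0
    have h1 : qc ⟨m, Nat.lt_succ_self m⟩ = 0 := by rw [h0]; rfl
    rw [hqc] at h1
    have h2 : Q.coeff m = 1 := by
      rw [hm]
      exact hQmonic.coeff_natDegree
    simp only at h1
    rw [h2] at h1
    exact one_ne_zero h1
  have hrel : ∀ j : d1L S × G, ∑ k, qc k * (w k j : ℂ) = 0 := by
    rintro ⟨a, g⟩
    have h1 := congrArg (fun x : MonoidAlgebra ℂ G => x.coeff g) (hsum a)
    simp only [MonoidAlgebra.coeff_sum, MonoidAlgebra.coeff_smul, Finsupp.coe_finsetSum,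
      Finset.sum_apply, Finsupp.smul_apply, smul_eq_mul, MonoidAlgebra.coeff_zero,
      Finsupp.coe_zero, Pi.zero_apply, d1Iota_coeff] at h1
    rw [hqc, hw]
    rw [← h1]
    exact Fin.sum_univ_eq_sum_range
      (fun k => Q.coeff k * ((((((δ ^ k) a : d1L S) : MonoidAlgebra ℤ G)).coeff g : ℤ) : ℂ)) (m + 1)
  obtain ⟨nn, ⟨k0, hk0⟩, hnn⟩ := d1_int_relation_of_complex m w qc hqc0 hrel p
  refine ⟨∑ k : Fin (m + 1), Polynomial.monomial (k : ℕ) (nn k), ?_, ⟨(k0 : ℕ), ?_⟩, ?_⟩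
  · rw [← hQdeg, ← hm]
    refine Polynomial.natDegree_sum_le_of_forall_le _ _ (fun k _ => ?_)
    exact (Polynomial.natDegree_monomial_le _).trans (Nat.lt_succ_iff.1 k.2)
  · have e : (∑ k : Fin (m + 1), Polynomial.monomial (k : ℕ) (nn k)).coeff (k0 : ℕ) = nn k0 := by
      rw [Polynomial.finsetSum_coeff]
      rw [Finset.sum_eq_single k0]
      · simp
      · intro k _ hk
        rw [Polynomial.coeff_monomial, if_neg]
        intro h
        exact hk (Fin.ext h)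
      · intro h
        exact absurd (Finset.mem_univ k0) h
    rw [e]
    exact hk0
  · rw [map_sum]
    refine LinearMap.ext (fun a => Subtype.ext ?_)
    apply MonoidAlgebra.ext
    ext g
    have h1 := hnn (a, g)
    rw [hw] at h1
    have e : ∀ k : Fin (m + 1),
        Polynomial.aeval δ (Polynomial.monomial (k : ℕ) (nn k)) = nn k • δ ^ (k : ℕ) := by
      intro k
      rw [Polynomial.aeval_monomial, ← Algebra.smul_def]
    rw [Finset.sum_congr rfl (fun k _ => e k)]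
    simp only [LinearMap.sum_apply, LinearMap.smul_apply, Submodule.coe_sum, Submodule.coe_smul,
      MonoidAlgebra.coeff_sum, MonoidAlgebra.coeff_smul, Finsupp.coe_finsetSum, Finset.sum_apply,
      Finsupp.smul_apply, smul_eq_mul, LinearMap.zero_apply, Submodule.coe_zero,
      MonoidAlgebra.coeff_zero, Finsupp.coe_zero, Pi.zero_apply]
    exact h1

end Cfsg.Agent.Lib.helper80
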