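import Mathlib

set_option autoImplicit false

namespace Cfsg.Agent.Lib.helper80

/-- PIECE C7a (abstract trace / rank lemma): a quasi-idempotent `π` of a `ℤ`-lattice with image
inside `F` and acting as `m` on `F` has trace `m * rank F`. -/
theorem d1_finrank_of_quasi_idempotent {Λ : Type*} [AddCommGroup Λ] [Module.Free ℤ Λ]
    [Module.Finite ℤ Λ] (π : Λ →ₗ[ℤ] Λ) (m : ℤ) (hm : m ≠ 0) (hπ : π ∘ₗ π = m • π)
    (F : Submodule ℤ Λ) (h1 : LinearMap.range π ≤ F) (h2 : ∀ v ∈ F, π v = m • v) :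
    m * (Module.finrank ℤ F : ℤ) = LinearMap.trace ℤ Λ π := by
  let j : Λ →ₗ[ℤ] F := π.codRestrict F (fun v => h1 (LinearMap.mem_range_self π v))
  have e1 : F.subtype ∘ₗ j = π := by
    ext v
    rfl
  have e2 : j ∘ₗ F.subtype = m • (LinearMap.id : F →ₗ[ℤ] F) := by
    ext v
    simp only [LinearMap.coe_comp, Function.comp_apply, Submodule.subtype_apply,
      LinearMap.smul_apply, LinearMap.id_coe, id_eq, Submodule.coe_smul]
    exact h2 v v.2
  have h := LinearMap.trace_comp_comm' (R := ℤ) j F.subtype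
  rw [e1, e2, map_smul, LinearMap.trace_id] at h
  rw [h]
  simp

end Cfsg.Agent.Lib.helper80
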