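import Cfsg.Agent.Lib.helper80.D1C7bAux
import Cfsg.Agent.Lib.helper17.D1C3

set_option autoImplicit false

namespace Cfsg.Agent.Lib.helper80

open Cfsg Cfsg.Agent.Lib.helper84

variable {G : Type*} [Group G] [Fintype G]

/-- PIECE C7b (rank of fixed points). -/
theorem d1_finrank_fix (S : Finset (IrrCharacter G)) (hS : d1GalStable S) (H : Subgroup G) :
    (Nat.card H : ℤ) * (Module.finrank ℤ (d1Fix (d1Rho S) H) : ℤ)
      = ∑ h : G, Set.indicator (H : Set G) (fun h => d1Eps S h) h :=
  d1_finrank_fix_aux S (Cfsg.Agent.Lib.helper17.d1E_mem S hS) H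

end Cfsg.Agent.Lib.helper80
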