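import Cfsg.Agent.Lib.helper84.Def1Defs

set_option autoImplicit false

namespace Cfsg.Agent.Lib.helper80

open Cfsg Cfsg.Agent.Lib.helper84

variable {G : Type*} [Group G] [Fintype G]

/-- the coefficients of `d1E S`. -/
theorem d1E_coeff (S : Finset (IrrCharacter G)) (x : G) : (d1E S).coeff x = d1Eps S x := by
  classical
  unfold d1E
  rw [MonoidAlgebra.coeff_sum, Finset.sum_apply']
  simp only [MonoidAlgebra.coeff_single]
  rw [Finset.sum_eq_single x]
  · simp
  · intro b _ hb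
    simp [hb]
  · intro hx
    exact absurd (Finset.mem_univ x) hx

/-- `d1Eps S` is a class function. -/
theorem d1Eps_conj (S : Finset (IrrCharacter G)) (g h : G) :
    d1Eps S (g⁻¹ * (h * g)) = d1Eps S h := by
  unfold d1Eps
  have e : ∀ χ ∈ S, (χ : G → ℂ) 1 * (χ : G → ℂ) (g⁻¹ * (h * g))⁻¹
      = (χ : G → ℂ) 1 * (χ : G → ℂ) h⁻¹ := by
    intro χ _
    obtain ⟨n, ρ, -, hρ⟩ := χ.2
    have h1 : (g⁻¹ * (h * g))⁻¹ = g⁻¹ * h⁻¹ * g⁻¹⁻¹ := by group
    rw [h1, ← hρ, Representation.char_conj]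
  rw [Finset.sum_congr rfl e]

/-- a variant of the trace lemma C7a without the superfluous hypotheses. -/
theorem d1_trace_of_factor {Λ : Type*} [AddCommGroup Λ] [Module.Free ℤ Λ]
    [Module.Finite ℤ Λ] (π : Λ →ₗ[ℤ] Λ) (m : ℤ)
    (F : Submodule ℤ Λ) (h1 : LinearMap.range π ≤ F) (h2 : ∀ v ∈ F, π v = m • v) :
    m * (Module.finrank ℤ F : ℤ) = LinearMap.trace ℤ Λ π := by
  let j : Λ →ₗ[ℤ] F := π.codRestrict F (fun v => h1 (LinearMap.mem_range_self π v))
  have e1 : F.subtype ∘ₗ j = π := by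
    ext v
    rfl
  have e2 : j ∘ₗ F.subtype = m • (LinearMap.id : F →ₗ[ℤ] F) := by
    ext v
    simp only [LinearMap.coe_comp, Function.comp_apply, Submodule.subtype_apply,
      LinearMap.smul_apply, LinearMap.id_coe, id_eq, Submodule.coe_smul]
    exact h2 v v.2
  have h := LinearMap.trace_comp_comm' (R := ℤ) j F.subtype
  rw [e1, e2, map_smul, LinearMap.trace_id] at h
  rw [h]
  simp

/-- the trace of left multiplication by `h` on the lattice `d1L S`. -/
theorem d1_trace_d1Rho (S : Finset (IrrCharacter G)) (hE : d1E S ∈ d1L S) (h : G) :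
    LinearMap.trace ℤ (d1L S) (d1Rho S h) = d1Eps S h⁻¹ := by
  classical
  have hfree : Module.Free ℤ (MonoidAlgebra ℤ G) := Module.Free.of_basis (MonoidAlgebra.basis G ℤ)
  have hfin : Module.Finite ℤ (MonoidAlgebra ℤ G) := Module.Finite.of_basis (MonoidAlgebra.basis G ℤ)
  have hEE : d1E S * d1E S = (Fintype.card G : ℤ) • d1E S := (mem_d1L S _).1 hE
  let j : MonoidAlgebra ℤ G →ₗ[ℤ] d1L S :=
    (LinearMap.mulRight ℤ (d1E S)).codRestrict (d1L S) (fun a => by
      rw [mem_d1L, LinearMap.mulRight_apply, mul_assoc, hEE, mul_smul_comm])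
  let T : MonoidAlgebra ℤ G →ₗ[ℤ] MonoidAlgebra ℤ G :=
    (d1L S).subtype ∘ₗ (d1Rho S h ∘ₗ j)
  have hT : ∀ a : MonoidAlgebra ℤ G, T a = MonoidAlgebra.of ℤ G h * (a * d1E S) := fun a => rfl
  have e2 : (d1Rho S h ∘ₗ j) ∘ₗ (d1L S).subtype = (Fintype.card G : ℤ) • d1Rho S h := by
    refine LinearMap.ext (fun v => Subtype.ext ?_)
    have hv := (mem_d1L S _).1 v.2
    show MonoidAlgebra.of ℤ G h * ((v : MonoidAlgebra ℤ G) * d1E S)
      = (((Fintype.card G : ℤ) • d1Rho S h) v : d1L S)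
    rw [hv, LinearMap.smul_apply, Submodule.coe_smul, d1Rho_apply, mul_smul_comm]
  have hcomm := LinearMap.trace_comp_comm' (R := ℤ) (d1Rho S h ∘ₗ j) (d1L S).subtype
  rw [e2, map_smul] at hcomm
  -- the trace of T in the standard basis
  have htr : LinearMap.trace ℤ (MonoidAlgebra ℤ G) T = (Fintype.card G : ℤ) * d1Eps S h⁻¹ := by
    rw [LinearMap.trace_eq_matrix_trace ℤ (MonoidAlgebra.basis G ℤ), Matrix.trace]
    have e : ∀ g : G, Matrix.diag (LinearMap.toMatrix (MonoidAlgebra.basis G ℤ)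
        (MonoidAlgebra.basis G ℤ) T) g = d1Eps S h⁻¹ := by
      intro g
      rw [Matrix.diag_apply, LinearMap.toMatrix_apply, MonoidAlgebra.basis_apply, hT]
      show (MonoidAlgebra.of ℤ G h * (MonoidAlgebra.single g 1 * d1E S)).coeff g = _
      rw [MonoidAlgebra.of_apply, MonoidAlgebra.coeff_single_mul_apply,
        MonoidAlgebra.coeff_single_mul_apply, one_mul, one_mul, d1E_coeff, d1Eps_conj]
    rw [Finset.sum_congr rfl (fun g _ => e g), Finset.sum_const, Finset.card_univ, nsmul_eq_mul]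
  have h3 : (Fintype.card G : ℤ) * LinearMap.trace ℤ (d1L S) (d1Rho S h)
      = (Fintype.card G : ℤ) * d1Eps S h⁻¹ := by
    rw [← htr, ← smul_eq_mul, ← hcomm]
  have hG0 : (Fintype.card G : ℤ) ≠ 0 := by
    exact_mod_cast Fintype.card_ne_zero
  exact mul_left_cancel₀ hG0 h3

/-- PIECE C7b with `d1E_mem` (C3) as an explicit hypothesis. -/
theorem d1_finrank_fix_aux (S : Finset (IrrCharacter G)) (hE : d1E S ∈ d1L S) (H : Subgroup G) :
    (Nat.card H : ℤ) * (Module.finrank ℤ (d1Fix (d1Rho S) H) : ℤ)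
      = ∑ h : G, Set.indicator (H : Set G) (fun h => d1Eps S h) h := by
  classical
  have hfree : Module.Free ℤ (MonoidAlgebra ℤ G) := Module.Free.of_basis (MonoidAlgebra.basis G ℤ)
  have hfin : Module.Finite ℤ (MonoidAlgebra ℤ G) := Module.Finite.of_basis (MonoidAlgebra.basis G ℤ)
  have : Fintype H := Fintype.ofFinite H
  obtain ⟨π, hπ⟩ : ∃ π : d1L S →ₗ[ℤ] d1L S, π = ∑ h : H, d1Rho S (h : G) := ⟨_, rfl⟩
  have hπv : ∀ v : d1L S, π v = ∑ h : H, d1Rho S (h : G) v := by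
    intro v
    rw [hπ, LinearMap.sum_apply]
  have h1 : LinearMap.range π ≤ d1Fix (d1Rho S) H := by
    rintro _ ⟨v, rfl⟩
    intro g hg
    rw [hπv, map_sum]
    have e : ∀ h : H, d1Rho S g (d1Rho S (h : G) v)
        = d1Rho S ((Equiv.mulLeft (⟨g, hg⟩ : H) h : H) : G) v := by
      intro h
      rw [Equiv.coe_mulLeft, Subgroup.coe_mul, map_mul]
      rfl
    rw [Finset.sum_congr rfl (fun h _ => e h)]
    exact Fintype.sum_equiv (Equiv.mulLeft (⟨g, hg⟩ : H)) _ _ (fun h => rfl)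
  have h2 : ∀ v ∈ d1Fix (d1Rho S) H, π v = (Nat.card H : ℤ) • v := by
    intro v hv
    rw [hπv]
    have e : ∀ h : H, d1Rho S (h : G) v = v := fun h => hv h h.2
    rw [Finset.sum_congr rfl (fun h _ => e h), Finset.sum_const, Finset.card_univ,
      Nat.card_eq_fintype_card, natCast_zsmul]
  have h3 := d1_trace_of_factor π (Nat.card H : ℤ) (d1Fix (d1Rho S) H) h1 h2
  rw [h3, hπ, map_sum]
  have e : ∀ h : H, LinearMap.trace ℤ (d1L S) (d1Rho S (h : G)) = d1Eps S ((h⁻¹ : H) : G) := by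
    intro h
    rw [d1_trace_d1Rho S hE]
    rfl
  rw [Finset.sum_congr rfl (fun h _ => e h)]
  have e2 : ∑ h : H, d1Eps S ((h⁻¹ : H) : G) = ∑ h : H, d1Eps S (h : G) :=
    Fintype.sum_equiv (Equiv.inv H) _ _ (fun h => rfl)
  rw [e2]
  have e3 : ∑ h : H, d1Eps S (h : G) = ∑ h ∈ Finset.univ.filter (fun h : G => h ∈ H), d1Eps S h :=
    (Finset.sum_subtype (Finset.univ.filter (fun h : G => h ∈ H)) (by simp) (fun h => d1Eps S h)).symm
  rw [e3, Finset.sum_filter]
  refine Finset.sum_congr rfl (fun h _ => ?_)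
  by_cases hh : h ∈ H
  · rw [if_pos hh, Set.indicator_of_mem (by exact hh)]
  · rw [if_neg hh, Set.indicator_of_notMem (by exact hh)]

end Cfsg.Agent.Lib.helper80
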