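import Mathlib
import Cfsg.Prelude.Def_Classical
import Cfsg.Prelude.Def_GeometricClasses

/-! S5977/S5978 block [B] (architect helper96): core of piece GOODAP (`fe_good_a_plus`),
with the conclusions of AGL and AKER as hypotheses.  All declarations are prefixed `h80_`. -/

set_option autoImplicit false

namespace Cfsg.Agent.Lib.helper96.FE

open Polynomial Matrix

section
variable {F : Type*} [Field F]

/-- the block-diagonal embedding as an algebra hom -/
def h80_blk (m n : Type) [Fintype m] [Fintype n] [DecidableEq m] [DecidableEq n] :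
    (Matrix m m F × Matrix n n F) →ₐ[F] Matrix (m ⊕ n) (m ⊕ n) F where
  toFun p := Matrix.fromBlocks p.1 0 0 p.2
  map_one' := Matrix.fromBlocks_one
  map_mul' p q := by
    simp [Matrix.fromBlocks_multiply]
  map_zero' := Matrix.fromBlocks_zero
  map_add' p q := by
    simp [Matrix.fromBlocks_add]
  commutes' r := by
    ext a b
    rcases a with a | a <;> rcases b with b | b <;>
      simp [Matrix.algebraMap_matrix_apply]

theorem h80_blk_apply (m n : Type) [Fintype m] [Fintype n] [DecidableEq m] [DecidableEq n]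
    (P : Matrix m m F) (Q : Matrix n n F) :
    h80_blk m n (P, Q) = Matrix.fromBlocks P 0 0 Q := rfl

theorem h80_aeval_blk (m n : Type) [Fintype m] [Fintype n] [DecidableEq m] [DecidableEq n]
    (P : Matrix m m F) (Q : Matrix n n F) (f : F[X]) :
    aeval (h80_blk m n (P, Q)) f = h80_blk m n (aeval P f, aeval Q f) := by
  rw [Polynomial.aeval_algHom_apply, Polynomial.aeval_prod_apply]

/-- the equivalence `Fin i ⊕ Fin (d - i) ≃ Fin d` -/
def h80_e (i d : ℕ) (h : i ≤ d) : Fin i ⊕ Fin (d - i) ≃ Fin d :=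
  finSumFinEquiv.trans (finCongr (by omega))

/-- `B ↦ B ⊕ C` inside `d × d` matrices -/
def h80_theta (i d : ℕ) (h : i ≤ d) :
    (Matrix (Fin i) (Fin i) F × Matrix (Fin (d - i)) (Fin (d - i)) F) →ₐ[F]
      Matrix (Fin d) (Fin d) F :=
  ((Matrix.reindexAlgEquiv F F (h80_e i d h)) : _ →ₐ[F] _).comp (h80_blk (Fin i) (Fin (d - i)))

theorem h80_theta_apply (i d : ℕ) (h : i ≤ d) (B : Matrix (Fin i) (Fin i) F)
    (C : Matrix (Fin (d - i)) (Fin (d - i)) F) :
    h80_theta i d h (B, C) =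
      Matrix.reindex (h80_e i d h) (h80_e i d h) (Matrix.fromBlocks B 0 0 C) := rfl

theorem h80_theta_transpose (i d : ℕ) (h : i ≤ d) (B : Matrix (Fin i) (Fin i) F) :
    (h80_theta i d h (B, 1)).transpose = h80_theta i d h (B.transpose, 1) := by
  rw [h80_theta_apply, h80_theta_apply, Matrix.transpose_reindex, Matrix.fromBlocks_transpose,
    Matrix.transpose_zero, Matrix.transpose_zero, Matrix.transpose_one]

theorem h80_aeval_theta (i d : ℕ) (h : i ≤ d) (B : Matrix (Fin i) (Fin i) F) (f : F[X]) :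
    aeval (h80_theta i d h (B, 1)) f =
      h80_theta i d h (aeval B f, algebraMap F _ (f.eval 1)) := by
  rw [Polynomial.aeval_algHom_apply, Polynomial.aeval_prod_apply]
  have h1 : aeval (1 : Matrix (Fin (d - i)) (Fin (d - i)) F) f = algebraMap F _ (f.eval 1) := by
    have := Polynomial.aeval_algebraMap_apply_eq_algebraMap_eval
      (A := Matrix (Fin (d - i)) (Fin (d - i)) F) (1 : F) f
    rwa [map_one] at this
  rw [h1]

theorem h80_plus_isom (d : ℕ) (M N : Matrix (Fin d) (Fin d) F) (h : N.transpose * M = 1)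
    (u : Fin d ⊕ Fin d → F) :
    Cfsg.quadFormPlus d F (Matrix.fromBlocks M 0 0 N *ᵥ u) = Cfsg.quadFormPlus d F u := by
  have hu : u = Sum.elim (u ∘ Sum.inl) (u ∘ Sum.inr) := (Sum.elim_comp_inl_inr u).symm
  unfold Cfsg.quadFormPlus
  rw [hu, Matrix.fromBlocks_mulVec]
  simp only [Sum.elim_inl, Sum.elim_inr, Matrix.zero_mulVec, add_zero, zero_add]
  have key : (M *ᵥ (u ∘ Sum.inl)) ⬝ᵥ (N *ᵥ (u ∘ Sum.inr)) = (u ∘ Sum.inl) ⬝ᵥ (u ∘ Sum.inr) := by
    calc (M *ᵥ (u ∘ Sum.inl)) ⬝ᵥ (N *ᵥ (u ∘ Sum.inr))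
        = (N *ᵥ (u ∘ Sum.inr)) ⬝ᵥ (M *ᵥ (u ∘ Sum.inl)) := dotProduct_comm _ _
      _ = ((u ∘ Sum.inr) ᵥ* N.transpose) ⬝ᵥ (M *ᵥ (u ∘ Sum.inl)) := by
          rw [Matrix.vecMul_transpose]
      _ = (u ∘ Sum.inr) ⬝ᵥ (N.transpose *ᵥ (M *ᵥ (u ∘ Sum.inl))) :=
          (Matrix.dotProduct_mulVec _ _ _).symm
      _ = (u ∘ Sum.inr) ⬝ᵥ (u ∘ Sum.inl) := by
          rw [Matrix.mulVec_mulVec, h, Matrix.one_mulVec]
      _ = (u ∘ Sum.inl) ⬝ᵥ (u ∘ Sum.inr) := dotProduct_comm _ _
  exact key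

theorem h80_rank_blk [DecidableEq F] (i d : ℕ) (h : i ≤ d) (c : F) (hc : c ≠ 0) :
    (h80_blk (Fin d) (Fin d) (h80_theta i d h ((0 : Matrix (Fin i) (Fin i) F),
      algebraMap F (Matrix (Fin (d - i)) (Fin (d - i)) F) c), (1 : Matrix (Fin d) (Fin d) F))).rank =
      (d - i) + d := by
  have h1 : h80_blk (Fin d) (Fin d) (h80_theta i d h ((0 : Matrix (Fin i) (Fin i) F),
      algebraMap F (Matrix (Fin (d - i)) (Fin (d - i)) F) c), (1 : Matrix (Fin d) (Fin d) F)) =
      Matrix.reindex (Equiv.sumCongr (h80_e i d h) (Equiv.refl (Fin d)))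
        (Equiv.sumCongr (h80_e i d h) (Equiv.refl (Fin d)))
        (Matrix.diagonal (Sum.elim (Sum.elim (fun _ : Fin i => (0 : F))
          (fun _ : Fin (d - i) => c)) (fun _ : Fin d => (1 : F)))) := by
    ext a b
    rcases a with a | a <;> rcases b with b | b
    · rw [h80_blk_apply, Matrix.fromBlocks_apply₁₁, h80_theta_apply]
      simp only [Matrix.reindex_apply, Matrix.submatrix_apply, Equiv.sumCongr_symm,
        Equiv.sumCongr_apply, Sum.map_inl]
      generalize (h80_e i d h).symm a = s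
      generalize (h80_e i d h).symm b = t
      rcases s with s | s <;> rcases t with t | t <;>
        simp [Matrix.diagonal_apply, Matrix.algebraMap_matrix_apply]
    · simp [h80_blk_apply, Matrix.diagonal_apply]
    · simp [h80_blk_apply, Matrix.diagonal_apply]
    · simp [h80_blk_apply, Matrix.diagonal_apply, Matrix.one_apply]
  rw [h1, Matrix.rank_reindex, Matrix.rank_diagonal, Fintype.card_subtype, Finset.card_filter,
    Fintype.sum_sum_type, Fintype.sum_sum_type]
  simp [hc]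

end

/-- core of GOODAP: AGL and AKER as hypotheses -/
theorem h80_fe_good_a_plus_core {F : Type*} [Field F] [Fintype F] (d : ℕ) (r i : ℕ)
    (hi : Odd i) (hid : i ≤ d) (A : GL (Fin i) F) (hA : A ^ r = 1) (f : F[X])
    (hf0 : aeval A.val f = 0) (hf1 : f.eval 1 ≠ 0)
    (hfu : IsUnit (aeval ((A⁻¹).val.transpose) f)) :
    ∃ x : GL (Fin d ⊕ Fin d) F, x ∈ Cfsg.isometryGroup F (Cfsg.quadFormPlus d F) ∧ x ^ r = 1 ∧
      ∃ f : F[X], Odd (Module.finrank F (LinearMap.ker
        (aeval (Matrix.toLin' (x : Matrix (Fin d ⊕ Fin d) (Fin d ⊕ Fin d) F)) f))) := by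
  classical
  -- the four matrices
  set Θ := h80_theta (F := F) i d hid with hΘ
  set Ψ := h80_blk (F := F) (Fin d) (Fin d) with hΨ
  have hAA : A.val * (A⁻¹).val = 1 := by rw [← Units.val_mul, mul_inv_cancel, Units.val_one]
  have hAA' : (A⁻¹).val * A.val = 1 := by rw [← Units.val_mul, inv_mul_cancel, Units.val_one]
  have hmul : ∀ B C : Matrix (Fin i) (Fin i) F, Θ (B, 1) * Θ (C, 1) = Θ (B * C, 1) := by
    intro B C
    rw [← map_mul, Prod.mk_mul_mk, one_mul]
  have hone : Θ (1, 1) = 1 := map_one Θ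
  have h1 : Ψ (Θ (A.val, 1), Θ ((A⁻¹).val.transpose, 1)) *
      Ψ (Θ ((A⁻¹).val, 1), Θ (A.val.transpose, 1)) = 1 := by
    rw [← map_mul, Prod.mk_mul_mk, hmul, hmul, hAA, ← Matrix.transpose_mul, hAA,
      Matrix.transpose_one, hone]
    exact map_one Ψ
  have h2 : Ψ (Θ ((A⁻¹).val, 1), Θ (A.val.transpose, 1)) *
      Ψ (Θ (A.val, 1), Θ ((A⁻¹).val.transpose, 1)) = 1 := by
    rw [← map_mul, Prod.mk_mul_mk, hmul, hmul, hAA', ← Matrix.transpose_mul, hAA',
      Matrix.transpose_one, hone]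
    exact map_one Ψ
  refine ⟨⟨Ψ (Θ (A.val, 1), Θ ((A⁻¹).val.transpose, 1)),
    Ψ (Θ ((A⁻¹).val, 1), Θ (A.val.transpose, 1)), h1, h2⟩, ?_, ?_, f, ?_⟩
  · -- isometry
    intro u v
    show Cfsg.quadFormPlus d F (Ψ (Θ (A.val, 1), Θ ((A⁻¹).val.transpose, 1)) *ᵥ u) =
      Cfsg.quadFormPlus d F u
    rw [hΨ, h80_blk_apply]
    apply h80_plus_isom
    rw [hΘ, h80_theta_transpose, Matrix.transpose_transpose, ← hΘ, hmul, hAA', hone]
  · -- order
    apply Units.ext
    rw [Units.val_pow_eq_pow_val, Units.val_one]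
    show Ψ (Θ (A.val, 1), Θ ((A⁻¹).val.transpose, 1)) ^ r = 1
    have hAr : A.val ^ r = 1 := by rw [← Units.val_pow_eq_pow_val, hA, Units.val_one]
    have hAr' : (A⁻¹).val ^ r = 1 := by
      rw [← Units.val_pow_eq_pow_val, inv_pow, hA, inv_one, Units.val_one]
    rw [← map_pow, Prod.pow_mk, ← map_pow, ← map_pow, Prod.pow_mk, Prod.pow_mk, one_pow, hAr,
      ← Matrix.transpose_pow, hAr', Matrix.transpose_one, hone]
    exact map_one Ψ
  · -- the kernel
    show Odd (Module.finrank F (LinearMap.ker (aeval (Matrix.toLin'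
      (Ψ (Θ (A.val, 1), Θ ((A⁻¹).val.transpose, 1)))) f)))
    set c := f.eval 1 with hc
    obtain ⟨U, hU⟩ := hfu
    have hev : aeval (Ψ (Θ (A.val, 1), Θ ((A⁻¹).val.transpose, 1))) f =
        Ψ (Θ (0, algebraMap F _ c), 1) * Ψ (1, Θ ((U : Matrix (Fin i) (Fin i) F), algebraMap F _ c)) := by
      rw [hΨ, h80_aeval_blk, hΘ, h80_aeval_theta, h80_aeval_theta, hf0, ← hU, ← map_mul,
        Prod.mk_mul_mk, mul_one, one_mul]
    have hunit : IsUnit (Ψ (1, Θ ((U : Matrix (Fin i) (Fin i) F), algebraMap F _ c))) := by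
      apply IsUnit.map
      rw [Prod.isUnit_iff]
      refine ⟨isUnit_one, ?_⟩
      apply IsUnit.map
      rw [Prod.isUnit_iff]
      exact ⟨U.isUnit, (IsUnit.mk0 c hf1).map _⟩
    have hrank : (aeval (Ψ (Θ (A.val, 1), Θ ((A⁻¹).val.transpose, 1))) f).rank = (d - i) + d := by
      rw [hev, Matrix.rank_mul_eq_left_of_isUnit_det _ _
        ((Matrix.isUnit_iff_isUnit_det _).1 hunit)]
      exact h80_rank_blk i d hid c hf1
    have hlin : aeval (Matrix.toLin' (Ψ (Θ (A.val, 1), Θ ((A⁻¹).val.transpose, 1)))) f =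
        Matrix.toLin' (aeval (Ψ (Θ (A.val, 1), Θ ((A⁻¹).val.transpose, 1))) f) := by
      have := Polynomial.aeval_algHom_apply (Matrix.toLinAlgEquiv' (R := F) (n := Fin d ⊕ Fin d))
        (Ψ (Θ (A.val, 1), Θ ((A⁻¹).val.transpose, 1))) f
      exact this
    rw [hlin, Matrix.toLin'_apply']
    have hrn := LinearMap.finrank_range_add_finrank_ker
      (Matrix.mulVecLin (aeval (Ψ (Θ (A.val, 1), Θ ((A⁻¹).val.transpose, 1))) f))
    have hr' : Module.finrank F (LinearMap.range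
        (Matrix.mulVecLin (aeval (Ψ (Θ (A.val, 1), Θ ((A⁻¹).val.transpose, 1))) f))) =
        (d - i) + d := hrank
    have hV : Module.finrank F (Fin d ⊕ Fin d → F) = d + d := by
      rw [Module.finrank_fintype_fun_eq_card, Fintype.card_sum, Fintype.card_fin]
    rw [hr', hV] at hrn
    have : Module.finrank F (LinearMap.ker
        (Matrix.mulVecLin (aeval (Ψ (Θ (A.val, 1), Θ ((A⁻¹).val.transpose, 1))) f))) = i := by
      omega
    rw [this]
    exact hi

end Cfsg.Agent.Lib.helper96.FE
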