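import Mathlib
import Cfsg.Agent.Lib.helper3.GfDefs

/-!
# S4395 piece EXB (racing copy), part 1: a generic group on triples `(v, m, c)`

`(v, m, c) * (v', m', c') = (v + τ c v', m + m' + B v (τ c v'), c * c')`, and its cover data.
-/

set_option autoImplicit false

namespace Cfsg.Agent.Lib.helper3.Gf

universe u

/-- The data making the triple product a group. -/
structure h80Dat {V M : Type u} [AddCommGroup V] [AddCommGroup M] {C : Type} [Group C]
    (τ : C → V → V) (B : V → V → M) : Prop where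
  tadd : ∀ c u v, τ c (u + v) = τ c u + τ c v
  tone : ∀ v, τ 1 v = v
  tmul : ∀ c d v, τ (c * d) v = τ c (τ d v)
  badd_left : ∀ u u' v, B (u + u') v = B u v + B u' v
  badd_right : ∀ u v v', B u (v + v') = B u v + B u v'
  binv : ∀ c u v, B (τ c u) (τ c v) = B u v

section dat

variable {V M : Type u} [AddCommGroup V] [AddCommGroup M] {C : Type} [Group C]
  {τ : C → V → V} {B : V → V → M}

theorem h80Dat.t0 (h : h80Dat τ B) (c : C) : τ c 0 = 0 := by
  have h1 := h.tadd c 0 0
  rw [add_zero] at h1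
  exact left_eq_add.mp h1

theorem h80Dat.tneg (h : h80Dat τ B) (c : C) (v : V) : τ c (-v) = -τ c v := by
  have h1 := h.tadd c v (-v)
  rw [add_neg_cancel, h.t0] at h1
  exact eq_neg_of_add_eq_zero_right h1.symm

theorem h80Dat.tinv (h : h80Dat τ B) (c : C) (v : V) : τ c (τ c⁻¹ v) = v := by
  rw [← h.tmul, mul_inv_cancel, h.tone]

theorem h80Dat.tinv' (h : h80Dat τ B) (c : C) (v : V) : τ c⁻¹ (τ c v) = v := by
  rw [← h.tmul, inv_mul_cancel, h.tone]

theorem h80Dat.b0l (h : h80Dat τ B) (v : V) : B 0 v = 0 := by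
  have h1 := h.badd_left 0 0 v
  rw [add_zero] at h1
  exact left_eq_add.mp h1

theorem h80Dat.b0r (h : h80Dat τ B) (u : V) : B u 0 = 0 := by
  have h1 := h.badd_right u 0 0
  rw [add_zero] at h1
  exact left_eq_add.mp h1

theorem h80Dat.bnegl (h : h80Dat τ B) (u v : V) : B (-u) v = -B u v := by
  have h1 := h.badd_left u (-u) v
  rw [add_neg_cancel, h.b0l] at h1
  exact eq_neg_of_add_eq_zero_right h1.symm

theorem h80Dat.bnegr (h : h80Dat τ B) (u v : V) : B u (-v) = -B u v := by
  have h1 := h.badd_right u v (-v)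
  rw [add_neg_cancel, h.b0r] at h1
  exact eq_neg_of_add_eq_zero_right h1.symm

end dat

/-- The type of triples. -/
@[ext] structure h80G {V M : Type u} [AddCommGroup V] [AddCommGroup M] {C : Type} [Group C]
    (τ : C → V → V) (B : V → V → M) : Type u where
  v : V
  m : M
  c : C

section grp

variable {V M : Type u} [AddCommGroup V] [AddCommGroup M] {C : Type} [Group C]
  {τ : C → V → V} {B : V → V → M}

def h80G.mulF (x y : h80G τ B) : h80G τ B :=
  ⟨x.v + τ x.c y.v, x.m + y.m + B x.v (τ x.c y.v), x.c * y.c⟩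

def h80G.oneF : h80G τ B := ⟨0, 0, 1⟩

def h80G.invF (x : h80G τ B) : h80G τ B :=
  ⟨-(τ x.c⁻¹ x.v), -x.m + B x.v x.v, x.c⁻¹⟩

theorem h80G.mulF_assoc (h : h80Dat τ B) (x y z : h80G τ B) :
    h80G.mulF (h80G.mulF x y) z = h80G.mulF x (h80G.mulF y z) := by
  apply h80G.ext
  · simp only [h80G.mulF, h.tmul, h.tadd]
    abel
  · simp only [h80G.mulF, h.tmul, h.tadd, h.badd_left, h.badd_right, h.binv]
    abel
  · simp only [h80G.mulF, mul_assoc]

theorem h80G.oneF_mulF (h : h80Dat τ B) (x : h80G τ B) : h80G.mulF h80G.oneF x = x := by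
  apply h80G.ext
  · simp only [h80G.mulF, h80G.oneF, h.tone, zero_add]
  · simp only [h80G.mulF, h80G.oneF, h.tone, h.b0l, zero_add, add_zero]
  · simp only [h80G.mulF, h80G.oneF, one_mul]

theorem h80G.mulF_oneF (h : h80Dat τ B) (x : h80G τ B) : h80G.mulF x h80G.oneF = x := by
  apply h80G.ext
  · simp only [h80G.mulF, h80G.oneF, h.t0, add_zero]
  · simp only [h80G.mulF, h80G.oneF, h.t0, h.b0r, add_zero]
  · simp only [h80G.mulF, h80G.oneF, mul_one]

theorem h80G.invF_mulF (h : h80Dat τ B) (x : h80G τ B) :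
    h80G.mulF (h80G.invF x) x = h80G.oneF := by
  apply h80G.ext
  · simp only [h80G.mulF, h80G.invF, h80G.oneF, neg_add_cancel]
  · simp only [h80G.mulF, h80G.invF, h80G.oneF, h.bnegl, h.binv]
    abel
  · simp only [h80G.mulF, h80G.invF, h80G.oneF, inv_mul_cancel]

instance h80G.instGroup [h : Fact (h80Dat τ B)] : Group (h80G τ B) where
  mul := h80G.mulF
  one := h80G.oneF
  inv := h80G.invF
  mul_assoc := h80G.mulF_assoc h.out
  one_mul := h80G.oneF_mulF h.out
  mul_one := h80G.mulF_oneF h.out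
  inv_mul_cancel := h80G.invF_mulF h.out

variable [h : Fact (h80Dat τ B)]

@[simp] theorem h80G.mul_v (x y : h80G τ B) : (x * y).v = x.v + τ x.c y.v := rfl
@[simp] theorem h80G.mul_m (x y : h80G τ B) : (x * y).m = x.m + y.m + B x.v (τ x.c y.v) := rfl
@[simp] theorem h80G.mul_c (x y : h80G τ B) : (x * y).c = x.c * y.c := rfl
@[simp] theorem h80G.one_v : (1 : h80G τ B).v = 0 := rfl
@[simp] theorem h80G.one_m : (1 : h80G τ B).m = 0 := rfl
@[simp] theorem h80G.one_c : (1 : h80G τ B).c = 1 := rfl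
@[simp] theorem h80G.inv_v (x : h80G τ B) : (x⁻¹).v = -(τ x.c⁻¹ x.v) := rfl
@[simp] theorem h80G.inv_m (x : h80G τ B) : (x⁻¹).m = -x.m + B x.v x.v := rfl
@[simp] theorem h80G.inv_c (x : h80G τ B) : (x⁻¹).c = x.c⁻¹ := rfl

end grp

end Cfsg.Agent.Lib.helper3.Gf
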