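import Mathlib
import Cfsg.Agent.Lib.helper3.GfDefs
import Cfsg.Agent.Lib.helper80.GfEXBa

/-!
# S4395 piece EXB (racing copy), part 2: cover data of the generic triple group
-/

set_option autoImplicit false

namespace Cfsg.Agent.Lib.helper3.Gf

universe u

section cov

variable {V M : Type u} [AddCommGroup V] [AddCommGroup M] {n : ℕ} [NeZero n]
  {τ : Multiplicative (ZMod n) → V → V} {B : V → V → M} [h : Fact (h80Dat τ B)]

/-- projection to the cyclic quotient -/
def h80G.piC : h80G τ B →* Multiplicative (ZMod n) where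
  toFun x := x.c
  map_one' := rfl
  map_mul' _ _ := rfl

/-- the central subgroup `{(0, m, 1)}` -/
def h80G.Nsub : Subgroup (h80G τ B) where
  carrier := {x | x.v = 0 ∧ x.c = 1}
  mul_mem' := by
    rintro a b ⟨ha1, ha2⟩ ⟨hb1, hb2⟩
    refine ⟨?_, ?_⟩
    · rw [h80G.mul_v, ha1, hb1, h.out.t0, add_zero]
    · rw [h80G.mul_c, ha2, hb2, one_mul]
  one_mem' := ⟨rfl, rfl⟩
  inv_mem' := by
    rintro a ⟨ha1, ha2⟩
    refine ⟨?_, ?_⟩
    · rw [h80G.inv_v, ha1, h.out.t0, neg_zero]
    · rw [h80G.inv_c, ha2, inv_one]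

theorem h80G.mem_Nsub (x : h80G τ B) : x ∈ (h80G.Nsub : Subgroup (h80G τ B)) ↔ x.v = 0 ∧ x.c = 1 :=
  Iff.rfl

theorem h80G.mem_P (x : h80G τ B) : x ∈ (h80G.piC : h80G τ B →* _).ker ↔ x.c = 1 :=
  MonoidHom.mem_ker

/-- the generator of the cyclic part -/
def h80G.yel : h80G τ B := ⟨0, 0, Multiplicative.ofAdd 1⟩

theorem h80G.ypow (k : ℕ) :
    (h80G.yel : h80G τ B) ^ k = ⟨0, 0, Multiplicative.ofAdd (k : ZMod n)⟩ := by
  induction k with
  | zero =>
    rw [pow_zero]
    apply h80G.ext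
    · rfl
    · rfl
    · simp
  | succ k ih =>
    rw [pow_succ, ih]
    apply h80G.ext
    · simp [h80G.yel, h.out.t0]
    · simp [h80G.yel, h.out.t0, h.out.b0l]
    · simp [h80G.yel, ofAdd_add]

theorem h80G.comm_v (w u : h80G τ B) (hu : u.c = 1) :
    (w * u * w⁻¹ * u⁻¹).v = τ w.c u.v - u.v ∧ (w * u * w⁻¹ * u⁻¹).c = 1 := by
  have hd := h.out
  refine ⟨?_, ?_⟩
  · simp only [h80G.mul_v, h80G.mul_c, h80G.inv_v, h80G.inv_c, hu, mul_one, inv_one,
      mul_inv_cancel, hd.tone, hd.tneg, hd.tinv]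
    abel
  · simp only [h80G.mul_c, h80G.inv_c, hu, mul_one, inv_one, mul_inv_cancel]

theorem h80G.pow_v (u : h80G τ B) (hu : u.c = 1) (k : ℕ) :
    (u ^ k).v = k • u.v ∧ (u ^ k).c = 1 := by
  induction k with
  | zero => exact ⟨by simp, by simp⟩
  | succ k ih =>
    refine ⟨?_, ?_⟩
    · rw [pow_succ, h80G.mul_v, ih.1, ih.2, h.out.tone, succ_nsmul]
    · rw [pow_succ, h80G.mul_c, ih.2, hu, one_mul]

/-- changing the middle coordinate inside a subgroup containing `Nsub` -/
theorem h80G.adj (W : Subgroup (h80G τ B)) (hN : (h80G.Nsub : Subgroup (h80G τ B)) ≤ W)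
    (x : h80G τ B) (hx : x ∈ W) (hxc : x.c = 1) (m' : M) : (⟨x.v, m', 1⟩ : h80G τ B) ∈ W := by
  have hd := h.out
  have h1 : (⟨0, m' - x.m, 1⟩ : h80G τ B) ∈ (h80G.Nsub : Subgroup (h80G τ B)) := ⟨rfl, rfl⟩
  have h2 : x * (⟨0, m' - x.m, 1⟩ : h80G τ B) = ⟨x.v, m', 1⟩ := by
    apply h80G.ext
    · simp [hd.t0]
    · simp [hd.t0, hd.b0r]
    · simp [hxc]
  rw [← h2]
  exact W.mul_mem hx (hN h1)

theorem h80_cov_generic [Finite V] [Finite M] (p q r : ℕ) [Fact p.Prime] [Fact q.Prime]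
    (hn : n = q ^ r)
    (hVp : ∀ v : V, p • v = 0)
    (k : ℕ) (hcard : Nat.card V * Nat.card M = p ^ k)
    (hτq : ∀ v, τ (Multiplicative.ofAdd (q : ZMod n)) v = v)
    (hτne : ∃ v, τ (Multiplicative.ofAdd (1 : ZMod n)) v ≠ v)
    (hirr : ∀ W : AddSubgroup V,
      (∀ w ∈ W, τ (Multiplicative.ofAdd (1 : ZMod n)) w ∈ W) → W = ⊥ ∨ W = ⊤)
    (hfill : ∀ m : M, ∃ u v : V, B u v - B v u = m) :
    ∃ (N P : Subgroup (h80G τ B)) (y : h80G τ B), Cov p q r N P y ∧ NonGen N ∧
      Nat.card (h80G τ B) = p ^ k * q ^ r := by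
  have hd := h.out
  -- cardinalities
  let eG : h80G τ B ≃ V × M × Multiplicative (ZMod n) :=
    { toFun := fun x => (x.v, x.m, x.c)
      invFun := fun t => ⟨t.1, t.2.1, t.2.2⟩
      left_inv := fun x => rfl
      right_inv := fun t => rfl }
  have hcG : Nat.card (h80G τ B) = p ^ k * q ^ r := by
    rw [Nat.card_congr eG, Nat.card_prod, Nat.card_prod, ← mul_assoc, hcard,
      Nat.card_congr Multiplicative.toAdd, Nat.card_zmod, hn]
  let eP : ↥((h80G.piC : h80G τ B →* _).ker) ≃ V × M :=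
    { toFun := fun x => (x.1.v, x.1.m)
      invFun := fun t => ⟨⟨t.1, t.2, 1⟩, (h80G.mem_P _).2 rfl⟩
      left_inv := fun x => by
        apply Subtype.ext
        apply h80G.ext
        · rfl
        · rfl
        · exact ((h80G.mem_P _).1 x.2).symm
      right_inv := fun t => rfl }
  have hcP : Nat.card ↥((h80G.piC : h80G τ B →* _).ker) = p ^ k := by
    rw [Nat.card_congr eP, Nat.card_prod, hcard]
  have hyc : ∀ j : ℕ, ((h80G.yel : h80G τ B) ^ j).c = Multiplicative.ofAdd (j : ZMod n) := by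
    intro j; rw [h80G.ypow]
  refine ⟨h80G.Nsub, (h80G.piC : h80G τ B →* _).ker, h80G.yel, ?_, ?_, hcG⟩
  · -- Cov
    refine
      { N_le_P := ?_
        N_central := ?_
        P_normal := MonoidHom.normal_ker _
        P_pgroup := IsPGroup.of_card hcP
        comm_mem := ?_
        pow_mem := ?_
        sup_top := ?_
        ord_dvd := ?_
        ord_mem := ?_
        yq := ?_
        nontriv := ?_
        irr := ?_ }
    · intro x hx
      exact (h80G.mem_P x).2 hx.2
    · intro x hx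
      rw [Subgroup.mem_center_iff]
      intro g
      obtain ⟨hx1, hx2⟩ := hx
      apply h80G.ext
      · simp [hx1, hx2, hd.t0, hd.tone]
      · simp [hx1, hx2, hd.t0, hd.tone, hd.b0l, hd.b0r, add_comm]
      · simp [hx2]
    · intro u hu v hv
      rw [h80G.mem_P] at hu hv
      obtain ⟨h1, h2⟩ := h80G.comm_v u v hv
      refine ⟨?_, h2⟩
      rw [h1, hu, hd.tone, sub_self]
    · intro u hu
      rw [h80G.mem_P] at hu
      obtain ⟨h1, h2⟩ := h80G.pow_v u hu p
      exact ⟨by rw [h1, hVp], h2⟩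
    · rw [Subgroup.eq_top_iff']
      intro g
      have h1 : g = (⟨g.v, g.m, 1⟩ : h80G τ B) * (h80G.yel : h80G τ B) ^ (Multiplicative.toAdd g.c).val := by
        rw [h80G.ypow]
        apply h80G.ext
        · simp [hd.t0]
        · simp [hd.t0, hd.b0r]
        · simp
      rw [h1]
      exact Subgroup.mul_mem_sup ((h80G.mem_P _).2 rfl)
        (Subgroup.pow_mem _ (Subgroup.mem_zpowers _) _)
    · intro j hj
      rw [h80G.mem_P, hyc, ofAdd_eq_one, ZMod.natCast_eq_zero_iff] at hj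
      rw [← hn]; exact hj
    · rw [h80G.mem_P, hyc, ofAdd_eq_one, ← hn, ZMod.natCast_self]
    · intro u hu
      rw [h80G.mem_P] at hu
      obtain ⟨h1, h2⟩ := h80G.comm_v ((h80G.yel : h80G τ B) ^ q) u hu
      refine ⟨?_, h2⟩
      rw [h1, hyc, hτq, sub_self]
    · obtain ⟨v0, hv0⟩ := hτne
      refine ⟨⟨v0, 0, 1⟩, (h80G.mem_P _).2 rfl, ?_⟩
      intro hmem
      obtain ⟨h1, -⟩ := h80G.comm_v (h80G.yel : h80G τ B) (⟨v0, 0, 1⟩ : h80G τ B) rfl
      have h3 := hmem.1
      rw [h1] at h3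
      exact hv0 (sub_eq_zero.mp h3)
    · intro W hNW hWP hWy
      have hWc : ∀ x ∈ W, x.c = 1 := fun x hx => (h80G.mem_P x).1 (hWP hx)
      let WV : AddSubgroup V :=
        { carrier := {v | (⟨v, 0, 1⟩ : h80G τ B) ∈ W}
          zero_mem' := W.one_mem
          add_mem' := by
            intro a b ha hb
            have h1 := W.mul_mem ha hb
            have h2 := h80G.adj W hNW _ h1 (by simp) 0
            simpa [hd.tone] using h2
          neg_mem' := by
            intro a ha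
            have h1 := W.inv_mem ha
            have h2 := h80G.adj W hNW _ h1 (by simp) 0
            simpa [hd.tone] using h2 }
      have hWV : ∀ v, v ∈ WV ↔ (⟨v, 0, 1⟩ : h80G τ B) ∈ W := fun v => Iff.rfl
      have hinv : ∀ w ∈ WV, τ (Multiplicative.ofAdd (1 : ZMod n)) w ∈ WV := by
        intro w hw
        rw [hWV] at hw ⊢
        have h1 := hWy _ hw
        have h2 := h80G.adj W hNW _ h1 (by simp [h80G.yel]) 0
        simpa [h80G.yel, hd.t0, hd.tone] using h2
      rcases hirr WV hinv with hbot | htop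
      · left
        apply le_antisymm _ hNW
        intro x hx
        have h1 := h80G.adj W hNW x hx (hWc x hx) 0
        have h2 : x.v ∈ WV := h1
        rw [hbot, AddSubgroup.mem_bot] at h2
        exact ⟨h2, hWc x hx⟩
      · right
        apply le_antisymm hWP
        intro x hx
        rw [h80G.mem_P] at hx
        have h1 : x.v ∈ WV := by rw [htop]; exact AddSubgroup.mem_top _
        have h2 := h80G.adj W hNW _ ((hWV _).1 h1) rfl x.m
        have h3 : (⟨x.v, x.m, 1⟩ : h80G τ B) = x := by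
          apply h80G.ext
          · rfl
          · rfl
          · exact hx.symm
        rw [← h3]; exact h2
  · -- NonGen
    intro S hS
    have hNc : (h80G.Nsub : Subgroup (h80G τ B)) ≤ Subgroup.center (h80G τ B) := by
      intro x hx
      rw [Subgroup.mem_center_iff]
      intro g
      obtain ⟨hx1, hx2⟩ := hx
      apply h80G.ext
      · simp [hx1, hx2, hd.t0, hd.tone]
      · simp [hx1, hx2, hd.t0, hd.tone, hd.b0l, hd.b0r, add_comm]
      · simp [hx2]
    haveI : (h80G.Nsub : Subgroup (h80G τ B)).Normal := by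
      constructor
      intro x hx g
      have h1 := (Subgroup.mem_center_iff.1 (hNc hx)) g
      rw [h1, mul_inv_cancel_right]
      exact hx
    have hlift : ∀ u : V, ∃ mu : M, (⟨u, mu, 1⟩ : h80G τ B) ∈ S := by
      intro u
      have h1 : (⟨u, 0, 1⟩ : h80G τ B) ∈ S ⊔ (h80G.Nsub : Subgroup (h80G τ B)) := by
        rw [hS]; exact Subgroup.mem_top _
      have h2 : (⟨u, 0, 1⟩ : h80G τ B) ∈ ((S ⊔ (h80G.Nsub : Subgroup (h80G τ B)) : Subgroup (h80G τ B)) : Set (h80G τ B)) := h1
      rw [Subgroup.mul_normal] at h2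
      obtain ⟨s, hs, x, hx, hsx⟩ := Set.mem_mul.1 h2
      obtain ⟨hx1, hx2⟩ := hx
      refine ⟨s.m, ?_⟩
      have h3 : (⟨u, s.m, 1⟩ : h80G τ B) = s := by
        have hv := congrArg h80G.v hsx
        have hc := congrArg h80G.c hsx
        simp only [h80G.mul_v, h80G.mul_c, hx1, hx2, hd.t0, add_zero, mul_one] at hv hc
        apply h80G.ext
        · exact hv.symm
        · rfl
        · exact hc.symm
      rw [h3]; exact hs
    have hNS : (h80G.Nsub : Subgroup (h80G τ B)) ≤ S := by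
      intro x hx
      obtain ⟨hx1, hx2⟩ := hx
      obtain ⟨u, v, huv⟩ := hfill x.m
      obtain ⟨mu, hmu⟩ := hlift u
      obtain ⟨mv, hmv⟩ := hlift v
      have h1 : (⟨u, mu, 1⟩ : h80G τ B) * ⟨v, mv, 1⟩ * (⟨u, mu, 1⟩ : h80G τ B)⁻¹ *
          (⟨v, mv, 1⟩ : h80G τ B)⁻¹ = x := by
        apply h80G.ext
        · simp [hd.tone, hx1]
        · simp only [h80G.mul_v, h80G.mul_m, h80G.mul_c, h80G.inv_v, h80G.inv_m, h80G.inv_c,
            mul_one, inv_one, hd.tone, hd.badd_left, hd.badd_right, hd.bnegl, hd.bnegr,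
            ← huv]
          abel
        · simp [hx2]
      rw [← h1]
      exact S.mul_mem (S.mul_mem (S.mul_mem hmu hmv) (S.inv_mem hmu)) (S.inv_mem hmv)
    rw [← hS]
    exact (sup_eq_left.mpr hNS).symm

instance h80G.instFinite [Finite V] [Finite M] : Finite (h80G τ B) := by
  let eG : h80G τ B ≃ V × M × Multiplicative (ZMod n) :=
    { toFun := fun x => (x.v, x.m, x.c)
      invFun := fun t => ⟨t.1, t.2.1, t.2.2⟩
      left_inv := fun x => rfl
      right_inv := fun t => rfl }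
  haveI : Finite (ZMod n) := inferInstance
  exact Finite.of_equiv _ eG.symm

end cov

end Cfsg.Agent.Lib.helper3.Gf
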