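import Mathlib

/-!
# S5982 piece CNTSTD (racing copy): the number of norm-one vectors of the standard unitary form
-/

set_option autoImplicit false
set_option linter.unusedSectionVars false

namespace Cfsg.Agent.Lib.helper24

section CNTSTD

variable {F : Type*} [Field F] [Fintype F] [DecidableEq F]

theorem h80_two_le (q₀ : ℕ) (hcard : Fintype.card F = q₀ ^ 2) : 2 ≤ q₀ := by
  have h1 : 1 < Fintype.card F := Fintype.one_lt_card
  rw [hcard] at h1
  by_contra h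
  have h2 : q₀ ≤ 1 := by omega
  interval_cases q₀ <;> simp at h1

theorem h80_pow_add (q₀ : ℕ) (hcard : Fintype.card F = q₀ ^ 2) (a b : F) :
    (a + b) ^ q₀ = a ^ q₀ + b ^ q₀ := by
  obtain ⟨p, hp⟩ := CharP.exists F
  have := hp
  obtain ⟨k, hpr, hk⟩ := FiniteField.card F p
  have : Fact p.Prime := ⟨hpr⟩
  have hd : q₀ ∣ p ^ (k : ℕ) := by
    rw [← hk, hcard]; exact dvd_pow_self q₀ two_ne_zero
  obtain ⟨j, -, rfl⟩ := (Nat.dvd_prime_pow hpr).1 hd
  exact add_pow_char_pow a b p j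

theorem h80_pow_sum (q₀ : ℕ) (hcard : Fintype.card F = q₀ ^ 2) {ι : Type*} (s : Finset ι)
    (a : ι → F) : (∑ k ∈ s, a k) ^ q₀ = ∑ k ∈ s, a k ^ q₀ := by
  classical
  induction s using Finset.induction_on with
  | empty =>
    have := h80_two_le (F := F) q₀ hcard
    simp [zero_pow (by omega : q₀ ≠ 0)]
  | insert x s hx ih =>
    rw [Finset.sum_insert hx, Finset.sum_insert hx, h80_pow_add q₀ hcard, ih]

theorem h80_norm_fix (q₀ : ℕ) (hcard : Fintype.card F = q₀ ^ 2) (x : F) :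
    (x ^ (q₀ + 1)) ^ q₀ = x ^ (q₀ + 1) := by
  have h := FiniteField.pow_card x
  rw [hcard] at h
  calc (x ^ (q₀ + 1)) ^ q₀ = x ^ (q₀ ^ 2) * x ^ q₀ := by
        rw [← pow_mul, ← pow_add]; congr 1; ring
    _ = x ^ (q₀ + 1) := by rw [h, pow_succ']

theorem h80_fib_le (d : ℕ) (hd : 0 < d) (c : F) :
    (Finset.univ.filter (fun x : F => x ^ d = c)).card ≤ d := by
  have hne : (Polynomial.X ^ d - Polynomial.C c : Polynomial F) ≠ 0 :=
    Polynomial.X_pow_sub_C_ne_zero hd c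
  calc (Finset.univ.filter (fun x : F => x ^ d = c)).card
      ≤ (Polynomial.X ^ d - Polynomial.C c : Polynomial F).roots.toFinset.card := by
        apply Finset.card_le_card
        intro x hx
        simp only [Finset.mem_filter, Finset.mem_univ, true_and] at hx
        rw [Multiset.mem_toFinset, Polynomial.mem_roots hne]
        simp [hx]
    _ ≤ Multiset.card (Polynomial.X ^ d - Polynomial.C c : Polynomial F).roots :=
        Multiset.toFinset_card_le _
    _ ≤ (Polynomial.X ^ d - Polynomial.C c : Polynomial F).natDegree :=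
        Polynomial.card_roots' _
    _ = d := Polynomial.natDegree_X_pow_sub_C

theorem h80_T_le (q₀ : ℕ) (hq : 2 ≤ q₀) :
    (Finset.univ.filter (fun c : F => c ≠ 0 ∧ c ^ q₀ = c)).card ≤ q₀ - 1 := by
  refine le_trans (Finset.card_le_card ?_) (h80_fib_le (q₀ - 1) (by omega) (1 : F))
  intro c hc
  simp only [Finset.mem_filter, Finset.mem_univ, true_and] at hc ⊢
  obtain ⟨hc0, hc1⟩ := hc
  have h2 : c * c ^ (q₀ - 1) = c * 1 := by
    rw [← pow_succ', Nat.sub_add_cancel (by omega), hc1, mul_one]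
  exact mul_left_cancel₀ hc0 h2

theorem h80_squeeze (q₀ : ℕ) (hcard : Fintype.card F = q₀ ^ 2) :
    (Finset.univ.filter (fun c : F => c ≠ 0 ∧ c ^ q₀ = c)).card = q₀ - 1 ∧
    ∀ c : F, c ≠ 0 → c ^ q₀ = c →
      (Finset.univ.filter (fun x : F => x ^ (q₀ + 1) = c)).card = q₀ + 1 := by
  have hq := h80_two_le (F := F) q₀ hcard
  have hUcard : (Finset.univ.filter (fun x : F => x ≠ 0)).card + 1 = q₀ ^ 2 := by
    rw [← hcard, Finset.filter_ne', Finset.card_erase_of_mem (Finset.mem_univ _),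
      Finset.card_univ]
    have : 0 < Fintype.card F := Fintype.card_pos
    omega
  have hmap : ∀ x ∈ Finset.univ.filter (fun x : F => x ≠ 0),
      x ^ (q₀ + 1) ∈ Finset.univ.filter (fun c : F => c ≠ 0 ∧ c ^ q₀ = c) := by
    intro x hx
    simp only [Finset.mem_filter, Finset.mem_univ, true_and] at hx ⊢
    exact ⟨pow_ne_zero _ hx, h80_norm_fix q₀ hcard x⟩
  have hsum := Finset.card_eq_sum_card_fiberwise hmap
  have hle : ∀ b : F,
      ((Finset.univ.filter (fun x : F => x ≠ 0)).filter (fun a => a ^ (q₀ + 1) = b)).card ≤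
        (Finset.univ.filter (fun x : F => x ^ (q₀ + 1) = b)).card := by
    intro b
    apply Finset.card_le_card
    intro x hx
    simp only [Finset.mem_filter, Finset.mem_univ, true_and] at hx ⊢
    exact hx.2
  have hfle : ∀ b : F, (Finset.univ.filter (fun x : F => x ^ (q₀ + 1) = b)).card ≤ q₀ + 1 :=
    fun b => h80_fib_le (q₀ + 1) (Nat.succ_pos _) b
  have hTle := h80_T_le (F := F) q₀ hq
  have hbound : (Finset.univ.filter (fun x : F => x ≠ 0)).card ≤
      (Finset.univ.filter (fun c : F => c ≠ 0 ∧ c ^ q₀ = c)).card * (q₀ + 1) := by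
    rw [hsum]
    calc _ ≤ ∑ _b ∈ Finset.univ.filter (fun c : F => c ≠ 0 ∧ c ^ q₀ = c), (q₀ + 1) :=
          Finset.sum_le_sum (fun b _ => (hle b).trans (hfle b))
      _ = _ := by rw [Finset.sum_const, smul_eq_mul]
  have hTeq : (Finset.univ.filter (fun c : F => c ≠ 0 ∧ c ^ q₀ = c)).card = q₀ - 1 := by
    apply le_antisymm hTle
    by_contra hlt
    have h2 : (Finset.univ.filter (fun c : F => c ≠ 0 ∧ c ^ q₀ = c)).card + 2 ≤ q₀ := by omega
    have h3 := Nat.mul_le_mul_right (q₀ + 1) h2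
    nlinarith
  refine ⟨hTeq, ?_⟩
  intro c hc0 hc1
  apply le_antisymm (hfle c)
  by_contra hlt
  have hlt2 : (Finset.univ.filter (fun x : F => x ^ (q₀ + 1) = c)).card < q₀ + 1 := by omega
  have hcT : c ∈ Finset.univ.filter (fun c : F => c ≠ 0 ∧ c ^ q₀ = c) := by
    simp [hc0, hc1]
  have hlt' := Finset.sum_lt_sum (s := Finset.univ.filter (fun c : F => c ≠ 0 ∧ c ^ q₀ = c))
    (f := fun b => ((Finset.univ.filter (fun x : F => x ≠ 0)).filter
      (fun a => a ^ (q₀ + 1) = b)).card) (g := fun _ => q₀ + 1)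
    (fun b _ => (hle b).trans (hfle b)) ⟨c, hcT, lt_of_le_of_lt (hle c) hlt2⟩
  rw [← hsum, Finset.sum_const, smul_eq_mul] at hlt'
  have h4 : (Finset.univ.filter (fun c : F => c ≠ 0 ∧ c ^ q₀ = c)).card + 1 = q₀ := by omega
  have h5 : ((Finset.univ.filter (fun c : F => c ≠ 0 ∧ c ^ q₀ = c)).card + 1) * (q₀ + 1) =
      q₀ * (q₀ + 1) := by rw [h4]
  nlinarith

/-- number of vectors with norm-sum `c`. -/
def h80_S (F : Type*) [Field F] [Fintype F] [DecidableEq F] (q₀ m : ℕ) (c : F) : ℕ :=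
  (Finset.univ.filter (fun v : Fin m → F => ∑ k, v k ^ (q₀ + 1) = c)).card

theorem h80_S_succ (q₀ m : ℕ) (c : F) :
    h80_S F q₀ (m + 1) c = ∑ x : F, h80_S F q₀ m (c - x ^ (q₀ + 1)) := by
  unfold h80_S
  simp only [Finset.card_filter]
  rw [← (Fin.consEquiv (fun _ : Fin (m + 1) => F)).sum_comp, Fintype.sum_prod_type]
  refine Finset.sum_congr rfl (fun x _ => Finset.sum_congr rfl (fun w _ => ?_))
  have : (∑ k, ((Fin.consEquiv (fun _ : Fin (m + 1) => F)) (x, w)) k ^ (q₀ + 1) = c) ↔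
      (∑ k, w k ^ (q₀ + 1) = c - x ^ (q₀ + 1)) := by
    rw [Fin.sum_univ_succ]
    simp only [Fin.consEquiv_apply, Fin.cons_zero, Fin.cons_succ]
    constructor
    · intro h; rw [← h]; ring
    · intro h; rw [h]; ring
  simp only [this]

theorem h80_S_eq_zero (q₀ : ℕ) (hcard : Fintype.card F = q₀ ^ 2) (m : ℕ) (c : F)
    (hc : c ^ q₀ ≠ c) : h80_S F q₀ m c = 0 := by
  unfold h80_S
  rw [Finset.card_eq_zero, Finset.filter_eq_empty_iff]
  intro v _ hv
  apply hc
  rw [← hv, h80_pow_sum q₀ hcard]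
  exact Finset.sum_congr rfl (fun k _ => h80_norm_fix q₀ hcard (v k))

theorem h80_S_eq_one (q₀ : ℕ) (hcard : Fintype.card F = q₀ ^ 2) (m : ℕ) (c : F)
    (hc0 : c ≠ 0) (hc : c ^ q₀ = c) : h80_S F q₀ m c = h80_S F q₀ m 1 := by
  have hfib := (h80_squeeze q₀ hcard).2 c hc0 hc
  have hpos : 0 < (Finset.univ.filter (fun x : F => x ^ (q₀ + 1) = c)).card := by
    rw [hfib]; exact Nat.succ_pos _
  obtain ⟨lam, hlam⟩ := Finset.card_pos.mp hpos
  have hlam := (Finset.mem_filter.1 hlam).2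
  have hlam0 : lam ≠ 0 := by
    rintro rfl
    rw [zero_pow (Nat.succ_ne_zero _)] at hlam
    exact hc0 hlam.symm
  unfold h80_S
  refine Finset.card_bij' (fun v _ => lam⁻¹ • v) (fun v _ => lam • v) ?_ ?_ ?_ ?_
  · intro v hv
    simp only [Finset.mem_filter, Finset.mem_univ, true_and, Pi.smul_apply, smul_eq_mul,
      mul_pow, ← Finset.mul_sum] at hv ⊢
    rw [hv, inv_pow, hlam]
    exact inv_mul_cancel₀ hc0
  · intro v hv
    simp only [Finset.mem_filter, Finset.mem_univ, true_and, Pi.smul_apply, smul_eq_mul,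
      mul_pow, ← Finset.mul_sum] at hv ⊢
    rw [hv, hlam, mul_one]
  · intro v _
    exact smul_inv_smul₀ hlam0 v
  · intro v _
    exact inv_smul_smul₀ hlam0 v

theorem h80_S_total (q₀ : ℕ) (hcard : Fintype.card F = q₀ ^ 2) (m : ℕ) :
    ∑ c : F, h80_S F q₀ m c = q₀ ^ (2 * m) := by
  have h := Finset.card_eq_sum_card_fiberwise (f := fun v : Fin m → F => ∑ k, v k ^ (q₀ + 1))
    (s := Finset.univ) (t := Finset.univ) (fun _ _ => Finset.mem_univ _)
  rw [Finset.card_univ, Fintype.card_fun, Fintype.card_fin, hcard, ← pow_mul] at h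
  unfold h80_S
  rw [h]

theorem h80_AB (q₀ : ℕ) (hcard : Fintype.card F = q₀ ^ 2) (m : ℕ) :
    h80_S F q₀ m 0 + (q₀ - 1) * h80_S F q₀ m 1 = q₀ ^ (2 * m) := by
  rw [← h80_S_total q₀ hcard m,
    ← Finset.sum_filter_add_sum_filter_not Finset.univ (fun c : F => c ≠ 0 ∧ c ^ q₀ = c)]
  have h1 : ∑ c ∈ Finset.univ.filter (fun c : F => c ≠ 0 ∧ c ^ q₀ = c), h80_S F q₀ m c =
      (q₀ - 1) * h80_S F q₀ m 1 := by
    rw [Finset.sum_congr rfl (fun c hc => h80_S_eq_one q₀ hcard m c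
      (Finset.mem_filter.1 hc).2.1 (Finset.mem_filter.1 hc).2.2), Finset.sum_const, smul_eq_mul,
      (h80_squeeze q₀ hcard).1]
  have h2 : ∑ c ∈ Finset.univ.filter (fun c : F => ¬ (c ≠ 0 ∧ c ^ q₀ = c)), h80_S F q₀ m c =
      h80_S F q₀ m 0 := by
    apply Finset.sum_eq_single_of_mem
    · simp
    · intro c hc hc0
      apply h80_S_eq_zero q₀ hcard
      intro h
      exact (Finset.mem_filter.1 hc).2 ⟨hc0, h⟩
  rw [h1, h2, add_comm]

theorem h80_B_succ (q₀ : ℕ) (hcard : Fintype.card F = q₀ ^ 2) (m : ℕ) :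
    h80_S F q₀ (m + 1) 1 + (q₀ + 1) * h80_S F q₀ m 1 =
      (q₀ + 1) * h80_S F q₀ m 0 + q₀ ^ 2 * h80_S F q₀ m 1 := by
  rw [h80_S_succ,
    ← Finset.sum_filter_add_sum_filter_not Finset.univ (fun x : F => x ^ (q₀ + 1) = 1)]
  have hfib := (h80_squeeze q₀ hcard).2 1 one_ne_zero (one_pow _)
  have h1 : ∑ x ∈ Finset.univ.filter (fun x : F => x ^ (q₀ + 1) = 1),
      h80_S F q₀ m (1 - x ^ (q₀ + 1)) = (q₀ + 1) * h80_S F q₀ m 0 := by
    rw [Finset.sum_congr rfl (fun x hx => by rw [(Finset.mem_filter.1 hx).2, sub_self]),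
      Finset.sum_const, smul_eq_mul, hfib]
  have key : ∀ x ∈ Finset.univ.filter (fun x : F => ¬ x ^ (q₀ + 1) = 1),
      h80_S F q₀ m (1 - x ^ (q₀ + 1)) = h80_S F q₀ m 1 := by
    intro x hx
    apply h80_S_eq_one q₀ hcard m _ (sub_ne_zero.2 (Ne.symm (Finset.mem_filter.1 hx).2))
    have hy := h80_norm_fix q₀ hcard x
    have h := h80_pow_add q₀ hcard (1 - x ^ (q₀ + 1)) (x ^ (q₀ + 1))
    rw [sub_add_cancel, one_pow, hy] at h
    exact eq_sub_of_add_eq h.symm
  have h2 : ∑ x ∈ Finset.univ.filter (fun x : F => ¬ x ^ (q₀ + 1) = 1),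
      h80_S F q₀ m (1 - x ^ (q₀ + 1)) =
      (Finset.univ.filter (fun x : F => ¬ x ^ (q₀ + 1) = 1)).card * h80_S F q₀ m 1 := by
    rw [Finset.sum_congr rfl key, Finset.sum_const, smul_eq_mul]
  have h3 := Finset.card_filter_add_card_filter_not (s := (Finset.univ : Finset F))
    (fun x : F => x ^ (q₀ + 1) = 1)
  rw [hfib, Finset.card_univ, hcard] at h3
  rw [h1, h2, ← h3]
  ring

end CNTSTD

/-- CNTSTD (racing copy) -/
theorem h80_sfu_count_std {F : Type*} [Field F] [Fintype F] [DecidableEq F] (q₀ : ℕ)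
    (hcard : Fintype.card F = q₀ ^ 2) (m : ℕ) :
    ((Finset.univ.filter (fun v : Fin m → F => ∑ k, v k ^ (q₀ + 1) = 1)).card : ℤ) =
      (q₀ : ℤ) ^ (m - 1) * ((q₀ : ℤ) ^ m - (-1) ^ m) := by
  have hq := h80_two_le (F := F) q₀ hcard
  change ((h80_S F q₀ m 1 : ℕ) : ℤ) = _
  induction m with
  | zero =>
    have h0 : h80_S F q₀ 0 1 = 0 := by
      unfold h80_S
      rw [Finset.card_eq_zero, Finset.filter_eq_empty_iff]
      intro v _ hv
      simp at hv
    rw [h0]; simp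
  | succ m ih =>
    have hAB := h80_AB q₀ hcard m
    have hB := h80_B_succ q₀ hcard m
    have hAB' : (h80_S F q₀ m 0 : ℤ) + ((q₀ : ℤ) - 1) * (h80_S F q₀ m 1 : ℤ) =
        (q₀ : ℤ) ^ (2 * m) := by
      have h := congrArg (Nat.cast : ℕ → ℤ) hAB
      push_cast [Nat.cast_sub (by omega : 1 ≤ q₀)] at h
      exact h
    have hB' : (h80_S F q₀ (m + 1) 1 : ℤ) + ((q₀ : ℤ) + 1) * (h80_S F q₀ m 1 : ℤ) =
        ((q₀ : ℤ) + 1) * (h80_S F q₀ m 0 : ℤ) + (q₀ : ℤ) ^ 2 * (h80_S F q₀ m 1 : ℤ) := by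
      exact_mod_cast hB
    have hrec : (h80_S F q₀ (m + 1) 1 : ℤ) =
        ((q₀ : ℤ) + 1) * (q₀ : ℤ) ^ (2 * m) - (q₀ : ℤ) * (h80_S F q₀ m 1 : ℤ) := by
      linear_combination hB' + ((q₀ : ℤ) + 1) * hAB'
    rw [hrec, ih]
    rcases m with _ | k
    · simp
    · simp only [Nat.add_sub_cancel]
      ring

end Cfsg.Agent.Lib.helper24
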