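import Mathlib
import Cfsg.Agent.Lib.helper3.GfDefs
import Cfsg.Agent.Lib.helper80.GfEXBb
import Cfsg.Agent.Lib.helper80.SfuCNTSTD

/-!
# S4395 piece EXB (racing copy), part 3: the field data and the final statement
-/

set_option autoImplicit false
set_option linter.unusedSectionVars false

namespace Cfsg.Agent.Lib.helper3.Gf

universe u

/-- `σ = x ↦ x ^ (p ^ b)` as an additive map -/
def h80sig (L : Type u) [Field L] (p b : ℕ) [Fact p.Prime] [CharP L p] : L →+ L :=
  AddMonoidHom.mk' (fun x => x ^ (p ^ b)) (fun x y => add_pow_char_pow x y p b)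

section field

variable {L : Type u} [Field L] [Fintype L] (p b : ℕ) [Fact p.Prime] [CharP L p]

theorem h80sig_apply (x : L) : h80sig L p b x = x ^ (p ^ b) := rfl

theorem h80sig_sig (hL : Fintype.card L = p ^ (2 * b)) (x : L) :
    h80sig L p b (h80sig L p b x) = x := by
  rw [h80sig_apply, h80sig_apply, ← pow_mul, ← pow_add, ← two_mul, ← hL, FiniteField.pow_card]

theorem h80sig_mul (x y : L) : h80sig L p b (x * y) = h80sig L p b x * h80sig L p b y :=
  mul_pow x y _

theorem h80sig_one : h80sig L p b (1 : L) = 1 := one_pow _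

theorem h80_card_L0 (hL : Fintype.card L = p ^ (2 * b)) (hb : 1 ≤ b) :
    Nat.card ↥(h80sig L p b - AddMonoidHom.id L).ker = p ^ b := by
  classical
  have hp : 2 ≤ p := (Fact.out : p.Prime).two_le
  have hpb : 2 ≤ p ^ b := by
    calc 2 ≤ p := hp
      _ = p ^ 1 := (pow_one p).symm
      _ ≤ p ^ b := Nat.pow_le_pow_right (by omega) hb
  have hbound : ∀ (c : L) (H : Set L), (∀ x ∈ H, x ≠ 0 → x ^ (p ^ b - 1) = c) →
      Nat.card ↥H ≤ p ^ b := by
    intro c H hH
    have hsub : H ⊆ ↑(insert (0 : L) (Finset.univ.filter (fun x : L => x ^ (p ^ b - 1) = c))) := by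
      intro x hx
      by_cases hx0 : x = 0
      · simp [hx0]
      · simp [hH x hx hx0]
    rw [Nat.card_coe_set_eq]
    calc H.ncard ≤ (↑(insert (0 : L)
            (Finset.univ.filter (fun x : L => x ^ (p ^ b - 1) = c))) : Set L).ncard :=
          Set.ncard_le_ncard hsub (Finset.finite_toSet _)
      _ = (insert (0 : L) (Finset.univ.filter (fun x : L => x ^ (p ^ b - 1) = c))).card :=
          Set.ncard_coe_finset _
      _ ≤ (Finset.univ.filter (fun x : L => x ^ (p ^ b - 1) = c)).card + 1 :=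
          Finset.card_insert_le _ _
      _ ≤ (p ^ b - 1) + 1 :=
          Nat.add_le_add_right (Cfsg.Agent.Lib.helper24.h80_fib_le (p ^ b - 1) (by omega) c) 1
      _ = p ^ b := by omega
  have hker : Nat.card ↥(h80sig L p b - AddMonoidHom.id L).ker ≤ p ^ b := by
    apply hbound 1 ((h80sig L p b - AddMonoidHom.id L).ker : Set L)
    intro x hx hx0
    have h1 : x ^ (p ^ b) = x := by
      have h0 := AddMonoidHom.mem_ker.1 hx
      rw [AddMonoidHom.sub_apply, AddMonoidHom.id_apply, sub_eq_zero] at h0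
      exact h0
    have h2 : x * x ^ (p ^ b - 1) = x * 1 := by
      rw [← pow_succ', Nat.sub_add_cancel (by omega), h1, mul_one]
    exact mul_left_cancel₀ hx0 h2
  have hrange : Nat.card ↥(h80sig L p b - AddMonoidHom.id L).range ≤ p ^ b := by
    apply hbound (-1) ((h80sig L p b - AddMonoidHom.id L).range : Set L)
    rintro x ⟨t, rfl⟩ hx0
    have h1 : ((h80sig L p b - AddMonoidHom.id L) t) ^ (p ^ b) =
        -((h80sig L p b - AddMonoidHom.id L) t) := by
      rw [← h80sig_apply, AddMonoidHom.sub_apply, AddMonoidHom.id_apply, map_sub,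
        h80sig_sig p b hL, neg_sub]
    have h2 : (h80sig L p b - AddMonoidHom.id L) t *
        ((h80sig L p b - AddMonoidHom.id L) t) ^ (p ^ b - 1) =
        (h80sig L p b - AddMonoidHom.id L) t * (-1) := by
      rw [← pow_succ', Nat.sub_add_cancel (by omega), h1, mul_neg_one]
    exact mul_left_cancel₀ hx0 h2
  have htot : Nat.card ↥(h80sig L p b - AddMonoidHom.id L).ker *
      Nat.card ↥(h80sig L p b - AddMonoidHom.id L).range = p ^ b * p ^ b := by
    rw [← AddSubgroup.index_ker, AddSubgroup.card_mul_index, Nat.card_eq_fintype_card, hL,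
      two_mul, pow_add]
  have hrpos : 0 < Nat.card ↥(h80sig L p b - AddMonoidHom.id L).range := Nat.card_pos
  by_contra hne
  have hlt : Nat.card ↥(h80sig L p b - AddMonoidHom.id L).ker < p ^ b := lt_of_le_of_ne hker hne
  have hlt2 : Nat.card ↥(h80sig L p b - AddMonoidHom.id L).ker *
      Nat.card ↥(h80sig L p b - AddMonoidHom.id L).range < p ^ b * p ^ b := by
    calc _ < p ^ b * Nat.card ↥(h80sig L p b - AddMonoidHom.id L).range :=
          Nat.mul_lt_mul_of_pos_right hlt hrpos
      _ ≤ p ^ b * p ^ b := Nat.mul_le_mul_left _ hrange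
  exact absurd htot (ne_of_lt hlt2)

theorem h80_exists_mu (hL : Fintype.card L = p ^ (2 * b)) (hb : 1 ≤ b) :
    ∃ μ : L, h80sig L p b μ ≠ μ := by
  by_contra hall
  have hall' : ∀ μ : L, h80sig L p b μ = μ := by
    intro μ
    by_contra hμ
    exact hall ⟨μ, hμ⟩
  have htop : (h80sig L p b - AddMonoidHom.id L).ker = ⊤ := by
    rw [eq_top_iff]
    intro x _
    rw [AddMonoidHom.mem_ker, AddMonoidHom.sub_apply, AddMonoidHom.id_apply, hall' x, sub_self]
  have h1 := h80_card_L0 p b hL hb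
  rw [htop, AddSubgroup.card_top, Nat.card_eq_fintype_card, hL] at h1
  have h2 : p ^ b < p ^ (2 * b) := Nat.pow_lt_pow_right (Fact.out : p.Prime).one_lt (by omega)
  omega

theorem h80_irr_L (hL : Fintype.card L = p ^ (2 * b)) (q : ℕ) [Fact q.Prime]
    (hord : orderOf (p : ZMod q) = 2 * b) (lam : L) (hlam : orderOf lam = q)
    (W : AddSubgroup L) (hW : ∀ w ∈ W, lam * w ∈ W) : W = ⊥ ∨ W = ⊤ := by
  classical
  by_cases hbot : W = ⊥
  · exact Or.inl hbot
  right
  obtain ⟨w0, hw0, hw0ne⟩ : ∃ w ∈ W, w ≠ 0 := by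
    by_contra hall
    apply hbot
    rw [AddSubgroup.eq_bot_iff_forall]
    intro x hx
    by_contra hx0
    exact hall ⟨x, hx, hx0⟩
  have hcard2 : 2 ≤ Fintype.card L := Fintype.one_lt_card
  let S : Subfield L :=
    { carrier := {s | ∀ w ∈ W, s * w ∈ W}
      mul_mem' := fun {s t} hs ht w hw => by rw [mul_assoc]; exact hs _ (ht w hw)
      one_mem' := fun w hw => by rw [one_mul]; exact hw
      add_mem' := fun {s t} hs ht w hw => by rw [add_mul]; exact W.add_mem (hs w hw) (ht w hw)
      zero_mem' := fun w _ => by rw [zero_mul]; exact W.zero_mem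
      neg_mem' := fun {s} hs w hw => by rw [neg_mul]; exact W.neg_mem (hs w hw)
      inv_mem' := fun s hs => by
        by_cases hs0 : s = 0
        · subst hs0
          intro w _
          rw [inv_zero, zero_mul]; exact W.zero_mem
        · have h1 : s⁻¹ = s ^ (Fintype.card L - 2) := by
            have h2 := FiniteField.pow_card_sub_one_eq_one s hs0
            apply inv_eq_of_mul_eq_one_left
            rw [← pow_succ]
            have h3 : Fintype.card L - 2 + 1 = Fintype.card L - 1 := by omega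
            rw [h3, h2]
          have hpow : ∀ k : ℕ, ∀ w ∈ W, s ^ k * w ∈ W := by
            intro k
            induction k with
            | zero => intro w hw; rw [pow_zero, one_mul]; exact hw
            | succ k ih => intro w hw; rw [pow_succ, mul_assoc]; exact ih _ (hs w hw)
          intro w hw
          rw [h1]
          exact hpow _ w hw }
  have hlamS : lam ∈ S := hW
  letI : Fintype ↥S := Fintype.ofFinite _
  obtain ⟨d, -, hd⟩ := FiniteField.card ↥S p
  have hq := (Fact.out : q.Prime)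
  have hlam0 : lam ≠ 0 := by
    rintro rfl
    have h0 := pow_orderOf_eq_one (0 : L)
    rw [hlam, zero_pow hq.ne_zero] at h0
    exact zero_ne_one h0
  have h1 : (⟨lam, hlamS⟩ : ↥S) ^ (Fintype.card ↥S - 1) = 1 :=
    FiniteField.pow_card_sub_one_eq_one _ (fun h0 => hlam0 (congrArg Subtype.val h0))
  have h2 : orderOf (⟨lam, hlamS⟩ : ↥S) = q := by
    rw [← orderOf_injective (S.subtype : ↥S →* L) Subtype.val_injective]
    exact hlam
  have h3 : q ∣ p ^ (d : ℕ) - 1 := by
    rw [← hd, ← h2]; exact orderOf_dvd_of_pow_eq_one h1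
  have h4 : (p : ZMod q) ^ (d : ℕ) = 1 := by
    have h5 : ((p ^ (d : ℕ) - 1 : ℕ) : ZMod q) = 0 := (ZMod.natCast_eq_zero_iff _ _).2 h3
    rw [Nat.cast_sub (Nat.one_le_pow _ _ (Fact.out : p.Prime).pos), Nat.cast_pow, Nat.cast_one,
      sub_eq_zero] at h5
    exact h5
  have h6 : 2 * b ∣ (d : ℕ) := by rw [← hord]; exact orderOf_dvd_of_pow_eq_one h4
  have h7 : 2 * b ≤ (d : ℕ) := Nat.le_of_dvd d.pos h6
  have h8 : Fintype.card L ≤ Fintype.card ↥S := by
    rw [hL, hd]; exact Nat.pow_le_pow_right (Fact.out : p.Prime).pos h7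
  have hinj : Function.Injective (Subtype.val : ↥S → L) := Subtype.val_injective
  have hsurj : Function.Surjective (Subtype.val : ↥S → L) :=
    ((Fintype.bijective_iff_injective_and_card _).2
      ⟨hinj, le_antisymm (Fintype.card_le_of_injective _ hinj) h8⟩).2
  have hall : ∀ s : L, s ∈ S := by
    intro s
    obtain ⟨⟨t, ht⟩, rfl⟩ := hsurj s
    exact ht
  rw [eq_top_iff]
  intro x _
  have h9 := hall (x * w0⁻¹) w0 hw0
  rwa [inv_mul_cancel_right₀ hw0ne] at h9

/-- the action of the cyclic group by powers of `lam` -/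
def h80tau (n : ℕ) (lam : L) (c : Multiplicative (ZMod n)) (x : L) : L :=
  lam ^ (Multiplicative.toAdd c).val * x

/-- the form `μ x σ(x') + σ(μ) σ(x) x'` with values in the fixed points of `σ` -/
def h80B (hL : Fintype.card L = p ^ (2 * b)) (μ : L) (x x' : L) :
    ↥(h80sig L p b - AddMonoidHom.id L).ker :=
  ⟨μ * x * h80sig L p b x' + h80sig L p b μ * h80sig L p b x * x', by
    rw [AddMonoidHom.mem_ker, AddMonoidHom.sub_apply, AddMonoidHom.id_apply, sub_eq_zero, map_add]
    simp only [h80sig_mul, h80sig_sig p b hL]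
    ring⟩

theorem h80B_val (hL : Fintype.card L = p ^ (2 * b)) (μ : L) (x x' : L) :
    ((h80B p b hL μ x x' : ↥(h80sig L p b - AddMonoidHom.id L).ker) : L) =
      μ * x * h80sig L p b x' + h80sig L p b μ * h80sig L p b x * x' := rfl

theorem h80_dat (hL : Fintype.card L = p ^ (2 * b)) (μ lam : L) (n : ℕ) [NeZero n]
    (hlamn : lam ^ n = 1) (hlamσ : lam * h80sig L p b lam = 1) :
    h80Dat (h80tau n lam) (h80B p b hL μ) where
  tadd := fun c u v => by simp only [h80tau, mul_add]
  tone := fun v => by simp only [h80tau, toAdd_one, ZMod.val_zero, pow_zero, one_mul]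
  tmul := fun c d v => by
    simp only [h80tau, toAdd_mul, ZMod.val_add]
    rw [← pow_eq_pow_mod _ hlamn, pow_add, mul_assoc]
  badd_left := fun u u' v => by
    apply Subtype.ext
    rw [AddSubgroup.coe_add, h80B_val, h80B_val, h80B_val, map_add]
    ring
  badd_right := fun u v v' => by
    apply Subtype.ext
    rw [AddSubgroup.coe_add, h80B_val, h80B_val, h80B_val, map_add]
    ring
  binv := fun c u v => by
    apply Subtype.ext
    rw [h80B_val, h80B_val]
    simp only [h80tau, h80sig_mul]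
    have e : lam ^ (Multiplicative.toAdd c).val *
        h80sig L p b (lam ^ (Multiplicative.toAdd c).val) = 1 := by
      have e1 : h80sig L p b (lam ^ (Multiplicative.toAdd c).val) =
          (h80sig L p b lam) ^ (Multiplicative.toAdd c).val := by
        simp only [h80sig_apply]
        rw [← pow_mul, ← pow_mul, mul_comm]
      rw [e1, ← mul_pow, hlamσ, one_pow]
    linear_combination (μ * u * h80sig L p b v + h80sig L p b μ * h80sig L p b u * v) * e

theorem h80_ex_of_field (q r : ℕ) [Fact q.Prime]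
    (hL : Fintype.card L = p ^ (2 * b)) (hb : 1 ≤ b) (hr : 1 ≤ r)
    (hord : orderOf (p : ZMod q) = 2 * b) (hq1 : q ∣ p ^ (2 * b) - 1) (hq2 : q ∣ p ^ b + 1) :
    ∃ (G : Type u) (_ : Group G) (_ : Finite G) (N P : Subgroup G) (y : G),
      Cov p q r N P y ∧ NonGen N ∧ Nat.card G = p ^ (3 * b) * q ^ r := by
  classical
  have hq := (Fact.out : q.Prime)
  have hp := (Fact.out : p.Prime)
  obtain ⟨ul, hul⟩ := exists_prime_orderOf_dvd_card (G := Lˣ) q
    (by rw [Fintype.card_units, hL]; exact hq1)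
  have hlamord : orderOf (ul : L) = q := by rw [orderOf_units, hul]
  have hlamq : (ul : L) ^ q = 1 := by rw [← hlamord]; exact pow_orderOf_eq_one _
  have hlamσ : (ul : L) * h80sig L p b (ul : L) = 1 := by
    obtain ⟨k, hk⟩ := hq2
    rw [h80sig_apply, ← pow_succ', hk, pow_mul, hlamq, one_pow]
  haveI : NeZero (q ^ r) := ⟨pow_ne_zero _ hq.ne_zero⟩
  have hlamn : (ul : L) ^ (q ^ r) = 1 := by
    obtain ⟨k, hk⟩ := dvd_pow_self q (show r ≠ 0 by omega)
    rw [hk, pow_mul, hlamq, one_pow]
  haveI : Fact (1 < q ^ r) := ⟨Nat.one_lt_pow (by omega) hq.one_lt⟩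
  have hval1 : (1 : ZMod (q ^ r)).val = 1 := ZMod.val_one _
  obtain ⟨μ, hμ⟩ := h80_exists_mu (L := L) p b hL hb
  haveI : Fact (h80Dat (h80tau (q ^ r) (ul : L)) (h80B p b hL μ)) :=
    ⟨h80_dat p b hL μ (ul : L) (q ^ r) hlamn hlamσ⟩
  have hVp : ∀ v : L, p • v = 0 := by
    intro v
    rw [nsmul_eq_mul, CharP.cast_eq_zero, zero_mul]
  have hcard : Nat.card L * Nat.card ↥(h80sig L p b - AddMonoidHom.id L).ker = p ^ (3 * b) := by
    rw [Nat.card_eq_fintype_card, hL, h80_card_L0 p b hL hb, ← pow_add]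
    congr 1
    omega
  have hτq : ∀ v : L,
      h80tau (q ^ r) (ul : L) (Multiplicative.ofAdd ((q : ℕ) : ZMod (q ^ r))) v = v := by
    intro v
    simp only [h80tau, toAdd_ofAdd, ZMod.val_natCast]
    rw [← pow_eq_pow_mod _ hlamn, hlamq, one_mul]
  have hτ1 : ∀ v : L,
      h80tau (q ^ r) (ul : L) (Multiplicative.ofAdd (1 : ZMod (q ^ r))) v = (ul : L) * v := by
    intro v
    simp only [h80tau, toAdd_ofAdd, hval1, pow_one]
  have hτne : ∃ v : L,
      h80tau (q ^ r) (ul : L) (Multiplicative.ofAdd (1 : ZMod (q ^ r))) v ≠ v := by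
    refine ⟨1, ?_⟩
    rw [hτ1, mul_one]
    intro h1
    have h2 : orderOf (ul : L) = 1 := by rw [h1]; exact orderOf_one
    rw [hlamord] at h2
    exact hq.one_lt.ne' h2
  have hirr : ∀ W : AddSubgroup L,
      (∀ w ∈ W, h80tau (q ^ r) (ul : L) (Multiplicative.ofAdd (1 : ZMod (q ^ r))) w ∈ W) →
        W = ⊥ ∨ W = ⊤ := by
    intro W hW
    apply h80_irr_L p b hL q hord (ul : L) hlamord W
    intro w hw
    have h1 := hW w hw
    rwa [hτ1] at h1
  have hfill : ∀ m : ↥(h80sig L p b - AddMonoidHom.id L).ker,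
      ∃ u v : L, h80B p b hL μ u v - h80B p b hL μ v u = m := by
    intro m
    have hm : h80sig L p b (m : L) = (m : L) := by
      have h0 := AddMonoidHom.mem_ker.1 m.2
      rw [AddMonoidHom.sub_apply, AddMonoidHom.id_apply, sub_eq_zero] at h0
      exact h0
    have hδ0 : μ - h80sig L p b μ ≠ 0 := sub_ne_zero.2 (Ne.symm hμ)
    have hσδ : h80sig L p b (μ - h80sig L p b μ) = -(μ - h80sig L p b μ) := by
      rw [map_sub, h80sig_sig p b hL, neg_sub]
    have hσe : h80sig L p b (((μ - h80sig L p b μ) ^ 2)⁻¹) = ((μ - h80sig L p b μ) ^ 2)⁻¹ := by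
      rw [h80sig_apply, inv_pow, ← pow_mul, mul_comm, pow_mul, ← h80sig_apply, hσδ, neg_sq]
    have he : ((μ - h80sig L p b μ) ^ 2)⁻¹ * (μ - h80sig L p b μ) ^ 2 = 1 :=
      inv_mul_cancel₀ (pow_ne_zero 2 hδ0)
    refine ⟨(m : L) * μ * ((μ - h80sig L p b μ) ^ 2)⁻¹, 1, ?_⟩
    apply Subtype.ext
    rw [AddSubgroup.coe_sub, h80B_val, h80B_val, h80sig_one, h80sig_mul, h80sig_mul, hσe, hm]
    linear_combination (m : L) * he
  obtain ⟨N, P, y, hcov, hng, hcG⟩ :=
    h80_cov_generic (τ := h80tau (q ^ r) (ul : L)) (B := h80B p b hL μ) p q r rfl hVp (3 * b) hcard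
      hτq hτne hirr hfill
  exact ⟨h80G (h80tau (q ^ r) (ul : L)) (h80B p b hL μ), inferInstance, inferInstance, N, P, y,
    hcov, hng, hcG⟩

end field

/-- EXB (racing copy): Heisenberg-type `p`-group of order `p^(3a/2)` extended by `C_{q^r}` -/
theorem h80_ex_cov_b (p q r : ℕ) [Fact p.Prime] [Fact q.Prime] (hpq : p ≠ q) (hr : 1 ≤ r)
    (hev : orderOf (p : ZMod q) % 2 = 0) :
    ∃ (G : Type u) (_ : Group G) (_ : Finite G) (N P : Subgroup G) (y : G),
      Cov p q r N P y ∧ NonGen N ∧ Nat.card G = p ^ (3 * orderOf (p : ZMod q) / 2) * q ^ r := by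
  classical
  have hp := (Fact.out : p.Prime)
  have hq := (Fact.out : q.Prime)
  have hp0 : (p : ZMod q) ≠ 0 := by
    intro h0
    rw [ZMod.natCast_eq_zero_iff] at h0
    exact hpq ((Nat.prime_dvd_prime_iff_eq hq hp).1 h0).symm
  have hapos : 0 < orderOf (p : ZMod q) := by
    rw [orderOf_pos_iff, isOfFinOrder_iff_pow_eq_one]
    exact ⟨q - 1, by have := hq.two_le; omega, ZMod.pow_card_sub_one_eq_one hp0⟩
  obtain ⟨b, hab⟩ : ∃ b, orderOf (p : ZMod q) = 2 * b := ⟨orderOf (p : ZMod q) / 2, by omega⟩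
  have hb : 1 ≤ b := by omega
  have hpa : (p : ZMod q) ^ (2 * b) = 1 := by rw [← hab]; exact pow_orderOf_eq_one _
  have hpb : (p : ZMod q) ^ b = -1 := by
    have h1 : (p : ZMod q) ^ b * (p : ZMod q) ^ b = 1 := by rw [← pow_add, ← two_mul]; exact hpa
    rcases mul_self_eq_one_iff.1 h1 with h2 | h2
    · exfalso
      have h3 := orderOf_dvd_of_pow_eq_one h2
      rw [hab] at h3
      have h4 := Nat.le_of_dvd (by omega) h3
      omega
    · exact h2
  have hq1 : q ∣ p ^ (2 * b) - 1 := by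
    rw [← ZMod.natCast_eq_zero_iff, Nat.cast_sub (Nat.one_le_pow _ _ hp.pos), Nat.cast_pow,
      Nat.cast_one, hpa, sub_self]
  have hq2 : q ∣ p ^ b + 1 := by
    rw [← ZMod.natCast_eq_zero_iff, Nat.cast_add, Nat.cast_pow, Nat.cast_one, hpb,
      neg_add_cancel]
  letI : Fintype (ULift.{u} (GaloisField p (2 * b))) := Fintype.ofFinite _
  have hL : Fintype.card (ULift.{u} (GaloisField p (2 * b))) = p ^ (2 * b) := by
    rw [← Nat.card_eq_fintype_card, Nat.card_ulift, GaloisField.card p (2 * b) (by omega)]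
  obtain ⟨G, i1, i2, N, P, y, h1, h2, h3⟩ :=
    h80_ex_of_field (L := ULift.{u} (GaloisField p (2 * b))) p b q r hL hb hr hab hq1 hq2
  refine ⟨G, i1, i2, N, P, y, h1, h2, ?_⟩
  rw [h3, hab]
  congr 2
  omega

end Cfsg.Agent.Lib.helper3.Gf
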