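import Mathlib
import Cfsg.Agent.Lib.helper44.LODefs
import Cfsg.Agent.Lib.helper6.LOARITH

/-! S2363 split (architect helper44): core of piece E8 (`lo_e8`), the order formula of `E₈(q)`
as a hypothesis.  Declarations are prefixed `h80_`. -/

set_option autoImplicit false

namespace Cfsg.Agent.Lib.helper44.LO

theorem h80_sub_one_lt (q d : ℕ) (hq : 2 ≤ q) : q ^ d - 1 < q ^ d :=
  Nat.sub_lt (pow_pos (by omega) d) one_pos

theorem h80_not_dvd_sub_one {p : ℕ} (hp : p.Prime) (f : ℕ) (hf : 1 ≤ f) (d : ℕ) (hd : 1 ≤ d) :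
    ¬ p ∣ (p ^ f) ^ d - 1 := by
  intro h
  have h1 : p ∣ (p ^ f) ^ d := by
    rw [← pow_mul]
    exact dvd_pow_self p (Nat.mul_ne_zero (by omega) (by omega))
  have h2 : 1 ≤ (p ^ f) ^ d := Nat.one_le_pow _ _ (pow_pos hp.pos f)
  rw [← Nat.sub_add_cancel h2] at h1
  have h3 : p ∣ 1 := (Nat.dvd_add_right h).1 h1
  exact hp.one_lt.ne' (Nat.dvd_one.1 h3)

/-- core of E8 -/
theorem h80_lo_e8_core {p : ℕ} (hp : p.Prime) (f : ℕ) (hf : 1 ≤ f) (n : ℕ)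
    (hn : n = (p ^ f) ^ 120 * ((p ^ f) ^ 2 - 1) * ((p ^ f) ^ 8 - 1) * ((p ^ f) ^ 12 - 1) *
      ((p ^ f) ^ 14 - 1) * ((p ^ f) ^ 18 - 1) * ((p ^ f) ^ 20 - 1) * ((p ^ f) ^ 24 - 1) *
      ((p ^ f) ^ 30 - 1)) : LOGood p n := by
  have hq : 2 ≤ p ^ f := le_trans hp.two_le (Nat.le_self_pow (by omega) p)
  have hnd := fun d hd => h80_not_dvd_sub_one hp f hf d hd
  have hlt := fun d => h80_sub_one_lt (p ^ f) d hq
  apply lo_good hp f hf 1 n 120 (((p ^ f) ^ 2 - 1) * ((p ^ f) ^ 8 - 1) * ((p ^ f) ^ 12 - 1) *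
      ((p ^ f) ^ 14 - 1) * ((p ^ f) ^ 18 - 1) * ((p ^ f) ^ 20 - 1) * ((p ^ f) ^ 24 - 1) *
      ((p ^ f) ^ 30 - 1)) 128
  · rw [one_mul, hn]
    ring
  · exact fun h => hp.one_lt.ne' (Nat.dvd_one.1 h)
  · exact hp.not_dvd_mul (hp.not_dvd_mul (hp.not_dvd_mul (hp.not_dvd_mul (hp.not_dvd_mul
      (hp.not_dvd_mul (hp.not_dvd_mul (hnd 2 (by norm_num)) (hnd 8 (by norm_num)))
      (hnd 12 (by norm_num))) (hnd 14 (by norm_num))) (hnd 18 (by norm_num)))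
      (hnd 20 (by norm_num))) (hnd 24 (by norm_num))) (hnd 30 (by norm_num))
  · rw [one_mul]
    have h8 := Nat.mul_lt_mul'' (Nat.mul_lt_mul'' (Nat.mul_lt_mul'' (Nat.mul_lt_mul''
      (Nat.mul_lt_mul'' (Nat.mul_lt_mul'' (Nat.mul_lt_mul'' (hlt 2) (hlt 8)) (hlt 12)) (hlt 14))
      (hlt 18)) (hlt 20)) (hlt 24)) (hlt 30)
    calc _ < _ := h8
      _ = (p ^ f) ^ 128 := by ring
  · norm_num
  · norm_num

end Cfsg.Agent.Lib.helper44.LO
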