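import Mathlib
import Cfsg.Agent.S1065
import Cfsg.Agent.Lib.helper44.LODefs
import Cfsg.Agent.Lib.helper80.LOE8core

/-! S2363 split (architect helper44): piece E8 (`lo_e8`), racer copy with the prefixed name
`h80_lo_e8`; statement verbatim from the skeleton.  The arithmetic is `h80_lo_e8_core`
(`Cfsg.Agent.Lib.helper80.LOE8core`), the order formula is `Cfsg.Agent.S1065.result`. -/

set_option autoImplicit false

namespace Cfsg.Agent.Lib.helper44.LO

/-- E8. -/
theorem h80_lo_e8 {F : Type} [Field F] [Fintype F] (p : ℕ) (hp : p.Prime) [CharP F p] :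
    LOGood p (Nat.card ↥(Cfsg.Lie.chevE8.group F)) := by
  obtain ⟨n, -, hcard⟩ := _root_.FiniteField.card F p
  exact h80_lo_e8_core hp (n : ℕ) n.pos _ (Cfsg.Agent.S1065.result hcard)

end Cfsg.Agent.Lib.helper44.LO
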