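/-
S2522 split (owner helper51), piece GLUEA: `ru_block`, plus shared block-matrix helpers
(`helper80_`-prefixed) reused by piece BORD.
-/
import Mathlib
import Cfsg.Agent.Lib.helper51.LevDefs

set_option autoImplicit false

namespace Cfsg.Agent.Lib.helper51.Lev

open Matrix

variable {K : Type*} [Field K]

/-- corank one in terms of the kernel. -/
theorem helper80_rank_iff {ι : Type} [Fintype ι] [DecidableEq ι] (M : Matrix ι ι K) :
    M.rank + 1 = Fintype.card ι ↔
      ∃ v : ι → K, v ≠ 0 ∧ M *ᵥ v = 0 ∧ ∀ w : ι → K, M *ᵥ w = 0 → ∃ a : K, w = a • v := by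
  have hrn := LinearMap.finrank_range_add_finrank_ker M.mulVecLin
  rw [Module.finrank_fintype_fun_eq_card] at hrn
  have hrk : M.rank = Module.finrank K (LinearMap.range M.mulVecLin) := rfl
  have h1 : M.rank + 1 = Fintype.card ι ↔
      Module.finrank K (LinearMap.ker M.mulVecLin) = 1 := by
    rw [hrk]; omega
  rw [h1, finrank_eq_one_iff']
  constructor
  · rintro ⟨⟨v, hv⟩, hv0, hall⟩
    refine ⟨v, ?_, ?_, ?_⟩
    · intro h
      apply hv0
      exact Subtype.ext h
    · simpa using hv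
    · intro w hw
      have hw' : w ∈ LinearMap.ker M.mulVecLin := by simpa using hw
      obtain ⟨c, hc⟩ := hall ⟨w, hw'⟩
      refine ⟨c, ?_⟩
      have := congrArg Subtype.val hc
      simpa using this.symm
  · rintro ⟨v, hv0, hv, hall⟩
    have hv' : v ∈ LinearMap.ker M.mulVecLin := by simpa using hv
    refine ⟨⟨v, hv'⟩, ?_, ?_⟩
    · intro h
      apply hv0
      exact congrArg Subtype.val h
    · rintro ⟨w, hw⟩
      have hw' : M *ᵥ w = 0 := by simpa using hw
      obtain ⟨a, ha⟩ := hall w hw'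
      refine ⟨a, ?_⟩
      apply Subtype.ext
      simpa using ha.symm

/-- powers of a block upper triangular matrix. -/
theorem helper80_pow_upper {ι κ : Type} [Fintype ι] [DecidableEq ι] [Fintype κ] [DecidableEq κ]
    (N₁ : Matrix ι ι K) (N₂ : Matrix κ κ K) (X : Matrix ι κ K) (k : ℕ) :
    ∃ Y : Matrix ι κ K, (fromBlocks N₁ X 0 N₂) ^ k = fromBlocks (N₁ ^ k) Y 0 (N₂ ^ k) := by
  induction k with
  | zero => exact ⟨0, by simp [fromBlocks_one]⟩
  | succ k ih =>
    obtain ⟨Y, hY⟩ := ih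
    refine ⟨N₁ ^ k * X + Y * N₂, ?_⟩
    rw [pow_succ, hY, fromBlocks_multiply]
    simp [pow_succ]

/-- powers of a block lower triangular matrix. -/
theorem helper80_pow_lower {ι κ : Type} [Fintype ι] [DecidableEq ι] [Fintype κ] [DecidableEq κ]
    (N₁ : Matrix ι ι K) (N₂ : Matrix κ κ K) (X : Matrix κ ι K) (k : ℕ) :
    ∃ Y : Matrix κ ι K, (fromBlocks N₁ 0 X N₂) ^ k = fromBlocks (N₁ ^ k) 0 Y (N₂ ^ k) := by
  induction k with
  | zero => exact ⟨0, by simp [fromBlocks_one]⟩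
  | succ k ih =>
    obtain ⟨Y, hY⟩ := ih
    refine ⟨Y * N₁ + N₂ ^ k * X, ?_⟩
    rw [pow_succ, hY, fromBlocks_multiply]
    simp [pow_succ]

/-- a block upper triangular matrix with nilpotent diagonal blocks is nilpotent. -/
theorem helper80_nil_upper {ι κ : Type} [Fintype ι] [DecidableEq ι] [Fintype κ] [DecidableEq κ]
    (N₁ : Matrix ι ι K) (N₂ : Matrix κ κ K) (X : Matrix ι κ K) (h₁ : IsNilpotent N₁)
    (h₂ : IsNilpotent N₂) : IsNilpotent (fromBlocks N₁ X 0 N₂) := by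
  obtain ⟨a, ha⟩ := h₁
  obtain ⟨b, hb⟩ := h₂
  obtain ⟨Y, hY⟩ := helper80_pow_upper N₁ N₂ X a
  obtain ⟨Y', hY'⟩ := helper80_pow_upper N₁ N₂ X b
  refine ⟨a + b, ?_⟩
  rw [pow_add, hY, hY', ha, hb, fromBlocks_multiply]
  simp

/-- a block lower triangular matrix with nilpotent diagonal blocks is nilpotent. -/
theorem helper80_nil_lower {ι κ : Type} [Fintype ι] [DecidableEq ι] [Fintype κ] [DecidableEq κ]
    (N₁ : Matrix ι ι K) (N₂ : Matrix κ κ K) (X : Matrix κ ι K) (h₁ : IsNilpotent N₁)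
    (h₂ : IsNilpotent N₂) : IsNilpotent (fromBlocks N₁ 0 X N₂) := by
  obtain ⟨a, ha⟩ := h₁
  obtain ⟨b, hb⟩ := h₂
  obtain ⟨Y, hY⟩ := helper80_pow_lower N₁ N₂ X a
  obtain ⟨Y', hY'⟩ := helper80_pow_lower N₁ N₂ X b
  refine ⟨b + a, ?_⟩
  rw [pow_add, hY, hY', ha, hb, fromBlocks_multiply]
  simp

/-- every vector on a sum type is `Sum.elim` of its two halves. -/
theorem helper80_elim_eta {ι κ : Type} (w : ι ⊕ κ → K) :
    w = Sum.elim (fun i => w (Sum.inl i)) (fun j => w (Sum.inr j)) := by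
  funext x
  cases x <;> rfl

theorem helper80_elim_eq_zero {ι κ : Type} (u : ι → K) (v : κ → K)
    (h : Sum.elim u v = 0) : u = 0 ∧ v = 0 := by
  constructor
  · funext i
    exact congrFun h (Sum.inl i)
  · funext j
    exact congrFun h (Sum.inr j)

/-- PIECE GLUEA: a block upper triangular matrix with regular unipotent diagonal blocks is
regular unipotent as soon as the corner sends the fixed vectors of `A₂` outside `im (A₁ - 1)`. -/
theorem ru_block_h80 {ι κ : Type} [Fintype ι] [DecidableEq ι] [Fintype κ] [DecidableEq κ]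
    (A₁ : Matrix ι ι K) (A₂ : Matrix κ κ K) (X : Matrix ι κ K) (h₁ : RU A₁) (h₂ : RU A₂)
    (hX : ∀ u : κ → K, A₂ *ᵥ u = u → u ≠ 0 → ∀ w : ι → K, (A₁ - 1) *ᵥ w ≠ X *ᵥ u) :
    RU (fromBlocks A₁ X 0 A₂) := by
  obtain ⟨hn₁, hr₁⟩ := h₁
  obtain ⟨hn₂, hr₂⟩ := h₂
  have hsub : fromBlocks A₁ X 0 A₂ - 1 = fromBlocks (A₁ - 1) X 0 (A₂ - 1) := by
    rw [← fromBlocks_one, sub_eq_add_neg, fromBlocks_neg, fromBlocks_add]
    simp [sub_eq_add_neg]
  refine ⟨?_, ?_⟩
  · rw [hsub]
    exact helper80_nil_upper _ _ X hn₁ hn₂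
  · rw [hsub, helper80_rank_iff]
    obtain ⟨v₁, hv₁0, hv₁, hall₁⟩ := (helper80_rank_iff (A₁ - 1)).mp hr₁
    refine ⟨Sum.elim v₁ 0, ?_, ?_, ?_⟩
    · intro h
      exact hv₁0 (helper80_elim_eq_zero v₁ 0 h).1
    · rw [fromBlocks_mulVec]
      simp [hv₁]
    · intro w hw
      set w₁ : ι → K := fun i => w (Sum.inl i) with hw₁
      set w₂ : κ → K := fun j => w (Sum.inr j) with hw₂
      have hwe : w = Sum.elim w₁ w₂ := helper80_elim_eta w
      rw [hwe, fromBlocks_mulVec] at hw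
      simp only [Sum.elim_comp_inl, Sum.elim_comp_inr] at hw
      obtain ⟨hw1, hw2⟩ := helper80_elim_eq_zero _ _ hw
      simp only [zero_mulVec, zero_add] at hw2
      have hfix : A₂ *ᵥ w₂ = w₂ := by
        rw [sub_mulVec, one_mulVec, sub_eq_zero] at hw2
        exact hw2
      have hw₂0 : w₂ = 0 := by
        by_contra hne
        apply hX w₂ hfix hne (-w₁)
        rw [mulVec_neg]
        have h3 := eq_neg_of_add_eq_zero_left hw1
        rw [h3, neg_neg]
      rw [hw₂0, mulVec_zero, add_zero] at hw1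
      obtain ⟨a, ha⟩ := hall₁ w₁ hw1
      refine ⟨a, ?_⟩
      rw [hwe, hw₂0, ha]
      funext x
      cases x with
      | inl i => simp
      | inr j => simp

end Cfsg.Agent.Lib.helper51.Lev
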