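/-
S2522 split (owner helper51), piece BORD: `border`.
-/
import Mathlib
import Cfsg.Agent.Lib.helper51.LevDefs
import Cfsg.Agent.Lib.helper80.LevGLUEA

set_option autoImplicit false

namespace Cfsg.Agent.Lib.helper51.Lev

open Matrix

variable {K : Type*} [Field K]

theorem helper80_col_mulVec {κ : Type} (c₁ : κ → K) (w₀ : Unit → K) :
    replicateCol Unit c₁ *ᵥ w₀ = w₀ () • c₁ := by
  funext j
  simp [mulVec, dotProduct, mul_comm]

theorem helper80_row_mulVec {κ : Type} [Fintype κ] (r₁ : κ → K) (w₁ : κ → K) :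
    replicateRow Unit r₁ *ᵥ w₁ = fun _ => r₁ ⬝ᵥ w₁ := by
  funext u
  simp [mulVec, dotProduct]

theorem helper80_unit_fun_eq_zero (w₀ : Unit → K) (h : w₀ () = 0) : w₀ = 0 := by
  funext u
  cases u
  exact h

/-- kernel of the bordered `B̂ - 1`. -/
theorem helper80_ker_Bhat {κ : Type} [Fintype κ] [DecidableEq κ] (B' : Matrix κ κ K)
    (r₁ : κ → K) (hB : ∀ w : κ → K, B' *ᵥ w = w → w ≠ 0 → r₁ ⬝ᵥ w ≠ 0)
    (w₀ : Unit → K) (w₁ : κ → K)
    (hw : fromBlocks (0 : Matrix Unit Unit K) (replicateRow Unit r₁) 0 (B' - 1) *ᵥ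
      Sum.elim w₀ w₁ = 0) : w₁ = 0 := by
  rw [fromBlocks_mulVec] at hw
  simp only [Sum.elim_comp_inl, Sum.elim_comp_inr] at hw
  obtain ⟨h1, h2⟩ := helper80_elim_eq_zero _ _ hw
  simp only [zero_mulVec, zero_add] at h1 h2
  rw [helper80_row_mulVec] at h1
  have h1' : r₁ ⬝ᵥ w₁ = 0 := congrFun h1 ()
  have hfix : B' *ᵥ w₁ = w₁ := by
    rw [sub_mulVec, one_mulVec, sub_eq_zero] at h2
    exact h2
  by_contra hne
  exact hB w₁ hfix hne h1'

/-- PIECE BORD: bordering. -/
theorem border_h80 {κ : Type} [Fintype κ] [DecidableEq κ] (D : Matrix κ κ K) (c₁ r₁ : κ → K)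
    (h : PS D c₁ r₁) (c r : Unit ⊕ κ → K) (hc : c (Sum.inl ()) ≠ 0) (hr : r (Sum.inl ()) ≠ 0) :
    PS (fromBlocks (1 : Matrix Unit Unit K) (replicateRow Unit r₁) (replicateCol Unit c₁)
      (D + vecMulVec c₁ r₁)) c r := by
  obtain ⟨A', B', hA', hB', hD, hAc, hBr⟩ := h
  obtain ⟨hnA, hrA⟩ := hA'
  obtain ⟨hnB, hrB⟩ := hB'
  have hsubA : fromBlocks (1 : Matrix Unit Unit K) 0 (replicateCol Unit c₁) A' - 1 =
      fromBlocks 0 0 (replicateCol Unit c₁) (A' - 1) := by
    rw [← fromBlocks_one, sub_eq_add_neg, fromBlocks_neg, fromBlocks_add]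
    simp [sub_eq_add_neg]
  have hsubB : fromBlocks (1 : Matrix Unit Unit K) (replicateRow Unit r₁) 0 B' - 1 =
      fromBlocks 0 (replicateRow Unit r₁) 0 (B' - 1) := by
    rw [← fromBlocks_one, sub_eq_add_neg, fromBlocks_neg, fromBlocks_add]
    simp [sub_eq_add_neg]
  -- kernel analysis of `Â - 1`
  have hkerA : ∀ (w₀ : Unit → K) (w₁ : κ → K),
      fromBlocks (0 : Matrix Unit Unit K) 0 (replicateCol Unit c₁) (A' - 1) *ᵥ
        Sum.elim w₀ w₁ = 0 → w₀ = 0 ∧ (A' - 1) *ᵥ w₁ = 0 := by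
    intro w₀ w₁ hw
    rw [fromBlocks_mulVec] at hw
    simp only [Sum.elim_comp_inl, Sum.elim_comp_inr] at hw
    obtain ⟨-, h2⟩ := helper80_elim_eq_zero _ _ hw
    rw [helper80_col_mulVec] at h2
    have hw₀ : w₀ () = 0 := by
      by_contra hne
      apply hAc (-(w₀ ())⁻¹ • w₁)
      rw [mulVec_smul]
      have h3 := eq_neg_of_add_eq_zero_right h2
      rw [h3, neg_smul, smul_neg, neg_neg, smul_smul, inv_mul_cancel₀ hne, one_smul]
    have hw₀' : w₀ = 0 := helper80_unit_fun_eq_zero w₀ hw₀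
    refine ⟨hw₀', ?_⟩
    rw [hw₀, zero_smul, zero_add] at h2
    exact h2
  refine ⟨fromBlocks 1 0 (replicateCol Unit c₁) A', fromBlocks 1 (replicateRow Unit r₁) 0 B',
    ⟨?_, ?_⟩, ⟨?_, ?_⟩, ?_, ?_, ?_⟩
  · rw [hsubA]
    exact helper80_nil_lower _ _ _ IsNilpotent.zero hnA
  · rw [hsubA, helper80_rank_iff]
    obtain ⟨v, hv0, hv, hall⟩ := (helper80_rank_iff (A' - 1)).mp hrA
    refine ⟨Sum.elim 0 v, ?_, ?_, ?_⟩
    · intro h0
      exact hv0 (helper80_elim_eq_zero 0 v h0).2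
    · rw [fromBlocks_mulVec]
      simp [hv]
    · intro w hw
      have hwe : w = Sum.elim (fun i => w (Sum.inl i)) (fun j => w (Sum.inr j)) :=
        helper80_elim_eta w
      rw [hwe] at hw
      obtain ⟨h0, h1⟩ := hkerA _ _ hw
      obtain ⟨a, ha⟩ := hall _ h1
      refine ⟨a, ?_⟩
      rw [hwe, h0, ha]
      funext x
      cases x with
      | inl i => simp
      | inr j => simp
  · rw [hsubB]
    exact helper80_nil_upper _ _ _ IsNilpotent.zero hnB
  · rw [hsubB, helper80_rank_iff]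
    refine ⟨Sum.elim (fun _ => 1) 0, ?_, ?_, ?_⟩
    · intro h0
      have := congrFun (helper80_elim_eq_zero (fun _ : Unit => (1 : K)) (0 : κ → K) h0).1 ()
      simp at this
    · rw [fromBlocks_mulVec]
      simp
    · intro w hw
      have hwe : w = Sum.elim (fun i => w (Sum.inl i)) (fun j => w (Sum.inr j)) :=
        helper80_elim_eta w
      rw [hwe] at hw
      have h1 := helper80_ker_Bhat B' r₁ hBr _ _ hw
      refine ⟨w (Sum.inl ()), ?_⟩
      rw [hwe, h1]
      funext x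
      cases x with
      | inl i => cases i; simp
      | inr j => simp
  · rw [fromBlocks_multiply, hD]
    congr 1
    · simp
    · simp
    · simp
    · rw [add_comm, vecMulVec_eq Unit]
  · intro w hw
    have hwe : w = Sum.elim (fun i => w (Sum.inl i)) (fun j => w (Sum.inr j)) :=
      helper80_elim_eta w
    rw [hsubA, hwe, fromBlocks_mulVec] at hw
    have := congrFun hw (Sum.inl ())
    simp only [Sum.elim_comp_inl, Sum.elim_comp_inr, zero_mulVec, zero_add, Sum.elim_inl,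
      Pi.zero_apply] at this
    exact hc this.symm
  · intro w hw hw0
    have hwe : w = Sum.elim (fun i => w (Sum.inl i)) (fun j => w (Sum.inr j)) :=
      helper80_elim_eta w
    have hw' : fromBlocks (0 : Matrix Unit Unit K) (replicateRow Unit r₁) 0 (B' - 1) *ᵥ
        Sum.elim (fun i => w (Sum.inl i)) (fun j => w (Sum.inr j)) = 0 := by
      rw [← hsubB, ← hwe, sub_mulVec, one_mulVec, hw, sub_self]
    have h1 := helper80_ker_Bhat B' r₁ hBr _ _ hw'
    have h0 : w (Sum.inl ()) ≠ 0 := by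
      intro h0
      apply hw0
      rw [hwe, h1]
      funext x
      cases x with
      | inl i => cases i; simpa using h0
      | inr j => simp
    have hdot : r ⬝ᵥ w = r (Sum.inl ()) * w (Sum.inl ()) := by
      rw [dotProduct, Fintype.sum_sum_type]
      have h2 : ∀ j : κ, w (Sum.inr j) = 0 := fun j => congrFun h1 j
      simp [h2]
    rw [hdot]
    exact mul_ne_zero hr h0

end Cfsg.Agent.Lib.helper51.Lev
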