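import Cfsg.Agent.Lib.helper80.CentralQuot
import Cfsg.Agent.Lib.helper80.StabIndex
import Cfsg.Agent.Lib.helper80.BlockFusionDef
import Cfsg.Agent.Lib.helper80.CentricNormal
import Cfsg.Agent.Lib.helper80.Nilpotent
import Cfsg.Agent.S4657

/-!
# Maximal Brauer pairs and characters of defect zero (helper80)

A Brauer pair `(Q, e)` is maximal (for its block) iff `e` has a member trivial on `Z(Q)` of defect
zero as a character of `C_G(Q) / Z(Q)`, and every `p`-element of the stabilizer of `e` in `N_G(Q)`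
lies in `Q C_G(Q)`.
-/

set_option autoImplicit false

open Cfsg

namespace Cfsg.Agent.Lib.helper80

universe u

section MaxPair

variable {G : Type u} [Group G] [Fintype G] {p : ℕ} [Fact p.Prime] {M : Ideal AlgInt}

open Cfsg.Agent.Lib.helper20

omit [Fintype G] in
/-- `Z(Q)`, as a subgroup of `C_G(Q)`, is central. -/
theorem center_subgroupOf_le_center (Q : Subgroup G) :
    (Q ⊓ Subgroup.centralizer (Q : Set G)).subgroupOf (Subgroup.centralizer (Q : Set G))
      ≤ Subgroup.center (Subgroup.centralizer (Q : Set G)) := by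
  intro z hz
  rw [Subgroup.mem_subgroupOf] at hz
  rw [Subgroup.mem_center_iff]
  intro c
  apply Subtype.ext
  exact ((Subgroup.mem_centralizer_iff.mp c.2) _ hz.1).symm

/-- For a maximal Brauer pair `(P, e)`, `Z(P)` is a defect group of `e`. -/
theorem center_isDefectGroup_of_maximal (hM : IsPModular p M) {B : Set (IrrCharacter G)}
    {P : Subgroup G} {e : Set (IrrCharacter (Subgroup.centralizer (P : Set G)))}
    (hmax : IsMaximalBrauerPair p M B P e) :
    IsDefectGroup p M e
      ((P ⊓ Subgroup.centralizer (P : Set G)).subgroupOf (Subgroup.centralizer (P : Set G))) := by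
  have hF := isBlockFusionSystemOn_blockFusion hM hmax
  have hPe : IsBrauerPair p M P e := hmax.1.1
  have hle : SubpairLE p M P e P e := Relation.ReflTransGen.refl
  refine (centric_iff hM hF le_rfl hPe.2 hle).mp ⟨le_rfl, ?_⟩
  intro Q' hQ'
  obtain ⟨g, rfl, hleg⟩ := (isConj_blockFusion_iff hM hF hle Q').mp hQ'
  have hle' : P.map (MulAut.conj g).toMonoidHom ≤ P := subpairLE_le ⟨_, _⟩ ⟨_, _⟩ hleg
  have hcard : Nat.card (P.map (MulAut.conj g).toMonoidHom) = Nat.card P :=
    Subgroup.card_map_of_injective (MulAut.conj g).injective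
  have heq : P.map (MulAut.conj g).toMonoidHom = P :=
    Subgroup.eq_of_le_of_card_ge hle' (le_of_eq hcard.symm)
  rw [heq]
  exact inf_le_left

/-- A maximal pair has a canonical character of defect zero modulo `Z(Q)`. -/
theorem exists_char_of_maximal (hM : IsPModular p M) {B : Set (IrrCharacter G)}
    {Q : Subgroup G} {e : Set (IrrCharacter (Subgroup.centralizer (Q : Set G)))}
    (hmax : IsMaximalBrauerPair p M B Q e) :
    ∃ θ ∈ e, (∀ z : Subgroup.centralizer (Q : Set G), (z : G) ∈ Q →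
        (θ : Subgroup.centralizer (Q : Set G) → ℂ) z
          = (θ : Subgroup.centralizer (Q : Set G) → ℂ) 1) ∧
      (charDegree (θ : Subgroup.centralizer (Q : Set G) → ℂ)).factorization p
        + (Nat.card ↥(Q ⊓ Subgroup.centralizer (Q : Set G))).factorization p
        = (Nat.card (Subgroup.centralizer (Q : Set G))).factorization p := by
  have hD := center_isDefectGroup_of_maximal hM hmax
  obtain ⟨θ, hθ, hθZ, hdeg⟩ := exists_canonical_of_central hM _
    (center_subgroupOf_le_center Q) hmax.1.1.2 hD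
  refine ⟨θ, hθ, fun z hz => hθZ z (Subgroup.mem_subgroupOf.mpr ⟨hz, z.2⟩), ?_⟩
  rw [card_subgroupOf_of_le inf_le_right] at hdeg
  exact hdeg

/-- For a maximal pair `(Q, e)`, the `p`-elements of the stabilizer of `e` lie in `Q C_G(Q)`. -/
theorem mem_sup_of_maximal (hM : IsPModular p M) {B : Set (IrrCharacter G)}
    {Q : Subgroup G} {e : Set (IrrCharacter (Subgroup.centralizer (Q : Set G)))}
    (hmax : IsMaximalBrauerPair p M B Q e) (g : G)
    (hgN : g ∈ Subgroup.normalizer (Q : Set G))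
    (hgs : StabilizesBlock (Subgroup.centralizer (Q : Set G)) e g)
    (hgp : ∃ k : ℕ, orderOf g = p ^ k) : g ∈ Q ⊔ Subgroup.centralizer (Q : Set G) := by
  classical
  have hp := (Fact.out : p.Prime)
  have hMp := isPrime_of_isPModular hM
  have hPe : IsBrauerPair p M Q e := hmax.1.1
  obtain ⟨T, hTdef⟩ : ∃ T : Subgroup G, T = stabSub hMp Q e hPe.2 := ⟨_, rfl⟩
  have hT : ∀ y : G, y ∈ T ↔ y ∈ Subgroup.normalizer (Q : Set G) ∧
      StabilizesBlock (Subgroup.centralizer (Q : Set G)) e y := fun y => by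
    rw [hTdef]
    exact mem_stabSub hMp Q e hPe.2 y
  have hTN : T ≤ Subgroup.normalizer (Q : Set G) := fun y hy => ((hT y).mp hy).1
  have hidx := not_dvd_index_of_maximal hM hmax T hT
  have hn1 : ((Subgroup.centralizer (Q : Set G)).subgroupOf T).Normal :=
    normal_centralizer_subgroupOf_stabilizer Q T hT
  have hn2 : (Q.subgroupOf T).Normal := Subgroup.normal_subgroupOf_of_le_normalizer hTN
  have hgT : g ∈ T := (hT g).mpr ⟨hgN, hgs⟩
  obtain ⟨k, hk⟩ := hgp
  have h1 : (⟨g, hgT⟩ : T) ^ ((Subgroup.centralizer (Q : Set G)).subgroupOf T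
      ⊔ Q.subgroupOf T).index ∈ (Subgroup.centralizer (Q : Set G)).subgroupOf T
      ⊔ Q.subgroupOf T := Subgroup.pow_index_mem _ _
  have h2 : (⟨g, hgT⟩ : T) ^ (p ^ k) ∈ (Subgroup.centralizer (Q : Set G)).subgroupOf T
      ⊔ Q.subgroupOf T := by
    have h3 : (⟨g, hgT⟩ : T) ^ (p ^ k) = 1 := by
      apply Subtype.ext
      rw [Subgroup.coe_pow, ← hk]
      exact pow_orderOf_eq_one g
    rw [h3]
    exact Subgroup.one_mem _
  have hcop : Nat.Coprime ((Subgroup.centralizer (Q : Set G)).subgroupOf T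
      ⊔ Q.subgroupOf T).index (p ^ k) :=
    Nat.Coprime.pow_right k (((Nat.Prime.coprime_iff_not_dvd hp).mpr hidx).symm)
  have hmem := mem_of_pow_mem_of_coprime _ hcop h1 h2
  have h4 : ((Subgroup.centralizer (Q : Set G)).subgroupOf T ⊔ Q.subgroupOf T).map T.subtype
      ≤ Q ⊔ Subgroup.centralizer (Q : Set G) := by
    rw [Subgroup.map_sup]
    refine sup_le ?_ ?_
    · rintro _ ⟨x, hx, rfl⟩
      exact Subgroup.mem_sup_right (Subgroup.mem_subgroupOf.mp hx)
    · rintro _ ⟨x, hx, rfl⟩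
      exact Subgroup.mem_sup_left (Subgroup.mem_subgroupOf.mp hx)
  exact h4 ⟨⟨g, hgT⟩, hmem, rfl⟩

/-- If `Z(Q)` is a defect group of `e` and the `p`-elements of the stabilizer of `e` lie in
`Q C_G(Q)`, then `(Q, e)` is a maximal Brauer pair. -/
theorem isMaximal_of_center_defect (hM : IsPModular p M) {Q : Subgroup G}
    {e : Set (IrrCharacter (Subgroup.centralizer (Q : Set G)))} (he : IsBrauerPair p M Q e)
    (hD : IsDefectGroup p M e
      ((Q ⊓ Subgroup.centralizer (Q : Set G)).subgroupOf (Subgroup.centralizer (Q : Set G))))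
    (hstab : ∀ g : G, g ∈ Subgroup.normalizer (Q : Set G) →
      StabilizesBlock (Subgroup.centralizer (Q : Set G)) e g → (∃ k : ℕ, orderOf g = p ^ k) →
      g ∈ Q ⊔ Subgroup.centralizer (Q : Set G)) :
    ∃ B : Set (IrrCharacter G), IsMaximalBrauerPair p M B Q e := by
  classical
  have hp := (Fact.out : p.Prime)
  have hMp := isPrime_of_isPModular hM
  obtain ⟨B, hB, -⟩ := Cfsg.Agent.S4657.result p M hM Q e he
  refine ⟨B, ?_⟩
  obtain ⟨P, e', hmax, hle⟩ := exists_maximal_above hM _ Q e rfl hB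
  have hPe : IsBrauerPair p M P e' := hmax.1.1
  have hP : IsPGroup p P := hPe.1
  have hQP : Q ≤ P := subpairLE_le ⟨_, _⟩ ⟨_, _⟩ hle
  have hCPQ : P ⊓ Subgroup.centralizer (Q : Set G) ≤ Q := by
    obtain ⟨D, hD', hDle⟩ := exists_defectGroup_centralizer_le hM hPe hQP he.2 hle
    have hcard := IsDefectGroup.card_eq hM he.2 hD hD'
    have hZle : (Q ⊓ Subgroup.centralizer (Q : Set G)).subgroupOf
        (Subgroup.centralizer (Q : Set G))
        ≤ (P ⊓ Subgroup.centralizer (Q : Set G)).subgroupOf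
          (Subgroup.centralizer (Q : Set G)) := by
      intro y hy
      rw [Subgroup.mem_subgroupOf] at hy ⊢
      exact ⟨hQP hy.1, hy.2⟩
    have heq := Subgroup.eq_of_le_of_card_ge (hZle.trans hDle) (le_of_eq hcard)
    intro x hx
    have h1 : (⟨x, hx.2⟩ : Subgroup.centralizer (Q : Set G)) ∈ D :=
      hDle (Subgroup.mem_subgroupOf.mpr hx)
    rw [← heq, Subgroup.mem_subgroupOf] at h1
    exact h1.1
  have hNPQ : ∀ x ∈ P, x ∈ Subgroup.normalizer (Q : Set G) → x ∈ Q := by
    intro x hxP hxN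
    have hRP : P ⊓ Subgroup.normalizer (Q : Set G) ≤ P := inf_le_left
    have hQR : Q ≤ P ⊓ Subgroup.normalizer (Q : Set G) := le_inf hQP Subgroup.le_normalizer
    obtain ⟨eR, heR, hleR⟩ := exists_subpairLE hM _ P _ e' hPe hRP rfl
    obtain ⟨f', hf', hle'⟩ := exists_subpairLE hM _ _ Q eR ⟨hP.to_le hRP, heR⟩ hQR rfl
    have hff : f' = e := subpairLE_unique hM P e' hPe _ Q f' e rfl
      (Relation.ReflTransGen.trans hle' hleR) hle
    subst hff
    have hns := normalSubpair_of_subpairLE hM ⟨Q, f'⟩ ⟨_, eR⟩ hle' he inf_le_right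
    have hxs : StabilizesBlock (Subgroup.centralizer (Q : Set G)) f' x :=
      hns.2.2.2.2.1 x ⟨hxP, hxN⟩
    have hxp : ∃ k : ℕ, orderOf x = p ^ k := by
      obtain ⟨k, hk⟩ := hP ⟨x, hxP⟩
      have h1 : x ^ p ^ k = 1 := congrArg Subtype.val hk
      obtain ⟨m, -, hm⟩ := (Nat.dvd_prime_pow hp).mp (orderOf_dvd_of_pow_eq_one h1)
      exact ⟨m, hm⟩
    have hxsup := hstab x hxN hxs hxp
    obtain ⟨q, hq, c, hc, rfl⟩ := exists_mul_of_mem_sup_centralizer Q hxsup
    have hcP : c ∈ P := by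
      have h1 : c = q⁻¹ * (q * c) := by group
      rw [h1]
      exact P.mul_mem (P.inv_mem (hQP hq)) hxP
    exact Q.mul_mem hq (hCPQ ⟨hcP, hc⟩)
  have hPQ : Q = P := by
    by_contra hne
    have hlt : Q < P := lt_of_le_of_ne hQP hne
    obtain ⟨x, hxP, hxQ, hxN⟩ := exists_normalizer_of_lt hP hlt
    exact hxQ (hNPQ x hxP hxN)
  subst hPQ
  have hee : e = e' := subpairLE_unique hM Q e' hPe _ Q e e' rfl hle Relation.ReflTransGen.refl
  rw [hee]
  exact hmax

end MaxPair

end Cfsg.Agent.Lib.helper80
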