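import Cfsg.Agent.Lib.helper80.BlockIdem
import Cfsg.Agent.Lib.helper80.LocalInt
import Cfsg.Agent.Lib.helper82.Clifford
import Cfsg.Agent.Lib.helper82.CharDeg
import Cfsg.Agent.Lib.helper84.BlockOrth
import Cfsg.Agent.Lib.helper79.PPartCong

/-!
# Characters of a block lying over a character of a normal subgroup

For `N ⊴ G`, `θ ∈ Irr(N)` and a `p`-block `B` of `G`, the class function
`∑_{χ ∈ Irr(B | θ)} χ(1) χ` vanishes at the `p`-elements outside `N`.  Consequently
`p ∣ ∑_{χ ∈ Irr(B | θ)} χ(1)²` as soon as `N` does not contain every `p`-element.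
-/

set_option autoImplicit false
open Cfsg
open scoped ComplexConjugate

namespace Cfsg.Agent.Lib.helper80

section OverTheta

variable {G : Type*} [Group G] [Fintype G]

/-- The irreducible characters of `G` lying over the irreducible character `θ` of `N`. -/
def overSet (N : Subgroup G) [Fintype N] (θ : IrrCharacter N) : Set (IrrCharacter G) :=
  {χ | classInner (fun n : N => (χ : G → ℂ) n) (θ : N → ℂ) ≠ 0}

theorem mem_overSet (N : Subgroup G) [Fintype N] (θ : IrrCharacter N) (χ : IrrCharacter G) :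
    χ ∈ overSet N θ ↔ classInner (fun n : N => (χ : G → ℂ) n) (θ : N → ℂ) ≠ 0 := Iff.rfl

open scoped Classical in
/-- `∑_{χ over θ} χ(1) χ(g) = 0` for `g ∉ N`. -/
theorem sum_over_eq_zero (N : Subgroup G) [N.Normal] [Fintype N] (θ : IrrCharacter N) {g : G}
    (hg : g ∉ N) :
    ∑ χ : IrrCharacter G,
      (if χ ∈ overSet N θ then (χ : G → ℂ) 1 * (χ : G → ℂ) g else 0) = 0 := by
  classical
  have hind : IsCharacter G (indFun N (θ : N → ℂ)) :=
    Cfsg.Agent.Lib.helper4.isCharacter_indFun N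
      (Cfsg.Agent.Lib.helper4.isCharacter_of_isIrrCharacter θ.2)
  obtain ⟨K, hK, hKg, -⟩ := Cfsg.Agent.Lib.helper82.exists_nat_decomp hind
  have hK' : ∀ χ : IrrCharacter G,
      classInner (θ : N → ℂ) (fun n : N => (χ : G → ℂ) n) = K χ := by
    intro χ
    rw [← hK χ, Cfsg.Agent.Lib.helper4.frobenius_reciprocity N _
      (Cfsg.Agent.Lib.helper81.irr_classFun χ)]
  have hsym : ∀ χ : IrrCharacter G,
      classInner (fun n : N => (χ : G → ℂ) n) (θ : N → ℂ) = K χ := by
    intro χ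
    rw [← Cfsg.Agent.Lib.helper4.classInner_conj_symm, hK' χ, Complex.conj_natCast]
  have h0 := hKg g
  rw [Cfsg.Agent.Lib.helper82.indFun_apply_not_mem N _ hg] at h0
  have hc : ∀ χ : IrrCharacter G,
      (if χ ∈ overSet N θ then (χ : G → ℂ) 1 * (χ : G → ℂ) g else 0) =
      (((Cfsg.Agent.Lib.helper82.inertia N (θ : N → ℂ)).index : ℂ) * (θ : N → ℂ) 1) *
        ((K χ : ℂ) * (χ : G → ℂ) g) := by
    intro χ
    by_cases h : χ ∈ overSet N θ
    · rw [if_pos h]
      have hne : K χ ≠ 0 := by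
        intro h0
        apply h
        rw [hsym χ, h0]
        simp
      rw [Cfsg.Agent.Lib.helper82.clifford_degree N χ.2 θ.2 (K χ) (hsym χ) hne]
      ring
    · rw [if_neg h]
      have hz : K χ = 0 := by
        by_contra h0
        apply h
        rw [mem_overSet, hsym χ]
        exact_mod_cast h0
      rw [hz]
      simp
  rw [Finset.sum_congr rfl (fun χ _ => hc χ), ← Finset.mul_sum, ← h0, mul_zero]

/-- The idempotent of the characters over `θ` is supported on `N`. -/
theorem blockCoeff_overSet_eq_zero (N : Subgroup G) [N.Normal] [Fintype N] (θ : IrrCharacter N)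
    {g : G} (hg : g ∉ N) : blockCoeff (overSet N θ) g = 0 := by
  classical
  rw [blockCoeff_eq_sum (overSet N θ) g]
  have hg' : g⁻¹ ∉ N := fun h => hg (by simpa using N.inv_mem h)
  have h := sum_over_eq_zero N θ hg'
  have h2 : ∑ χ : IrrCharacter G,
      (if χ ∈ overSet N θ then (χ : G → ℂ) 1 * conj ((χ : G → ℂ) g) else 0) =
      ∑ χ : IrrCharacter G,
      (if χ ∈ overSet N θ then (χ : G → ℂ) 1 * (χ : G → ℂ) g⁻¹ else 0) := by
    refine Finset.sum_congr rfl fun χ _ => ?_
    rw [Cfsg.Agent.Lib.helper81.irr_inv]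
  rw [h2, h, mul_zero]

/-- The idempotent of the characters of the block `B` over `θ` vanishes at the `p`-elements
outside `N`. -/
theorem blockCoeff_overSet_inter_eq_zero {p : ℕ} [Fact p.Prime] {M : Ideal AlgInt}
    (hM : IsPModular p M) (N : Subgroup G) [N.Normal] [Fintype N] (θ : IrrCharacter N)
    {B : Set (IrrCharacter G)} (hB : IsPBlock M B) {x : G} (hx : x ∉ N) (k : ℕ)
    (hxk : x ^ (p ^ k) = 1) : blockCoeff (overSet N θ ∩ B) x = 0 := by
  classical
  have hpr : p.Prime := Fact.out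
  rw [← conv_blockCoeff]
  unfold Cfsg.Agent.Lib.helper81.conv
  refine Finset.sum_eq_zero fun a _ => ?_
  by_cases ha : a ∈ N
  · have hdvd : p ∣ orderOf (a⁻¹ * x) := by
      by_contra hnd
      apply hx
      rw [← QuotientGroup.eq_one_iff]
      have h1 : ((a⁻¹ * x : G) : G ⧸ N) = (x : G ⧸ N) := by
        rw [QuotientGroup.mk_mul, QuotientGroup.mk_inv, (QuotientGroup.eq_one_iff a).mpr ha]
        simp
      have h2 : (x : G ⧸ N) ^ orderOf (a⁻¹ * x) = 1 := by
        rw [← h1, ← QuotientGroup.mk_pow, pow_orderOf_eq_one, QuotientGroup.mk_one]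
      have h3 : (x : G ⧸ N) ^ (p ^ k) = 1 := by
        rw [← QuotientGroup.mk_pow, hxk, QuotientGroup.mk_one]
      have h4 : orderOf (x : G ⧸ N) ∣ Nat.gcd (orderOf (a⁻¹ * x)) (p ^ k) :=
        Nat.dvd_gcd (orderOf_dvd_of_pow_eq_one h2) (orderOf_dvd_of_pow_eq_one h3)
      have h5 : Nat.gcd (orderOf (a⁻¹ * x)) (p ^ k) = 1 :=
        Nat.Coprime.pow_right k ((Nat.Prime.coprime_iff_not_dvd hpr).mpr hnd).symm
      rw [h5, Nat.dvd_one, orderOf_eq_one_iff] at h4
      exact h4
    rw [Cfsg.Agent.Lib.helper84.blockCoeff_eq_zero_of_dvd_orderOf hM hB _ hdvd, mul_zero]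
  · rw [blockCoeff_overSet_eq_zero N θ ha, zero_mul]

open scoped Classical in
/-- If the idempotent of a set `T` of irreducible characters vanishes at a `p`-element, then `p`
divides the sum of the squares of the degrees of the members of `T`. -/
theorem dvd_sum_degree_sq_of_blockCoeff_eq_zero {p : ℕ} [Fact p.Prime] {M : Ideal AlgInt}
    (hM : IsPModular p M) (T : Set (IrrCharacter G)) {x : G} (k : ℕ)
    (hxk : x ^ (p ^ k) = 1) (h0 : blockCoeff T x = 0) :
    p ∣ ∑ χ ∈ Finset.univ.filter (fun χ : IrrCharacter G => χ ∈ T),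
      charDegree (χ : G → ℂ) ^ 2 := by
  have hMp := Cfsg.Agent.Lib.helper20.isPrime_of_isPModular hM
  rw [blockCoeff_eq_sum] at h0
  have hG : (Nat.card G : ℂ)⁻¹ ≠ 0 := by
    apply inv_ne_zero
    have : Nat.card G ≠ 0 := Nat.card_pos.ne'
    exact_mod_cast this
  have h1 := (mul_eq_zero.mp h0).resolve_left hG
  by_contra hnd
  apply not_memLocalIdeal_natCast hM hnd
  have h2 : ((∑ χ ∈ Finset.univ.filter (fun χ : IrrCharacter G => χ ∈ T),
      charDegree (χ : G → ℂ) ^ 2 : ℕ) : ℂ) =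
      ∑ χ : IrrCharacter G, (if χ ∈ T then
        (χ : G → ℂ) 1 * ((χ : G → ℂ) 1 - conj ((χ : G → ℂ) x)) else 0) := by
    have h3 : ∑ χ : IrrCharacter G, (if χ ∈ T then
        (χ : G → ℂ) 1 * ((χ : G → ℂ) 1 - conj ((χ : G → ℂ) x)) else 0) =
        ∑ χ : IrrCharacter G, (if χ ∈ T then
          (χ : G → ℂ) 1 * (χ : G → ℂ) 1 else 0) -
        ∑ χ : IrrCharacter G, (if χ ∈ T then
          (χ : G → ℂ) 1 * conj ((χ : G → ℂ) x) else 0) := by
      rw [← Finset.sum_sub_distrib]
      refine Finset.sum_congr rfl fun χ _ => ?_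
      split_ifs
      · ring
      · simp
    rw [h3, h1, sub_zero, Nat.cast_sum, Finset.sum_filter]
    refine Finset.sum_congr rfl fun χ _ => ?_
    split_ifs
    · rw [Cfsg.Agent.Lib.helper81.irr_one_eq_charDegree]
      push_cast
      ring
    · rfl
  rw [h2]
  refine Cfsg.Agent.Lib.helper20.memLocalIdeal_sum hMp _ _ (fun χ _ => ?_)
  split_ifs
  · refine Cfsg.Agent.Lib.helper20.memLocalIdeal_mul_left hMp ?_ ?_
    · rw [Cfsg.Agent.Lib.helper81.irr_one_eq_charDegree]
      exact Cfsg.Agent.Lib.helper20.memLocalRing_natCast hMp _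
    · rw [← Cfsg.Agent.Lib.helper81.irr_inv]
      have hx' : x⁻¹ ^ (p ^ k) = 1 := by rw [inv_pow, hxk, inv_one]
      have h4 := Cfsg.Agent.Lib.helper79.memLocalIdeal_char_mul_sub hM
        (Cfsg.Agent.Lib.helper4.isCharacter_of_isIrrCharacter χ.2) x⁻¹ 1 (Commute.one_right _) k hx'
      rw [mul_one] at h4
      have h5 : (χ : G → ℂ) 1 - (χ : G → ℂ) x⁻¹ = -((χ : G → ℂ) x⁻¹ - (χ : G → ℂ) 1) := by ring
      rw [h5]
      have h6 := Cfsg.Agent.Lib.helper20.memLocalIdeal_mul_left hMp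
        (Cfsg.Agent.Lib.helper20.memLocalRing_intCast hMp (-1)) h4
      have h7 : ((-1 : ℤ) : ℂ) * ((χ : G → ℂ) x⁻¹ - (χ : G → ℂ) 1) =
          -((χ : G → ℂ) x⁻¹ - (χ : G → ℂ) 1) := by
        push_cast
        ring
      rw [h7] at h6
      exact h6
  · exact Cfsg.Agent.Lib.helper20.memLocalIdeal_zero hMp

end OverTheta

end Cfsg.Agent.Lib.helper80
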