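import Mathlib
import Cfsg.Agent.Lib.helper79.PearlX
import Cfsg.Agent.Lib.helper80.PearlF34

/-!
S5239 split (architect helper79), sub-piece (c) of NONUNIF: the cube of a non-uniform element
`h ∉ P_2` has depth exactly 3 (`n ≥ 5`).  Inputs: `P_2` abelian, `h ^ 3 ∈ P_2`, `com h x ∉ P_3`,
and the shift property `[P_j, h] ≤ P_(j+2)`.
-/

set_option autoImplicit false

namespace Cfsg.Agent.Lib.helper79.P3

open Cfsg.Agent.Lib.helper68

theorem h80_p3_nonunif_c {G : Type*} [Group G] [Finite G] (n : ℕ) (hn : 5 ≤ n)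
    (hG : Nat.card G = 3 ^ n) (x : G) (hx : x ^ 3 = 1)
    (hC : Nat.card (Subgroup.centralizer ({x} : Set G)) = 3 ^ 2)
    (hab : ∀ a ∈ gam G 2, ∀ b ∈ gam G 2, a * b = b * a) (h : G) (hh3 : h ^ 3 ∈ gam G 2)
    (hc3 : com h x ∉ gam G 3)
    (hshift : ∀ j, 2 ≤ j → ∀ v ∈ gam G j, com v h ∈ gam G (j + 2)) :
    h ^ 3 ∈ gam G 3 ∧ h ^ 3 ∉ gam G 4 := by
  have : Fact (Nat.Prime 3) := ⟨Nat.prime_three⟩
  have hn3 : 3 ≤ n := by omega
  have hx1 : x ∈ gam G 1 := by simp [gam]
  have hh1 : h ∈ gam G 1 := by simp [gam]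
  have hnil : gam G n = ⊥ := by
    have hcard := Cfsg.Agent.Lib.helper79.h79_px_card 3 n hG x hC hn3 n (by omega) le_rfl
    rw [Nat.sub_self, pow_zero] at hcard
    exact Subgroup.eq_bot_of_card_eq _ hcard
  have honto : ∀ w, 1 ≤ w → ∀ y ∈ gam G (w + 1), ∃ g ∈ gam G w, com x g = y := by
    intro w hw y hy
    rcases Nat.lt_or_ge n (w + 1) with hlt | hge
    · have hy' : y ∈ gam G n := gam_antitone (by omega) hy
      rw [hnil, Subgroup.mem_bot] at hy'
      subst hy'
      exact ⟨1, one_mem _, by simp [com]⟩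
    · exact Cfsg.Agent.Lib.helper79.h79_px_onto 3 n hG x hC hn3 w hw hge y hy
  have huni : ∀ i, 2 ≤ i → i + 2 ≤ n → ∀ m ∈ gam G i, m ∉ gam G (i + 1) →
      com m x ∉ gam G (i + 2) :=
    fun i hi hin m hm hm' =>
      (Cfsg.Agent.Lib.helper79.h79_px_unis 3 n hG x hC hn3 i hi hin m hm hm').2
  have hf34 := Cfsg.Agent.Lib.helper80.PearlF34.pearl_f34 3 n x hx hnil honto huni
  have hc2 : com h x ∈ gam G 2 := com_mem hh1 hx1
  have hd4 : com (com h x) h ∈ gam G 4 := hshift 2 le_rfl _ hc2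
  have he6 : com (com (com h x) h) h ∈ gam G 6 := hshift 4 (by norm_num) _ hd4
  have hd2 : com (com h x) h ∈ gam G 2 := gam_antitone (by norm_num) hd4
  have he2 : com (com (com h x) h) h ∈ gam G 2 := gam_antitone (by norm_num) he6
  -- abbreviations as universally quantified identities
  have key : ∀ c d e : G, d = com c h → e = com d h → c = com h x →
      c * d = d * c → c * e = e * c → d * e = e * d →
      com (h ^ 3) x = c ^ 3 * (d ^ 3 * e) := by
    intro c d e hd he hc hcd hce hde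
    have e1 : h⁻¹ * c * h = c * d := by rw [hd]; unfold com; group
    have e2 : h⁻¹ * d * h = d * e := by rw [he]; unfold com; group
    have hh : h ^ 3 = h * h * h := by rw [pow_succ, pow_succ, pow_one]
    have e3 : com (h ^ 3) x = (h⁻¹ * (h⁻¹ * c * h) * h) * (h⁻¹ * c * h) * c := by
      rw [hc, hh]; unfold com; group
    have e4 : h⁻¹ * (c * d) * h = (h⁻¹ * c * h) * (h⁻¹ * d * h) := by group
    rw [e3, e1, e4, e1, e2]
    have hdc : d * c = c * d := hcd.symm
    have hec : e * c = c * e := hce.symm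
    have hed : e * d = d * e := hde.symm
    have R1 : ∀ y, d * (c * y) = c * (d * y) := fun y => by rw [← mul_assoc, hdc, mul_assoc]
    have R2 : ∀ y, e * (c * y) = c * (e * y) := fun y => by rw [← mul_assoc, hec, mul_assoc]
    have R3 : ∀ y, e * (d * y) = d * (e * y) := fun y => by rw [← mul_assoc, hed, mul_assoc]
    have lhs : c * d * (d * e) * (c * d) * c = c * (c * (c * (d * (d * (d * e))))) := by
      simp only [mul_assoc, R1, R2, R3, hdc, hec, hed]
    have rhs : c ^ 3 * (d ^ 3 * e) = c * (c * (c * (d * (d * (d * e))))) := by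
      simp only [pow_succ, pow_zero, one_mul, mul_assoc]
    rw [lhs, rhs]
  have hkey := key (com h x) (com (com h x) h) (com (com (com h x) h) h) rfl rfl rfl
    (hab _ hc2 _ hd2) (hab _ hc2 _ he2) (hab _ hd2 _ he2)
  have hc34 := hf34 2 le_rfl (com h x) hc2
  have hc3a : (com h x) ^ 3 ∈ gam G 4 := hc34.1
  have hc3b : (com h x) ^ 3 ∉ gam G 5 := hc34.2 (by omega) hc3
  have hd3 : (com (com h x) h) ^ 3 ∈ gam G 6 := (hf34 4 (by norm_num) _ hd4).1
  have hde5 : (com (com h x) h) ^ 3 * com (com (com h x) h) h ∈ gam G 5 :=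
    gam_antitone (by norm_num : 5 ≤ 6) ((gam G 6).mul_mem hd3 he6)
  have hk4 : com (h ^ 3) x ∈ gam G 4 := by
    rw [hkey]
    exact (gam G 4).mul_mem hc3a (gam_antitone (by norm_num : 4 ≤ 5) hde5)
  have hk5 : com (h ^ 3) x ∉ gam G 5 := by
    rw [hkey]
    intro hcon
    apply hc3b
    have h7 := (gam G 5).mul_mem hcon ((gam G 5).inv_mem hde5)
    rwa [mul_inv_cancel_right] at h7
  constructor
  · by_contra hnot
    exact (Cfsg.Agent.Lib.helper79.h79_px_unis 3 n hG x hC hn3 2 le_rfl (by omega) (h ^ 3) hh3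
      hnot).2 hk4
  · intro h4
    exact hk5 (com_mem h4 hx1)

end Cfsg.Agent.Lib.helper79.P3
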