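import Mathlib
import Cfsg.Agent.Lib.helper79.PearlX
import Cfsg.Agent.Lib.helper80.P3NUC

/-!
S5239 split (architect helper79), NONUNIF sub-pieces: (c1) `h ^ 3 ∈ P_2` from `com h x ∉ P_3`
(else `G ⧸ P_2` is cyclic of order 9 generated by `h`, so `x ∈ h ^ k P_2` and
`com h x ∈ P_3`), and the glue core of `p3_nonuniform` from (b) and (c0).
-/

set_option autoImplicit false

namespace Cfsg.Agent.Lib.helper79.P3

open Cfsg.Agent.Lib.helper68

theorem h80_p3_cube_mem {G : Type*} [Group G] [Finite G] (n : ℕ) (hn : 3 ≤ n)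
    (hG : Nat.card G = 3 ^ n) (x : G)
    (hC : Nat.card (Subgroup.centralizer ({x} : Set G)) = 3 ^ 2) (h : G)
    (hc3 : com h x ∉ gam G 3) : h ^ 3 ∈ gam G 2 := by
  have : Fact (Nat.Prime 3) := ⟨Nat.prime_three⟩
  by_contra hnot
  have hh1 : h ∈ gam G 1 := by simp [gam]
  have hidx : (gam G 2).index = 3 ^ 2 :=
    Cfsg.Agent.Lib.helper79.h79_px_index 3 n hG x hC hn 2 le_rfl (by omega)
  have hcard : Nat.card (G ⧸ gam G 2) = 3 ^ 2 := by
    rw [← Subgroup.index_eq_card]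
    exact hidx
  have h9 : (QuotientGroup.mk h : G ⧸ gam G 2) ^ 3 ^ (1 + 1) = 1 := by
    have h0 : (QuotientGroup.mk h : G ⧸ gam G 2) ^ Nat.card (G ⧸ gam G 2) = 1 := pow_card_eq_one'
    rw [hcard] at h0
    exact h0
  have h3 : ¬ (QuotientGroup.mk h : G ⧸ gam G 2) ^ 3 ^ 1 = 1 := by
    intro h1
    apply hnot
    rw [pow_one, ← QuotientGroup.mk_pow, QuotientGroup.eq_one_iff] at h1
    exact h1
  have hord : orderOf (QuotientGroup.mk h : G ⧸ gam G 2) = 3 ^ (1 + 1) :=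
    orderOf_eq_prime_pow h3 h9
  have htop : Subgroup.zpowers (QuotientGroup.mk h : G ⧸ gam G 2) = ⊤ := by
    apply Subgroup.eq_top_of_card_eq
    rw [Nat.card_zpowers, hord, hcard]
  have hxq : (QuotientGroup.mk x : G ⧸ gam G 2) ∈
      Subgroup.zpowers (QuotientGroup.mk h : G ⧸ gam G 2) := by
    rw [htop]
    trivial
  obtain ⟨k, hk⟩ := Subgroup.mem_zpowers_iff.mp hxq
  rw [← QuotientGroup.mk_zpow, QuotientGroup.eq] at hk
  apply hc3
  have e : com h x = com h ((h ^ k)⁻¹ * x) := by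
    unfold com
    group
  rw [e]
  exact com_mem hh1 hk

/-- Glue core of `p3_nonuniform`: from the shift property (b) and (c0). -/
theorem h80_p3_nonuniform_core {G : Type*} [Group G] [Finite G] (n : ℕ) (hn : 4 ≤ n)
    (hG : Nat.card G = 3 ^ n) (x : G) (hx : x ^ 3 = 1)
    (hC : Nat.card (Subgroup.centralizer ({x} : Set G)) = 3 ^ 2) (h : G)
    (hab : ∀ a ∈ gam G 2, ∀ b ∈ gam G 2, a * b = b * a)
    (hb : ∀ j, 2 ≤ j → ∀ v ∈ gam G j, com v h ∈ gam G (j + 2))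
    (hc0 : com h x ∉ gam G 3) :
    (∀ j, 2 ≤ j → ∀ v ∈ gam G j, com v h ∈ gam G (j + 2)) ∧
      (5 ≤ n → h ^ 3 ∈ gam G 3 ∧ h ^ 3 ∉ gam G 4) :=
  ⟨hb, fun h5 => h80_p3_nonunif_c n h5 hG x hx hC hab h
    (h80_p3_cube_mem n (by omega) hG x hC h hc0) hc0 hb⟩

end Cfsg.Agent.Lib.helper79.P3
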