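import Cfsg.Agent.Lib.helper80.Cover2
import Cfsg.Agent.Lib.helper80.Nilpotent

/-!
# Covering for `K ≤ H` when block idempotents of `H` are supported on `K`

For subgroups `K ≤ H ≤ N_G(K)` of `G` such that the idempotent of every block of `H` vanishes off
`K` (for instance `K = H ∩ N` with `N ⊴ G` of `p`-power index): every block of `K` is covered by
a unique block of `H` (its idempotent is the sum of the idempotents of the `H`-conjugates of the
block of `K`), every block of `H` arises in this way, from a single `H`-orbit of blocks of `K`,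
and the construction commutes with conjugation.
-/

set_option autoImplicit false

open Cfsg

namespace Cfsg.Agent.Lib.helper80

universe u

section PIdxCover

variable {G : Type u} [Group G] [Fintype G] {p : ℕ} [Fact p.Prime] {M : Ideal AlgInt}

/-- The idempotent of `c` (a set of irreducible characters of `H`) is the idempotent of the union
of the `H`-conjugates of `e` (a set of irreducible characters of `K`), both extended by zero. -/
def CovOrb (H K : Subgroup G) (c : Set (IrrCharacter H)) (e : Set (IrrCharacter K)) : Prop :=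
  ∀ g : G, extFun H (blockCoeff c) g = extFun K (blockCoeff (orbSet K H e)) g

omit [Fintype G] in
theorem conjSet_of_mem' (K : Subgroup G) (n : G) (hn : n ∈ Subgroup.normalizer (K : Set G))
    (hnK : n ∈ K) (f : Set (IrrCharacter K)) : conjSet K n hn f = f := by
  have h1 : ∀ χ : IrrCharacter K, conjIrr K n hn χ = χ := by
    intro χ
    symm
    apply eq_conjIrr_of_isConjCharOf
    intro k k' h
    have hk : k' = ⟨n, hnK⟩ * k * ⟨n, hnK⟩⁻¹ := Subtype.ext h
    rw [hk]
    exact Cfsg.Agent.Lib.helper81.irr_classFun χ k ⟨n, hnK⟩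
  unfold conjSet
  have h2 : conjIrr K n hn = id := funext h1
  rw [h2, Set.image_id]

open Cfsg.Agent.Lib.helper81 in
/-- Every block of `K` is covered by a block of `H`. -/
theorem exists_covOrb (hM : IsPModular p M) (K H : Subgroup G) [Fintype H] [Fintype K]
    (hKH : K ≤ H) (hHK : H ≤ Subgroup.normalizer (K : Set G))
    (hsupp : ∀ c : Set (IrrCharacter H), IsPBlock M c → ∀ h : H, (h : G) ∉ K →
      blockCoeff c h = 0)
    {e : Set (IrrCharacter K)} (he : IsPBlock M e) :
    ∃ c : Set (IrrCharacter H), IsPBlock M c ∧ CovOrb H K c e := by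
  classical
  have hMp := Cfsg.Agent.Lib.helper20.isPrime_of_isPModular hM
  unfold CovOrb
  set S := orbSet K H e with hS
  have hinv := invAlg_blockCoeff_orbSet hMp K H hHK he
  set a : G → ℂ := extFun K (blockCoeff S) with ha
  have ha_supp : ∀ g, g ∉ H → a g = 0 :=
    fun g hg => extFun_of_not_mem K _ (fun hc => hg (hKH hc))
  have ha_inv : ∀ h ∈ H, ∀ g, a (h * g * h⁻¹) = a g :=
    fun h hh g => extFun_conj K _ h (hHK hh) (hinv.2.2 h hh) g
  have ha_conv : ∀ g, conv a a g = a g := by
    intro g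
    rw [ha, extFun_conv]
    congr 1
    funext k
    rw [conv_blockCoeff, Set.inter_self]
  set u : H → ℂ := resFun H a with hu
  have hu_ext : ∀ g, extFun H u g = a g := extFun_resFun H a ha_supp
  have hu_cf : IsClassFunction H u := fun k h => ha_inv h h.2 k
  have hu_R : ∀ k, MemLocalRing M (u k) :=
    fun k => extFun_memLocalRing hMp K _ hinv.2.1 _
  have hu_conv : ∀ k, conv u u k = u k := by
    intro k
    have h1 := extFun_conv H u u (k : G)
    rw [extFun_coe] at h1
    rw [← h1]
    have : extFun H u = a := funext hu_ext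
    rw [this, ha_conv]
    rfl
  have hu_eq := eq_blockCoeff_idemSet hu_cf hu_conv
  have hne : (idemSet u).Nonempty := by
    by_contra hcon
    rw [Set.not_nonempty_iff_eq_empty] at hcon
    have hu0 : ∀ k, u k = 0 := fun k => by rw [hu_eq k, hcon, blockCoeff_empty]
    have ha0 : ∀ g, a g = 0 := by
      intro g
      rw [← hu_ext g]
      by_cases hg : g ∈ H
      · rw [extFun_of_mem H _ hg, hu0]
      · rw [extFun_of_not_mem H _ hg]
    obtain ⟨ξ, hξ⟩ := Cfsg.Agent.Lib.helper80.isPBlock_nonempty hMp he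
    obtain ⟨k, hk⟩ := blockCoeff_ne_zero_of_nonempty (S := S) ⟨ξ, subset_orbSet K H e hξ⟩
    apply hk
    have := ha0 (k : G)
    rwa [ha, extFun_coe] at this
  obtain ⟨θ, hθ⟩ := hne
  set c := blockOf M (θ : H → ℂ) with hc
  have hcb : IsPBlock M c := isPBlock_blockOf M θ
  have hcS : c ⊆ idemSet u := fun ψ hψ => idemSet_sameBlock hMp hu_cf hu_R hu_conv hθ hψ
  refine ⟨c, hcb, ?_⟩
  set v : G → ℂ := extFun H (blockCoeff c) with hv
  have hv_supp : ∀ g, g ∉ K → v g = 0 := by
    intro g hg
    by_cases hgH : g ∈ H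
    · rw [hv, extFun_of_mem H _ hgH]
      exact hsupp c hcb ⟨g, hgH⟩ hg
    · exact extFun_of_not_mem H _ hgH
  have hv_inv : ∀ h ∈ H, ∀ g, v (h * g * h⁻¹) = v g :=
    fun h hh g => extFun_conj_mem H _ (blockCoeff_classFun c) h hh g
  have hva : ∀ g, conv v a g = v g := by
    intro g
    have h1 : a = extFun H u := (funext hu_ext).symm
    rw [h1, hv, extFun_conv]
    congr 1
    funext k
    have h2 : u = blockCoeff (idemSet u) := funext hu_eq
    rw [h2, conv_blockCoeff, Set.inter_eq_left.mpr hcS]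
  have hvv : ∀ g, conv v v g = v g := by
    intro g
    rw [hv, extFun_conv]
    congr 1
    funext k
    rw [conv_blockCoeff, Set.inter_self]
  set w : K → ℂ := resFun K v with hw
  have hw_ext : ∀ g, extFun K w g = v g := extFun_resFun K v hv_supp
  have hw_cf : IsClassFunction K w := fun k h => hv_inv h (hKH h.2) k
  have hw_R : ∀ k, MemLocalRing M (w k) := fun k =>
    extFun_memLocalRing hMp H _ (fun k => memLocalRing_blockCoeff' hMp hcb k) _
  have hw_conv : ∀ k, conv w w k = w k := by
    intro k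
    have h1 := extFun_conv K w w (k : G)
    rw [extFun_coe] at h1
    rw [← h1]
    have : extFun K w = v := funext hw_ext
    rw [this, hvv]
    rfl
  have hw_eq := eq_blockCoeff_idemSet hw_cf hw_conv
  set S₂ := idemSet w with hS₂
  have hS₂S : S₂ ⊆ S := by
    have h1 : ∀ k, blockCoeff (S₂ ∩ S) k = blockCoeff S₂ k := by
      intro k
      rw [← conv_blockCoeff, ← hw_eq k]
      have h2 := extFun_conv K w (blockCoeff S) (k : G)
      rw [extFun_coe] at h2
      have h3 : w = blockCoeff S₂ := funext hw_eq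
      rw [← h3, ← h2]
      have h4 : extFun K w = v := funext hw_ext
      rw [h4]
      exact hva k
    exact Set.inter_eq_left.mp (blockCoeff_injective h1)
  have hS₂ne : S₂.Nonempty := by
    by_contra hcon
    rw [Set.not_nonempty_iff_eq_empty] at hcon
    have hw0 : ∀ k, w k = 0 := fun k => by rw [hw_eq k, hcon, blockCoeff_empty]
    have hv0 : ∀ g, v g = 0 := by
      intro g
      rw [← hw_ext g]
      by_cases hg : g ∈ K
      · rw [extFun_of_mem K _ hg, hw0]
      · rw [extFun_of_not_mem K _ hg]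
    obtain ⟨k, hk⟩ := blockCoeff_ne_zero_of_nonempty (S := c) ⟨θ, mem_blockOf_self hMp θ⟩
    apply hk
    have := hv0 (k : G)
    rwa [hv, extFun_coe] at this
  have hS₂stab : ∀ h (hn : h ∈ Subgroup.normalizer (K : Set G)), h ∈ H →
      conjSet K h hn S₂ = S₂ := by
    intro h hn hh
    apply blockCoeff_injective
    intro k'
    have h1 := blockCoeff_conjSet K h hn S₂ ((conjEquiv K h hn).symm k') k' (by
      show (k' : G) = h * (h⁻¹ * (k' : G) * h) * h⁻¹
      group)
    rw [h1, ← hw_eq, ← hw_eq]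
    show v (h⁻¹ * (k' : G) * h) = v k'
    have := hv_inv h⁻¹ (H.inv_mem hh) (k' : G)
    rwa [inv_inv] at this
  have hSS₂ : S ⊆ S₂ := by
    obtain ⟨ξ₂, hξ₂⟩ := hS₂ne
    obtain ⟨h, hn, hh, hξ₂e⟩ := hS₂S hξ₂
    rw [mem_conjSet_iff] at hξ₂e
    have h3 : conjIrr K h⁻¹ (Subgroup.inv_mem _ hn) ξ₂ ∈ S₂ := by
      have := (mem_conjSet K h⁻¹ (Subgroup.inv_mem _ hn) S₂ ξ₂).mpr hξ₂
      rwa [hS₂stab h⁻¹ _ (H.inv_mem hh)] at this
    have heS₂ : e ⊆ S₂ := by
      intro ψ hψ
      exact idemSet_sameBlock hMp hw_cf hw_R hw_conv h3 (sameBlock_of_mem hMp he hξ₂e hψ)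
    rintro ξ ⟨h', hn', hh', hξ⟩
    have := conjSet_mono K h' hn' heS₂ hξ
    rwa [hS₂stab h' hn' hh'] at this
  have hSeq : S₂ = S := Set.Subset.antisymm hS₂S hSS₂
  intro g
  show v g = a g
  rw [← hw_ext g, ha]
  have h5 : w = blockCoeff S := by
    rw [← hSeq]
    exact funext hw_eq
  rw [h5]

open Cfsg.Agent.Lib.helper81 in
/-- Every block of `H` covers a block of `K`. -/
theorem exists_covOrb_down (hM : IsPModular p M) (K H : Subgroup G) [Fintype H] [Fintype K]
    (hKH : K ≤ H) (hHK : H ≤ Subgroup.normalizer (K : Set G))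
    (hsupp : ∀ c : Set (IrrCharacter H), IsPBlock M c → ∀ h : H, (h : G) ∉ K →
      blockCoeff c h = 0)
    {b : Set (IrrCharacter H)} (hb : IsPBlock M b) :
    ∃ e : Set (IrrCharacter K), IsPBlock M e ∧ CovOrb H K b e := by
  classical
  have hMp := Cfsg.Agent.Lib.helper20.isPrime_of_isPModular hM
  obtain ⟨v, hv⟩ : ∃ v : G → ℂ, v = extFun H (blockCoeff b) := ⟨_, rfl⟩
  have hv_supp : ∀ g, g ∉ K → v g = 0 := by
    intro g hg
    by_cases hgH : g ∈ H
    · rw [hv, extFun_of_mem H _ hgH]
      exact hsupp b hb ⟨g, hgH⟩ hg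
    · rw [hv]
      exact extFun_of_not_mem H _ hgH
  have hv_inv : ∀ h ∈ H, ∀ g, v (h * g * h⁻¹) = v g := by
    intro h hh g
    rw [hv]
    exact extFun_conj_mem H _ (blockCoeff_classFun b) h hh g
  have hvv : ∀ g, conv v v g = v g := by
    intro g
    rw [hv, extFun_conv]
    congr 1
    funext k
    rw [conv_blockCoeff, Set.inter_self]
  obtain ⟨w, hw⟩ : ∃ w : K → ℂ, w = resFun K v := ⟨_, rfl⟩
  have hw_ext : ∀ g, extFun K w g = v g := by
    intro g
    rw [hw]
    exact extFun_resFun K v hv_supp g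
  have hw_cf : IsClassFunction K w := by
    intro k h
    rw [hw]
    exact hv_inv h (hKH h.2) k
  have hw_R : ∀ k, MemLocalRing M (w k) := by
    intro k
    rw [hw, hv]
    exact extFun_memLocalRing hMp H _ (fun k => memLocalRing_blockCoeff' hMp hb k) _
  have hw_conv : ∀ k, conv w w k = w k := by
    intro k
    have h1 := extFun_conv K w w (k : G)
    rw [extFun_coe] at h1
    rw [← h1]
    have : extFun K w = v := funext hw_ext
    rw [this, hvv, ← this, extFun_coe]
  have hw_eq := eq_blockCoeff_idemSet hw_cf hw_conv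
  have hS₂ne : (idemSet w).Nonempty := by
    by_contra hcon
    rw [Set.not_nonempty_iff_eq_empty] at hcon
    have hw0 : ∀ k, w k = 0 := fun k => by rw [hw_eq k, hcon, blockCoeff_empty]
    have hv0 : ∀ g, v g = 0 := by
      intro g
      rw [← hw_ext g]
      by_cases hg : g ∈ K
      · rw [extFun_of_mem K _ hg, hw0]
      · rw [extFun_of_not_mem K _ hg]
    obtain ⟨θ, hθ⟩ := Cfsg.Agent.Lib.helper80.isPBlock_nonempty hMp hb
    obtain ⟨k, hk⟩ := blockCoeff_ne_zero_of_nonempty (S := b) ⟨θ, hθ⟩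
    apply hk
    have := hv0 (k : G)
    rwa [hv, extFun_coe] at this
  have hS₂stab : ∀ h (hn : h ∈ Subgroup.normalizer (K : Set G)), h ∈ H →
      conjSet K h hn (idemSet w) = idemSet w := by
    intro h hn hh
    apply blockCoeff_injective
    intro k'
    have h1 := blockCoeff_conjSet K h hn (idemSet w) ((conjEquiv K h hn).symm k') k' (by
      show (k' : G) = h * (h⁻¹ * (k' : G) * h) * h⁻¹
      group)
    rw [h1, ← hw_eq, ← hw_eq]
    have h2 := hv_inv h⁻¹ (H.inv_mem hh) (k' : G)
    rw [inv_inv] at h2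
    have h3 : w ((conjEquiv K h hn).symm k') = v (h⁻¹ * (k' : G) * h) := by
      rw [← hw_ext]
      exact (extFun_coe K w ((conjEquiv K h hn).symm k')).symm
    rw [h3, h2, ← hw_ext, extFun_coe]
  obtain ⟨ξ, hξ⟩ := hS₂ne
  obtain ⟨c, hc, hcov⟩ := exists_covOrb hM K H hKH hHK hsupp (isPBlock_blockOf M ξ)
  have heS₂ : blockOf M (ξ : K → ℂ) ⊆ idemSet w :=
    fun ψ hψ => idemSet_sameBlock hMp hw_cf hw_R hw_conv hξ hψ
  have horb : orbSet K H (blockOf M (ξ : K → ℂ)) ⊆ idemSet w := by
    rintro ζ ⟨h', hn', hh', hζ⟩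
    have := conjSet_mono K h' hn' heS₂ hζ
    rwa [hS₂stab h' hn' hh'] at this
  have hbc : ∀ k : H, blockCoeff (b ∩ c) k = blockCoeff c k := by
    intro k
    rw [← conv_blockCoeff]
    have h1 := extFun_conv H (blockCoeff b) (blockCoeff c) (k : G)
    rw [extFun_coe] at h1
    rw [← h1]
    have h2 : extFun H (blockCoeff c)
        = extFun K (blockCoeff (orbSet K H (blockOf M (ξ : K → ℂ)))) := funext hcov
    have h3 : extFun H (blockCoeff b) = extFun K w := by
      rw [← hv]
      exact (funext hw_ext).symm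
    have h4 : w = blockCoeff (idemSet w) := funext hw_eq
    have h5 : conv (blockCoeff (idemSet w))
        (blockCoeff (orbSet K H (blockOf M (ξ : K → ℂ))))
        = blockCoeff (orbSet K H (blockOf M (ξ : K → ℂ))) := by
      funext k'
      rw [conv_blockCoeff, Set.inter_eq_right.mpr horb]
    rw [h2, h3, extFun_conv, h4, h5, ← h2, extFun_coe]
  have hsub : c ⊆ b := Set.inter_eq_right.mp (blockCoeff_injective hbc)
  obtain ⟨θ, hθ⟩ := Cfsg.Agent.Lib.helper80.isPBlock_nonempty hMp hc
  have hcb : c = b := Cfsg.Agent.Lib.helper80.isPBlock_eq_of_mem hMp hc hb hθ (hsub hθ)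
  rw [← hcb]
  exact ⟨_, isPBlock_blockOf M ξ, hcov⟩

omit [Fact p.Prime] in
theorem covOrb_unique {H K : Subgroup G} {c c' : Set (IrrCharacter H)}
    {e : Set (IrrCharacter K)} (h : CovOrb H K c e) (h' : CovOrb H K c' e) : c = c' := by
  have : Fintype H := Fintype.ofFinite H
  apply blockCoeff_injective
  intro k
  have h1 := h (k : G)
  have h2 := h' (k : G)
  rw [extFun_coe] at h1 h2
  rw [h1, h2]

omit [Fintype G] [Fact p.Prime] in
/-- Covering is compatible with conjugation. -/
theorem covOrb_conjSet [Finite G] (H K : Subgroup G)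
    (n : G) (hnK : n ∈ Subgroup.normalizer (K : Set G))
    (hnH : n ∈ Subgroup.normalizer (H : Set G)) {c : Set (IrrCharacter H)}
    {e : Set (IrrCharacter K)} (h : CovOrb H K c e) :
    CovOrb H K (conjSet H n hnH c) (conjSet K n hnK e) := by
  intro g
  obtain ⟨g', rfl⟩ : ∃ g', g = n * g' * n⁻¹ := ⟨n⁻¹ * g * n, by group⟩
  rw [← orbSet_conjSet K H n hnK hnH e]
  have h1 := subgroupBlockCoeff_conjSet H n hnH c g'
  have h2 := subgroupBlockCoeff_conjSet K n hnK (orbSet K H e) g'
  show subgroupBlockCoeff H (conjSet H n hnH c) (n * g' * n⁻¹)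
    = subgroupBlockCoeff K (conjSet K n hnK (orbSet K H e)) (n * g' * n⁻¹)
  rw [h1, h2]
  exact h g'

omit [Fact p.Prime] in
/-- Two blocks of `K` covered by the same set are `H`-conjugate. -/
theorem covOrb_conj_of_eq (hM : M.IsPrime) {H K : Subgroup G} {c : Set (IrrCharacter H)}
    {e e' : Set (IrrCharacter K)} (he : IsPBlock M e) (he' : IsPBlock M e')
    (h : CovOrb H K c e) (h' : CovOrb H K c e') :
    ∃ (y : G) (hy : y ∈ Subgroup.normalizer (K : Set G)), y ∈ H ∧ e' = conjSet K y hy e := by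
  have : Fintype K := Fintype.ofFinite K
  have h1 : orbSet K H e' = orbSet K H e := by
    apply blockCoeff_injective
    intro k
    have h2 := h (k : G)
    have h3 := h' (k : G)
    rw [extFun_coe] at h2 h3
    rw [← h2, ← h3]
  obtain ⟨ξ, hξ⟩ := Cfsg.Agent.Lib.helper80.isPBlock_nonempty hM he'
  have h4 : ξ ∈ orbSet K H e := by
    rw [← h1]
    exact subset_orbSet K H e' hξ
  obtain ⟨y, hy, hyH, hξy⟩ := h4
  exact ⟨y, hy, hyH, Cfsg.Agent.Lib.helper80.isPBlock_eq_of_mem hM he'
    (isPBlock_conjSet K y hy he) hξ hξy⟩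

omit [Fintype G] [Fact p.Prime] in
/-- If `x` acts on the blocks of `K` like an element `y` of `H`, `x` commutes with `H` modulo `K`,
and a power of `y` prime to the order of `x` lies in `K`, then `x` fixes the block. -/
theorem conjSet_eq_self_of_comm (K H : Subgroup G) (hHK : H ≤ Subgroup.normalizer (K : Set G))
    (e : Set (IrrCharacter K)) (x : G) (hx : x ∈ Subgroup.normalizer (K : Set G)) (y : G)
    (hy : y ∈ H) (hcomm : ∀ z ∈ H, z⁻¹ * x * z * x⁻¹ ∈ K) (q : ℕ) (hq : y ^ q ∈ K)
    (hcop : Nat.Coprime (orderOf x) q)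
    (h : conjSet K x hx e = conjSet K y (hHK hy) e) : conjSet K x hx e = e := by
  have hyN := hHK hy
  have hkey : ∀ m : ℕ, ∀ (h1 : x ^ m ∈ Subgroup.normalizer (K : Set G))
      (h2 : y ^ m ∈ Subgroup.normalizer (K : Set G)),
      conjSet K (x ^ m) h1 e = conjSet K (y ^ m) h2 e := by
    intro m
    induction m with
    | zero =>
      intro h1 h2
      rw [conjSet_congr K (pow_zero x) h1 (Subgroup.one_mem _),
        conjSet_congr K (pow_zero y) h2 (Subgroup.one_mem _)]
    | succ m ih =>
      intro h1 h2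
      have hxm : x ^ m ∈ Subgroup.normalizer (K : Set G) := Subgroup.pow_mem _ hx m
      have hym : y ^ m ∈ Subgroup.normalizer (K : Set G) := Subgroup.pow_mem _ hyN m
      have hymH : y ^ m ∈ H := H.pow_mem hy m
      obtain ⟨k, hk⟩ : ∃ k : G, k = (y ^ m)⁻¹ * x * y ^ m * x⁻¹ := ⟨_, rfl⟩
      have hkK : k ∈ K := by
        rw [hk]
        exact hcomm _ hymH
      have hkn : k ∈ Subgroup.normalizer (K : Set G) := Subgroup.le_normalizer hkK
      have e1 : x ^ (m + 1) = x * x ^ m := pow_succ' x m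
      have e2 : x * y ^ m = y ^ m * (k * x) := by
        rw [hk]
        group
      have e3 : y ^ m * y = y ^ (m + 1) := (pow_succ y m).symm
      rw [conjSet_congr K e1 h1 (Subgroup.mul_mem _ hx hxm),
        conjSet_mul K x (x ^ m) hx hxm, ih hxm hym,
        ← conjSet_mul K x (y ^ m) hx hym (Subgroup.mul_mem _ hx hym),
        conjSet_congr K e2 _ (Subgroup.mul_mem _ hym (Subgroup.mul_mem _ hkn hx)),
        conjSet_mul K (y ^ m) (k * x) hym (Subgroup.mul_mem _ hkn hx),
        conjSet_mul K k x hkn hx, h, conjSet_of_mem' K k hkn hkK,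
        ← conjSet_mul K (y ^ m) y hym hyN (Subgroup.mul_mem _ hym hyN)]
      exact conjSet_congr K e3 _ _ _
  -- the stabilizer of `e`
  let St : Subgroup G :=
    { carrier := {n | ∃ hn : n ∈ Subgroup.normalizer (K : Set G), conjSet K n hn e = e}
      one_mem' := ⟨Subgroup.one_mem _, conjSet_one K _ e⟩
      mul_mem' := by
        rintro a b ⟨ha, hea⟩ ⟨hb, heb⟩
        exact ⟨Subgroup.mul_mem _ ha hb, by rw [conjSet_mul K a b ha hb, heb, hea]⟩
      inv_mem' := by
        rintro a ⟨ha, hea⟩
        refine ⟨Subgroup.inv_mem _ ha, ?_⟩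
        have h1 : conjSet K a⁻¹ (Subgroup.inv_mem _ ha) (conjSet K a ha e) = e := by
          rw [← conjSet_mul K a⁻¹ a (Subgroup.inv_mem _ ha) ha
            (Subgroup.mul_mem _ (Subgroup.inv_mem _ ha) ha),
            conjSet_congr K (inv_mul_cancel a) _ (Subgroup.one_mem _), conjSet_one]
        rw [hea] at h1
        exact h1 }
  have hmemSt : ∀ n : G, n ∈ St ↔ ∃ hn : n ∈ Subgroup.normalizer (K : Set G),
      conjSet K n hn e = e := fun n => Iff.rfl
  have h1 : y ^ orderOf x ∈ St := by
    rw [hmemSt]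
    refine ⟨Subgroup.pow_mem _ hyN _, ?_⟩
    rw [← hkey (orderOf x) (Subgroup.pow_mem _ hx _) (Subgroup.pow_mem _ hyN _),
      conjSet_congr K (pow_orderOf_eq_one x) _ (Subgroup.one_mem _), conjSet_one]
  have h2 : y ^ q ∈ St := by
    rw [hmemSt]
    exact ⟨Subgroup.le_normalizer hq, conjSet_of_mem' K _ _ hq e⟩
  have h3 : y ∈ St := mem_of_pow_mem_of_coprime St hcop h1 h2
  obtain ⟨hn, h4⟩ := (hmemSt y).mp h3
  rw [h, h4]

end PIdxCover

end Cfsg.Agent.Lib.helper80
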