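import Cfsg.Agent.Lib.helper80.PIdxCover
import Cfsg.Agent.Lib.helper80.Transport
import Cfsg.Agent.Lib.helper80.BrauerOmega
import Cfsg.Agent.Lib.helper80.PairEq
import Cfsg.Agent.Lib.helper77.HKBridge
import Cfsg.Agent.Lib.helper81.PQuotBlock
import Cfsg.Agent.Lib.helper84.BlockOrth
import Cfsg.Agent.S4658

/-!
# Brauer pairs of a normal subgroup of `p`-power index

For `N ⊴ G` of `p`-power index and a subgroup `Q'` of `N` with image `Q` in `G`: the centralizer
`C_N(Q')` is identified with `C_G(Q) ∩ N`, the blocks of `C_G(Q)` are supported on `C_G(Q) ∩ N`,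
and the covering correspondence between the blocks of `C_N(Q')` and those of `C_G(Q)` is compatible
with Brauer's functionals and with conjugation.
-/

set_option autoImplicit false

open Cfsg

namespace Cfsg.Agent.Lib.helper80

universe u

section PIdxPair

variable {G : Type u} [Group G]

/-- `C_G(Q')` for a subgroup `Q'` of the subgroup `N`. -/
abbrev centG (N : Subgroup G) (Q' : Subgroup N) : Subgroup G :=
  Subgroup.centralizer ((Q'.map N.subtype : Subgroup G) : Set G)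

/-- The centralizer in `N` of a subgroup `Q'` of `N`, identified with `C_G(Q') ∩ N`. -/
def psiEquiv (N : Subgroup G) (Q' : Subgroup N) :
    ↥(Subgroup.centralizer (Q' : Set N)) ≃* ↥(centG N Q' ⊓ N) where
  toFun k := ⟨((k : N) : G), by
    refine Subgroup.mem_inf.mpr ⟨?_, (k : N).2⟩
    rw [Subgroup.mem_centralizer_iff]
    rintro _ ⟨q, hq, rfl⟩
    exact congrArg Subtype.val (Subgroup.mem_centralizer_iff.mp k.2 q hq)⟩
  invFun l := ⟨⟨(l : G), (Subgroup.mem_inf.mp l.2).2⟩, by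
    rw [Subgroup.mem_centralizer_iff]
    intro q hq
    apply Subtype.ext
    exact Subgroup.mem_centralizer_iff.mp (Subgroup.mem_inf.mp l.2).1 (q : G) ⟨q, hq, rfl⟩⟩
  left_inv _ := rfl
  right_inv _ := rfl
  map_mul' _ _ := rfl

theorem coe_mem_centralizer_map_iff (N : Subgroup G) (Q' : Subgroup N) (x : N) :
    (x : G) ∈ centG N Q' ↔ x ∈ Subgroup.centralizer (Q' : Set N) := by
  rw [Subgroup.mem_centralizer_iff, Subgroup.mem_centralizer_iff]
  constructor
  · intro h q hq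
    apply Subtype.ext
    exact h (q : G) ⟨q, hq, rfl⟩
  · rintro h _ ⟨q, hq, rfl⟩
    exact congrArg Subtype.val (h q hq)

theorem coe_mem_normalizer_map (N : Subgroup G) (Q' : Subgroup N) {x : N}
    (hx : x ∈ Subgroup.normalizer (Q' : Set N)) :
    (x : G) ∈ Subgroup.normalizer ((Q'.map N.subtype : Subgroup G) : Set G) :=
  Subgroup.le_normalizer_map N.subtype ⟨x, hx, rfl⟩

theorem mem_normalizer_inf_of_mem_normalizer (N : Subgroup G) [hN : N.Normal] (H : Subgroup G)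
    {x : G} (hx : x ∈ Subgroup.normalizer (H : Set G)) :
    x ∈ Subgroup.normalizer ((H ⊓ N : Subgroup G) : Set G) := by
  rw [Subgroup.mem_normalizer_iff] at hx ⊢
  intro y
  rw [Subgroup.mem_inf, Subgroup.mem_inf, ← hx y]
  constructor
  · rintro ⟨h1, h2⟩
    exact ⟨h1, hN.conj_mem y h2 x⟩
  · rintro ⟨h1, h2⟩
    refine ⟨h1, ?_⟩
    have h3 := hN.conj_mem _ h2 x⁻¹
    have e : x⁻¹ * (x * y * x⁻¹) * x⁻¹⁻¹ = y := by group
    rwa [e] at h3

/-- A `p`-regular element of `N` normalizing the `p`-group `R` and centralizing `R ∩ N`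
centralizes `R`. -/
theorem mem_centralizer_of_centralizes_inf {p : ℕ} [Fact p.Prime] (N : Subgroup G)
    [hN : N.Normal] {R : Subgroup G} (hR : IsPGroup p R) {x : G} (hxN : x ∈ N)
    (hxR : x ∈ Subgroup.normalizer (R : Set G)) (hreg : ¬ p ∣ orderOf x)
    (hcent : ∀ y ∈ R, y ∈ N → y * x = x * y) : x ∈ Subgroup.centralizer (R : Set G) := by
  rw [Subgroup.mem_centralizer_iff]
  intro r hr
  obtain ⟨z, hz⟩ : ∃ z, z = x * r * x⁻¹ * r⁻¹ := ⟨_, rfl⟩
  have hzR : z ∈ R := by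
    rw [hz]
    exact R.mul_mem ((Subgroup.mem_normalizer_iff.mp hxR r).mp hr) (R.inv_mem hr)
  have hzN : z ∈ N := by
    rw [hz]
    have h1 : r * x⁻¹ * r⁻¹ ∈ N := hN.conj_mem _ (N.inv_mem hxN) r
    have h2 : x * r * x⁻¹ * r⁻¹ = x * (r * x⁻¹ * r⁻¹) := by group
    rw [h2]
    exact N.mul_mem hxN h1
  have hcomm : z * x = x * z := hcent z hzR hzN
  have hpow : ∀ m : ℕ, x ^ m * r * (x ^ m)⁻¹ = z ^ m * r := by
    intro m
    induction m with
    | zero => simp
    | succ m ih =>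
      have h1 : x ^ (m + 1) * r * (x ^ (m + 1))⁻¹ = x * (x ^ m * r * (x ^ m)⁻¹) * x⁻¹ := by
        rw [pow_succ']
        group
      rw [h1, ih]
      have h2 : x * (z ^ m * r) * x⁻¹ = (x * z ^ m * x⁻¹) * (x * r * x⁻¹) := by group
      have h3 : x * z ^ m * x⁻¹ = z ^ m := by
        have hc : Commute x (z ^ m) := Commute.pow_right hcomm.symm m
        rw [hc.eq]
        group
      have h4 : x * r * x⁻¹ = z * r := by
        rw [hz]
        group
      rw [h2, h3, h4, ← mul_assoc, ← pow_succ]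
  have h5 := hpow (orderOf x)
  rw [pow_orderOf_eq_one] at h5
  simp only [one_mul, inv_one, mul_one] at h5
  have h6 : z ^ orderOf x = 1 := by
    have h7 : z ^ orderOf x * r = 1 * r := by
      rw [one_mul]
      exact h5.symm
    exact mul_right_cancel h7
  obtain ⟨k, hk⟩ := hR ⟨z, hzR⟩
  have hk' : z ^ p ^ k = 1 := congrArg Subtype.val hk
  have hp : p.Prime := Fact.out
  have hcop : Nat.Coprime (orderOf x) (p ^ k) :=
    Nat.Coprime.pow_right k ((Nat.Prime.coprime_iff_not_dvd hp).mpr hreg).symm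
  have h7 : z ^ Nat.gcd (orderOf x) (p ^ k) = 1 := pow_gcd_eq_one.mpr ⟨h6, hk'⟩
  rw [hcop, pow_one] at h7
  rw [hz] at h7
  have h8 : x * r * x⁻¹ * r⁻¹ * (r * x) = r * x := by rw [h7, one_mul]
  rw [← h8]
  group

variable [Fintype G] {p : ℕ} [Fact p.Prime] {M : Ideal AlgInt}

/-- Osima: the blocks of `H` are supported on `H ∩ N` when `N` has `p`-power index. -/
theorem blockCoeff_eq_zero_of_not_mem_inf (hM : IsPModular p M) (N : Subgroup G) [N.Normal]
    (hidx : ∃ k : ℕ, N.index = p ^ k) (H : Subgroup G) [Fintype H] (c : Set (IrrCharacter H))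
    (hc : IsPBlock M c) (h : H) (hh : (h : G) ∉ H ⊓ N) : blockCoeff c h = 0 := by
  apply Cfsg.Agent.Lib.helper84.blockCoeff_eq_zero_of_dvd_orderOf hM hc
  by_contra hreg
  apply hh
  refine Subgroup.mem_inf.mpr ⟨h.2, ?_⟩
  apply Cfsg.Agent.Lib.helper81.mem_of_pRegular_of_pow_index N hidx
  rw [Subgroup.orderOf_coe]
  exact hreg

omit [Fact p.Prime] in
/-- Clifford's identity for central character functionals, for `H`-invariant functions on
`H ∩ N`. -/
theorem om_inf_of_constituent (N : Subgroup G) [N.Normal] (H : Subgroup G) [Fintype H]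
    [Fintype ↥(H ⊓ N)] {ψ : IrrCharacter H} {ξ : IrrCharacter ↥(H ⊓ N)}
    (h : classInner (fun l : ↥(H ⊓ N) => (ψ : H → ℂ) (Subgroup.inclusion inf_le_left l))
      (ξ : ↥(H ⊓ N) → ℂ) ≠ 0)
    (a : ↥(H ⊓ N) → ℂ)
    (ha : ∀ x ∈ H, ∀ l l' : ↥(H ⊓ N), (l' : G) = x * (l : G) * x⁻¹ → a l' = a l) :
    om (ψ : H → ℂ) (fun k : H => extFun (H ⊓ N) a (k : G)) = om (ξ : ↥(H ⊓ N) → ℂ) a := by
  classical
  have : Fintype ↥(N.subgroupOf H) := Fintype.ofFinite _
  have hn : (N.subgroupOf H).Normal := inferInstance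
  obtain ⟨a', ha'⟩ : ∃ a' : N.subgroupOf H → ℂ,
      a' = fun m : N.subgroupOf H => a ((Cfsg.Agent.Lib.helper77.infEquiv H N).symm m) :=
    ⟨_, rfl⟩
  have ha'' : ∀ m : N.subgroupOf H,
      a' m = a ((Cfsg.Agent.Lib.helper77.infEquiv H N).symm m) := fun m => by rw [ha']
  have h1 : ∀ k : H, extFun (H ⊓ N) a (k : G) = extFun (N.subgroupOf H) a' k := by
    intro k
    by_cases hk : k ∈ N.subgroupOf H
    · have hk' : (k : G) ∈ H ⊓ N := Subgroup.mem_inf.mpr ⟨k.2, Subgroup.mem_subgroupOf.mp hk⟩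
      rw [extFun_of_mem _ _ hk, extFun_of_mem _ _ hk', ha'']
      rfl
    · rw [extFun_of_not_mem _ _ hk]
      apply extFun_of_not_mem
      exact fun hkN => hk (Subgroup.mem_subgroupOf.mpr (Subgroup.mem_inf.mp hkN).2)
  have hinv : ∀ (g : H) (m : N.subgroupOf H),
      a' ⟨g * m * g⁻¹, hn.conj_mem m m.2 g⟩ = a' m := by
    intro g m
    rw [ha'', ha'']
    exact ha (g : G) g.2 _ _ rfl
  have h2 : classInner (fun m : N.subgroupOf H => (ψ : H → ℂ) m)
      (irrMap (Cfsg.Agent.Lib.helper77.infEquiv H N) ξ : N.subgroupOf H → ℂ) ≠ 0 := by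
    rw [Cfsg.Agent.Lib.helper77.classInner_infEquiv]
    exact h
  rw [om_congr _ h1,
    Cfsg.Agent.Lib.helper77.om_extFun_of_constituent (N.subgroupOf H) h2 a' hinv]
  unfold om
  have h3 : (irrMap (Cfsg.Agent.Lib.helper77.infEquiv H N) ξ : N.subgroupOf H → ℂ) 1
      = (ξ : ↥(H ⊓ N) → ℂ) 1 := by
    rw [irrMap_apply, map_one]
  rw [h3]
  congr 1
  symm
  apply Fintype.sum_equiv (Cfsg.Agent.Lib.helper77.infEquiv H N).toEquiv
  intro l
  have h4 : (irrMap (Cfsg.Agent.Lib.helper77.infEquiv H N) ξ : N.subgroupOf H → ℂ)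
      ((Cfsg.Agent.Lib.helper77.infEquiv H N).toEquiv l) = (ξ : ↥(H ⊓ N) → ℂ) l :=
    irrMap_apply' (Cfsg.Agent.Lib.helper77.infEquiv H N) ξ l
  rw [h4, ha'']
  rfl

omit [Fintype G] [Fact p.Prime] in
theorem om_conjIrr_res (K : Subgroup G) [Fintype K] (n : G)
    (hn : n ∈ Subgroup.normalizer (K : Set G)) (θ : IrrCharacter K) (z : G → ℂ)
    (hz : IsClassFunction G z) :
    om (conjIrr K n hn θ : K → ℂ) (resFun K z) = om (θ : K → ℂ) (resFun K z) := by
  unfold om
  rw [conjIrr_one_apply]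
  congr 1
  symm
  apply Fintype.sum_equiv (conjEquiv K n hn).toEquiv
  intro k
  have h1 : (conjIrr K n hn θ : K → ℂ) ((conjEquiv K n hn).toEquiv k) = (θ : K → ℂ) k :=
    conjIrr_apply K n hn θ k _ rfl
  have h2 : resFun K z ((conjEquiv K n hn).toEquiv k) = resFun K z k := hz (k : G) n
  rw [h1, h2]

omit [Fact p.Prime] in
/-- If the block `g` of `H` covers the block `γ` of `H ∩ N`, the constituents on `H ∩ N` of the
members of `g` lie in the `H`-conjugates of `γ`. -/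
theorem mem_orbSet_of_constituent (hMp : M.IsPrime) (N : Subgroup G) [N.Normal]
    (H : Subgroup G) [Fintype H] [Fintype ↥(H ⊓ N)] {g : Set (IrrCharacter H)}
    {γ : Set (IrrCharacter ↥(H ⊓ N))} (hγ : IsPBlock M γ) (hcov : CovOrb H (H ⊓ N) g γ)
    {ξ : IrrCharacter H} (hξ : ξ ∈ g) {θ : IrrCharacter ↥(H ⊓ N)}
    (h : classInner (fun l : ↥(H ⊓ N) => (ξ : H → ℂ) (Subgroup.inclusion inf_le_left l))
      (θ : ↥(H ⊓ N) → ℂ) ≠ 0) :
    θ ∈ orbSet (H ⊓ N) H γ := by
  classical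
  have hHK : H ≤ Subgroup.normalizer ((H ⊓ N : Subgroup G) : Set G) :=
    fun h hh => Cfsg.Agent.Lib.helper77.mem_normalizer_inf_of_mem N H hh
  have hinv := invAlg_blockCoeff_orbSet hMp (H ⊓ N) H hHK hγ
  have h1 := om_inf_of_constituent N H h (blockCoeff (orbSet (H ⊓ N) H γ))
    (fun x hx l l' hl => hinv.2.2 x hx l l' hl)
  have h2 : ∀ k : H, extFun (H ⊓ N) (blockCoeff (orbSet (H ⊓ N) H γ)) (k : G)
      = blockCoeff g k := by
    intro k
    rw [← hcov (k : G), extFun_coe]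
  rw [om_congr _ h2, om_blockCoeff, if_pos hξ, om_blockCoeff] at h1
  by_contra hθ
  rw [if_neg hθ] at h1
  exact one_ne_zero h1

omit [Fact p.Prime] in
theorem memLocalIdeal_up (hMp : M.IsPrime) (N : Subgroup G) [N.Normal]
    (H : Subgroup G) [Fintype H] [Fintype ↥(H ⊓ N)] {g : Set (IrrCharacter H)}
    {γ : Set (IrrCharacter ↥(H ⊓ N))} (hγ : IsPBlock M γ) (hcov : CovOrb H (H ⊓ N) g γ)
    (z : G → ℂ) (hz : IsClassFunction G z) (hzN : ∀ x, x ∉ N → z x = 0)
    (h : ∀ θ ∈ γ, MemLocalIdeal M (om (θ : ↥(H ⊓ N) → ℂ) (resFun (H ⊓ N) z) - 1)) :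
    ∀ ξ ∈ g, MemLocalIdeal M (om (ξ : H → ℂ) (resFun H z) - 1) := by
  intro ξ hξ
  obtain ⟨θ, hθ⟩ := Cfsg.Agent.Lib.helper77.exists_constituent_inf N H ξ
  have h1 := Cfsg.Agent.Lib.helper77.om_restrict_inf_of_constituent N H hθ z hz hzN
  have h2 := mem_orbSet_of_constituent hMp N H hγ hcov hξ hθ
  obtain ⟨y, hy, hyH, θ₀, hθ₀, rfl⟩ := h2
  have h3 := om_conjIrr_res (H ⊓ N) y hy θ₀ z hz
  have h4 := h θ₀ hθ₀
  rw [← h3] at h4
  show MemLocalIdeal M (om (ξ : H → ℂ) (fun k : H => z k) - 1)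
  rw [h1]
  exact h4

omit [Fact p.Prime] in
theorem memLocalIdeal_down (hMp : M.IsPrime) (N : Subgroup G) [N.Normal]
    (H : Subgroup G) [Fintype H] [Fintype ↥(H ⊓ N)] {g : Set (IrrCharacter H)}
    {γ : Set (IrrCharacter ↥(H ⊓ N))} (hγ : IsPBlock M γ) (hcov : CovOrb H (H ⊓ N) g γ)
    (z : G → ℂ) (hz : IsClassFunction G z) (hzN : ∀ x, x ∉ N → z x = 0)
    (hzR : ∀ x, MemLocalRing M (z x))
    {ξ : IrrCharacter H} (hξ : ξ ∈ g)
    (h : MemLocalIdeal M (om (ξ : H → ℂ) (resFun H z) - 1)) :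
    ∀ θ ∈ γ, MemLocalIdeal M (om (θ : ↥(H ⊓ N) → ℂ) (resFun (H ⊓ N) z) - 1) := by
  intro θ hθ
  obtain ⟨θ₁, hθ₁⟩ := Cfsg.Agent.Lib.helper77.exists_constituent_inf N H ξ
  have h1 := Cfsg.Agent.Lib.helper77.om_restrict_inf_of_constituent N H hθ₁ z hz hzN
  have h2 := mem_orbSet_of_constituent hMp N H hγ hcov hξ hθ₁
  obtain ⟨y, hy, hyH, θ₀, hθ₀, rfl⟩ := h2
  have h3 := om_conjIrr_res (H ⊓ N) y hy θ₀ z hz
  have h5 : SameBlock M (θ : ↥(H ⊓ N) → ℂ) (θ₀ : ↥(H ⊓ N) → ℂ) :=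
    sameBlock_of_mem hMp hγ hθ hθ₀
  have hcf : IsClassFunction ↥(H ⊓ N) (resFun (H ⊓ N) z) := fun a b => hz (a : G) (b : G)
  have h6 := memLocalIdeal_om_sub hMp θ θ₀ h5 (resFun (H ⊓ N) z) hcf (fun k => hzR _)
  have h7 : om (θ : ↥(H ⊓ N) → ℂ) (resFun (H ⊓ N) z) - 1
      = (om (θ : ↥(H ⊓ N) → ℂ) (resFun (H ⊓ N) z) - om (θ₀ : ↥(H ⊓ N) → ℂ) (resFun (H ⊓ N) z))
        + (om (ξ : H → ℂ) (resFun H z) - 1) := by
    have h8 : om (ξ : H → ℂ) (resFun H z) = om (θ₀ : ↥(H ⊓ N) → ℂ) (resFun (H ⊓ N) z) := by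
      rw [← h3]
      exact h1
    rw [h8]
    ring
  rw [h7]
  exact Cfsg.Agent.Lib.helper20.memLocalIdeal_add hMp h6 h

omit [Fintype G] [Fact p.Prime] in
/-- Brauer's functional at `Q'` in `N`, read on `C_G(Q') ∩ N`. -/
theorem brauerOmega_psi (N : Subgroup G) (Q' : Subgroup N)
    [Fintype (Subgroup.centralizer (Q' : Set N))] [Fintype ↥(centG N Q' ⊓ N)]
    (β : N → ℂ) (θ' : IrrCharacter (Subgroup.centralizer (Q' : Set N))) :
    brauerOmega Q' β (θ' : Subgroup.centralizer (Q' : Set N) → ℂ)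
      = om (irrMap (psiEquiv N Q') θ' : ↥(centG N Q' ⊓ N) → ℂ)
          (resFun (centG N Q' ⊓ N) (extFun N β)) := by
  rw [brauerOmega_eq_om]
  unfold om
  have h3 : (irrMap (psiEquiv N Q') θ' : ↥(centG N Q' ⊓ N) → ℂ) 1
      = (θ' : Subgroup.centralizer (Q' : Set N) → ℂ) 1 := by
    rw [irrMap_apply, map_one]
  rw [h3]
  congr 1
  apply Fintype.sum_equiv (psiEquiv N Q').toEquiv
  intro k
  have h4 : (irrMap (psiEquiv N Q') θ' : ↥(centG N Q' ⊓ N) → ℂ) ((psiEquiv N Q').toEquiv k)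
      = (θ' : Subgroup.centralizer (Q' : Set N) → ℂ) k :=
    irrMap_apply' (psiEquiv N Q') θ' k
  have h5 : resFun (centG N Q' ⊓ N) (extFun N β) ((psiEquiv N Q').toEquiv k) = β (k : N) :=
    extFun_coe N β (k : N)
  rw [h4, h5]

omit [Fintype G] [Fact p.Prime] in
theorem irrMap_psi_conjIrr (N : Subgroup G) (Q' : Subgroup N) (x : N)
    (hx : x ∈ Subgroup.normalizer
      ((Subgroup.centralizer (Q' : Set N) : Subgroup N) : Set N))
    (hx' : (x : G) ∈ Subgroup.normalizer ((centG N Q' ⊓ N : Subgroup G) : Set G))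
    (θ : IrrCharacter (Subgroup.centralizer (Q' : Set N))) :
    irrMap (psiEquiv N Q') (conjIrr (Subgroup.centralizer (Q' : Set N)) x hx θ)
      = conjIrr (centG N Q' ⊓ N) (x : G) hx' (irrMap (psiEquiv N Q') θ) := by
  apply eq_conjIrr_of_isConjCharOf
  intro k k' h
  rw [irrMap_apply, irrMap_apply]
  exact conjIrr_apply (Subgroup.centralizer (Q' : Set N)) x hx θ ((psiEquiv N Q').symm k)
    ((psiEquiv N Q').symm k') (Subtype.ext h)

omit [Fintype G] [Fact p.Prime] in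
theorem blockMap_psi_conjSet (N : Subgroup G) (Q' : Subgroup N) (x : N)
    (hx : x ∈ Subgroup.normalizer
      ((Subgroup.centralizer (Q' : Set N) : Subgroup N) : Set N))
    (hx' : (x : G) ∈ Subgroup.normalizer ((centG N Q' ⊓ N : Subgroup G) : Set G))
    (e : Set (IrrCharacter (Subgroup.centralizer (Q' : Set N)))) :
    blockMap (psiEquiv N Q') (conjSet (Subgroup.centralizer (Q' : Set N)) x hx e)
      = conjSet (centG N Q' ⊓ N) (x : G) hx' (blockMap (psiEquiv N Q') e) := by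
  ext ξ
  rw [mem_blockMap]
  constructor
  · rintro ⟨θ, hθ, h⟩
    refine ⟨irrMap (psiEquiv N Q') θ, (irrMap_mem_blockMap _ _ _).mpr hθ, ?_⟩
    rw [← irrMap_psi_conjIrr N Q' x hx hx', h, irrMap_irrMap_symm]
  · rintro ⟨ξ₀, hξ₀, rfl⟩
    refine ⟨irrMap (psiEquiv N Q').symm ξ₀, hξ₀, ?_⟩
    have h1 := irrMap_psi_conjIrr N Q' x hx hx' (irrMap (psiEquiv N Q').symm ξ₀)
    rw [irrMap_irrMap_symm] at h1
    rw [← h1, irrMap_symm_irrMap]

omit [Fact p.Prime] in
/-- An element stabilizing a Brauer pair `(R, g)` and normalizing `Q` stabilizes the unique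
`(Q, g₀)` normal in `(R, g)`. -/
theorem stabilizes_normalSubpair (hM : M.IsPrime) {R Q : Subgroup G}
    {g : Set (IrrCharacter (Subgroup.centralizer (R : Set G)))}
    {g₀ : Set (IrrCharacter (Subgroup.centralizer (Q : Set G)))}
    (hns : IsNormalSubpair p M Q g₀ R g)
    (huniq : ∀ f, IsNormalSubpair p M Q f R g → f = g₀)
    {x : G} (hxR : x ∈ Subgroup.normalizer (R : Set G))
    (hxQ : x ∈ Subgroup.normalizer (Q : Set G))
    (hstab : StabilizesBlock (Subgroup.centralizer (R : Set G)) g x) :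
    StabilizesBlock (Subgroup.centralizer (Q : Set G)) g₀ x := by
  have h1 := isNormalSubpair_conj Q R x hns
  have hfixR : conjPair x ⟨R, g⟩ = ⟨R, g⟩ :=
    conjPair_eq_self_of_stabilizes hM hns.2.1.2 hxR hstab
  have h2 : NormalSubpairRel p M (conjPair x ⟨Q, g₀⟩) (conjPair x ⟨R, g⟩) := h1
  rw [hfixR] at h2
  have h3 : (conjPair x ⟨Q, g₀⟩).1 = Q := map_conj_eq_of_mem_normalizer hxQ
  have key : ∀ a : BrauerPairIdx G, a.1 = Q → NormalSubpairRel p M a ⟨R, g⟩ → a = ⟨Q, g₀⟩ := by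
    rintro ⟨Q₁, f₁⟩ h4 h5
    dsimp only at h4
    subst h4
    have h6 := huniq f₁ h5
    subst h6
    rfl
  exact (stabilizes_of_conjPair_eq_self (key _ h3 h2)).2

/-- Every block of `C_N(Q')` is covered by a block of `C_G(Q')`. -/
theorem exists_covOrb_psi (hM : IsPModular p M) (N : Subgroup G) [N.Normal]
    (hidx : ∃ k : ℕ, N.index = p ^ k) (Q' : Subgroup N)
    {e' : Set (IrrCharacter (Subgroup.centralizer (Q' : Set N)))} (he' : IsPBlock M e') :
    ∃ g : Set (IrrCharacter (centG N Q')),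
      IsPBlock M g ∧ CovOrb (centG N Q') (centG N Q' ⊓ N) g (blockMap (psiEquiv N Q') e') := by
  have : Fintype ↥(centG N Q') := Fintype.ofFinite _
  have : Fintype ↥(centG N Q' ⊓ N) := Fintype.ofFinite _
  exact exists_covOrb hM _ _ inf_le_left
    (fun h hh => Cfsg.Agent.Lib.helper77.mem_normalizer_inf_of_mem N _ hh)
    (fun c hc h hh => blockCoeff_eq_zero_of_not_mem_inf hM N hidx _ c hc h hh)
    (isPBlock_blockMap _ he')

/-- Every block of `C_G(Q')` covers a block of `C_N(Q')`. -/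
theorem exists_covOrb_psi_down (hM : IsPModular p M) (N : Subgroup G) [N.Normal]
    (hidx : ∃ k : ℕ, N.index = p ^ k) (Q' : Subgroup N)
    {g : Set (IrrCharacter (centG N Q'))} (hg : IsPBlock M g) :
    ∃ e' : Set (IrrCharacter (Subgroup.centralizer (Q' : Set N))),
      IsPBlock M e' ∧ CovOrb (centG N Q') (centG N Q' ⊓ N) g (blockMap (psiEquiv N Q') e') := by
  have : Fintype ↥(centG N Q') := Fintype.ofFinite _
  have : Fintype ↥(centG N Q' ⊓ N) := Fintype.ofFinite _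
  obtain ⟨γ, hγ, hcov⟩ := exists_covOrb_down hM _ _ inf_le_left
    (fun h hh => Cfsg.Agent.Lib.helper77.mem_normalizer_inf_of_mem N _ hh)
    (fun c hc h hh => blockCoeff_eq_zero_of_not_mem_inf hM N hidx _ c hc h hh) hg
  refine ⟨blockMap (psiEquiv N Q').symm γ, isPBlock_blockMap _ hγ, ?_⟩
  rw [blockMap_blockMap_symm]
  exact hcov

omit [Fact p.Prime] in
theorem resFun_extFun_eq (N : Subgroup G) (K : Subgroup G) (hK : K ≤ N) (z : G → ℂ)
    (β : N → ℂ) (hβ : ∀ n : N, z n = β n) : resFun K (extFun N β) = resFun K z := by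
  funext k
  show extFun N β (k : G) = z (k : G)
  rw [extFun_of_mem N β (hK k.2), ← hβ]

omit [Fact p.Prime] in
/-- Brauer pairs go up: the Brauer functional condition for `e'` at `Q'` in `N` implies that for
the covering block `g` at `Q'` in `G`. -/
theorem brauerOmega_up (hMp : M.IsPrime) (N : Subgroup G) [N.Normal] (Q' : Subgroup N)
    {e' : Set (IrrCharacter (Subgroup.centralizer (Q' : Set N)))} (he' : IsPBlock M e')
    {g : Set (IrrCharacter (centG N Q'))}
    (hcov : CovOrb (centG N Q') (centG N Q' ⊓ N) g (blockMap (psiEquiv N Q') e'))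
    (z : G → ℂ) (hz : IsClassFunction G z) (hzN : ∀ y, y ∉ N → z y = 0) (β : N → ℂ)
    (hβ : ∀ n : N, z n = β n)
    (h : ∀ θ' ∈ e', MemLocalIdeal M
      (brauerOmega Q' β (θ' : Subgroup.centralizer (Q' : Set N) → ℂ) - 1)) :
    ∀ ξ ∈ g, MemLocalIdeal M
      (brauerOmega (Q'.map N.subtype) z (ξ : centG N Q' → ℂ) - 1) := by
  classical
  have : Fintype ↥(centG N Q') := Fintype.ofFinite _
  have : Fintype ↥(centG N Q' ⊓ N) := Fintype.ofFinite _
  have : Fintype ↥(Subgroup.centralizer (Q' : Set N)) := Fintype.ofFinite _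
  intro ξ hξ
  rw [brauerOmega_eq_om]
  refine memLocalIdeal_up hMp N (centG N Q') (isPBlock_blockMap _ he') hcov z hz hzN ?_ ξ hξ
  intro θ hθ
  have h1 := h (irrMap (psiEquiv N Q').symm θ) hθ
  rw [brauerOmega_psi N Q' β, irrMap_irrMap_symm,
    resFun_extFun_eq N (centG N Q' ⊓ N) inf_le_right z β hβ] at h1
  exact h1

omit [Fact p.Prime] in
/-- Brauer pairs go down. -/
theorem brauerOmega_down (hMp : M.IsPrime) (N : Subgroup G) [N.Normal] (Q' : Subgroup N)
    {e' : Set (IrrCharacter (Subgroup.centralizer (Q' : Set N)))} (he' : IsPBlock M e')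
    {g : Set (IrrCharacter (centG N Q'))}
    (hcov : CovOrb (centG N Q') (centG N Q' ⊓ N) g (blockMap (psiEquiv N Q') e'))
    (z : G → ℂ) (hz : IsClassFunction G z) (hzN : ∀ y, y ∉ N → z y = 0)
    (hzR : ∀ y, MemLocalRing M (z y)) (β : N → ℂ) (hβ : ∀ n : N, z n = β n)
    {ξ : IrrCharacter (centG N Q')} (hξ : ξ ∈ g)
    (h : MemLocalIdeal M (brauerOmega (Q'.map N.subtype) z (ξ : centG N Q' → ℂ) - 1)) :
    ∀ θ' ∈ e', MemLocalIdeal M
      (brauerOmega Q' β (θ' : Subgroup.centralizer (Q' : Set N) → ℂ) - 1) := by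
  classical
  have : Fintype ↥(centG N Q') := Fintype.ofFinite _
  have : Fintype ↥(centG N Q' ⊓ N) := Fintype.ofFinite _
  have : Fintype ↥(Subgroup.centralizer (Q' : Set N)) := Fintype.ofFinite _
  intro θ' hθ'
  rw [brauerOmega_eq_om] at h
  have h1 := memLocalIdeal_down hMp N (centG N Q') (isPBlock_blockMap _ he') hcov z hz hzN hzR
    hξ h (irrMap (psiEquiv N Q') θ') ((irrMap_mem_blockMap _ _ _).mpr hθ')
  rw [brauerOmega_psi N Q' β, resFun_extFun_eq N (centG N Q' ⊓ N) inf_le_right z β hβ]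
  exact h1

omit [Fact p.Prime] in
/-- Stabilizers go up. -/
theorem stabilizes_up (hMp : M.IsPrime) (N : Subgroup G) [N.Normal] (Q' : Subgroup N)
    {e' : Set (IrrCharacter (Subgroup.centralizer (Q' : Set N)))} (he' : IsPBlock M e')
    {g : Set (IrrCharacter (centG N Q'))} (hg : IsPBlock M g)
    (hcov : CovOrb (centG N Q') (centG N Q' ⊓ N) g (blockMap (psiEquiv N Q') e'))
    {x : N} (hx : x ∈ Subgroup.normalizer (Q' : Set N))
    (hstab : StabilizesBlock (Subgroup.centralizer (Q' : Set N)) e' x) :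
    StabilizesBlock (centG N Q') g (x : G) := by
  have hxQ := coe_mem_normalizer_map N Q' hx
  have hxH : (x : G) ∈ Subgroup.normalizer ((centG N Q' : Subgroup G) : Set G) :=
    normalizer_le_normalizer_centralizer _ hxQ
  have hxK := mem_normalizer_inf_of_mem_normalizer N (centG N Q') hxH
  have hxKN : x ∈ Subgroup.normalizer
      ((Subgroup.centralizer (Q' : Set N) : Subgroup N) : Set N) :=
    normalizer_le_normalizer_centralizer Q' hx
  have h1 : conjSet _ x hxKN e' = e' := (stabilizesBlock_iff_eq hMp _ x hxKN he').mp hstab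
  have h2 := blockMap_psi_conjSet N Q' x hxKN hxK e'
  rw [h1] at h2
  have h3 := covOrb_conjSet (centG N Q') (centG N Q' ⊓ N) (x : G) hxK hxH hcov
  rw [← h2] at h3
  have h4 := covOrb_unique h3 hcov
  exact (stabilizesBlock_iff_eq hMp _ (x : G) hxH hg).mpr h4

/-- Stabilizers go down, for `p`-regular elements. -/
theorem stabilizes_down (hM : IsPModular p M) (N : Subgroup G) [hN : N.Normal]
    (hidx : ∃ k : ℕ, N.index = p ^ k) (Q' : Subgroup N)
    {e' : Set (IrrCharacter (Subgroup.centralizer (Q' : Set N)))} (he' : IsPBlock M e')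
    {g : Set (IrrCharacter (centG N Q'))} (hg : IsPBlock M g)
    (hcov : CovOrb (centG N Q') (centG N Q' ⊓ N) g (blockMap (psiEquiv N Q') e'))
    {x : N} (hx : x ∈ Subgroup.normalizer (Q' : Set N)) (hreg : ¬ p ∣ orderOf x)
    (hstab : StabilizesBlock (centG N Q') g (x : G)) :
    StabilizesBlock (Subgroup.centralizer (Q' : Set N)) e' x := by
  have hMp := Cfsg.Agent.Lib.helper20.isPrime_of_isPModular hM
  have hp : p.Prime := Fact.out
  have hxQ := coe_mem_normalizer_map N Q' hx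
  have hxH : (x : G) ∈ Subgroup.normalizer ((centG N Q' : Subgroup G) : Set G) :=
    normalizer_le_normalizer_centralizer _ hxQ
  have hxK := mem_normalizer_inf_of_mem_normalizer N (centG N Q') hxH
  have hxKN : x ∈ Subgroup.normalizer
      ((Subgroup.centralizer (Q' : Set N) : Subgroup N) : Set N) :=
    normalizer_le_normalizer_centralizer Q' hx
  have hγ := isPBlock_blockMap (psiEquiv N Q') he'
  have hHK : centG N Q' ≤ Subgroup.normalizer ((centG N Q' ⊓ N : Subgroup G) : Set G) :=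
    fun h hh => Cfsg.Agent.Lib.helper77.mem_normalizer_inf_of_mem N _ hh
  have h1 : conjSet (centG N Q') (x : G) hxH g = g :=
    (stabilizesBlock_iff_eq hMp _ _ hxH hg).mp hstab
  have h3 := covOrb_conjSet (centG N Q') (centG N Q' ⊓ N) (x : G) hxK hxH hcov
  rw [h1] at h3
  obtain ⟨y, hy, hyH, h4⟩ := covOrb_conj_of_eq hMp hγ (isPBlock_conjSet _ _ hxK hγ) hcov h3
  obtain ⟨k, hk⟩ := hidx
  have h5 : conjSet (centG N Q' ⊓ N) (x : G) hxK (blockMap (psiEquiv N Q') e')
      = blockMap (psiEquiv N Q') e' := by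
    refine conjSet_eq_self_of_comm _ (centG N Q') hHK _ (x : G) hxK y hyH ?_ (p ^ k) ?_ ?_ h4
    · intro z hz
      refine Subgroup.mem_inf.mpr ⟨?_, ?_⟩
      · have h6 := (Subgroup.mem_normalizer_iff.mp hxH z).mp hz
        have h7 : z⁻¹ * (x : G) * z * (x : G)⁻¹ = z⁻¹ * ((x : G) * z * (x : G)⁻¹) := by group
        rw [h7]
        exact Subgroup.mul_mem _ (Subgroup.inv_mem _ hz) h6
      · have h6 : z⁻¹ * (x : G) * z⁻¹⁻¹ ∈ N := hN.conj_mem _ x.2 z⁻¹
        have h7 : z⁻¹ * (x : G) * z * (x : G)⁻¹ = (z⁻¹ * (x : G) * z⁻¹⁻¹) * (x : G)⁻¹ := by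
          group
        rw [h7]
        exact N.mul_mem h6 (N.inv_mem x.2)
    · refine Subgroup.mem_inf.mpr ⟨Subgroup.pow_mem _ hyH _, ?_⟩
      rw [← hk]
      exact Subgroup.pow_index_mem N y
    · rw [Subgroup.orderOf_coe]
      exact Nat.Coprime.pow_right k ((Nat.Prime.coprime_iff_not_dvd hp).mpr hreg).symm
  have h2 := blockMap_psi_conjSet N Q' x hxKN hxK e'
  rw [h5] at h2
  have h8 := congrArg (blockMap (psiEquiv N Q').symm) h2
  rw [blockMap_symm_blockMap, blockMap_symm_blockMap] at h8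
  exact (stabilizesBlock_iff_eq hMp _ x hxKN he').mpr h8

end PIdxPair

end Cfsg.Agent.Lib.helper80
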