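import Cfsg.Agent.Lib.helper80.PairConj

/-!
# Defect groups of the blocks in Brauer pairs below a maximal pair

For `(Q, f) ≤ (P, e)`: `C_P(Q)` is contained in a defect group of `f`; and if `(P, e)` is a maximal
pair of `B`, a conjugate `(Q', f')` of `(Q, f)` below `(P, e)` has `C_P(Q')` as a defect group.
-/

set_option autoImplicit false

open Cfsg

namespace Cfsg.Agent.Lib.helper80

universe u

section Stab

variable {G : Type u} [Group G]

/-- The elements normalizing `K` and acting on `K` by class-preserving automorphisms. -/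
def classPres (K : Subgroup G) : Subgroup G where
  carrier := {x | x ∈ Subgroup.normalizer (K : Set G) ∧
    ∀ k ∈ K, ∃ c ∈ K, x * k * x⁻¹ = c * k * c⁻¹}
  one_mem' := ⟨Subgroup.one_mem _, fun k _ => ⟨1, K.one_mem, by group⟩⟩
  mul_mem' := by
    rintro x y ⟨hx, hx'⟩ ⟨hy, hy'⟩
    refine ⟨Subgroup.mul_mem _ hx hy, ?_⟩
    intro k hk
    obtain ⟨c, hc, h1⟩ := hy' k hk
    obtain ⟨c', hc', h2⟩ := hx' (c * k * c⁻¹) (K.mul_mem (K.mul_mem hc hk) (K.inv_mem hc))
    refine ⟨c' * c, K.mul_mem hc' hc, ?_⟩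
    calc x * y * k * (x * y)⁻¹ = x * (y * k * y⁻¹) * x⁻¹ := by group
      _ = x * (c * k * c⁻¹) * x⁻¹ := by rw [h1]
      _ = c' * (c * k * c⁻¹) * c'⁻¹ := h2
      _ = c' * c * k * (c' * c)⁻¹ := by group
  inv_mem' := by
    rintro x ⟨hx, hx'⟩
    refine ⟨Subgroup.inv_mem _ hx, ?_⟩
    intro k hk
    have hk' : x⁻¹ * k * x ∈ K := conj_inv_mem_of_mem_normalizer hx hk
    obtain ⟨c, hc, h1⟩ := hx' _ hk'
    refine ⟨c⁻¹, K.inv_mem hc, ?_⟩
    have h2 : x * (x⁻¹ * k * x) * x⁻¹ = k := by group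
    rw [h2] at h1
    calc x⁻¹ * k * x⁻¹⁻¹ = x⁻¹ * k * x := by group
      _ = c⁻¹ * (c * (x⁻¹ * k * x) * c⁻¹) * c := by group
      _ = c⁻¹ * k * c := by rw [← h1]
      _ = c⁻¹ * k * c⁻¹⁻¹ := by group

theorem sup_centralizer_le_classPres (Q : Subgroup G) :
    Q ⊔ Subgroup.centralizer (Q : Set G) ≤ classPres (Subgroup.centralizer (Q : Set G)) := by
  apply sup_le
  · intro q hq
    refine ⟨normalizer_le_normalizer_centralizer Q (Subgroup.le_normalizer hq), ?_⟩
    intro k hk
    refine ⟨1, Subgroup.one_mem _, ?_⟩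
    rw [Subgroup.mem_centralizer_iff] at hk
    have := hk q hq
    calc q * k * q⁻¹ = k * q * q⁻¹ := by rw [this]
      _ = 1 * k * 1⁻¹ := by group
  · intro c hc
    exact ⟨Subgroup.le_normalizer hc, fun k _ => ⟨c, hc, rfl⟩⟩

theorem conjIrr_eq_self_of_mem_classPres (K : Subgroup G) {x : G} (hx : x ∈ classPres K)
    (χ : IrrCharacter K) : conjIrr K x hx.1 χ = χ := by
  apply Subtype.ext
  funext k'
  have hk : x⁻¹ * (k' : G) * x ∈ K := conj_inv_mem_of_mem_normalizer hx.1 k'.2
  have h1 : (k' : G) = x * (x⁻¹ * (k' : G) * x) * x⁻¹ := by group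
  rw [conjIrr_apply K x hx.1 χ ⟨_, hk⟩ k' h1]
  obtain ⟨c, hc, h2⟩ := hx.2 _ hk
  have h3 : k' = ⟨c, hc⟩ * ⟨x⁻¹ * (k' : G) * x, hk⟩ * ⟨c, hc⟩⁻¹ := by
    apply Subtype.ext
    show (k' : G) = c * (x⁻¹ * (k' : G) * x) * c⁻¹
    rw [← h2]
    group
  conv_rhs => rw [h3]
  exact (Cfsg.Agent.Lib.helper81.irr_classFun χ _ _).symm

/-- Elements of `Q C_G(Q)` stabilize every set of irreducible characters of `C_G(Q)`. -/
theorem stabilizesBlock_of_mem_sup_centralizer (Q : Subgroup G)
    (f : Set (IrrCharacter (Subgroup.centralizer (Q : Set G)))) {x : G}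
    (hx : x ∈ Q ⊔ Subgroup.centralizer (Q : Set G)) :
    StabilizesBlock (Subgroup.centralizer (Q : Set G)) f x := by
  have hx' := sup_centralizer_le_classPres Q hx
  rw [stabilizesBlock_iff _ x hx'.1]
  intro χ hχ
  rw [conjIrr_eq_self_of_mem_classPres _ hx' χ]
  exact hχ

end Stab

section Defect

variable {G : Type u} [Group G] [Fintype G] {p : ℕ} [Fact p.Prime] {M : Ideal AlgInt}

open Cfsg.Agent.Lib.helper20

/-- A normal inclusion `(Q, f) ⊴ (R, g)`: the idempotent of `f` does not vanish modulo the local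
ideal at some point of `C_G(R)`. -/
theorem exists_not_memLocalIdeal_of_normalSubpair (hM : M.IsPrime) {Q R : Subgroup G}
    {f : Set (IrrCharacter (Subgroup.centralizer (Q : Set G)))}
    {g : Set (IrrCharacter (Subgroup.centralizer (R : Set G)))}
    (hns : IsNormalSubpair p M Q f R g) :
    ∃ y ∈ Subgroup.centralizer (R : Set G), ¬ MemLocalIdeal M
      (subgroupBlockCoeff (Subgroup.centralizer (Q : Set G)) f y) := by
  have hCR : Subgroup.centralizer (R : Set G) ≤ Subgroup.centralizer (Q : Set G) :=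
    Subgroup.centralizer_le (SetLike.coe_subset_coe.mpr hns.2.2.1)
  obtain ⟨ξ, hξ⟩ := Cfsg.Agent.Lib.helper80.isPBlock_nonempty hM hns.2.1.2
  by_contra hcon
  push Not at hcon
  have h4 := memLocalIdeal_brauerOmega hM R
    (subgroupBlockCoeff (Subgroup.centralizer (Q : Set G)) f)
    (fun u hu x => subgroupBlockCoeff_conj_mem _ _ u (hCR hu) x) hcon ξ
  have h5 := hns.2.2.2.2.2 ξ hξ
  have := memLocalIdeal_sub hM h4 h5
  rw [sub_sub_cancel] at this
  exact not_memLocalIdeal_one this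

/-- For `(Q, f) ≤ (P, e)`: `C_P(Q)` is contained in a defect group of `f`. -/
theorem exists_defectGroup_centralizer_le (hM : IsPModular p M) {P Q : Subgroup G}
    {e : Set (IrrCharacter (Subgroup.centralizer (P : Set G)))}
    {f : Set (IrrCharacter (Subgroup.centralizer (Q : Set G)))}
    (hPe : IsBrauerPair p M P e) (hQP : Q ≤ P) (hf : IsPBlock M f)
    (hle : SubpairLE p M Q f P e) :
    ∃ D : Subgroup (Subgroup.centralizer (Q : Set G)), IsDefectGroup p M f D ∧
      (P ⊓ Subgroup.centralizer (Q : Set G)).subgroupOf (Subgroup.centralizer (Q : Set G))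
        ≤ D := by
  classical
  have hMp := isPrime_of_isPModular hM
  have : Fintype (Subgroup.centralizer (Q : Set G)) := Fintype.ofFinite _
  have hP : IsPGroup p P := hPe.1
  have hQ : IsPGroup p Q := hP.to_le hQP
  have hQR : Q ≤ Q ⊔ (P ⊓ Subgroup.centralizer (Q : Set G)) := le_sup_left
  have hRP : Q ⊔ (P ⊓ Subgroup.centralizer (Q : Set G)) ≤ P := sup_le hQP inf_le_left
  have hRN : Q ⊔ (P ⊓ Subgroup.centralizer (Q : Set G)) ≤ Subgroup.normalizer (Q : Set G) :=
    sup_le Subgroup.le_normalizer (inf_le_right.trans (Subgroup.centralizer_le_normalizer _))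
  obtain ⟨eR, heR, hleR⟩ := exists_subpairLE hM _ P _ e hPe hRP rfl
  obtain ⟨f', hf', hle'⟩ := exists_subpairLE hM _ _ Q eR ⟨hP.to_le hRP, heR⟩ hQR rfl
  have hff : f' = f := subpairLE_unique hM P e hPe _ Q f' f rfl
    (Relation.ReflTransGen.trans hle' hleR) hle
  subst hff
  have hns := normalSubpair_of_subpairLE hM ⟨Q, f'⟩ ⟨_, eR⟩ hle' ⟨hQ, hf⟩ hRN
  obtain ⟨y, hy, hey⟩ := exists_not_memLocalIdeal_of_normalSubpair hMp hns
  have hyQ : y ∈ Subgroup.centralizer (Q : Set G) :=
    Subgroup.centralizer_le (SetLike.coe_subset_coe.mpr hQR) hy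
  rw [subgroupBlockCoeff_of_mem _ _ hyQ] at hey
  have hS : IsPGroup p ((P ⊓ Subgroup.centralizer (Q : Set G)).subgroupOf
      (Subgroup.centralizer (Q : Set G))) := (hP.to_le inf_le_left).comap_subtype
  have hyS : (⟨y, hyQ⟩ : Subgroup.centralizer (Q : Set G)) ∈ Subgroup.centralizer
      (((P ⊓ Subgroup.centralizer (Q : Set G)).subgroupOf
        (Subgroup.centralizer (Q : Set G)) : Subgroup (Subgroup.centralizer (Q : Set G)))
        : Set (Subgroup.centralizer (Q : Set G))) := by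
    rw [Subgroup.mem_centralizer_iff]
    intro s hs
    apply Subtype.ext
    rw [Subgroup.mem_centralizer_iff] at hy
    exact hy _ (Subgroup.mem_sup_right (Subgroup.mem_subgroupOf.mp hs))
  obtain ⟨D₀, hD₀⟩ := exists_isDefectGroup p hMp hf
  obtain ⟨k, hk⟩ := IsDefectGroup.exists_conj_mem hM hf hD₀ _ hS _ hyS hey
  refine ⟨D₀.map (MulAut.conj k).toMonoidHom, IsDefectGroup.conj hD₀ k, ?_⟩
  intro q hq
  rw [mem_map_conj]
  exact hk q hq

/-- If `(P, e)` is a maximal Brauer pair of `B` and `(Q, f) ≤ (P, e)`, some conjugate `(Q', f')` of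
`(Q, f)` lies below `(P, e)` and has `C_P(Q')` as a defect group of `f'`. -/
theorem exists_conj_defect_centralizer (hM : IsPModular p M) {B : Set (IrrCharacter G)}
    {P Q : Subgroup G} {e : Set (IrrCharacter (Subgroup.centralizer (P : Set G)))}
    {f : Set (IrrCharacter (Subgroup.centralizer (Q : Set G)))}
    (hmax : IsMaximalBrauerPair p M B P e) (hQP : Q ≤ P) (hf : IsPBlock M f)
    (hle : SubpairLE p M Q f P e) :
    ∃ x : G, SubpairLE p M (Q.map (MulAut.conj x).toMonoidHom) (conjBlock Q x f) P e ∧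
      IsDefectGroup p M (conjBlock Q x f)
        ((P ⊓ Subgroup.centralizer ((Q.map (MulAut.conj x).toMonoidHom : Subgroup G) : Set G)).subgroupOf
          (Subgroup.centralizer ((Q.map (MulAut.conj x).toMonoidHom : Subgroup G) : Set G))) := by
  classical
  have hMp := isPrime_of_isPModular hM
  have : Fintype (Subgroup.centralizer (Q : Set G)) := Fintype.ofFinite _
  have hPe : IsBrauerPair p M P e := hmax.1.1
  have hB : IsPBlock M B := hmax.1.2.1
  have hP : IsPGroup p P := hPe.1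
  have hQ : IsPGroup p Q := hP.to_le hQP
  have hQfB : IsBrauerPairOf p M B Q f :=
    (Cfsg.Agent.S4658.result p M hM P Q e f hPe ⟨hQ, hf⟩ hle B hB).mp hmax.1
  obtain ⟨D₀, hD₀⟩ := exists_isDefectGroup p hMp hf
  have hD₀p : IsPGroup p (D₀.map (Subgroup.centralizer (Q : Set G)).subtype) :=
    (IsDefectGroup.isPGroup hD₀).map _
  have hD₀K : D₀.map (Subgroup.centralizer (Q : Set G)).subtype
      ≤ Subgroup.centralizer (Q : Set G) := Subgroup.map_subtype_le _
  have hR₀p : IsPGroup p (Q ⊔ D₀.map (Subgroup.centralizer (Q : Set G)).subtype : Subgroup G) :=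
    IsPGroup.to_sup_of_normal_left' hQ hD₀p
      (hD₀K.trans (Subgroup.centralizer_le_normalizer _))
  have hQR₀ : Q ≤ Q ⊔ D₀.map (Subgroup.centralizer (Q : Set G)).subtype := le_sup_left
  have hR₀N : Q ⊔ D₀.map (Subgroup.centralizer (Q : Set G)).subtype
      ≤ Subgroup.normalizer (Q : Set G) :=
    sup_le Subgroup.le_normalizer (hD₀K.trans (Subgroup.centralizer_le_normalizer _))
  have hstab : ∀ x ∈ Q ⊔ D₀.map (Subgroup.centralizer (Q : Set G)).subtype,
      StabilizesBlock (Subgroup.centralizer (Q : Set G)) f x := fun x hx =>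
    stabilizesBlock_of_mem_sup_centralizer Q f (sup_le_sup_left hD₀K Q hx)
  have hD₀' := hD₀
  obtain ⟨l, hl, hsl⟩ := hD₀'
  have hlR : (l : G) ∈ Subgroup.centralizer
      ((Q ⊔ D₀.map (Subgroup.centralizer (Q : Set G)).subtype : Subgroup G) : Set G) := by
    have h1 : Q ⊔ D₀.map (Subgroup.centralizer (Q : Set G)).subtype
        ≤ Subgroup.centralizer ({(l : G)} : Set G) := by
      apply sup_le
      · intro q hq
        rw [mem_centralizer_singleton]
        have := l.2
        rw [Subgroup.mem_centralizer_iff] at this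
        exact (this q hq).symm
      · rintro _ ⟨d, hd, rfl⟩
        have := IsSylowCent.le hsl hd
        rw [mem_centralizer_singleton] at this ⊢
        exact congrArg Subtype.val this
    rw [Subgroup.mem_centralizer_iff]
    intro h hh
    have := h1 hh
    rw [mem_centralizer_singleton] at this
    exact this.symm
  have hey₀ : ¬ MemLocalIdeal M (subgroupBlockCoeff (Subgroup.centralizer (Q : Set G)) f
      (l : G)) := by
    rw [subgroupBlockCoeff_of_mem _ _ l.2]
    exact hl.2.1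
  obtain ⟨g₀, hns₀⟩ := exists_normalSubpair_up hM Q _ hR₀p hQR₀ hR₀N hf hstab hlR hey₀
  have hle₀ : SubpairLE p M Q f _ g₀ := Relation.ReflTransGen.single hns₀
  have hR₀B : IsBrauerPairOf p M B _ g₀ :=
    (Cfsg.Agent.S4658.result p M hM _ Q g₀ f hns₀.2.1 hns₀.1 hle₀ B hB).mpr hQfB
  obtain ⟨x, hx⟩ := exists_conj_le_maximal hM hmax hR₀B
  have hle_x : SubpairLE p M (Q.map (MulAut.conj x).toMonoidHom) (conjBlock Q x f) P e :=
    Relation.ReflTransGen.trans (subpairLE_conj x hle₀) hx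
  refine ⟨x, hle_x, ?_⟩
  have : Fintype (Subgroup.centralizer
      ((Q.map (MulAut.conj x).toMonoidHom : Subgroup G) : Set G)) := Fintype.ofFinite _
  have hQxP : Q.map (MulAut.conj x).toMonoidHom ≤ P := subpairLE_le ⟨_, _⟩ ⟨_, _⟩ hle_x
  obtain ⟨D₂, hD₂, hSD₂⟩ := exists_defectGroup_centralizer_le hM hPe hQxP
    (isPBlock_conjBlock Q x hf) hle_x
  have hDx : IsDefectGroup p M (conjBlock Q x f) (D₀.map (centConj Q x).toMonoidHom) := by
    rw [conjBlock_eq_blockMap]
    exact isDefectGroup_blockMap (centConj Q x) hD₀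
  have hDxS : D₀.map (centConj Q x).toMonoidHom
      ≤ (P ⊓ Subgroup.centralizer ((Q.map (MulAut.conj x).toMonoidHom : Subgroup G) : Set G)).subgroupOf
          (Subgroup.centralizer ((Q.map (MulAut.conj x).toMonoidHom : Subgroup G) : Set G)) := by
    rintro _ ⟨d, hd, rfl⟩
    rw [Subgroup.mem_subgroupOf]
    refine ⟨?_, (centConj Q x d).2⟩
    have h1 : (d : G) ∈ Q ⊔ D₀.map (Subgroup.centralizer (Q : Set G)).subtype :=
      Subgroup.mem_sup_right ⟨d, hd, rfl⟩
    exact subpairLE_le ⟨_, _⟩ ⟨_, _⟩ hx (conj_mem_map _ x h1)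
  have hcard := IsDefectGroup.card_eq hM (isPBlock_conjBlock Q x hf) hDx hD₂
  have heq : D₀.map (centConj Q x).toMonoidHom = D₂ :=
    Subgroup.eq_of_le_of_card_ge (hDxS.trans hSD₂) (le_of_eq hcard)
  have hS : (P ⊓ Subgroup.centralizer ((Q.map (MulAut.conj x).toMonoidHom : Subgroup G) : Set G)).subgroupOf
      (Subgroup.centralizer ((Q.map (MulAut.conj x).toMonoidHom : Subgroup G) : Set G)) = D₂ :=
    le_antisymm hSD₂ (heq ▸ hDxS)
  rw [hS]
  exact hD₂

end Defect

end Cfsg.Agent.Lib.helper80
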