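import Cfsg.Agent.Lib.helper80.PairNormalizer
import Cfsg.Prelude.Def_BlockFusion

/-!
# The fusion system of a block: fully centralized, fully normalized and centric subgroups

For a block `B` with maximal Brauer pair `(P, e)` and fusion system `F` on `P`, and
`(Q, f) ≤ (P, e)`:
* `Q` is fully centralized iff `C_P(Q)` is a defect group of `f`;
* `Q` is fully normalized iff `N_P(Q)` is a defect group of the block of the stabilizer of `f`;
* `Q` is centric iff `Z(Q)` is a defect group of `f`.
-/

set_option autoImplicit false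

open Cfsg

namespace Cfsg.Agent.Lib.helper80

universe u

section Fusion

variable {G : Type u} [Group G] [Fintype G] {p : ℕ} [Fact p.Prime] {M : Ideal AlgInt}

open Cfsg.Agent.Lib.helper20

omit [Fintype G] in
theorem range_conj_eq_map (Q : Subgroup G) (g : G) (φ : Q →* G)
    (h : ∀ u : Q, φ u = g * (u : G) * g⁻¹) :
    φ.range = Q.map (MulAut.conj g).toMonoidHom := by
  ext y
  constructor
  · rintro ⟨u, rfl⟩
    exact ⟨u, u.2, (h u).symm⟩
  · rintro ⟨u, hu, rfl⟩
    exact ⟨⟨u, hu⟩, h _⟩

/-- Conjugacy in the fusion system of a block, for a subgroup `Q` carrying the pair `(Q, f)` below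
`(P, e)`. -/
theorem isConj_blockFusion_iff (hM : IsPModular p M) {B : Set (IrrCharacter G)} {P : Subgroup G}
    {e : Set (IrrCharacter (Subgroup.centralizer (P : Set G)))} {F : FusionSystem P}
    (hF : IsBlockFusionSystemOn p M B P e F) {Q : Subgroup G}
    {f : Set (IrrCharacter (Subgroup.centralizer (Q : Set G)))} (hle : SubpairLE p M Q f P e)
    (Q' : Subgroup G) :
    F.IsConj Q Q' ↔ ∃ g : G, Q' = Q.map (MulAut.conj g).toMonoidHom ∧
      SubpairLE p M (Q.map (MulAut.conj g).toMonoidHom) (conjBlock Q g f) P e := by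
  have hPe : IsBrauerPair p M P e := hF.1.1.1
  constructor
  · rintro ⟨φ, hφ, hr⟩
    obtain ⟨hQP, g, hg, hQg, f₀, h1, h2⟩ := (hF.2 Q φ).mp hφ
    have hff : f₀ = f := subpairLE_unique hM P e hPe _ Q f₀ f rfl h1 hle
    subst hff
    exact ⟨g, by rw [← hr, range_conj_eq_map Q g φ hg], h2⟩
  · rintro ⟨g, rfl, h2⟩
    refine ⟨conjHom Q g, (hF.2 Q _).mpr ⟨subpairLE_le ⟨_, _⟩ ⟨_, _⟩ hle, g, fun u => rfl,
      subpairLE_le ⟨_, _⟩ ⟨_, _⟩ h2, f, hle, h2⟩, range_conj_eq_map Q g _ (fun u => rfl)⟩

omit [Fintype G] in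
theorem card_subgroupOf_of_le {H K : Subgroup G} (h : H ≤ K) :
    Nat.card (H.subgroupOf K) = Nat.card H :=
  Nat.card_congr (Subgroup.subgroupOfEquivOfLe h).toEquiv

theorem isDefectGroup_conjBlock (Q : Subgroup G) (x : G)
    {f : Set (IrrCharacter (Subgroup.centralizer (Q : Set G)))}
    {D : Subgroup (Subgroup.centralizer (Q : Set G))} (hD : IsDefectGroup p M f D) :
    IsDefectGroup p M (conjBlock Q x f) (D.map (centConj Q x).toMonoidHom) := by
  classical
  have : Fintype (Subgroup.centralizer (Q : Set G)) := Fintype.ofFinite _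
  have : Fintype (Subgroup.centralizer
    ((Q.map (MulAut.conj x).toMonoidHom : Subgroup G) : Set G)) := Fintype.ofFinite _
  rw [conjBlock_eq_blockMap]
  exact isDefectGroup_blockMap (centConj Q x) hD

/-- For a conjugate `(Q^g, f^g) ≤ (P, e)`, `|C_P(Q^g)|` is at most the order of a defect group of
`f`. -/
theorem card_centralizer_conj_le (hM : IsPModular p M) {P Q : Subgroup G}
    {e : Set (IrrCharacter (Subgroup.centralizer (P : Set G)))}
    {f : Set (IrrCharacter (Subgroup.centralizer (Q : Set G)))}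
    (hPe : IsBrauerPair p M P e) (hf : IsPBlock M f) (g : G)
    (hleg : SubpairLE p M (Q.map (MulAut.conj g).toMonoidHom) (conjBlock Q g f) P e)
    {D : Subgroup (Subgroup.centralizer (Q : Set G))} (hD : IsDefectGroup p M f D) :
    Nat.card ↥(P ⊓ Subgroup.centralizer
      ((Q.map (MulAut.conj g).toMonoidHom : Subgroup G) : Set G)) ≤ Nat.card D := by
  classical
  have : Fintype (Subgroup.centralizer
    ((Q.map (MulAut.conj g).toMonoidHom : Subgroup G) : Set G)) := Fintype.ofFinite _
  have hQgP : Q.map (MulAut.conj g).toMonoidHom ≤ P := subpairLE_le ⟨_, _⟩ ⟨_, _⟩ hleg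
  have hfg := isPBlock_conjBlock (M := M) Q g hf
  obtain ⟨D', hD', hle'⟩ := exists_defectGroup_centralizer_le hM hPe hQgP hfg hleg
  have h1 := IsDefectGroup.card_eq hM hfg hD' (isDefectGroup_conjBlock Q g hD)
  rw [Subgroup.card_map_of_injective (centConj Q g).injective] at h1
  rw [← card_subgroupOf_of_le (inf_le_right : P ⊓ Subgroup.centralizer
      ((Q.map (MulAut.conj g).toMonoidHom : Subgroup G) : Set G) ≤ _), h1]
  exact Subgroup.card_le_of_le hle'

/-- `Q` is fully centralized in the fusion system of `B` iff `C_P(Q)` is a defect group of `f`. -/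
theorem fullyCentralized_iff (hM : IsPModular p M) {B : Set (IrrCharacter G)} {P : Subgroup G}
    {e : Set (IrrCharacter (Subgroup.centralizer (P : Set G)))} {F : FusionSystem P}
    (hF : IsBlockFusionSystemOn p M B P e F) {Q : Subgroup G}
    {f : Set (IrrCharacter (Subgroup.centralizer (Q : Set G)))} (hQP : Q ≤ P)
    (hf : IsPBlock M f) (hle : SubpairLE p M Q f P e) :
    F.IsFullyCentralized Q ↔ IsDefectGroup p M f
      ((P ⊓ Subgroup.centralizer (Q : Set G)).subgroupOf (Subgroup.centralizer (Q : Set G))) := by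
  classical
  have : Fintype (Subgroup.centralizer (Q : Set G)) := Fintype.ofFinite _
  have hmax := hF.1
  have hPe : IsBrauerPair p M P e := hmax.1.1
  constructor
  · rintro ⟨-, hfc⟩
    obtain ⟨x, hlex, hDx⟩ := exists_conj_defect_centralizer hM hmax hQP hf hle
    have hconj : F.IsConj Q (Q.map (MulAut.conj x).toMonoidHom) :=
      (isConj_blockFusion_iff hM hF hle _).mpr ⟨x, rfl, hlex⟩
    have h1 : Nat.card ↥(P ⊓ Subgroup.centralizer
        ((Q.map (MulAut.conj x).toMonoidHom : Subgroup G) : Set G))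
        ≤ Nat.card ↥(P ⊓ Subgroup.centralizer (Q : Set G)) := hfc _ hconj
    obtain ⟨D, hD, hDle⟩ := exists_defectGroup_centralizer_le hM hPe hQP hf hle
    have h2 := card_centralizer_conj_le hM hPe hf x hlex hD
    have h3 := IsDefectGroup.card_eq hM (isPBlock_conjBlock (M := M) Q x hf) hDx
      (isDefectGroup_conjBlock Q x hD)
    rw [Subgroup.card_map_of_injective (centConj Q x).injective,
      card_subgroupOf_of_le inf_le_right] at h3
    have h4 : Nat.card D ≤ Nat.card ((P ⊓ Subgroup.centralizer (Q : Set G)).subgroupOf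
        (Subgroup.centralizer (Q : Set G))) := by
      rw [card_subgroupOf_of_le inf_le_right, h3]
      exact h1
    rw [Subgroup.eq_of_le_of_card_ge hDle h4]
    exact hD
  · intro hD
    refine ⟨hQP, fun Q' hQ' => ?_⟩
    obtain ⟨g, rfl, hleg⟩ := (isConj_blockFusion_iff hM hF hle Q').mp hQ'
    have h1 := card_centralizer_conj_le hM hPe hf g hleg hD
    rw [card_subgroupOf_of_le inf_le_right] at h1
    exact h1

omit [Fintype G] in
theorem map_centConj_center (Q : Subgroup G) (x : G) :
    ((Q ⊓ Subgroup.centralizer (Q : Set G)).subgroupOf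
      (Subgroup.centralizer (Q : Set G))).map (centConj Q x).toMonoidHom
    = ((Q.map (MulAut.conj x).toMonoidHom) ⊓ Subgroup.centralizer
        ((Q.map (MulAut.conj x).toMonoidHom : Subgroup G) : Set G)).subgroupOf
      (Subgroup.centralizer ((Q.map (MulAut.conj x).toMonoidHom : Subgroup G) : Set G)) := by
  ext y
  constructor
  · rintro ⟨c, hc, rfl⟩
    rw [SetLike.mem_coe, Subgroup.mem_subgroupOf] at hc
    rw [Subgroup.mem_subgroupOf]
    exact ⟨conj_mem_map Q x hc.1, conj_mem_centralizer_map Q x hc.2⟩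
  · intro hy
    rw [Subgroup.mem_subgroupOf] at hy
    refine ⟨(centConj Q x).symm y, ?_, (centConj Q x).apply_symm_apply y⟩
    rw [SetLike.mem_coe, Subgroup.mem_subgroupOf]
    refine ⟨?_, ((centConj Q x).symm y).2⟩
    rw [centConj_symm_apply_coe]
    exact mem_map_conj.mp hy.1

/-- `Q` is centric in the fusion system of `B` iff `Z(Q)` is a defect group of `f`. -/
theorem centric_iff (hM : IsPModular p M) {B : Set (IrrCharacter G)} {P : Subgroup G}
    {e : Set (IrrCharacter (Subgroup.centralizer (P : Set G)))} {F : FusionSystem P}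
    (hF : IsBlockFusionSystemOn p M B P e F) {Q : Subgroup G}
    {f : Set (IrrCharacter (Subgroup.centralizer (Q : Set G)))} (hQP : Q ≤ P)
    (hf : IsPBlock M f) (hle : SubpairLE p M Q f P e) :
    F.IsCentric Q ↔ IsDefectGroup p M f
      ((Q ⊓ Subgroup.centralizer (Q : Set G)).subgroupOf (Subgroup.centralizer (Q : Set G))) := by
  classical
  have : Fintype (Subgroup.centralizer (Q : Set G)) := Fintype.ofFinite _
  have hmax := hF.1
  have hPe : IsBrauerPair p M P e := hmax.1.1
  have hZle : ∀ (Q₁ : Subgroup G), Q₁ ≤ P →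
      (Q₁ ⊓ Subgroup.centralizer (Q₁ : Set G)).subgroupOf (Subgroup.centralizer (Q₁ : Set G))
      ≤ (P ⊓ Subgroup.centralizer (Q₁ : Set G)).subgroupOf
        (Subgroup.centralizer (Q₁ : Set G)) := by
    intro Q₁ hQ₁ y hy
    rw [Subgroup.mem_subgroupOf] at hy ⊢
    exact ⟨hQ₁ hy.1, hy.2⟩
  constructor
  · rintro ⟨-, hcen⟩
    obtain ⟨x, hlex, hDx⟩ := exists_conj_defect_centralizer hM hmax hQP hf hle
    have hQxP : Q.map (MulAut.conj x).toMonoidHom ≤ P := subpairLE_le ⟨_, _⟩ ⟨_, _⟩ hlex
    have hconj : F.IsConj Q (Q.map (MulAut.conj x).toMonoidHom) :=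
      (isConj_blockFusion_iff hM hF hle _).mpr ⟨x, rfl, hlex⟩
    have h1 : P ⊓ Subgroup.centralizer
        ((Q.map (MulAut.conj x).toMonoidHom : Subgroup G) : Set G)
        ≤ Q.map (MulAut.conj x).toMonoidHom := hcen _ hconj
    have h2 : P ⊓ Subgroup.centralizer
        ((Q.map (MulAut.conj x).toMonoidHom : Subgroup G) : Set G)
        = (Q.map (MulAut.conj x).toMonoidHom) ⊓ Subgroup.centralizer
        ((Q.map (MulAut.conj x).toMonoidHom : Subgroup G) : Set G) :=
      le_antisymm (le_inf h1 inf_le_right) (inf_le_inf_right _ hQxP)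
    rw [h2, ← map_centConj_center] at hDx
    obtain ⟨D, hD, hDle⟩ := exists_defectGroup_centralizer_le hM hPe hQP hf hle
    have h3 := IsDefectGroup.card_eq hM (isPBlock_conjBlock (M := M) Q x hf) hDx
      (isDefectGroup_conjBlock Q x hD)
    rw [Subgroup.card_map_of_injective (centConj Q x).injective,
      Subgroup.card_map_of_injective (centConj Q x).injective] at h3
    rw [Subgroup.eq_of_le_of_card_ge ((hZle Q hQP).trans hDle) (le_of_eq h3)]
    exact hD
  · intro hD
    refine ⟨hQP, fun Q' hQ' => ?_⟩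
    obtain ⟨g, rfl, hleg⟩ := (isConj_blockFusion_iff hM hF hle Q').mp hQ'
    have : Fintype (Subgroup.centralizer
      ((Q.map (MulAut.conj g).toMonoidHom : Subgroup G) : Set G)) := Fintype.ofFinite _
    have hQgP : Q.map (MulAut.conj g).toMonoidHom ≤ P := subpairLE_le ⟨_, _⟩ ⟨_, _⟩ hleg
    have hfg := isPBlock_conjBlock (M := M) Q g hf
    obtain ⟨D', hD', hle'⟩ := exists_defectGroup_centralizer_le hM hPe hQgP hfg hleg
    have h2 := isDefectGroup_conjBlock Q g hD
    rw [map_centConj_center] at h2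
    have h3 := IsDefectGroup.card_eq hM hfg h2 hD'
    have heq := Subgroup.eq_of_le_of_card_ge ((hZle _ hQgP).trans hle') (le_of_eq h3)
    intro y hy
    have hy' : (⟨y, hy.2⟩ : Subgroup.centralizer
        ((Q.map (MulAut.conj g).toMonoidHom : Subgroup G) : Set G)) ∈
        (P ⊓ Subgroup.centralizer
          ((Q.map (MulAut.conj g).toMonoidHom : Subgroup G) : Set G)).subgroupOf
        (Subgroup.centralizer ((Q.map (MulAut.conj g).toMonoidHom : Subgroup G) : Set G)) :=
      Subgroup.mem_subgroupOf.mpr hy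
    have h4 := hle' hy'
    rw [← heq, Subgroup.mem_subgroupOf] at h4
    exact h4.1

/-- `N_P(Q)` lies in the stabilizer of `f` for `(Q, f) ≤ (P, e)`. -/
theorem inf_normalizer_le_stabilizer (hM : IsPModular p M) {P Q : Subgroup G}
    {e : Set (IrrCharacter (Subgroup.centralizer (P : Set G)))}
    {f : Set (IrrCharacter (Subgroup.centralizer (Q : Set G)))}
    (hPe : IsBrauerPair p M P e) (hQP : Q ≤ P) (hf : IsPBlock M f)
    (hle : SubpairLE p M Q f P e) (T : Subgroup G)
    (hT : ∀ y : G, y ∈ T ↔ y ∈ Subgroup.normalizer (Q : Set G) ∧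
      StabilizesBlock (Subgroup.centralizer (Q : Set G)) f y) :
    P ⊓ Subgroup.normalizer (Q : Set G) ≤ T := by
  classical
  have hP : IsPGroup p P := hPe.1
  have hQ : IsPGroup p Q := hP.to_le hQP
  have hQR : Q ≤ P ⊓ Subgroup.normalizer (Q : Set G) := le_inf hQP Subgroup.le_normalizer
  have hRP : P ⊓ Subgroup.normalizer (Q : Set G) ≤ P := inf_le_left
  have hRN : P ⊓ Subgroup.normalizer (Q : Set G) ≤ Subgroup.normalizer (Q : Set G) :=
    inf_le_right
  obtain ⟨eR, heR, hleR⟩ := exists_subpairLE hM _ P _ e hPe hRP rfl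
  obtain ⟨f', hf', hle'⟩ := exists_subpairLE hM _ _ Q eR ⟨hP.to_le hRP, heR⟩ hQR rfl
  have hff : f' = f := subpairLE_unique hM P e hPe _ Q f' f rfl
    (Relation.ReflTransGen.trans hle' hleR) hle
  subst hff
  have hns := normalSubpair_of_subpairLE hM ⟨Q, f'⟩ ⟨_, eR⟩ hle' ⟨hQ, hf⟩ hRN
  exact fun y hy => (hT y).mpr ⟨hRN hy, hns.2.2.2.2.1 y hy⟩

omit [Fintype G] in
/-- The conjugate of the stabilizer of `f` is the stabilizer of the conjugate of `f`. -/
theorem stabilizer_conj (Q : Subgroup G) (x : G)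
    (f : Set (IrrCharacter (Subgroup.centralizer (Q : Set G)))) (T : Subgroup G)
    (hT : ∀ y : G, y ∈ T ↔ y ∈ Subgroup.normalizer (Q : Set G) ∧
      StabilizesBlock (Subgroup.centralizer (Q : Set G)) f y) (y : G) :
    y ∈ T.map (MulAut.conj x).toMonoidHom ↔
      y ∈ Subgroup.normalizer ((Q.map (MulAut.conj x).toMonoidHom : Subgroup G) : Set G) ∧
      StabilizesBlock (Subgroup.centralizer
        ((Q.map (MulAut.conj x).toMonoidHom : Subgroup G) : Set G)) (conjBlock Q x f) y := by
  have hNiff : ∀ y, y ∈ Subgroup.normalizer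
      ((Q.map (MulAut.conj x).toMonoidHom : Subgroup G) : Set G)
      ↔ x⁻¹ * y * x ∈ Subgroup.normalizer (Q : Set G) := fun y =>
    mem_normalizer_conj_iff Q (Q.map (MulAut.conj x).toMonoidHom) x (fun c => mem_map_conj) y
  rw [mem_map_conj, hT, hNiff, stabilizesBlock_conjBlock_iff]

/-- The block of the stabilizer of the conjugate pair is the transport of the block of the
stabilizer. -/
theorem blockMap_conjSub_stabilizer (Q : Subgroup G) (x : G)
    (f : Set (IrrCharacter (Subgroup.centralizer (Q : Set G)))) (T T' : Subgroup G)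
    (hTT' : ∀ y, y ∈ T' ↔ x⁻¹ * y * x ∈ T) {F : Set (IrrCharacter T)}
    {F' : Set (IrrCharacter T')}
    (hFc : ∀ t : T, blockCoeff F t
      = subgroupBlockCoeff (Subgroup.centralizer (Q : Set G)) f (t : G))
    (hF'c : ∀ t : T', blockCoeff F' t = subgroupBlockCoeff (Subgroup.centralizer
      ((Q.map (MulAut.conj x).toMonoidHom : Subgroup G) : Set G)) (conjBlock Q x f) (t : G)) :
    blockMap (conjSub T T' x hTT') F = F' := by
  classical
  have : Fintype T := Fintype.ofFinite _
  have : Fintype T' := Fintype.ofFinite _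
  apply blockCoeff_injective
  intro t'
  rw [blockCoeff_blockMap, hFc, hF'c, conjSub_symm_apply_coe]
  have h1 := subgroupBlockCoeff_conjBlock Q x f (x⁻¹ * (t' : G) * x)
  have h2 : x * (x⁻¹ * (t' : G) * x) * x⁻¹ = t' := by group
  rw [h2] at h1
  exact h1.symm

/-- For a conjugate `(Q^g, f^g) ≤ (P, e)`, `|N_P(Q^g)|` is at most the order of a defect group of
the block of the stabilizer of `f`. -/
theorem card_normalizer_conj_le (hM : IsPModular p M) {P Q : Subgroup G}
    {e : Set (IrrCharacter (Subgroup.centralizer (P : Set G)))}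
    {f : Set (IrrCharacter (Subgroup.centralizer (Q : Set G)))}
    (hPe : IsBrauerPair p M P e) (hf : IsPBlock M f) (T : Subgroup G)
    (hT : ∀ y : G, y ∈ T ↔ y ∈ Subgroup.normalizer (Q : Set G) ∧
      StabilizesBlock (Subgroup.centralizer (Q : Set G)) f y) (g : G)
    (hleg : SubpairLE p M (Q.map (MulAut.conj g).toMonoidHom) (conjBlock Q g f) P e)
    {F' : Set (IrrCharacter T)} (hF' : IsPBlock M F')
    (hF'c : ∀ t : T, blockCoeff F' t
      = subgroupBlockCoeff (Subgroup.centralizer (Q : Set G)) f (t : G))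
    {D : Subgroup T} (hD : IsDefectGroup p M F' D) :
    Nat.card ↥(P ⊓ Subgroup.normalizer
      ((Q.map (MulAut.conj g).toMonoidHom : Subgroup G) : Set G)) ≤ Nat.card D := by
  classical
  have : Fintype T := Fintype.ofFinite _
  have : Fintype (T.map (MulAut.conj g).toMonoidHom) := Fintype.ofFinite _
  have hQgP : Q.map (MulAut.conj g).toMonoidHom ≤ P := subpairLE_le ⟨_, _⟩ ⟨_, _⟩ hleg
  have hfg := isPBlock_conjBlock (M := M) Q g hf
  have hT' := stabilizer_conj Q g f T hT
  have hTT' : ∀ y, y ∈ T.map (MulAut.conj g).toMonoidHom ↔ g⁻¹ * y * g ∈ T :=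
    fun y => mem_map_conj
  obtain ⟨F'', hF'', hF''c, D'', hD'', hle''⟩ :=
    exists_block_stabilizer_defect hM hPe hQgP hfg hleg _ hT'
  have hFF := blockMap_conjSub_stabilizer Q g f T _ hTT' hF'c hF''c
  have h1 : IsDefectGroup p M F'' (D.map (conjSub T _ g hTT').toMonoidHom) := by
    rw [← hFF]
    exact isDefectGroup_blockMap (conjSub T _ g hTT') hD
  have h2 := IsDefectGroup.card_eq hM hF'' hD'' h1
  rw [Subgroup.card_map_of_injective (conjSub T _ g hTT').injective] at h2
  rw [← card_subgroupOf_of_le (inf_normalizer_le_stabilizer hM hPe hQgP hfg hleg _ hT'), h2]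
  exact Subgroup.card_le_of_le hle''

/-- `Q` is fully normalized in the fusion system of `B` iff `N_P(Q)` is a defect group of the block
of the stabilizer of `f` with the idempotent of `f`. -/
theorem fullyNormalized_iff (hM : IsPModular p M) {B : Set (IrrCharacter G)} {P : Subgroup G}
    {e : Set (IrrCharacter (Subgroup.centralizer (P : Set G)))} {F : FusionSystem P}
    (hF : IsBlockFusionSystemOn p M B P e F) {Q : Subgroup G}
    {f : Set (IrrCharacter (Subgroup.centralizer (Q : Set G)))} (hQP : Q ≤ P)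
    (hf : IsPBlock M f) (hle : SubpairLE p M Q f P e) (T : Subgroup G)
    (hT : ∀ y : G, y ∈ T ↔ y ∈ Subgroup.normalizer (Q : Set G) ∧
      StabilizesBlock (Subgroup.centralizer (Q : Set G)) f y) :
    F.IsFullyNormalized Q ↔ ∃ F' : Set (IrrCharacter T), IsPBlock M F' ∧
      (∀ t : T, blockCoeff F' t
        = subgroupBlockCoeff (Subgroup.centralizer (Q : Set G)) f (t : G)) ∧
      IsDefectGroup p M F' ((P ⊓ Subgroup.normalizer (Q : Set G)).subgroupOf T) := by
  classical
  have : Fintype T := Fintype.ofFinite _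
  have hmax := hF.1
  have hPe : IsBrauerPair p M P e := hmax.1.1
  have hNT := inf_normalizer_le_stabilizer hM hPe hQP hf hle T hT
  constructor
  · rintro ⟨-, hfn⟩
    obtain ⟨x, hlex, hall⟩ := exists_conj_defect_normalizer hM hmax hQP hf hle T hT
    have : Fintype (T.map (MulAut.conj x).toMonoidHom) := Fintype.ofFinite _
    have hQxP : Q.map (MulAut.conj x).toMonoidHom ≤ P := subpairLE_le ⟨_, _⟩ ⟨_, _⟩ hlex
    have hfx := isPBlock_conjBlock (M := M) Q x hf
    have hT' := stabilizer_conj Q x f T hT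
    have hTT' : ∀ y, y ∈ T.map (MulAut.conj x).toMonoidHom ↔ x⁻¹ * y * x ∈ T :=
      fun y => mem_map_conj
    obtain ⟨Fx, hFx, hFxc, hDx⟩ := hall _ hT'
    have hconj : F.IsConj Q (Q.map (MulAut.conj x).toMonoidHom) :=
      (isConj_blockFusion_iff hM hF hle _).mpr ⟨x, rfl, hlex⟩
    have h1 : Nat.card ↥(P ⊓ Subgroup.normalizer
        ((Q.map (MulAut.conj x).toMonoidHom : Subgroup G) : Set G))
        ≤ Nat.card ↥(P ⊓ Subgroup.normalizer (Q : Set G)) := hfn _ hconj
    obtain ⟨F', hF', hF'c, D, hD, hDle⟩ :=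
      exists_block_stabilizer_defect hM hPe hQP hf hle T hT
    refine ⟨F', hF', hF'c, ?_⟩
    have hFF := blockMap_conjSub_stabilizer Q x f T _ hTT' hF'c hFxc
    have h2 : IsDefectGroup p M Fx (D.map (conjSub T _ x hTT').toMonoidHom) := by
      rw [← hFF]
      exact isDefectGroup_blockMap (conjSub T _ x hTT') hD
    have h3 := IsDefectGroup.card_eq hM hFx hDx h2
    rw [Subgroup.card_map_of_injective (conjSub T _ x hTT').injective,
      card_subgroupOf_of_le (inf_normalizer_le_stabilizer hM hPe hQxP hfx hlex _ hT')] at h3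
    have h4 : Nat.card D ≤ Nat.card ((P ⊓ Subgroup.normalizer (Q : Set G)).subgroupOf T) := by
      rw [card_subgroupOf_of_le hNT, h3]
      exact h1
    rw [Subgroup.eq_of_le_of_card_ge hDle h4]
    exact hD
  · rintro ⟨F', hF', hF'c, hD⟩
    refine ⟨hQP, fun Q' hQ' => ?_⟩
    obtain ⟨g, rfl, hleg⟩ := (isConj_blockFusion_iff hM hF hle Q').mp hQ'
    have h1 := card_normalizer_conj_le hM hPe hf T hT g hleg hF' hF'c hD
    rw [card_subgroupOf_of_le hNT] at h1
    exact h1

end Fusion

end Cfsg.Agent.Lib.helper80
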