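import Cfsg.Agent.Lib.helper80.PairDefect

/-!
# The stabilizer of a Brauer pair: its block and defect groups

For `(Q, f) ≤ (P, e)` and `T` the stabilizer of `f` in `N_G(Q)`: the idempotent of `f` is a block
idempotent of `T`, and `N_P(Q)` is contained in a defect group of that block; if `(P, e)` is a
maximal pair of `B`, for a suitable conjugate `N_P(Q')` is a defect group.
-/

set_option autoImplicit false

open Cfsg

namespace Cfsg.Agent.Lib.helper80

universe u

section Conj

variable {G : Type u} [Group G]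

/-- Conjugation by `x` as an isomorphism between a subgroup and its conjugate. -/
def conjSub (T T' : Subgroup G) (x : G) (h : ∀ y, y ∈ T' ↔ x⁻¹ * y * x ∈ T) : T ≃* T' where
  toFun t := ⟨x * t * x⁻¹, (h _).mpr (by
    have : x⁻¹ * (x * (t : G) * x⁻¹) * x = t := by group
    rw [this]
    exact t.2)⟩
  invFun t := ⟨x⁻¹ * t * x, (h _).mp t.2⟩
  left_inv t := by
    apply Subtype.ext
    show x⁻¹ * (x * (t : G) * x⁻¹) * x = t
    group
  right_inv t := by
    apply Subtype.ext
    show x * (x⁻¹ * (t : G) * x) * x⁻¹ = t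
    group
  map_mul' a b := by
    apply Subtype.ext
    show x * ((a : G) * b) * x⁻¹ = (x * a * x⁻¹) * (x * b * x⁻¹)
    group

theorem conjSub_apply_coe (T T' : Subgroup G) (x : G) (h : ∀ y, y ∈ T' ↔ x⁻¹ * y * x ∈ T)
    (t : T) : ((conjSub T T' x h t : T') : G) = x * t * x⁻¹ := rfl

theorem conjSub_symm_apply_coe (T T' : Subgroup G) (x : G)
    (h : ∀ y, y ∈ T' ↔ x⁻¹ * y * x ∈ T) (t : T') :
    (((conjSub T T' x h).symm t : T) : G) = x⁻¹ * t * x := rfl

theorem mem_normalizer_conj_iff (A A' : Subgroup G) (x : G)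
    (hA : ∀ c, c ∈ A' ↔ x⁻¹ * c * x ∈ A) (y : G) :
    y ∈ Subgroup.normalizer (A' : Set G) ↔ x⁻¹ * y * x ∈ Subgroup.normalizer (A : Set G) := by
  rw [Subgroup.mem_normalizer_iff, Subgroup.mem_normalizer_iff]
  constructor
  · intro hy h
    have h1 := hy (x * h * x⁻¹)
    rw [hA, hA] at h1
    have h2 : x⁻¹ * (x * h * x⁻¹) * x = h := by group
    have h3 : x⁻¹ * (y * (x * h * x⁻¹) * y⁻¹) * x = x⁻¹ * y * x * h * (x⁻¹ * y * x)⁻¹ := by group
    rw [h2, h3] at h1
    exact h1
  · intro hy h'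
    have h1 := hy (x⁻¹ * h' * x)
    rw [hA, hA]
    have h3 : x⁻¹ * y * x * (x⁻¹ * h' * x) * (x⁻¹ * y * x)⁻¹ = x⁻¹ * (y * h' * y⁻¹) * x := by group
    rw [h3] at h1
    exact h1

theorem mem_centralizer_map_conj_iff (Q : Subgroup G) (x c : G) :
    c ∈ Subgroup.centralizer ((Q.map (MulAut.conj x).toMonoidHom : Subgroup G) : Set G)
      ↔ x⁻¹ * c * x ∈ Subgroup.centralizer (Q : Set G) := by
  constructor
  · exact conj_inv_mem_centralizer_of_map Q x
  · intro h
    have := conj_mem_centralizer_map Q x h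
    have h2 : x * (x⁻¹ * c * x) * x⁻¹ = c := by group
    rwa [h2] at this

/-- `y` stabilizes the conjugate of `f` by `x` if and only if `x⁻¹ y x` stabilizes `f`. -/
theorem stabilizesBlock_conjBlock_iff (Q : Subgroup G) (x : G)
    (f : Set (IrrCharacter (Subgroup.centralizer (Q : Set G)))) (y : G) :
    StabilizesBlock (Subgroup.centralizer
        ((Q.map (MulAut.conj x).toMonoidHom : Subgroup G) : Set G)) (conjBlock Q x f) y
      ↔ StabilizesBlock (Subgroup.centralizer (Q : Set G)) f (x⁻¹ * y * x) := by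
  have hN := mem_normalizer_conj_iff (Subgroup.centralizer (Q : Set G))
    (Subgroup.centralizer ((Q.map (MulAut.conj x).toMonoidHom : Subgroup G) : Set G)) x
    (mem_centralizer_map_conj_iff Q x) y
  constructor
  · rintro ⟨hy, hst⟩
    refine ⟨hN.mp hy, ?_⟩
    intro χ hχ
    obtain ⟨ψ', hψ', hconj⟩ := hst _ ((mem_conjBlock_iff Q x f χ).mpr hχ)
    obtain ⟨χ', hχ', rfl⟩ := exists_irrMap_of_mem_conjBlock Q x f hψ'
    refine ⟨χ', hχ', ?_⟩
    intro k k' hkk
    have h1 := hconj (centConj Q x k) (centConj Q x k') (by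
      rw [centConj_apply_coe, centConj_apply_coe, hkk]
      group)
    rw [irrMap_apply', irrMap_apply'] at h1
    exact h1
  · rintro ⟨hy, hst⟩
    refine ⟨hN.mpr hy, ?_⟩
    intro ψ hψ
    obtain ⟨χ, hχ, rfl⟩ := exists_irrMap_of_mem_conjBlock Q x f hψ
    obtain ⟨χ', hχ', hconj⟩ := hst χ hχ
    refine ⟨irrMap (centConj Q x) χ', (mem_conjBlock_iff Q x f χ').mpr hχ', ?_⟩
    intro k k' hkk
    rw [irrMap_apply, irrMap_apply]
    apply hconj
    rw [centConj_symm_apply_coe, centConj_symm_apply_coe, hkk]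
    group

end Conj

section Stabilizer

variable {G : Type u} [Group G] [Fintype G] {p : ℕ} [Fact p.Prime] {M : Ideal AlgInt}

open Cfsg.Agent.Lib.helper20

/-- The idempotent of a block `f` of `C_G(Q)` is a block idempotent of the stabilizer `T` of `f` in
`N_G(Q)`. -/
theorem exists_block_of_stabilizer (hM : IsPModular p M) (Q : Subgroup G) (hQ : IsPGroup p Q)
    {f : Set (IrrCharacter (Subgroup.centralizer (Q : Set G)))} (hf : IsPBlock M f)
    (T : Subgroup G) (hT : ∀ y : G, y ∈ T ↔ y ∈ Subgroup.normalizer (Q : Set G) ∧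
      StabilizesBlock (Subgroup.centralizer (Q : Set G)) f y) :
    ∃ F : Set (IrrCharacter T), IsPBlock M F ∧ ∀ t : T, blockCoeff F t
      = subgroupBlockCoeff (Subgroup.centralizer (Q : Set G)) f (t : G) := by
  classical
  have hMp := isPrime_of_isPModular hM
  have : Fintype T := Fintype.ofFinite _
  have : Fintype (Subgroup.centralizer (Q : Set G)) := Fintype.ofFinite _
  have hQT : Q ≤ T := fun y hy => (hT y).mpr ⟨Subgroup.le_normalizer hy,
    stabilizesBlock_of_mem_sup_centralizer Q f (Subgroup.mem_sup_left hy)⟩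
  have hCT : Subgroup.centralizer (Q : Set G) ≤ T := fun y hy =>
    (hT y).mpr ⟨Subgroup.centralizer_le_normalizer _ hy,
      stabilizesBlock_of_mem_sup_centralizer Q f (Subgroup.mem_sup_right hy)⟩
  have hTN : T ≤ Subgroup.normalizer (Q : Set G) := fun y hy => ((hT y).mp hy).1
  obtain ⟨F, hF, hcov⟩ := exists_cover hM Q T hQ hQT hCT hTN hf
  have horb : orbSet (Subgroup.centralizer (Q : Set G)) T f = f := by
    apply Set.Subset.antisymm _ (subset_orbSet _ _ f)
    rintro ξ ⟨h, hn, hh, hξ⟩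
    rw [(stabilizesBlock_iff_eq hMp _ h hn hf).mp ((hT h).mp hh).2] at hξ
    exact hξ
  refine ⟨F, hF, ?_⟩
  intro t
  have h1 := hcov (t : G)
  rw [extFun_coe, horb] at h1
  exact h1

/-- For `(Q, f) ≤ (P, e)`, `T` the stabilizer of `f` in `N_G(Q)`: the block of `T` with the
idempotent of `f` has a defect group containing `N_P(Q)`. -/
theorem exists_block_stabilizer_defect (hM : IsPModular p M) {P Q : Subgroup G}
    {e : Set (IrrCharacter (Subgroup.centralizer (P : Set G)))}
    {f : Set (IrrCharacter (Subgroup.centralizer (Q : Set G)))}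
    (hPe : IsBrauerPair p M P e) (hQP : Q ≤ P) (hf : IsPBlock M f)
    (hle : SubpairLE p M Q f P e) (T : Subgroup G)
    (hT : ∀ y : G, y ∈ T ↔ y ∈ Subgroup.normalizer (Q : Set G) ∧
      StabilizesBlock (Subgroup.centralizer (Q : Set G)) f y) :
    ∃ F : Set (IrrCharacter T), IsPBlock M F ∧
      (∀ t : T, blockCoeff F t
        = subgroupBlockCoeff (Subgroup.centralizer (Q : Set G)) f (t : G)) ∧
      ∃ D : Subgroup T, IsDefectGroup p M F D ∧
        (P ⊓ Subgroup.normalizer (Q : Set G)).subgroupOf T ≤ D := by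
  classical
  have hMp := isPrime_of_isPModular hM
  have : Fintype T := Fintype.ofFinite _
  have hP : IsPGroup p P := hPe.1
  have hQ : IsPGroup p Q := hP.to_le hQP
  obtain ⟨F, hF, hFc⟩ := exists_block_of_stabilizer hM Q hQ hf T hT
  refine ⟨F, hF, hFc, ?_⟩
  have hQR : Q ≤ P ⊓ Subgroup.normalizer (Q : Set G) := le_inf hQP Subgroup.le_normalizer
  have hRP : P ⊓ Subgroup.normalizer (Q : Set G) ≤ P := inf_le_left
  have hRN : P ⊓ Subgroup.normalizer (Q : Set G) ≤ Subgroup.normalizer (Q : Set G) :=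
    inf_le_right
  obtain ⟨eR, heR, hleR⟩ := exists_subpairLE hM _ P _ e hPe hRP rfl
  obtain ⟨f', hf', hle'⟩ := exists_subpairLE hM _ _ Q eR ⟨hP.to_le hRP, heR⟩ hQR rfl
  have hff : f' = f := subpairLE_unique hM P e hPe _ Q f' f rfl
    (Relation.ReflTransGen.trans hle' hleR) hle
  subst hff
  have hns := normalSubpair_of_subpairLE hM ⟨Q, f'⟩ ⟨_, eR⟩ hle' ⟨hQ, hf⟩ hRN
  have hRT : P ⊓ Subgroup.normalizer (Q : Set G) ≤ T := fun y hy =>
    (hT y).mpr ⟨hRN hy, hns.2.2.2.2.1 y hy⟩
  obtain ⟨y, hy, hey⟩ := exists_not_memLocalIdeal_of_normalSubpair hMp hns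
  have hyQ : y ∈ Subgroup.centralizer (Q : Set G) :=
    Subgroup.centralizer_le (SetLike.coe_subset_coe.mpr hQR) hy
  have hyT : y ∈ T := (hT y).mpr ⟨Subgroup.centralizer_le_normalizer _ hyQ,
    stabilizesBlock_of_mem_sup_centralizer Q f' (Subgroup.mem_sup_right hyQ)⟩
  have hey' : ¬ MemLocalIdeal M (blockCoeff F ⟨y, hyT⟩) := by
    rw [hFc]
    exact hey
  have hS : IsPGroup p ((P ⊓ Subgroup.normalizer (Q : Set G)).subgroupOf T) :=
    (hP.to_le inf_le_left).comap_subtype
  have hyS : (⟨y, hyT⟩ : T) ∈ Subgroup.centralizer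
      (((P ⊓ Subgroup.normalizer (Q : Set G)).subgroupOf T : Subgroup T) : Set T) := by
    rw [Subgroup.mem_centralizer_iff]
    intro s hs
    apply Subtype.ext
    rw [Subgroup.mem_centralizer_iff] at hy
    exact hy _ (Subgroup.mem_subgroupOf.mp hs)
  obtain ⟨D₀, hD₀⟩ := exists_isDefectGroup p hMp hF
  obtain ⟨k, hk⟩ := IsDefectGroup.exists_conj_mem hM hF hD₀ _ hS _ hyS hey'
  refine ⟨D₀.map (MulAut.conj k).toMonoidHom, IsDefectGroup.conj hD₀ k, ?_⟩
  intro q hq
  rw [mem_map_conj]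
  exact hk q hq

/-- If `(P, e)` is a maximal Brauer pair of `B` and `(Q, f) ≤ (P, e)`, some conjugate `(Q', f')` of
`(Q, f)` lies below `(P, e)` and `N_P(Q')` is a defect group of the block of the stabilizer of
`f'` with the idempotent of `f'`. -/
theorem exists_conj_defect_normalizer (hM : IsPModular p M) {B : Set (IrrCharacter G)}
    {P Q : Subgroup G} {e : Set (IrrCharacter (Subgroup.centralizer (P : Set G)))}
    {f : Set (IrrCharacter (Subgroup.centralizer (Q : Set G)))}
    (hmax : IsMaximalBrauerPair p M B P e) (hQP : Q ≤ P) (hf : IsPBlock M f)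
    (hle : SubpairLE p M Q f P e) (T : Subgroup G)
    (hT : ∀ y : G, y ∈ T ↔ y ∈ Subgroup.normalizer (Q : Set G) ∧
      StabilizesBlock (Subgroup.centralizer (Q : Set G)) f y) :
    ∃ x : G, SubpairLE p M (Q.map (MulAut.conj x).toMonoidHom) (conjBlock Q x f) P e ∧
      ∀ (T' : Subgroup G), (∀ y : G, y ∈ T' ↔
          y ∈ Subgroup.normalizer ((Q.map (MulAut.conj x).toMonoidHom : Subgroup G) : Set G) ∧
          StabilizesBlock (Subgroup.centralizer
            ((Q.map (MulAut.conj x).toMonoidHom : Subgroup G) : Set G)) (conjBlock Q x f) y) →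
        ∃ F' : Set (IrrCharacter T'), IsPBlock M F' ∧
          (∀ t : T', blockCoeff F' t = subgroupBlockCoeff (Subgroup.centralizer
            ((Q.map (MulAut.conj x).toMonoidHom : Subgroup G) : Set G)) (conjBlock Q x f)
              (t : G)) ∧
          IsDefectGroup p M F' ((P ⊓ Subgroup.normalizer
            ((Q.map (MulAut.conj x).toMonoidHom : Subgroup G) : Set G)).subgroupOf T') := by
  classical
  have hMp := isPrime_of_isPModular hM
  have : Fintype T := Fintype.ofFinite _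
  have hPe : IsBrauerPair p M P e := hmax.1.1
  have hB : IsPBlock M B := hmax.1.2.1
  have hP : IsPGroup p P := hPe.1
  have hQ : IsPGroup p Q := hP.to_le hQP
  have hQfB : IsBrauerPairOf p M B Q f :=
    (Cfsg.Agent.S4658.result p M hM P Q e f hPe ⟨hQ, hf⟩ hle B hB).mp hmax.1
  have hTN : T ≤ Subgroup.normalizer (Q : Set G) := fun y hy => ((hT y).mp hy).1
  have hQT : Q ≤ T := fun y hy => (hT y).mpr ⟨Subgroup.le_normalizer hy,
    stabilizesBlock_of_mem_sup_centralizer Q f (Subgroup.mem_sup_left hy)⟩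
  obtain ⟨F, hF, hFc⟩ := exists_block_of_stabilizer hM Q hQ hf T hT
  obtain ⟨D₀, hD₀⟩ := exists_isDefectGroup p hMp hF
  have hnorm : (Q.subgroupOf T).Normal := Subgroup.normal_subgroupOf_of_le_normalizer hTN
  have hQD₀ : Q.subgroupOf T ≤ D₀ := normal_le_defectGroup hM (Q.subgroupOf T)
    hQ.comap_subtype hF hD₀
  have hR₀p : IsPGroup p (D₀.map T.subtype) := (IsDefectGroup.isPGroup hD₀).map _
  have hR₀T : D₀.map T.subtype ≤ T := Subgroup.map_subtype_le _
  have hQR₀ : Q ≤ D₀.map T.subtype := fun u hu =>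
    ⟨⟨u, hQT hu⟩, hQD₀ (Subgroup.mem_subgroupOf.mpr hu), rfl⟩
  have hR₀N : D₀.map T.subtype ≤ Subgroup.normalizer (Q : Set G) := hR₀T.trans hTN
  have hstab : ∀ x ∈ D₀.map T.subtype,
      StabilizesBlock (Subgroup.centralizer (Q : Set G)) f x := fun x hx =>
    ((hT x).mp (hR₀T hx)).2
  have hD₀' := hD₀
  obtain ⟨l, hl, hsl⟩ := hD₀'
  have hlR : (l : G) ∈ Subgroup.centralizer ((D₀.map T.subtype : Subgroup G) : Set G) := by
    rw [Subgroup.mem_centralizer_iff]
    rintro _ ⟨d, hd, rfl⟩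
    have := IsSylowCent.le hsl hd
    rw [mem_centralizer_singleton] at this
    exact (congrArg Subtype.val this).symm
  have hey₀ : ¬ MemLocalIdeal M (subgroupBlockCoeff (Subgroup.centralizer (Q : Set G)) f
      (l : G)) := by
    rw [← hFc]
    exact hl.2.1
  obtain ⟨g₀, hns₀⟩ := exists_normalSubpair_up hM Q _ hR₀p hQR₀ hR₀N hf hstab hlR hey₀
  have hle₀ : SubpairLE p M Q f _ g₀ := Relation.ReflTransGen.single hns₀
  have hR₀B : IsBrauerPairOf p M B _ g₀ :=
    (Cfsg.Agent.S4658.result p M hM _ Q g₀ f hns₀.2.1 hns₀.1 hle₀ B hB).mpr hQfB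
  obtain ⟨x, hx⟩ := exists_conj_le_maximal hM hmax hR₀B
  have hle_x : SubpairLE p M (Q.map (MulAut.conj x).toMonoidHom) (conjBlock Q x f) P e :=
    Relation.ReflTransGen.trans (subpairLE_conj x hle₀) hx
  refine ⟨x, hle_x, ?_⟩
  intro T' hT'
  have : Fintype T' := Fintype.ofFinite _
  have hQxP : Q.map (MulAut.conj x).toMonoidHom ≤ P := subpairLE_le ⟨_, _⟩ ⟨_, _⟩ hle_x
  obtain ⟨F', hF', hF'c, D₂, hD₂, hSD₂⟩ := exists_block_stabilizer_defect hM hPe hQxP
    (isPBlock_conjBlock Q x hf) hle_x T' hT'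
  refine ⟨F', hF', hF'c, ?_⟩
  have hNiff : ∀ y, y ∈ Subgroup.normalizer
      ((Q.map (MulAut.conj x).toMonoidHom : Subgroup G) : Set G)
      ↔ x⁻¹ * y * x ∈ Subgroup.normalizer (Q : Set G) := fun y =>
    mem_normalizer_conj_iff Q (Q.map (MulAut.conj x).toMonoidHom) x (fun c => mem_map_conj) y
  have hTT' : ∀ y, y ∈ T' ↔ x⁻¹ * y * x ∈ T := by
    intro y
    rw [hT', hT, hNiff, stabilizesBlock_conjBlock_iff]
  have hFF' : blockMap (conjSub T T' x hTT') F = F' := by
    apply blockCoeff_injective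
    intro t'
    rw [blockCoeff_blockMap, hFc, hF'c, conjSub_symm_apply_coe]
    have h1 := subgroupBlockCoeff_conjBlock Q x f (x⁻¹ * (t' : G) * x)
    have h2 : x * (x⁻¹ * (t' : G) * x) * x⁻¹ = t' := by group
    rw [h2] at h1
    exact h1.symm
  have hDψ : IsDefectGroup p M F' (D₀.map (conjSub T T' x hTT').toMonoidHom) := by
    rw [← hFF']
    exact isDefectGroup_blockMap (conjSub T T' x hTT') hD₀
  have hDψS : D₀.map (conjSub T T' x hTT').toMonoidHom
      ≤ (P ⊓ Subgroup.normalizer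
          ((Q.map (MulAut.conj x).toMonoidHom : Subgroup G) : Set G)).subgroupOf T' := by
    rintro _ ⟨d, hd, rfl⟩
    rw [Subgroup.mem_subgroupOf]
    refine ⟨?_, ?_⟩
    · have h1 : (d : G) ∈ D₀.map T.subtype := ⟨d, hd, rfl⟩
      exact subpairLE_le ⟨_, _⟩ ⟨_, _⟩ hx (conj_mem_map _ x h1)
    · have h2 : x⁻¹ * (x * (d : G) * x⁻¹) * x = d := by group
      have h3 : ((conjSub T T' x hTT' d : T') : G) ∈ Subgroup.normalizer
          ((Q.map (MulAut.conj x).toMonoidHom : Subgroup G) : Set G) := by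
        rw [hNiff, conjSub_apply_coe, h2]
        exact hTN d.2
      exact h3
  have hcard := IsDefectGroup.card_eq hM hF' hDψ hD₂
  have heq : D₀.map (conjSub T T' x hTT').toMonoidHom = D₂ :=
    Subgroup.eq_of_le_of_card_ge (hDψS.trans hSD₂) (le_of_eq hcard)
  have hS : (P ⊓ Subgroup.normalizer
      ((Q.map (MulAut.conj x).toMonoidHom : Subgroup G) : Set G)).subgroupOf T' = D₂ :=
    le_antisymm hSD₂ (heq ▸ hDψS)
  rw [hS]
  exact hD₂

end Stabilizer

end Cfsg.Agent.Lib.helper80
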