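import Mathlib
import Cfsg.Prelude.Def_GeometricClasses
import Cfsg.Agent.Lib.helper24.SfoDefs

/-! S5977/S5978, KUNIQ sub-split (architect helper2): piece SUMD (`qfu_diag_count_sum`),
racer copy with `h80_`-prefixed names. -/

set_option autoImplicit false

namespace Cfsg.Agent.Lib.helper2

open Cfsg.Geo Matrix Cfsg.Agent.Lib.helper24

theorem h80_card_sqrts {E : Type*} [Field E] [Fintype E] [DecidableEq E] (hF : ringChar E ≠ 2) (a : E) :
    (Nat.card {x : E // x ^ 2 = a} : ℤ) = quadraticChar E a + 1 := by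
  have h := quadraticChar_card_sqrts hF a
  rw [Set.toFinset_card] at h
  rw [Nat.card_eq_fintype_card]
  convert h
  exact Iff.rfl

theorem h80_card_ct {E : Type*} [Field E] [Fintype E] [DecidableEq E] (hF : ringChar E ≠ 2) (c : E) (hc : c ≠ 0)
    (u : E) : (Nat.card {t : E // c * t ^ 2 = u} : ℤ) = quadraticChar E (u / c) + 1 := by
  have e : Nat.card {t : E // c * t ^ 2 = u} = Nat.card {x : E // x ^ 2 = u / c} :=
    Nat.card_congr (Equiv.subtypeEquivRight (fun t => by rw [eq_div_iff hc, mul_comm]))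
  rw [e, h80_card_sqrts hF]

theorem h80_pair {E : Type*} [Field E] [Fintype E] (hF : ringChar E ≠ 2) (c c' : E) (hc : c ≠ 0)
    (hc' : c' ≠ 0) (hns : ∀ s : E, c ≠ s ^ 2 * c') (u : E) :
    Nat.card {t : E // c * t ^ 2 = u} + Nat.card {t : E // c' * t ^ 2 = u} = 2 := by
  classical
  have h1 := h80_card_ct hF c hc u
  have h2 := h80_card_ct hF c' hc' u
  have hn : quadraticChar E (c' / c) = -1 := by
    rw [quadraticChar_neg_one_iff_not_isSquare]
    rintro ⟨s, hs⟩
    have hs0 : s ≠ 0 := by
      rintro rfl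
      rw [mul_zero, div_eq_zero_iff] at hs
      rcases hs with h | h
      · exact hc' h
      · exact hc h
    apply hns s⁻¹
    rw [div_eq_iff hc] at hs
    rw [hs, inv_pow, ← mul_assoc, ← pow_two, inv_mul_cancel₀ (pow_ne_zero 2 hs0), one_mul]
  have hχ : quadraticChar E (u / c) = - quadraticChar E (u / c') := by
    have e : u / c = (u / c') * (c' / c) := by
      field_simp
    rw [e, map_mul, hn, mul_neg_one]
  have h3 : (Nat.card {t : E // c * t ^ 2 = u} : ℤ) + Nat.card {t : E // c' * t ^ 2 = u} = 2 := by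
    rw [h1, h2, hχ]
    ring
  exact_mod_cast h3

theorem h80_count_diag {E : Type*} [Field E] [Fintype E] {m : ℕ} (c : E) :
    sfoCount (fun x : Fin (m + 1) → E => ∑ j, (if j = Fin.last m then c else 1) * x j ^ 2) 1 =
      ∑ y : Fin m → E, Nat.card {t : E // c * t ^ 2 = 1 - ∑ j, y j ^ 2} := by
  have hQ : ∀ x : Fin (m + 1) → E, (∑ j, (if j = Fin.last m then c else 1) * x j ^ 2) =
      (∑ j : Fin m, x (Fin.castSucc j) ^ 2) + c * x (Fin.last m) ^ 2 := by
    intro x
    rw [Fin.sum_univ_castSucc, if_pos rfl]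
    congr 1
    apply Finset.sum_congr rfl
    intro j _
    rw [if_neg (Fin.castSucc_lt_last j).ne, one_mul]
  unfold sfoCount
  rw [← Nat.card_sigma]
  apply Nat.card_congr
  exact
    { toFun := fun x => ⟨Fin.init x.1, ⟨x.1 (Fin.last m), by
        have h : (∑ j, (if j = Fin.last m then c else 1) * x.1 j ^ 2) = 1 := x.2
        rw [hQ] at h
        exact eq_sub_of_add_eq' h⟩⟩
      invFun := fun p => ⟨(Fin.snoc p.1 p.2.1 : Fin (m + 1) → E), by
        show (∑ j, (if j = Fin.last m then c else 1) *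
          (Fin.snoc p.1 p.2.1 : Fin (m + 1) → E) j ^ 2) = 1
        rw [hQ]
        simp only [Fin.snoc_castSucc, Fin.snoc_last]
        rw [p.2.2]
        ring⟩
      left_inv := fun x => Subtype.ext (Fin.snoc_init_self x.1)
      right_inv := fun p => by
        apply Sigma.subtype_ext
        · show Fin.init (Fin.snoc p.1 p.2.1 : Fin (m + 1) → E) = p.1
          exact Fin.init_snoc _ _
        · show (Fin.snoc p.1 p.2.1 : Fin (m + 1) → E) (Fin.last m) = p.2.1
          exact Fin.snoc_last _ _ }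

/-- SUMD -/
theorem h80_qfu_diag_count_sum {E : Type*} [Field E] [Fintype E] {m : ℕ} (h2 : (2 : E) ≠ 0)
    (c c' : E) (hc : c ≠ 0) (hc' : c' ≠ 0) (hns : ∀ s : E, c ≠ s ^ 2 * c') :
    sfoCount (fun x : Fin (m + 1) → E => ∑ j, (if j = Fin.last m then c else 1) * x j ^ 2) 1 +
      sfoCount (fun x : Fin (m + 1) → E => ∑ j, (if j = Fin.last m then c' else 1) * x j ^ 2) 1 =
      2 * Fintype.card E ^ m := by
  have hF : ringChar E ≠ 2 := by
    intro h
    apply h2
    have := CharP.cast_eq_zero E (ringChar E)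
    rw [h] at this
    exact_mod_cast this
  rw [h80_count_diag, h80_count_diag, ← Finset.sum_add_distrib,
    Finset.sum_congr rfl (fun y _ => h80_pair hF c c' hc hc' hns _), Finset.sum_const,
    Finset.card_univ, Fintype.card_fun, Fintype.card_fin, smul_eq_mul, mul_comm]

end Cfsg.Agent.Lib.helper2
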