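import Cfsg.Agent.Lib.helper48.LBRefl
import Cfsg.Agent.Lib.helper50.PSUTransfer
import Cfsg.Agent.Lib.helper50.PSUF4
import Cfsg.Agent.Lib.helper48.PSUOut
import Cfsg.Agent.S0283
import Cfsg.Agent.Lib.helper27.S2687GAL

/-!
# S2687 piece F-CENT, hypothesis-passing form

`field_fix_form_of`, `field_noCent_of`: the statements of `field_fix_form` and `field_noCent`
with the pieces LOC and REL as explicit hypotheses.
-/

set_option autoImplicit false

namespace Cfsg.Agent.Lib.helper80.S2687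

open Matrix Cfsg
open Cfsg.Agent.Lib.helper50
open Cfsg.Agent.Lib.helper48.LB
open Cfsg.Agent.Lib.helper48.AbsBal (fixG)
open Cfsg.Agent.Lib.helper99 (suMat)

universe u v

variable {n q : ℕ} {F : Type u} [Field F] [Fintype F]

/-- F-CENT, part 1, with LOC and REL as hypotheses. -/
theorem field_fix_form_of (hF : Fintype.card F = q ^ 2) (hn : 3 ≤ n) (h32 : ¬ (n = 3 ∧ q = 2))
    {r f : ℕ} [Fact r.Prime] (hq : q = r ^ f) (hf : 1 ≤ f) {q₀ p : ℕ} (hp : p.Prime) (hp2 : p ≠ 2)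
    (hq₀ : q = q₀ ^ p) (σ : F ≃+* F) (hσ : orderOf σ = p)
    (hLOC : ∀ (g : ↥(GU n F q)) (τ : F ≃+* F) (v : Fin n → F), hermForm n F q v v = 0 →
      ∀ c : F, c ≠ 0 → ∀ s : ↥(SU n F q), suMat s = unitaryTransvection n q v c →
      (phiPSU g * fieldPSU τ : MulAut (PSU n F q)) (QuotientGroup.mk s) = QuotientGroup.mk s →
      ∃ μ : F, ((g : GL (Fin n) F) : Matrix (Fin n) (Fin n) F) *ᵥ (fun i => τ (v i)) = μ • v)
    (hREL : ∀ (S : Subfield F) (q₁ : ℕ), Nat.card S = q₁ ^ 2 →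
      (∀ x : S, (x : F) ^ q = (x : F) ^ q₁) →
      ∀ M : Matrix (Fin n) (Fin n) F, M.det ≠ 0 → ∀ τ : F ≃+* F,
      (∀ v : Fin n → F, (∀ i, v i ∈ S) → hermForm n F q v v = 0 →
        ∃ μ : F, M *ᵥ (fun i => τ (v i)) = μ • v) →
      (∀ x ∈ S, τ x = x) ∧ ∃ ρ : F, M = ρ • (1 : Matrix (Fin n) (Fin n) F))
    (a : MulAut (PSU n F q))
    (hfix : ∀ s : ↥(SU n F q), fieldSU σ s = s → a (QuotientGroup.mk s) = QuotientGroup.mk s) :
    ∃ τ : F ≃+* F, a = fieldPSU τ ∧ ∀ x : F, σ x = x → τ x = x := by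
  classical
  obtain ⟨τ, w, ha⟩ := Cfsg.Agent.Lib.helper48.PSUOut.exists_typ hF hn h32 hq hf a
  obtain ⟨hK₀card, hpow⟩ := PSUF.fixed_data hF hp hp2 hq₀ σ hσ
  have hσfix : ∀ x : F, x ∈ FixedPoints.subfield (Subgroup.zpowers σ) F → σ x = x :=
    fun x hx => hx ⟨σ, Subgroup.mem_zpowers σ⟩
  have hmemK : ∀ x : F, σ x = x → x ∈ FixedPoints.subfield (Subgroup.zpowers σ) F := by
    intro x hx g
    have h1 : σ ∈ MulAction.stabilizer (F ≃+* F) x := hx
    have h2 : Subgroup.zpowers σ ≤ MulAction.stabilizer (F ≃+* F) x :=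
      (Subgroup.zpowers_le).mpr h1
    exact h2 g.2
  have hdet : ((w : GL (Fin n) F) : Matrix (Fin n) (Fin n) F).det ≠ 0 :=
    Matrix.GeneralLinearGroup.det_ne_zero _
  have : Fintype ↥(FixedPoints.subfield (Subgroup.zpowers σ) F) := Fintype.ofFinite _
  have hK₀card' : Fintype.card ↥(FixedPoints.subfield (Subgroup.zpowers σ) F) = q₀ ^ 2 := by
    rw [← Nat.card_eq_fintype_card]
    exact hK₀card
  obtain ⟨κ, hκ0, hκ⟩ := Cfsg.Agent.Lib.helper99.exists_skew_ne_zero hK₀card'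
  have hc0 : (κ : F) ≠ 0 := fun h => hκ0 (Subtype.ext h)
  have hcq : (κ : F) ^ q = -(κ : F) := by
    rw [hpow κ]
    have h1 := congrArg Subtype.val hκ
    simpa using h1
  obtain ⟨hτS, ρ, hρ⟩ := hREL (FixedPoints.subfield (Subgroup.zpowers σ) F) q₀ hK₀card hpow _
    hdet τ (by
      intro v hvS hv
      obtain ⟨s, -, hs⟩ := Cfsg.Agent.Lib.helper99.transv_InT hF n v (κ : F) hv hcq
      have hsfix : fieldSU σ s = s := by
        apply Cfsg.Agent.Lib.helper99.suMat_inj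
        have h1 : suMat (fieldSU σ s) = (suMat s).map σ := rfl
        rw [h1, hs, transv_map]
        have h2 : (fun i => σ (v i)) = v := funext (fun i => hσfix _ (hvS i))
        rw [h2, hσfix _ κ.2]
      have h2 := hfix s hsfix
      rw [ha] at h2
      exact hLOC w τ v hv (κ : F) hc0 s hs h2)
  have hw1 : (phiPSU w : MulAut (PSU n F q)) = 1 := by
    rw [phiPSU_eq_one_iff hF hn, Geo.mem_scalars_iff]
    have hρ0 : ρ ≠ 0 := by
      rintro rfl
      rw [hρ, zero_smul] at hdet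
      have : Nonempty (Fin n) := ⟨⟨0, by omega⟩⟩
      exact hdet Matrix.det_zero
    exact ⟨Units.mk0 ρ hρ0, hρ⟩
  refine ⟨τ, ?_, fun x hx => hτS x (hmemK x hx)⟩
  rw [ha, hw1, one_mul]

/-- F-CENT, part 2, with LOC and REL as hypotheses. -/
theorem field_noCent_of (hF : Fintype.card F = q ^ 2) (hn : 3 ≤ n) (h32 : ¬ (n = 3 ∧ q = 2))
    {r f : ℕ} [Fact r.Prime] (hq : q = r ^ f) (hf : 1 ≤ f) {q₀ p : ℕ} (hp : p.Prime) (hp2 : p ≠ 2)
    (hq₀ : q = q₀ ^ p) (σ : F ≃+* F) (hσ : orderOf σ = p)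
    (hLOC : ∀ (g : ↥(GU n F q)) (τ : F ≃+* F) (v : Fin n → F), hermForm n F q v v = 0 →
      ∀ c : F, c ≠ 0 → ∀ s : ↥(SU n F q), suMat s = unitaryTransvection n q v c →
      (phiPSU g * fieldPSU τ : MulAut (PSU n F q)) (QuotientGroup.mk s) = QuotientGroup.mk s →
      ∃ μ : F, ((g : GL (Fin n) F) : Matrix (Fin n) (Fin n) F) *ᵥ (fun i => τ (v i)) = μ • v)
    (hREL : ∀ (S : Subfield F) (q₁ : ℕ), Nat.card S = q₁ ^ 2 →
      (∀ x : S, (x : F) ^ q = (x : F) ^ q₁) →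
      ∀ M : Matrix (Fin n) (Fin n) F, M.det ≠ 0 → ∀ τ : F ≃+* F,
      (∀ v : Fin n → F, (∀ i, v i ∈ S) → hermForm n F q v v = 0 →
        ∃ μ : F, M *ᵥ (fun i => τ (v i)) = μ • v) →
      (∀ x ∈ S, τ x = x) ∧ ∃ ρ : F, M = ρ • (1 : Matrix (Fin n) (Fin n) F)) :
    NoCent p (fieldPSU σ : MulAut (PSU n F q)) := by
  intro a _ hfixa hcop
  obtain ⟨τ, haτ, hτ⟩ := field_fix_form_of hF hn h32 hq hf hp hp2 hq₀ σ hσ hLOC hREL a (by
    intro s hs
    apply hfixa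
    rw [fieldPSU_mk, hs])
  have hτmem := Cfsg.Agent.Lib.helper27.S2687.mem_zpowers_of_fix σ τ hτ
  obtain ⟨k, rfl⟩ := Subgroup.mem_zpowers_iff.mp hτmem
  have hσp : σ ^ p = 1 := by
    rw [← hσ]
    exact pow_orderOf_eq_one σ
  have hap : a ^ p = 1 := by
    rw [haτ, PSUF.fieldPSU_pow, ← zpow_natCast, ← _root_.zpow_mul, mul_comm, _root_.zpow_mul,
      zpow_natCast,
      hσp, _root_.one_zpow, fieldPSU_one]
  have hdvd : orderOf a ∣ p := orderOf_dvd_of_pow_eq_one hap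
  have h1 : orderOf a = 1 := Nat.Coprime.eq_one_of_dvd hcop hdvd
  exact orderOf_eq_one_iff.mp h1

end Cfsg.Agent.Lib.helper80.S2687
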