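import Mathlib
import Cfsg.Prelude.Def_Perm
import Cfsg.Prelude.Def_Solvable

set_option autoImplicit false

namespace Cfsg.Agent.Lib.helper80.S4025

open scoped Pointwise

/-- P5: Burnside fusion for subgroups of an abelian Sylow subgroup. -/
theorem conj_in_normalizer_of_abelian_sylow {G : Type*} [Group G] [Finite G] {p : ℕ}
    [Fact p.Prime] (P : Sylow p G)
    (hab : ∀ x ∈ (P : Subgroup G), ∀ y ∈ (P : Subgroup G), x * y = y * x)
    (A B : Subgroup G) (hA : A ≤ P) (hB : B ≤ P) (g : G)
    (hg : B = A.map (MulAut.conj g).toMonoidHom) :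
    ∃ n ∈ Subgroup.normalizer ((P : Subgroup G) : Set G),
      B = A.map (MulAut.conj n).toMonoidHom := by
  have h1 : (P : Subgroup G) ≤ Subgroup.centralizer (B : Set G) := by
    intro z hz b hb
    exact hab b (hB hb) z hz
  have h2 : ((g • P : Sylow p G) : Subgroup G) ≤ Subgroup.centralizer (B : Set G) := by
    intro w hw b hb
    have hw' : w ∈ MulAut.conj g • (P : Subgroup G) := hw
    obtain ⟨z, hz, rfl⟩ := hw'
    rw [hg] at hb
    obtain ⟨a, ha, rfl⟩ := hb
    have hza : a * z = z * a := hab a (hA ha) z hz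
    simp only [MulEquiv.toMonoidHom_eq_coe, MonoidHom.coe_coe, MulAut.conj_apply,
      MulDistribMulAction.toMonoidEnd_apply, MulDistribMulAction.toMonoidHom_apply,
      MulAut.smul_def]
    calc g * a * g⁻¹ * (g * z * g⁻¹) = g * (a * z) * g⁻¹ := by group
      _ = g * (z * a) * g⁻¹ := by rw [hza]
      _ = g * z * g⁻¹ * (g * a * g⁻¹) := by group
  obtain ⟨h, hh⟩ :=
    MulAction.exists_smul_eq (Subgroup.centralizer (B : Set G)) ((g • P).subtype h2) (P.subtype h1)
  simp_rw [Sylow.smul_subtype, Subgroup.smul_def, smul_smul] at hh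
  refine ⟨h * g, Sylow.smul_eq_iff_mem_normalizer.mp (Sylow.subtype_injective hh), ?_⟩
  have hcomm : ∀ b ∈ B, (h : G) * b * (h : G)⁻¹ = b := by
    intro b hb
    have := h.prop b hb
    rw [← this, mul_inv_cancel_right]
  ext x
  constructor
  · intro hx
    have hx' := hx
    rw [hg] at hx'
    obtain ⟨a, ha, rfl⟩ := hx'
    refine ⟨a, ha, ?_⟩
    have := hcomm _ hx
    simp only [MulEquiv.toMonoidHom_eq_coe, MonoidHom.coe_coe, MulAut.conj_apply] at this ⊢
    rw [← this]
    group
  · rintro ⟨a, ha, rfl⟩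
    have hb : g * a * g⁻¹ ∈ B := by
      rw [hg]
      exact ⟨a, ha, by simp⟩
    have := hcomm _ hb
    simp only [MulEquiv.toMonoidHom_eq_coe, MonoidHom.coe_coe, MulAut.conj_apply]
    have e : (h : G) * g * a * ((h : G) * g)⁻¹ = (h : G) * (g * a * g⁻¹) * (h : G)⁻¹ := by group
    rw [e, this]
    exact hb

end Cfsg.Agent.Lib.helper80.S4025
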