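import Mathlib
import Cfsg.Agent.Lib.helper15.Neumann
import Cfsg.Agent.Lib.helper16.Sharp3
import Cfsg.Agent.Lib.helper21.PrimeDegree
import Cfsg.Agent.S0676
import Cfsg.Agent.Lib.helper4.S4706BURN
import Cfsg.Agent.Lib.helper4.S4706ORD
import Cfsg.Agent.Lib.helper17.S4706ARITH
import Cfsg.Agent.Lib.helper20.S4706TRANS

/-!
# S4706: permutation groups of prime degree `p` with `|N_G(P)| = 2p`

Assembly: not normal ⟹ simple ⟹ 3-transitive (S0676) ⟹ (fixed-point count) sharply
3-transitive ⟹ `PGL(2, 2^a) ≃ SL(2, 2^a)` (helper16).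
-/

set_option autoImplicit false

namespace Cfsg.Agent.Lib.helper80.S4706

open MulAction
open Cfsg.Agent.Lib.helper4.S4706 Cfsg.Agent.Lib.helper17.S4706 Cfsg.Agent.Lib.helper20.S4706

/-- Glue: a 3-transitive group in which the fixed-point-free elements number at least
`(n - 1) |G| / (2 n)` is sharply 3-transitive. -/
theorem fix3_of_count {α : Type*} [Fintype α] [DecidableEq α] (G : Subgroup (Equiv.Perm α))
    (h3 : IsMultiplyPretransitive G α 3) (hcard : 3 ≤ Fintype.card α)
    (hD : (Fintype.card α - 1) * Nat.card G ≤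
      2 * Fintype.card α * Nat.card {g : G // ∀ a : α, g • a ≠ a}) :
    ∀ (g : G) (p0 p1 p2 : α), p0 ≠ p1 → p0 ≠ p2 → p1 ≠ p2 →
      g • p0 = p0 → g • p1 = p1 → g • p2 = p2 → g = 1 := by
  classical
  let _ : Fintype G := Fintype.ofFinite G
  set f : G → ℕ := fun g => (Finset.univ.filter (fun a : α => g • a = a)).card with hf
  have hfle : ∀ g, f g ≤ Fintype.card α := fun g => Finset.card_le_univ _
  have hc3 : 3 ≤ Nat.card α := by rw [Nat.card_eq_fintype_card]; exact hcard
  have h2t : IsMultiplyPretransitive G α 2 :=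
    haveI := h3
    isMultiplyPretransitive_of_le (n := 3) (by norm_num) hc3
  have h1t : IsMultiplyPretransitive G α 1 :=
    haveI := h3
    isMultiplyPretransitive_of_le (n := 3) (by norm_num) hc3
  have b1 := burnside_desc (G := G) (α := α) 1 h1t (by omega)
  have b2 := burnside_desc (G := G) (α := α) 2 h2t (by omega)
  have b3 := burnside_desc (G := G) (α := α) 3 h3 hcard
  simp only [Nat.descFactorial_one] at b1
  have hD' : (Fintype.card α - 1) * Fintype.card G ≤
      2 * Fintype.card α * (Finset.univ.filter (fun g => f g = 0)).card := by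
    rw [Nat.card_eq_fintype_card] at hD
    have hsub : Nat.card {g : G // ∀ a : α, g • a ≠ a} =
        (Finset.univ.filter (fun g => f g = 0)).card := by
      rw [Nat.card_eq_fintype_card, Fintype.card_subtype]
      congr 1
      ext g
      simp only [Finset.mem_filter, Finset.mem_univ, true_and, hf, Finset.card_eq_zero,
        Finset.filter_eq_empty_iff]
      exact ⟨fun h x _ => h x, fun h a => h trivial⟩
    rwa [hsub] at hD
  have key := count_arith f (Fintype.card α) hcard hfle b1 b2 b3 hD'
  intro g p0 p1 p2 h01 h02 h12 f0 f1 f2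
  rcases key g with h | h
  · exfalso
    have hsub : ({p0, p1, p2} : Finset α) ⊆ Finset.univ.filter (fun a : α => g • a = a) := by
      intro x hx
      simp only [Finset.mem_insert, Finset.mem_singleton] at hx
      simp only [Finset.mem_filter, Finset.mem_univ, true_and]
      rcases hx with rfl | rfl | rfl
      · exact f0
      · exact f1
      · exact f2
    have hc := Finset.card_le_card hsub
    have h3c : ({p0, p1, p2} : Finset α).card = 3 := by
      rw [Finset.card_insert_of_notMem, Finset.card_insert_of_notMem, Finset.card_singleton]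
      · simpa using h12
      · simp [h01, h02]
    have : f g = (Finset.univ.filter (fun a : α => g • a = a)).card := rfl
    omega
  · have hall : Finset.univ.filter (fun a : α => g • a = a) = Finset.univ :=
      Finset.eq_univ_of_card _ h
    apply Subtype.ext
    apply Equiv.ext
    intro a
    have ha : a ∈ Finset.univ.filter (fun a : α => g • a = a) := by
      rw [hall]; exact Finset.mem_univ a
    simp only [Finset.mem_filter, Finset.mem_univ, true_and] at ha
    exact ha

/-- The statement of S4706. -/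
theorem main {α : Type*} [Fintype α] [DecidableEq α] {p : ℕ} [Fact p.Prime] (hp : 2 < p)
    (hα : Fintype.card α = p) (G : Subgroup (Equiv.Perm α)) (P : Sylow p G)
    (hN : Nat.card (Subgroup.normalizer ((P : Subgroup G) : Set G)) = 2 * p) :
    (P : Subgroup G).Normal ∨ ∃ (a : ℕ) (F : Type) (_ : Field F) (_ : Fintype F),
      p = 2 ^ a + 1 ∧ Fintype.card F = 2 ^ a ∧
        Nonempty (G ≃* Matrix.SpecialLinearGroup (Fin 2) F) := by
  classical
  have hpp : p.Prime := Fact.out
  by_cases hPn : (P : Subgroup G).Normal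
  · exact Or.inl hPn
  right
  have hPle : (P : Subgroup G) ≤ Subgroup.normalizer ((P : Subgroup G) : Set G) :=
    Subgroup.le_normalizer
  have hPdvd : Nat.card (P : Subgroup G) ∣ 2 * p := hN ▸ Subgroup.card_dvd_of_le hPle
  obtain ⟨k, hk⟩ := IsPGroup.iff_card.mp P.isPGroup'
  have hPcard : Nat.card (P : Subgroup G) = p := by
    rcases k with _ | _ | k
    · exfalso
      apply hPn
      have hbot : (P : Subgroup G) = ⊥ := Subgroup.eq_bot_of_card_eq _ (by simpa using hk)
      rw [hbot]
      infer_instance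
    · simpa using hk
    · exfalso
      rw [hk] at hPdvd
      have h2 : p ^ 2 ∣ 2 * p := (pow_dvd_pow p (by omega)).trans hPdvd
      have h3 : p ∣ 2 := by
        have h4 : p * p ∣ 2 * p := by simpa [pow_two] using h2
        exact Nat.dvd_of_mul_dvd_mul_right hpp.pos h4
      have := Nat.le_of_dvd (by norm_num) h3
      omega
  obtain ⟨σ, hσ⟩ : ∃ σ : G, orderOf σ = p := by
    have hdvd : p ∣ Nat.card G := hPcard ▸ Subgroup.card_subgroup_dvd_card (P : Subgroup G)
    exact exists_prime_orderOf_dvd_card' p hdvd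
  have htrans : MulAction.IsPretransitive G α := (trans_of_order_p hα G σ hσ).1
  have hn : 1 < Nat.card (Sylow p G) := by
    by_contra hcon
    have h1 : Nat.card (Sylow p G) = 1 := by
      have : 0 < Nat.card (Sylow p G) := Nat.card_pos
      omega
    have hss : Subsingleton (Sylow p G) := (Nat.card_eq_one_iff_unique.mp h1).1
    exact hPn (Sylow.normal_of_subsingleton P)
  have ht : ((P : Subgroup G).subgroupOf
      (Subgroup.normalizer ((P : Subgroup G) : Set G))).index.Prime := by
    have h1 := Subgroup.card_mul_index ((P : Subgroup G).subgroupOf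
      (Subgroup.normalizer ((P : Subgroup G) : Set G)))
    rw [Nat.card_congr (Subgroup.subgroupOfEquivOfLe hPle).toEquiv, hPcard, hN] at h1
    have h2 : ((P : Subgroup G).subgroupOf
        (Subgroup.normalizer ((P : Subgroup G) : Set G))).index = 2 := by
      have h3 : p * ((P : Subgroup G).subgroupOf
          (Subgroup.normalizer ((P : Subgroup G) : Set G))).index = p * 2 := by
        rw [h1]; ring
      exact Nat.eq_of_mul_eq_mul_left hpp.pos h3
    rw [h2]
    exact Nat.prime_two
  have hαc : Nat.card α = p := by rw [Nat.card_eq_fintype_card]; exact hα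
  have hsimple : IsSimpleGroup G :=
    Cfsg.Agent.Lib.helper21.isSimpleGroup_of_pretransitive_prime_degree (α := α) hαc P hn ht
  have hns : ¬ Group.IsSolvable G := by
    intro hs
    have hcomm := IsSimpleGroup.comm_iff_isSolvable.mpr hs
    apply hPn
    refine ⟨fun n hn g => ?_⟩
    rw [hcomm g n, mul_inv_cancel_right]
    exact hn
  have h3 : MulAction.IsMultiplyPretransitive G α 3 :=
    Cfsg.Agent.S0676.result hα G hns P (by rw [hN]; exact even_two_mul p)
  have hD : (Fintype.card α - 1) * Nat.card G ≤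
      2 * Fintype.card α * Nat.card {g : G // ∀ a : α, g • a ≠ a} := by
    rw [hα]
    have hord := card_order_p P hPcard
    rw [hN] at hord
    rw [hord]
    apply Nat.mul_le_mul_left
    exact Nat.card_le_card_of_injective
      (fun x : {g : G // orderOf g = p} =>
        (⟨x.1, (trans_of_order_p hα G x.1 x.2).2⟩ : {g : G // ∀ a : α, g • a ≠ a}))
      (fun x y h => Subtype.ext (show x.1 = y.1 from
        congrArg (fun z : {g : G // ∀ a : α, g • a ≠ a} => z.1) h))
  have hfix3 := fix3_of_count G h3 (by omega) hD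
  have inj3 : ∀ (p0 p1 p2 : α), p0 ≠ p1 → p0 ≠ p2 → p1 ≠ p2 →
      Function.Injective ![p0, p1, p2] := by
    intro p0 p1 p2 h01 h02 h12 i j hij
    fin_cases i <;> fin_cases j <;> simp_all
  have move3 : ∀ (p0 p1 p2 q0 q1 q2 : α), p0 ≠ p1 → p0 ≠ p2 → p1 ≠ p2 → q0 ≠ q1 → q0 ≠ q2 →
      q1 ≠ q2 → ∃ k : G, k • p0 = q0 ∧ k • p1 = q1 ∧ k • p2 = q2 := by
    intro p0 p1 p2 q0 q1 q2 hp01 hp02 hp12 hq01 hq02 hq12
    obtain ⟨k, hk⟩ := h3.exists_smul_eq ⟨![p0, p1, p2], inj3 p0 p1 p2 hp01 hp02 hp12⟩
      ⟨![q0, q1, q2], inj3 q0 q1 q2 hq01 hq02 hq12⟩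
    refine ⟨k, ?_, ?_, ?_⟩
    · exact congrArg (fun e : Fin 3 ↪ α => e 0) hk
    · exact congrArg (fun e : Fin 3 ↪ α => e 1) hk
    · exact congrArg (fun e : Fin 3 ↪ α => e 2) hk
  have hodd : Odd (Fintype.card α) := by
    rw [hα]
    exact hpp.odd_of_ne_two (by omega)
  obtain ⟨F, fF, ftF, hcard, hchar, ⟨e⟩⟩ :=
    Cfsg.Agent.Lib.helper16.sharp3_odd_iso (G := G) move3 hfix3 hodd (by omega)
  obtain ⟨e2⟩ := Cfsg.Agent.Lib.helper16.sl2_mulEquiv_pgl2 F
  obtain ⟨n, -, hn2⟩ := FiniteField.card F 2
  refine ⟨n, F, fF, ftF, ?_, hn2, ⟨e.trans e2.symm⟩⟩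
  omega

end Cfsg.Agent.Lib.helper80.S4706
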