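import Mathlib
import Cfsg.Agent.Lib.helper24.S6eDefs

/-! S6002 piece B5F (architect helper24): `s6_five_no_fix` (racer copy, prefixed `h80_`). -/

set_option autoImplicit false

namespace Cfsg.Agent.Lib.helper24

open Matrix Cfsg Cfsg.Geo

/-- the map `v ↦ c v` as an element of the monoid of self-maps -/
def h80_s6_endo {F : Type*} [Field F] (c : Matrix S6I S6I F) : Function.End (S6I → F) :=
  fun v => c *ᵥ v

theorem h80_s6_endo_apply {F : Type*} [Field F] (c : Matrix S6I S6I F) (v : S6I → F) :
    h80_s6_endo c v = c *ᵥ v := rfl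

theorem h80_s6_end_pow {F : Type*} [Field F] (c : Matrix S6I S6I F) (n : ℕ) (v : S6I → F) :
    (h80_s6_endo c ^ n) v = c ^ n *ᵥ v := by
  induction n generalizing v with
  | zero =>
    rw [pow_zero, pow_zero, Matrix.one_mulVec]
    rfl
  | succ n ih =>
    rw [pow_succ, pow_succ, ← Matrix.mulVec_mulVec, ← ih (c *ᵥ v)]
    rfl

/-- B5F (L) -/
theorem h80_s6_five_no_fix {F : Type*} [Field F] [Fintype F]
    (h4 : orderOf ((Fintype.card F : ℕ) : ZMod 5) = 4) (c : Matrix S6I S6I F) (hc : c ^ 5 = 1) (hc1 : c ≠ 1) :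
    (c - 1).det ≠ 0 := by
  classical
  intro hdet
  haveI : Fact (Nat.Prime 5) := ⟨by norm_num⟩
  -- the permutation `v ↦ c v` has order dividing 5
  have hf : (h80_s6_endo c ^ 5 ^ 1) = 1 := by
    rw [pow_one]
    funext v
    rw [h80_s6_end_pow, hc, Matrix.one_mulVec]
    rfl
  have hmod := Equiv.Perm.card_fixedPoints_modEq hf
  -- the fixed points are the kernel of `c - 1`
  set K : Submodule F (S6I → F) := LinearMap.ker (Matrix.toLin' (c - 1)) with hK
  have hKmem : ∀ v : S6I → F, v ∈ K ↔ c *ᵥ v = v := by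
    intro v
    rw [hK, LinearMap.mem_ker, Matrix.toLin'_apply, Matrix.sub_mulVec, Matrix.one_mulVec,
      sub_eq_zero]
  have hset : Function.fixedPoints (h80_s6_endo c) = (K : Set (S6I → F)) := by
    ext v
    rw [SetLike.mem_coe, hKmem]
    rfl
  have hfix : Nat.card ↥(Function.fixedPoints (h80_s6_endo c)) =
      Fintype.card F ^ Module.finrank F ↥K := by
    rw [Nat.card_congr (Equiv.setCongr hset)]
    have := Module.natCard_eq_pow_finrank (K := F) (V := ↥K)
    rw [Nat.card_eq_fintype_card (α := F)] at this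
    exact this
  have hV : Nat.card (S6I → F) = Fintype.card F ^ 4 := by
    rw [Nat.card_eq_fintype_card, Fintype.card_fun]
    rfl
  rw [Fintype.card_eq_nat_card, Fintype.card_eq_nat_card, hfix, hV] at hmod
  have hd4 : Module.finrank F ↥K ≤ 4 := by
    have h1 := Submodule.finrank_le K
    have h2 : Module.finrank F (S6I → F) = 4 := by
      rw [Module.finrank_fintype_fun_eq_card]
      rfl
    omega
  -- `d ≠ 0`
  have hd0 : Module.finrank F ↥K ≠ 0 := by
    intro h0
    have hbot : K = ⊥ := Submodule.finrank_eq_zero.1 h0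
    obtain ⟨v, hv0, hv⟩ := Matrix.exists_mulVec_eq_zero_iff.2 hdet
    have hvK : v ∈ K := by
      rw [hK, LinearMap.mem_ker, Matrix.toLin'_apply]
      exact hv
    rw [hbot, Submodule.mem_bot] at hvK
    exact hv0 hvK
  -- `d ≠ 4`
  have hd4' : Module.finrank F ↥K ≠ 4 := by
    intro h4'
    have h2 : Module.finrank F (S6I → F) = 4 := by
      rw [Module.finrank_fintype_fun_eq_card]
      rfl
    have htop : K = ⊤ := Submodule.eq_top_of_finrank_eq (h4'.trans h2.symm)
    have hzero : Matrix.toLin' (c - 1) = 0 := LinearMap.ker_eq_top.1 htop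
    have hc0 : c - 1 = 0 := by
      have := (Matrix.toLin' (R := F) (m := S6I) (n := S6I)).injective
      exact this (hzero.trans (map_zero _).symm)
    exact hc1 (sub_eq_zero.1 hc0)
  -- the congruence
  have hz : ((Fintype.card F : ℕ) : ZMod 5) ^ 4 =
      ((Fintype.card F : ℕ) : ZMod 5) ^ Module.finrank F ↥K := by
    have := (ZMod.natCast_eq_natCast_iff _ _ _).2 hmod
    push_cast at this
    exact this
  have h1 : ((Fintype.card F : ℕ) : ZMod 5) ^ 4 = 1 := by
    rw [← h4]
    exact pow_orderOf_eq_one _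
  rw [h1] at hz
  have hdvd := orderOf_dvd_of_pow_eq_one hz.symm
  rw [h4] at hdvd
  obtain ⟨k, hk⟩ := hdvd
  omega

end Cfsg.Agent.Lib.helper24
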