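import Mathlib
import Cfsg.Agent.Lib.helper69.SNDefs

/-!
# S4073, piece CENT-EQ (`sn_cent_prime_index_eq`)
-/

set_option autoImplicit false

open Cfsg.Agent.Lib.helper69.SNG

namespace Cfsg.Agent.Lib.helper80.SNG

universe u

/-- The abstract core: a non-abelian `SN`-group `K` with an abelian normal subgroup of index `p`
and an abelian Sylow `p`-subgroup `S`: then `S` is cyclic, and every element normalizing `S`
centralizes it. -/
theorem helper80_sn_abs {K : Type u} [Group K] [Finite K] (h : SN K)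
    (hna : ¬ IsMulCommutative K) (p : ℕ) [Fact p.Prime] (A : Subgroup K) [hAn : A.Normal]
    (hA : IsMulCommutative A) (hAi : A.index = p) (S : Sylow p K) (hS : IsMulCommutative S) :
    IsCyclic S ∧ ∀ g : K, (∀ t ∈ (S : Subgroup K), g * t * g⁻¹ ∈ (S : Subgroup K)) →
      ∀ t ∈ (S : Subgroup K), g * t = t * g := by
  classical
  have hp : p.Prime := Fact.out
  have hAc : ∀ a ∈ A, ∀ b ∈ A, a * b = b * a := (comm_iff A).mp hA
  have hSc : ∀ a ∈ (S : Subgroup K), ∀ b ∈ (S : Subgroup K), a * b = b * a :=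
    (comm_iff (S : Subgroup K)).mp hS
  have hn0 : Nat.card K ≠ 0 := Nat.card_pos.ne'
  obtain ⟨r, m, hm, hnm⟩ := Nat.exists_eq_pow_mul_and_not_dvd hn0 p hp.ne_one
  have hcop : ∀ k : ℕ, Nat.Coprime (p ^ k) m := fun k =>
    Nat.Coprime.pow_left k ((Nat.Prime.coprime_iff_not_dvd hp).mpr hm)
  have hpn : p ∣ Nat.card K := by
    rw [← hAi]
    exact Subgroup.index_dvd_card A
  have hr : 1 ≤ r := by
    by_contra hr0
    have hr0' : r = 0 := by omega
    rw [hnm, hr0', pow_zero, one_mul] at hpn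
    exact hm hpn
  -- the `p'`-part of `A`
  let B : Subgroup K :=
    { carrier := {a | a ∈ A ∧ a ^ m = 1}
      mul_mem' := by
        rintro a b ⟨ha, ham⟩ ⟨hb, hbm⟩
        refine ⟨A.mul_mem ha hb, ?_⟩
        have hcomm : Commute a b := hAc a ha b hb
        rw [hcomm.mul_pow, ham, hbm, one_mul]
      one_mem' := ⟨A.one_mem, one_pow m⟩
      inv_mem' := by
        rintro a ⟨ha, ham⟩
        exact ⟨A.inv_mem ha, by rw [inv_pow, ham, inv_one]⟩ }
  have hBmem : ∀ a : K, a ∈ B ↔ a ∈ A ∧ a ^ m = 1 := fun a => Iff.rfl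
  have hBn : B.Normal := by
    refine ⟨fun a ha g => ?_⟩
    obtain ⟨ha1, ha2⟩ := (hBmem a).mp ha
    exact (hBmem _).mpr ⟨hAn.conj_mem a ha1 g, by rw [conj_pow, ha2, mul_one, mul_inv_cancel]⟩
  have hBA : ∀ b ∈ B, b ∈ A := fun b hb => ((hBmem b).mp hb).1
  have hpow : ∀ c : K, c ^ (p ^ r) ∈ B := by
    intro c
    refine (hBmem _).mpr ⟨?_, ?_⟩
    · have h1 : c ^ p ∈ A := by
        have := Subgroup.pow_index_mem A c
        rwa [hAi] at this
      have h2 : c ^ (p ^ r) = (c ^ p) ^ (p ^ (r - 1)) := by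
        rw [← pow_mul, ← pow_succ']
        congr 2
        omega
      rw [h2]
      exact A.pow_mem h1 _
    · rw [← pow_mul, ← hnm]
      exact pow_card_eq_one'
  have hBS : ∀ b ∈ B, b ∈ (S : Subgroup K) → b = 1 := by
    intro b hb hbS
    obtain ⟨k, hk⟩ := S.isPGroup' ⟨b, hbS⟩
    have hbk : b ^ (p ^ k) = 1 := by
      have := congrArg Subtype.val hk
      simpa using this
    have h1 : orderOf b ∣ p ^ k := orderOf_dvd_of_pow_eq_one hbk
    have h2 : orderOf b ∣ m := orderOf_dvd_of_pow_eq_one ((hBmem b).mp hb).2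
    have h3 : orderOf b = 1 := (Nat.Coprime.coprime_dvd_left h1 (hcop k)).eq_one_of_dvd h2
    exact orderOf_eq_one_iff.mp h3
  -- the quotient by `B`
  have hQp : ∀ q : K ⧸ B, q ^ (p ^ r) = 1 := by
    intro q
    obtain ⟨c, rfl⟩ := QuotientGroup.mk_surjective q
    rw [← QuotientGroup.mk_pow]
    exact (QuotientGroup.eq_one_iff _).mpr (hpow c)
  have hQpg : IsPGroup p (K ⧸ B) := fun q => ⟨r, hQp q⟩
  obtain ⟨j, hj⟩ := IsPGroup.iff_card.mp hQpg
  have hjr : j ≤ r := by
    have h1 : p ^ j ∣ p ^ r * m := by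
      rw [← hj, ← hnm]
      exact Subgroup.card_quotient_dvd_card B
    have h2 : p ^ j ∣ p ^ r := Nat.Coprime.dvd_of_dvd_mul_right (hcop j) h1
    exact (Nat.pow_dvd_pow_iff_le_right hp.one_lt).mp h2
  obtain ⟨i, hi⟩ := IsPGroup.iff_card.mp S.isPGroup'
  have hri : r ≤ i := by
    have h0 : Nat.card (S : Subgroup K) * (S : Subgroup K).index = p ^ r * m := by
      rw [Subgroup.card_mul_index, hnm]
    have hidx : ¬ p ∣ (S : Subgroup K).index := S.not_dvd_index
    have h1 : p ^ r ∣ Nat.card (S : Subgroup K) * (S : Subgroup K).index := by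
      rw [h0]
      exact dvd_mul_right _ _
    have h2 : Nat.Coprime (p ^ r) (S : Subgroup K).index :=
      Nat.Coprime.pow_left r ((Nat.Prime.coprime_iff_not_dvd hp).mpr hidx)
    have h3 : p ^ r ∣ Nat.card (S : Subgroup K) := Nat.Coprime.dvd_of_dvd_mul_right h2 h1
    rw [hi] at h3
    exact (Nat.pow_dvd_pow_iff_le_right hp.one_lt).mp h3
  -- `S` maps bijectively onto the quotient
  let πS : (S : Subgroup K) →* K ⧸ B := (QuotientGroup.mk' B).comp (S : Subgroup K).subtype
  have hπS : ∀ s : (S : Subgroup K), πS s = QuotientGroup.mk' B (s : K) := fun s => rfl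
  have hinj : Function.Injective πS := by
    rw [injective_iff_map_eq_one]
    intro s hs
    rw [hπS] at hs
    have hsB : (s : K) ∈ B := (QuotientGroup.eq_one_iff _).mp hs
    exact Subtype.ext (hBS _ hsB s.2)
  have hbij : Function.Bijective πS := by
    apply hinj.bijective_of_nat_card_le
    rw [hj, hi]
    exact Nat.pow_le_pow_right hp.pos (hjr.trans hri)
  have hdec : ∀ c : K, ∃ b ∈ B, ∃ s ∈ (S : Subgroup K), c = b * s := by
    intro c
    obtain ⟨s, hs⟩ := hbij.2 (QuotientGroup.mk' B c)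
    rw [hπS] at hs
    refine ⟨c * (s : K)⁻¹, ?_, (s : K), s.2, by group⟩
    apply (QuotientGroup.eq_one_iff _).mp
    have : ((c * (s : K)⁻¹ : K) : K ⧸ B) =
        QuotientGroup.mk' B c * (QuotientGroup.mk' B (s : K))⁻¹ := rfl
    rw [this, hs, mul_inv_cancel]
  have hQc : ∀ a b : K ⧸ B, a * b = b * a := by
    intro a b
    obtain ⟨s, rfl⟩ := hbij.2 a
    obtain ⟨t, rfl⟩ := hbij.2 b
    rw [← map_mul, ← map_mul]
    congr 1
    exact Subtype.ext (hSc _ s.2 _ t.2)
  -- `S` is cyclic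
  have hcyc : IsCyclic (S : Subgroup K) := by
    by_contra hcyc
    have hSB : ∀ s ∈ (S : Subgroup K), ∀ b ∈ B, s * b = b * s := by
      intro s hs b hb
      have hzn : (Subgroup.zpowers (QuotientGroup.mk' B s)).Normal := by
        refine ⟨fun q hq g => ?_⟩
        rw [hQc g q, mul_inv_cancel_right]
        exact hq
      have hDn : ((Subgroup.zpowers (QuotientGroup.mk' B s)).comap (QuotientGroup.mk' B)).Normal :=
        hzn.comap _
      have hDtop : (Subgroup.zpowers (QuotientGroup.mk' B s)).comap (QuotientGroup.mk' B) ≠ ⊤ := by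
        intro htop
        apply hcyc
        have hz : Subgroup.zpowers (QuotientGroup.mk' B s) = ⊤ := by
          rw [eq_top_iff]
          intro q _
          obtain ⟨c, rfl⟩ := QuotientGroup.mk_surjective q
          have hc : c ∈ (Subgroup.zpowers (QuotientGroup.mk' B s)).comap (QuotientGroup.mk' B) := by
            rw [htop]; trivial
          exact hc
        have : IsCyclic (K ⧸ B) := isCyclic_iff_exists_zpowers_eq_top.mpr ⟨_, hz⟩
        exact isCyclic_of_injective πS hinj
      have hDc := h.normal_comm _ hDtop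
      have hsD : s ∈ (Subgroup.zpowers (QuotientGroup.mk' B s)).comap (QuotientGroup.mk' B) :=
        Subgroup.mem_zpowers _
      have hbD : b ∈ (Subgroup.zpowers (QuotientGroup.mk' B s)).comap (QuotientGroup.mk' B) := by
        rw [Subgroup.mem_comap]
        have hb1 : (QuotientGroup.mk' B) b = 1 := (QuotientGroup.eq_one_iff b).mpr hb
        rw [hb1]
        exact Subgroup.one_mem _
      exact (comm_iff _).mp hDc s hsD b hbD
    apply hna
    rw [comm_iff_top]
    intro c₁ c₂
    obtain ⟨b₁, hb₁, s₁, hs₁, rfl⟩ := hdec c₁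
    obtain ⟨b₂, hb₂, s₂, hs₂, rfl⟩ := hdec c₂
    have e1 : s₁ * b₂ = b₂ * s₁ := hSB s₁ hs₁ b₂ hb₂
    have e2 : s₂ * b₁ = b₁ * s₂ := hSB s₂ hs₂ b₁ hb₁
    have e3 : b₁ * b₂ = b₂ * b₁ := hAc b₁ (hBA b₁ hb₁) b₂ (hBA b₂ hb₂)
    have e4 : s₁ * s₂ = s₂ * s₁ := hSc s₁ hs₁ s₂ hs₂
    calc b₁ * s₁ * (b₂ * s₂) = b₁ * (s₁ * b₂) * s₂ := by group
      _ = b₁ * (b₂ * s₁) * s₂ := by rw [e1]
      _ = (b₁ * b₂) * (s₁ * s₂) := by group
      _ = (b₂ * b₁) * (s₂ * s₁) := by rw [e3, e4]
      _ = b₂ * (b₁ * s₂) * s₁ := by group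
      _ = b₂ * (s₂ * b₁) * s₁ := by rw [e2]
      _ = b₂ * s₂ * (b₁ * s₁) := by group
  refine ⟨hcyc, ?_⟩
  -- normalizing elements centralize
  intro g hg t ht
  obtain ⟨b, hb, s, hs, rfl⟩ := hdec g
  have h1 : b * t * b⁻¹ ∈ (S : Subgroup K) := by
    have h2 := hg (s⁻¹ * t * s)
      ((S : Subgroup K).mul_mem ((S : Subgroup K).mul_mem ((S : Subgroup K).inv_mem hs) ht) hs)
    have h3 : b * s * (s⁻¹ * t * s) * (b * s)⁻¹ = b * t * b⁻¹ := by group
    rwa [h3] at h2
  have h4 : b * t * b⁻¹ * t⁻¹ = 1 := by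
    apply hBS
    · have h5 : b * t * b⁻¹ * t⁻¹ = b * (t * b⁻¹ * t⁻¹) := by group
      rw [h5]
      exact B.mul_mem hb (hBn.conj_mem _ (B.inv_mem hb) t)
    · exact (S : Subgroup K).mul_mem h1 ((S : Subgroup K).inv_mem ht)
  have h6 : b * t = t * b := by
    have h7 : b * t = (b * t * b⁻¹ * t⁻¹) * (t * b) := by group
    rw [h7, h4, one_mul]
  have h8 : s * t = t * s := hSc s hs t ht
  calc b * s * t = b * (s * t) := by group
    _ = b * (t * s) := by rw [h8]
    _ = (b * t) * s := by group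
    _ = (t * b) * s := by rw [h6]
    _ = t * (b * s) := by group

/-- **[CENT-EQ]** -/
theorem sn_cent_prime_index_eq {G : Type u} [Group G] [Finite G] [IsSimpleGroup G]
    (hna : ¬ IsMulCommutative G) (h : SN G) (p : ℕ) [Fact p.Prime]
    (hSyl : ∀ P : Sylow p G, IsMulCommutative P) (x : G) (hxo : orderOf x = p)
    (A : Subgroup (Subgroup.centralizer ({x} : Set G))) [A.Normal] (hA : IsMulCommutative A)
    (hAi : A.index = p) : IsMulCommutative (Subgroup.centralizer ({x} : Set G)) := by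
  classical
  by_contra hCna
  have hp : p.Prime := Fact.out
  have hx1 : x ≠ 1 := by
    intro hx
    rw [hx, orderOf_one] at hxo
    exact hp.one_lt.ne hxo
  have hCmem : ∀ c : G, c ∈ Subgroup.centralizer ({x} : Set G) ↔ x * c = c * x := by
    intro c
    rw [Subgroup.mem_centralizer_iff]
    constructor
    · intro hc
      exact hc x (Set.mem_singleton x)
    · intro hc y hy
      rw [Set.mem_singleton_iff] at hy
      rw [hy]
      exact hc
  -- a Sylow subgroup containing `x`
  have hpg : IsPGroup p (Subgroup.zpowers x) :=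
    IsPGroup.of_card (n := 1) (by rw [Nat.card_zpowers, hxo, pow_one])
  obtain ⟨S, hS⟩ := hpg.exists_le_sylow
  have hxS : x ∈ (S : Subgroup G) := hS (Subgroup.mem_zpowers x)
  have hSc : ∀ a ∈ (S : Subgroup G), ∀ b ∈ (S : Subgroup G), a * b = b * a :=
    (comm_iff (S : Subgroup G)).mp (hSyl S)
  have hSC : (S : Subgroup G) ≤ Subgroup.centralizer ({x} : Set G) :=
    fun s hs => (hCmem s).mpr (hSc x hxS s hs)
  -- the Sylow subgroup of the centralizer
  have hS'mem : ∀ c : Subgroup.centralizer ({x} : Set G),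
      c ∈ ((S.subtype hSC : Sylow p (Subgroup.centralizer ({x} : Set G))) :
        Subgroup (Subgroup.centralizer ({x} : Set G))) ↔ (c : G) ∈ (S : Subgroup G) := by
    intro c
    rw [Sylow.coe_subtype]
    exact Subgroup.mem_subgroupOf
  have hS'c : IsMulCommutative
      (S.subtype hSC : Sylow p (Subgroup.centralizer ({x} : Set G))) := by
    rw [comm_iff]
    intro a ha b hb
    exact Subtype.ext (hSc _ ((hS'mem a).mp ha) _ ((hS'mem b).mp hb))
  obtain ⟨hcyc, hcent⟩ := helper80_sn_abs (h.subgroup _) hCna p A hA hAi (S.subtype hSC) hS'c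
  -- a generator of `S`
  obtain ⟨σ', hσ'⟩ := hcyc.exists_generator
  obtain ⟨σ, hσ⟩ : ∃ σ : G, σ = ((σ' : Subgroup.centralizer ({x} : Set G)) : G) := ⟨_, rfl⟩
  have hσS : σ ∈ (S : Subgroup G) := by
    rw [hσ]
    exact (hS'mem _).mp σ'.2
  have hgen : ∀ s ∈ (S : Subgroup G), ∃ j : ℤ, σ ^ j = s := by
    intro s hs
    obtain ⟨j, hj⟩ := Subgroup.mem_zpowers_iff.mp (hσ' ⟨⟨s, hSC hs⟩, (hS'mem _).mpr hs⟩)
    refine ⟨j, ?_⟩
    have h1 : (((σ' ^ j : (S.subtype hSC : Sylow p (Subgroup.centralizer ({x} : Set G)))) :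
        Subgroup.centralizer ({x} : Set G)) : G) = s := by
      rw [hj]
    rw [hσ, ← h1, Subgroup.coe_zpow, Subgroup.coe_zpow]
  -- `N(S) ≤ C(S)`
  have hN : Subgroup.normalizer ((S : Subgroup G) : Set G) ≤
      Subgroup.centralizer ((S : Subgroup G) : Set G) := by
    intro g hg
    have hgS : ∀ s ∈ (S : Subgroup G), g * s * g⁻¹ ∈ (S : Subgroup G) :=
      fun s hs => (Subgroup.mem_normalizer_iff.mp hg s).mp hs
    obtain ⟨k, hk⟩ := hgen _ (hgS _ hσS)
    obtain ⟨j, hj⟩ := hgen x hxS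
    have hgx : g * x * g⁻¹ = x ^ k := by
      calc g * x * g⁻¹ = g * σ ^ j * g⁻¹ := by rw [hj]
        _ = (g * σ * g⁻¹) ^ j := conj_zpow.symm
        _ = (σ ^ k) ^ j := by rw [hk]
        _ = (σ ^ j) ^ k := by rw [← zpow_mul, ← zpow_mul, mul_comm]
        _ = x ^ k := by rw [hj]
    have hinv : ∀ c ∈ Subgroup.centralizer ({x} : Set G),
        g⁻¹ * c * g ∈ Subgroup.centralizer ({x} : Set G) := by
      intro c hc
      rw [hCmem] at hc ⊢
      have hc2 : g * x * g⁻¹ * c = c * (g * x * g⁻¹) := by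
        rw [hgx]
        exact (Commute.zpow_left hc k).eq
      calc x * (g⁻¹ * c * g) = g⁻¹ * (g * x * g⁻¹ * c) * g := by group
        _ = g⁻¹ * (c * (g * x * g⁻¹)) * g := by rw [hc2]
        _ = g⁻¹ * c * g * x := by group
    have hfwd : ∀ c ∈ Subgroup.centralizer ({x} : Set G),
        g * c * g⁻¹ ∈ Subgroup.centralizer ({x} : Set G) := by
      intro c hc
      have hf : Function.Injective (fun d : Subgroup.centralizer ({x} : Set G) =>
          (⟨g⁻¹ * d * g, hinv d d.2⟩ : Subgroup.centralizer ({x} : Set G))) := by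
        intro a b hab
        have h1 : g⁻¹ * (a : G) * g = g⁻¹ * (b : G) * g := congrArg Subtype.val hab
        exact Subtype.ext (mul_left_cancel (mul_right_cancel h1))
      obtain ⟨c', hc'⟩ := Finite.surjective_of_injective hf ⟨c, hc⟩
      have h1 : g⁻¹ * (c' : G) * g = c := congrArg Subtype.val hc'
      have h2 : g * c * g⁻¹ = c' := by
        rw [← h1]
        group
      rw [h2]
      exact c'.2
    have hgC : g ∈ Subgroup.centralizer ({x} : Set G) := by
      have hnorm : g ∈ Subgroup.normalizer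
          ((Subgroup.centralizer ({x} : Set G) : Subgroup G) : Set G) := by
        rw [Subgroup.mem_normalizer_iff]
        intro c
        constructor
        · exact hfwd c
        · intro hc
          have h3 := hinv _ hc
          have h4 : g⁻¹ * (g * c * g⁻¹) * g = c := by group
          rwa [h4] at h3
      rw [h _ hCna] at hnorm
      exact hnorm
    have hcg := hcent ⟨g, hgC⟩ (by
      intro t ht
      rw [hS'mem] at ht ⊢
      have h5 := hgS _ ht
      simpa using h5)
    rw [Subgroup.mem_centralizer_iff]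
    intro s hs
    have h6 := hcg ⟨s, hSC hs⟩ ((hS'mem _).mpr hs)
    have h7 : g * s = s * g := congrArg Subtype.val h6
    exact h7.symm
  -- Burnside's transfer theorem
  have hcompl := MonoidHom.ker_transferSylow_isComplement' S hN
  have hkn : (MonoidHom.transferSylow S hN).ker.Normal := MonoidHom.normal_ker _
  rcases hkn.eq_bot_or_eq_top with hk | hk
  · rw [hk, Subgroup.isComplement'_bot_left] at hcompl
    apply hna
    rw [comm_iff_top]
    intro a b
    exact hSc a (by rw [hcompl]; trivial) b (by rw [hcompl]; trivial)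
  · rw [hk, Subgroup.isComplement'_top_left] at hcompl
    rw [hcompl, Subgroup.mem_bot] at hxS
    exact hx1 hxS

end Cfsg.Agent.Lib.helper80.SNG
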