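import Mathlib
import Cfsg.Agent.Lib.helper69.SNDefs
import Cfsg.Agent.S0799
import Cfsg.Agent.Lib.helper81.CTsl2
import Cfsg.Agent.Lib.helper7.CardSL
import Cfsg.Agent.Lib.helper16.Sharp3

/-!
# S4073, piece DICKSON (`psl2_subgroup_types`): transport of Dickson's theorem (S0799)
-/

set_option autoImplicit false

open Cfsg.Agent.Lib.helper69.SNG

namespace Cfsg.Agent.Lib.helper80.SNG

universe u

/-- **[DICKSON]** (from `Cfsg.Agent.S0799.result`) -/
theorem psl2_subgroup_types {G : Type u} [Group G] [Finite G] {n : ℕ} (hn : 2 ≤ n)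
    (hp : (2 ^ n - 1).Prime)
    (e : G ≃* Matrix.ProjectiveSpecialLinearGroup (Fin 2) (GaloisField 2 n))
    (K : Subgroup G) (hK : ¬ IsMulCommutative K) :
    (∃ k : ℕ, Odd k ∧ Nonempty (K ≃* DihedralGroup k)) ∨
    (∃ (P : Sylow 2 G) (K' : Subgroup G),
        K' ≤ Subgroup.normalizer ((P : Subgroup G) : Set G) ∧ Nonempty (K ≃* K')) ∨
    Nonempty (K ≃* alternatingGroup (Fin 4)) ∨ Nonempty (K ≃* Equiv.Perm (Fin 4)) ∨
    Nonempty (K ≃* alternatingGroup (Fin 5)) ∨ Nat.card K = 6 ∨ K = ⊤ := by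
  classical
  have : Fact (Nat.Prime 2) := ⟨Nat.prime_two⟩
  letI : Fintype (GaloisField 2 n) := Fintype.ofFinite _
  have hnp : n.Prime := (Nat.prime_of_pow_sub_one_prime (by omega) hp).2
  have hq : Fintype.card (GaloisField 2 n) = 2 ^ n := by
    rw [← Nat.card_eq_fintype_card]
    exact GaloisField.card 2 n (by omega)
  have h2F : (2 : GaloisField 2 n) = 0 := by
    have := CharP.cast_eq_zero (GaloisField 2 n) 2
    exact_mod_cast this
  have hcardG : Nat.card G = 2 ^ n * ((2 ^ n) ^ 2 - 1) := by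
    rw [Nat.card_congr e.toEquiv,
      ← Nat.card_congr (Cfsg.Agent.Lib.helper81.h81_sl2_equiv_psl2 h2F).toEquiv]
    exact Cfsg.Agent.Lib.helper7.card_SL2 hq
  have heven : Even (2 ^ n) := Nat.even_pow.mpr ⟨even_two, by omega⟩
  have hpos : 1 ≤ 2 ^ n := Nat.one_le_two_pow
  have hodd1 : Odd (2 ^ n - 1) := Nat.Even.sub_odd hpos heven odd_one
  have hodd2 : Odd (2 ^ n + 1) := heven.add_one
  rcases Cfsg.Agent.S0799.result hq 2 (K.map e.toMonoidHom) with
    ⟨k, hk, hcd⟩ | ⟨P, K', hK', ⟨f⟩⟩ | ⟨⟨f⟩⟩ | ⟨⟨f⟩⟩ | ⟨⟨f⟩⟩ | ⟨K₁, instF, instFt, m, hm, hfm⟩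
  · -- cyclic or dihedral
    have hgcd : Nat.gcd 2 (2 ^ n - 1) = 1 :=
      Nat.Coprime.gcd_eq_one
        ((Nat.Prime.coprime_iff_not_dvd Nat.prime_two).mpr hodd1.not_two_dvd_nat)
    rw [hgcd, Nat.div_one, Nat.div_one] at hk
    have hodd : Odd k := by
      rcases hk with hk | hk
      · exact Odd.of_dvd_nat hodd2 hk
      · exact Odd.of_dvd_nat hodd1 hk
    rcases hcd with ⟨hcyc, -⟩ | ⟨⟨f⟩⟩
    · exfalso
      apply hK
      have hc : IsMulCommutative (K.map e.toMonoidHom) := by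
        rw [comm_iff_top]
        obtain ⟨g, hg⟩ := hcyc.exists_generator
        intro a b
        obtain ⟨i, rfl⟩ := Subgroup.mem_zpowers_iff.mp (hg a)
        obtain ⟨j, rfl⟩ := Subgroup.mem_zpowers_iff.mp (hg b)
        exact zpow_mul_comm g i j
      exact comm_of_mulEquiv (e.subgroupMap K).symm hc
    · left
      exact ⟨k, hodd, ⟨(e.subgroupMap K).trans f⟩⟩
  · -- inside the normalizer of a Sylow 2-subgroup
    right; left
    have hrange : (P : Subgroup (Matrix.ProjectiveSpecialLinearGroup (Fin 2) (GaloisField 2 n))) ≤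
        e.toMonoidHom.range := fun y _ => ⟨e.symm y, e.apply_symm_apply y⟩
    have hinj : Function.Injective (e.toMonoidHom : G →* _) := e.injective
    have hmemP : ∀ y : G, y ∈ ((P.comapOfInjective e.toMonoidHom hinj hrange : Sylow 2 G) :
        Subgroup G) ↔ e y ∈ (P : Subgroup _) := by
      intro y
      rw [Sylow.coe_comapOfInjective]
      exact Subgroup.mem_comap
    refine ⟨P.comapOfInjective e.toMonoidHom hinj hrange, K'.map e.symm.toMonoidHom, ?_,
      ⟨((e.subgroupMap K).trans f).trans (e.symm.subgroupMap K')⟩⟩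
    rintro g ⟨k', hk', rfl⟩
    rw [Subgroup.mem_normalizer_iff]
    intro y
    rw [hmemP, hmemP]
    have h1 := Subgroup.mem_normalizer_iff.mp (hK' hk') (e y)
    have h2 : e (e.symm.toMonoidHom k' * y * (e.symm.toMonoidHom k')⁻¹) = k' * e y * k'⁻¹ := by
      simp
    rw [h2]
    exact h1
  · right; right; left
    exact ⟨(e.subgroupMap K).trans f⟩
  · right; right; right; left
    exact ⟨(e.subgroupMap K).trans f⟩
  · right; right; right; right; left
    exact ⟨(e.subgroupMap K).trans f⟩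
  · -- subfield subgroups
    right; right; right; right; right
    obtain ⟨r, hchar, f, hr, hcard⟩ := FiniteField.card' (K := K₁)
    have hm0 : m ≠ 0 := by
      rintro rfl
      rw [pow_zero] at hm
      have : 1 < 2 ^ n := Nat.one_lt_two_pow (by omega)
      omega
    have hfpos : 0 < (f : ℕ) := f.pos
    rw [hcard, ← pow_mul] at hm
    have hr2 : r = 2 := by
      have h1 : r ∣ 2 ^ n := by
        rw [← hm]
        exact dvd_pow_self r (Nat.mul_ne_zero hfpos.ne' hm0)
      exact (Nat.prime_dvd_prime_iff_eq hr Nat.prime_two).mp (hr.dvd_of_dvd_pow h1)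
    subst hr2
    have hfm' : (f : ℕ) * m = n := Nat.pow_right_injective (le_refl 2) hm
    haveI := hchar
    have h2K : (2 : K₁) = 0 := by
      have := CharP.cast_eq_zero K₁ 2
      exact_mod_cast this
    obtain ⟨e2⟩ := Cfsg.Agent.Lib.helper16.sl2_mulEquiv_pgl2 K₁
    have hiso : Nonempty (K.map e.toMonoidHom ≃* Matrix.SpecialLinearGroup (Fin 2) K₁) := by
      rcases hfm with ⟨⟨g⟩⟩ | ⟨⟨g⟩⟩
      · exact ⟨g.trans (Cfsg.Agent.Lib.helper81.h81_sl2_equiv_psl2 h2K).symm⟩
      · exact ⟨g.trans e2.symm⟩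
    obtain ⟨g⟩ := hiso
    have hcardK : Nat.card K = 2 ^ (f : ℕ) * ((2 ^ (f : ℕ)) ^ 2 - 1) := by
      rw [Nat.card_congr ((e.subgroupMap K).trans g).toEquiv]
      exact Cfsg.Agent.Lib.helper7.card_SL2 hcard
    rcases (Nat.dvd_prime hnp).mp ⟨m, hfm'.symm⟩ with hf1 | hfn
    · left
      rw [hcardK, hf1]
      norm_num
    · right
      apply Subgroup.eq_top_of_card_eq
      rw [hcardK, hfn, hcardG]

end Cfsg.Agent.Lib.helper80.SNG
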