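import Mathlib
import Cfsg.Agent.Lib.helper49.SPEDefs

/-! S2333 piece ECOUNT (architect helper49): `card_indep` (racer copy, prefixed `h80_`). -/

set_option autoImplicit false

namespace Cfsg.Agent.Lib.helper49.SPE

open Matrix

theorem h80_indep_of_not_smul {F : Type*} [Field F] {n : ℕ} (u v : Fin n → F) (hu : u ≠ 0)
    (hv : ¬ ∃ κ : F, κ • u = v) : Indep u v := by
  intro s t hst
  have ht : t = 0 := by
    by_contra ht
    apply hv
    refine ⟨-(t⁻¹ * s), ?_⟩
    have h1 : t • v = -(s • u) := eq_neg_of_add_eq_zero_right hst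
    have h2 : v = t⁻¹ • (t • v) := by rw [smul_smul, inv_mul_cancel₀ ht, one_smul]
    rw [h2, h1, smul_neg, smul_smul, neg_smul]
  subst ht
  rw [zero_smul, add_zero] at hst
  rcases smul_eq_zero.1 hst with h | h
  · exact ⟨h, rfl⟩
  · exact absurd h hu

/-- ECOUNT (L) -/
theorem h80_card_indep {F : Type*} [Field F] [Fintype F] {n : ℕ} :
    (Fintype.card F ^ n - 1) * (Fintype.card F ^ n - Fintype.card F) ≤
      Nat.card {p : (Fin n → F) × (Fin n → F) // Indep p.1 p.2} := by
  classical
  have hV : Fintype.card (Fin n → F) = Fintype.card F ^ n := by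
    rw [Fintype.card_fun, Fintype.card_fin]
  have key : ∀ u : Fin n → F, u ≠ 0 →
      Fintype.card F ^ n - Fintype.card F ≤
        (Finset.univ.filter (fun v : Fin n → F => Indep u v)).card := by
    intro u hu
    have hsub : (Finset.univ.image (fun κ : F => κ • u))ᶜ ⊆
        Finset.univ.filter (fun v : Fin n → F => Indep u v) := by
      intro v hv
      rw [Finset.mem_compl, Finset.mem_image] at hv
      rw [Finset.mem_filter]
      refine ⟨Finset.mem_univ _, h80_indep_of_not_smul u v hu ?_⟩
      rintro ⟨κ, hκ⟩
      exact hv ⟨κ, Finset.mem_univ _, hκ⟩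
    have hle : (Finset.univ.image (fun κ : F => κ • u)).card ≤ Fintype.card F :=
      Finset.card_image_le
    calc Fintype.card F ^ n - Fintype.card F
        ≤ Fintype.card (Fin n → F) - (Finset.univ.image (fun κ : F => κ • u)).card := by
          rw [hV]
          exact Nat.sub_le_sub_left hle _
      _ = ((Finset.univ.image (fun κ : F => κ • u))ᶜ).card := (Finset.card_compl _).symm
      _ ≤ _ := Finset.card_le_card hsub
  have h1 : Nat.card {p : (Fin n → F) × (Fin n → F) // Indep p.1 p.2} =
      (Finset.univ.filter (fun p : (Fin n → F) × (Fin n → F) => Indep p.1 p.2)).card := by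
    rw [Nat.card_eq_fintype_card, Fintype.card_subtype]
  have h2 : (Finset.univ.filter (fun p : (Fin n → F) × (Fin n → F) => Indep p.1 p.2)).card =
      ∑ u : Fin n → F, (Finset.univ.filter (fun v : Fin n → F => Indep u v)).card := by
    simp only [Finset.card_filter, Fintype.sum_prod_type]
  rw [h1, h2]
  have h3 : (Finset.univ.erase (0 : Fin n → F)).card = Fintype.card F ^ n - 1 := by
    rw [Finset.card_erase_of_mem (Finset.mem_univ _), Finset.card_univ, hV]
  calc (Fintype.card F ^ n - 1) * (Fintype.card F ^ n - Fintype.card F)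
      = (Finset.univ.erase (0 : Fin n → F)).card • (Fintype.card F ^ n - Fintype.card F) := by
        rw [h3, smul_eq_mul]
    _ ≤ ∑ u ∈ Finset.univ.erase (0 : Fin n → F),
          (Finset.univ.filter (fun v : Fin n → F => Indep u v)).card :=
        Finset.card_nsmul_le_sum _ _ _ (fun u hu => key u (Finset.ne_of_mem_erase hu))
    _ ≤ ∑ u : Fin n → F, (Finset.univ.filter (fun v : Fin n → F => Indep u v)).card :=
        Finset.sum_le_sum_of_subset (Finset.erase_subset _ _)

end Cfsg.Agent.Lib.helper49.SPE
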