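import Mathlib
import Cfsg.Agent.Lib.helper49.SPEDefs

/-! S2333 piece THCARD (architect helper49): `card_hyp_triples` (racer copy, prefixed `h80_`). -/

set_option autoImplicit false

namespace Cfsg.Agent.Lib.helper49.SPE

open Matrix

theorem h80_fib2 {F : Type*} [Field F] [DecidableEq F] (a b c : F) (ha : a ≠ 0) (s : Finset F)
    (hs : ∀ t ∈ s, a * t ^ 2 + b * t = c) : s.card ≤ 2 := by
  rcases s.eq_empty_or_nonempty with h | ⟨t₁, ht₁⟩
  · rw [h]; simp
  · have hsub : s ⊆ {t₁, -b / a - t₁} := by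
      intro t ht
      rw [Finset.mem_insert, Finset.mem_singleton]
      have e : (t - t₁) * (a * (t + t₁) + b) = 0 := by
        have h1 := hs t ht
        have h2 := hs t₁ ht₁
        linear_combination h1 - h2
      rcases mul_eq_zero.1 e with h | h
      · left; exact sub_eq_zero.1 h
      · right
        rw [eq_sub_iff_add_eq, eq_div_iff ha]
        linear_combination h
    exact (Finset.card_le_card hsub).trans Finset.card_le_two

theorem h80_thc_arith (q X Y : ℕ) (hq : 1 ≤ q) (hX : (q - 1) * q ≤ X)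
    (hY : (q - 1) * ((q - 1) * q) ≤ 2 * Y) : q * (q - 1) * (q + 1) ≤ 2 * (X + Y) := by
  obtain ⟨m, rfl⟩ : ∃ m, q = m + 1 := ⟨q - 1, by omega⟩
  simp only [Nat.add_sub_cancel] at hX hY ⊢
  have e : (m + 1) * m * (m + 1 + 1) = 2 * (m * (m + 1)) + m * (m * (m + 1)) := by ring
  rw [e]
  omega

/-- THCARD (M/L) -/
theorem h80_card_hyp_triples {F : Type*} [Field F] [Fintype F] (h2 : (2 : F) = 0) :
    Fintype.card F * (Fintype.card F - 1) * (Fintype.card F + 1) ≤
      2 * Nat.card {p : F × F × F //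
        p.2.1 ≠ 0 ∧ (p.1 = 0 ∨ ∃ t : F, p.1 * t ^ 2 + p.2.1 * t + p.2.2 = 0)} := by
  classical
  set T : Finset (F × F × F) := Finset.univ.filter (fun p : F × F × F =>
      p.2.1 ≠ 0 ∧ (p.1 = 0 ∨ ∃ t : F, p.1 * t ^ 2 + p.2.1 * t + p.2.2 = 0)) with hT
  have hcard : Nat.card {p : F × F × F //
        p.2.1 ≠ 0 ∧ (p.1 = 0 ∨ ∃ t : F, p.1 * t ^ 2 + p.2.1 * t + p.2.2 = 0)} = T.card := by
    rw [Nat.card_eq_fintype_card, Fintype.card_subtype]
  rw [hcard]
  set E : Finset F := Finset.univ.erase 0 with hE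
  have hEc : E.card = Fintype.card F - 1 := by
    rw [hE, Finset.card_erase_of_mem (Finset.mem_univ _), Finset.card_univ]
  have hEm : ∀ x : F, x ∈ E → x ≠ 0 := by
    intro x hx
    rw [hE] at hx
    exact Finset.ne_of_mem_erase hx
  -- the part `a = 0`
  have h0 : (E ×ˢ (Finset.univ : Finset F)).card ≤ (T.filter (fun p => p.1 = 0)).card := by
    apply Finset.card_le_card_of_injOn (fun x : F × F => ((0 : F), x.1, -(x.1 * x.2)))
    · intro x hx
      have hx' := Finset.mem_product.1 (Finset.mem_coe.1 hx)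
      exact Finset.mem_coe.2 (Finset.mem_filter.2 ⟨Finset.mem_filter.2
        ⟨Finset.mem_univ _, hEm _ hx'.1, Or.inl rfl⟩, rfl⟩)
    · intro x hx y hy h
      have hx' := Finset.mem_product.1 (Finset.mem_coe.1 hx)
      have h1 : x.1 = y.1 := congrArg (fun p : F × F × F => p.2.1) h
      have h3 : -(x.1 * x.2) = -(y.1 * y.2) := congrArg (fun p : F × F × F => p.2.2) h
      have h4 : x.1 * x.2 = x.1 * y.2 := by rw [neg_inj.1 h3, h1]
      exact Prod.ext h1 (mul_left_cancel₀ (hEm _ hx'.1) h4)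
  -- the part `a ≠ 0`
  have h1 : (E ×ˢ E ×ˢ (Finset.univ : Finset F)).card ≤
      2 * (T.filter (fun p => ¬ p.1 = 0)).card := by
    apply Finset.card_le_mul_card_image_of_maps_to
      (f := fun x : F × F × F => (x.1, x.2.1, -(x.1 * x.2.2 ^ 2 + x.2.1 * x.2.2)))
    · intro x hx
      rw [Finset.mem_product, Finset.mem_product] at hx
      obtain ⟨ha, hb, -⟩ := hx
      refine Finset.mem_filter.2 ⟨Finset.mem_filter.2
        ⟨Finset.mem_univ _, hEm _ hb, Or.inr ⟨x.2.2, ?_⟩⟩, hEm _ ha⟩
      ring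
    · intro y hy
      have hy1 : y.1 ≠ 0 := (Finset.mem_filter.1 hy).2
      have hinj : Set.InjOn (fun x : F × F × F => x.2.2)
          (((E ×ˢ E ×ˢ (Finset.univ : Finset F)).filter (fun x : F × F × F =>
            (x.1, x.2.1, -(x.1 * x.2.2 ^ 2 + x.2.1 * x.2.2)) = y) : Finset (F × F × F)) :
            Set (F × F × F)) := by
        intro x hx x' hx' hxx
        have e := (Finset.mem_filter.1 (Finset.mem_coe.1 hx)).2
        have e' := (Finset.mem_filter.1 (Finset.mem_coe.1 hx')).2
        have e1 : x.1 = x'.1 := (congrArg Prod.fst e).trans (congrArg Prod.fst e').symm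
        have e2 : x.2.1 = x'.2.1 :=
          (congrArg (fun p : F × F × F => p.2.1) e).trans
            (congrArg (fun p : F × F × F => p.2.1) e').symm
        exact Prod.ext e1 (Prod.ext e2 hxx)
      rw [← Finset.card_image_of_injOn hinj]
      apply h80_fib2 y.1 y.2.1 (-y.2.2) hy1
      intro t ht
      obtain ⟨x, hx, rfl⟩ := Finset.mem_image.1 ht
      have e := (Finset.mem_filter.1 hx).2
      have e1 : x.1 = y.1 := (congrArg Prod.fst e :)
      have e2 : x.2.1 = y.2.1 := (congrArg (fun p : F × F × F => p.2.1) e :)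
      have e3 : -(x.1 * x.2.2 ^ 2 + x.2.1 * x.2.2) = y.2.2 :=
        (congrArg (fun p : F × F × F => p.2.2) e :)
      rw [← e1, ← e2, ← e3, neg_neg]
  have hsplit := Finset.card_filter_add_card_filter_not (s := T) (fun p : F × F × F => p.1 = 0)
  have hc0 : (E ×ˢ (Finset.univ : Finset F)).card = (Fintype.card F - 1) * Fintype.card F := by
    rw [Finset.card_product, hEc, Finset.card_univ]
  have hc1 : (E ×ˢ E ×ˢ (Finset.univ : Finset F)).card =
      (Fintype.card F - 1) * ((Fintype.card F - 1) * Fintype.card F) := by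
    rw [Finset.card_product, Finset.card_product, hEc, Finset.card_univ]
  rw [hc0] at h0
  rw [hc1] at h1
  have hfin := h80_thc_arith (Fintype.card F) _ _ Fintype.card_pos h0 h1
  rw [hsplit] at hfin
  exact hfin

end Cfsg.Agent.Lib.helper49.SPE
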