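import Mathlib
import Cfsg.Agent.Lib.helper45.SVDefs

/-!
# S2425 piece HALL (racing copy): Philip Hall's theorem
-/

set_option autoImplicit false

namespace Cfsg.Agent.Lib.helper45.SV

open Classical in
/-- The chains strictly between `⊥` and `b`. -/
noncomputable def h80_chainsBelow {α : Type*} [PartialOrder α] [OrderBot α] [Fintype α] (b : α) :
    Finset (Finset α) :=
  Finset.univ.filter (fun c => IsChain (· ≤ ·) (c : Set α) ∧ ∀ a ∈ c, ⊥ < a ∧ a < b)

theorem h80_mem_chainsBelow {α : Type*} [PartialOrder α] [OrderBot α] [Fintype α] (b : α)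
    (c : Finset α) :
    c ∈ h80_chainsBelow b ↔ IsChain (· ≤ ·) (c : Set α) ∧ ∀ a ∈ c, ⊥ < a ∧ a < b := by
  unfold h80_chainsBelow
  simp only [Finset.mem_filter, Finset.mem_univ, true_and]

theorem h80_card_maxes {α : Type*} [PartialOrder α] [DecidableEq α] (c : Finset α)
    (hc : IsChain (· ≤ ·) (c : Set α)) [DecidablePred fun x => ∀ a ∈ c, a ≤ x] :
    (c.filter (fun x => ∀ a ∈ c, a ≤ x)).card = if c = ∅ then 0 else 1 := by
  split_ifs with h0
  · subst h0; simp
  · obtain ⟨m, hm, hmax⟩ := c.exists_maximal (Finset.nonempty_iff_ne_empty.mpr h0)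
    have hle : ∀ a ∈ c, a ≤ m := by
      intro a ha
      rcases hc.total (Finset.mem_coe.2 ha) (Finset.mem_coe.2 hm) with h | h
      · exact h
      · exact hmax ha h
    rw [Finset.card_eq_one]
    refine ⟨m, ?_⟩
    ext x
    simp only [Finset.mem_filter, Finset.mem_singleton]
    constructor
    · rintro ⟨hx, hxmax⟩
      exact le_antisymm (hle x hx) (hxmax m hm)
    · rintro rfl
      exact ⟨hm, hle⟩

theorem h80_hall_aux {α : Type*} [PartialOrder α] [BoundedOrder α] [Fintype α] [DecidableEq α]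
    [LocallyFiniteOrder α] (b : α) (hb : ⊥ < b) :
    IncidenceAlgebra.mu ℤ (⊥ : α) b = ∑ c ∈ h80_chainsBelow b, (-1 : ℤ) ^ (c.card + 1) := by
  classical
  induction b using WellFoundedLT.induction with
  | ind b ih =>
    have hsplit : ∀ c ∈ h80_chainsBelow b, (-1 : ℤ) ^ (c.card + 1) =
        (if c = ∅ then (-1 : ℤ) else 0) +
          ∑ _x ∈ c.filter (fun x => ∀ a ∈ c, a ≤ x), (-1 : ℤ) ^ (c.card + 1) := by
      intro c hc
      rw [Finset.sum_const, h80_card_maxes c ((h80_mem_chainsBelow b c).1 hc).1]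
      split_ifs with h0
      · subst h0; simp
      · simp
    have hA : ∑ c ∈ h80_chainsBelow b, (if c = ∅ then (-1 : ℤ) else 0) = -1 := by
      rw [Finset.sum_ite_eq' (h80_chainsBelow b) ∅ (fun _ => (-1 : ℤ)), if_pos]
      rw [h80_mem_chainsBelow]
      refine ⟨?_, ?_⟩
      · rw [Finset.coe_empty]; exact Set.Subsingleton.isChain Set.subsingleton_empty
      · intro a ha; simp at ha
    have hB : ∑ c ∈ h80_chainsBelow b, ∑ _x ∈ c.filter (fun x => ∀ a ∈ c, a ≤ x),
          (-1 : ℤ) ^ (c.card + 1) =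
        ∑ x ∈ Finset.Ioo ⊥ b, ∑ c ∈ (h80_chainsBelow b).filter
          (fun c => x ∈ c ∧ ∀ a ∈ c, a ≤ x), (-1 : ℤ) ^ (c.card + 1) := by
      apply Finset.sum_comm'
      intro c x
      simp only [Finset.mem_filter, Finset.mem_Ioo, h80_mem_chainsBelow]
      constructor
      · rintro ⟨⟨hch, hel⟩, hx, hmax⟩
        exact ⟨⟨⟨hch, hel⟩, hx, hmax⟩, hel x hx⟩
      · rintro ⟨⟨⟨hch, hel⟩, hx, hmax⟩, _⟩
        exact ⟨⟨hch, hel⟩, hx, hmax⟩
    have hC : ∀ x ∈ Finset.Ioo ⊥ b, ∑ c ∈ (h80_chainsBelow b).filter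
          (fun c => x ∈ c ∧ ∀ a ∈ c, a ≤ x), (-1 : ℤ) ^ (c.card + 1) =
        -∑ c ∈ h80_chainsBelow x, (-1 : ℤ) ^ (c.card + 1) := by
      intro x hx
      rw [Finset.mem_Ioo] at hx
      rw [← Finset.sum_neg_distrib]
      apply Finset.sum_nbij' (fun c => c.erase x) (fun c => insert x c)
      · intro c hc
        simp only [Finset.mem_filter, h80_mem_chainsBelow] at hc ⊢
        obtain ⟨⟨hch, hel⟩, hxc, hmax⟩ := hc
        refine ⟨hch.mono (by rw [Finset.coe_erase]; exact Set.sdiff_subset), ?_⟩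
        intro a ha
        rw [Finset.mem_erase] at ha
        exact ⟨(hel a ha.2).1, lt_of_le_of_ne (hmax a ha.2) ha.1⟩
      · intro c hc
        simp only [Finset.mem_filter, h80_mem_chainsBelow] at hc ⊢
        obtain ⟨hch, hel⟩ := hc
        refine ⟨⟨?_, ?_⟩, Finset.mem_insert_self x c, ?_⟩
        · rw [Finset.coe_insert]
          apply hch.insert
          intro a ha _
          exact Or.inr (le_of_lt (hel a (Finset.mem_coe.1 ha)).2)
        · intro a ha
          rw [Finset.mem_insert] at ha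
          rcases ha with rfl | ha
          · exact hx
          · exact ⟨(hel a ha).1, lt_trans (hel a ha).2 hx.2⟩
        · intro a ha
          rw [Finset.mem_insert] at ha
          rcases ha with rfl | ha
          · exact le_rfl
          · exact le_of_lt (hel a ha).2
      · intro c hc
        simp only [Finset.mem_filter] at hc
        exact Finset.insert_erase hc.2.1
      · intro c hc
        rw [h80_mem_chainsBelow] at hc
        exact Finset.erase_insert (fun hxc => lt_irrefl x (hc.2 x hxc).2)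
      · intro c hc
        simp only [Finset.mem_filter] at hc
        have h1 : (c.erase x).card + 1 = c.card := by
          rw [Finset.card_erase_of_mem hc.2.1]
          have : 0 < c.card := Finset.card_pos.mpr ⟨x, hc.2.1⟩
          omega
        rw [h1, pow_succ]
        ring
    have hrec : ∑ c ∈ h80_chainsBelow b, (-1 : ℤ) ^ (c.card + 1) =
        -1 - ∑ x ∈ Finset.Ioo ⊥ b, ∑ c ∈ h80_chainsBelow x, (-1 : ℤ) ^ (c.card + 1) := by
      rw [Finset.sum_congr rfl hsplit, Finset.sum_add_distrib, hA, hB, Finset.sum_congr rfl hC,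
        Finset.sum_neg_distrib]
      ring
    rw [IncidenceAlgebra.mu_eq_neg_sum_Ico_of_ne (ne_of_lt hb), hrec,
      ← Finset.Ioo_insert_left hb, Finset.sum_insert (by simp), IncidenceAlgebra.mu_self,
      Finset.sum_congr rfl (fun x hx => ih x (Finset.mem_Ioo.1 hx).2 (Finset.mem_Ioo.1 hx).1)]
    ring

/-- HALL (racing copy). Philip Hall's theorem. -/
theorem h80_hall {α : Type*} [PartialOrder α] [BoundedOrder α] [Fintype α] [DecidableEq α]
    [LocallyFiniteOrder α] (h : (⊥ : α) ≠ ⊤) :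
    IncidenceAlgebra.mu ℤ (⊥ : α) ⊤ = ∑ᶠ c ∈ chainsOO α, (-1 : ℤ) ^ (c.card + 1) := by
  rw [h80_hall_aux ⊤ (lt_of_le_of_ne bot_le h)]
  have hset : chainsOO α = ((h80_chainsBelow (⊤ : α) : Finset (Finset α)) : Set (Finset α)) := by
    ext c
    simp only [chainsOO, Set.mem_ofPred_eq, Finset.mem_coe, h80_mem_chainsBelow,
      bot_lt_iff_ne_bot, lt_top_iff_ne_top]
  rw [hset, finsum_mem_coe_finset]

end Cfsg.Agent.Lib.helper45.SV
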