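import Mathlib
import Cfsg.Agent.Lib.helper45.SVDefs

/-!
# S2425 piece W (racing copy): Weisner's theorem
-/

set_option autoImplicit false

namespace Cfsg.Agent.Lib.helper45.SV

/-- W (racing copy). Weisner's theorem. -/
theorem h80_weisner {α : Type*} [Lattice α] [BoundedOrder α] [Fintype α] [DecidableEq α]
    [LocallyFiniteOrder α] (a : α) (ha : a ≠ ⊥) :
    ∑ x ∈ Finset.univ.filter (fun x : α => x ⊔ a = ⊤), IncidenceAlgebra.mu ℤ ⊥ x = 0 := by
  classical
  have h1 : ∀ x : α, (if x ⊔ a = ⊤ then (1 : ℤ) else 0) =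
      ∑ z : α, if x ⊔ a ≤ z then IncidenceAlgebra.mu ℤ z ⊤ else 0 := by
    intro x
    rw [← IncidenceAlgebra.sum_Icc_mu_left (𝕜 := ℤ) (x ⊔ a) ⊤, ← Finset.sum_filter]
    apply Finset.sum_congr
    · ext z; simp
    · intros; rfl
  have h2 : ∀ z : α, (if (⊥ : α) = z then (1 : ℤ) else 0) =
      ∑ x : α, if x ≤ z then IncidenceAlgebra.mu ℤ ⊥ x else 0 := by
    intro z
    rw [← IncidenceAlgebra.sum_Icc_mu_right (𝕜 := ℤ) ⊥ z, ← Finset.sum_filter]
    apply Finset.sum_congr
    · ext x; simp
    · intros; rfl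
  calc ∑ x ∈ Finset.univ.filter (fun x : α => x ⊔ a = ⊤), IncidenceAlgebra.mu ℤ ⊥ x
      = ∑ x : α, IncidenceAlgebra.mu ℤ ⊥ x * (if x ⊔ a = ⊤ then (1 : ℤ) else 0) := by
        rw [Finset.sum_filter]
        apply Finset.sum_congr rfl
        intro x _
        split_ifs <;> simp
    _ = ∑ x : α, ∑ z : α, if x ⊔ a ≤ z then
          IncidenceAlgebra.mu ℤ ⊥ x * IncidenceAlgebra.mu ℤ z ⊤ else 0 := by
        apply Finset.sum_congr rfl
        intro x _
        rw [h1 x, Finset.mul_sum]
        apply Finset.sum_congr rfl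
        intro z _
        split_ifs <;> simp
    _ = ∑ z : α, ∑ x : α, if x ⊔ a ≤ z then
          IncidenceAlgebra.mu ℤ ⊥ x * IncidenceAlgebra.mu ℤ z ⊤ else 0 := Finset.sum_comm
    _ = ∑ z : α, (if a ≤ z then
          IncidenceAlgebra.mu ℤ z ⊤ * (if (⊥ : α) = z then (1 : ℤ) else 0) else 0) := by
        apply Finset.sum_congr rfl
        intro z _
        by_cases haz : a ≤ z
        · rw [if_pos haz, h2 z, Finset.mul_sum]
          apply Finset.sum_congr rfl
          intro x _
          by_cases hxz : x ≤ z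
          · rw [if_pos (sup_le hxz haz), if_pos hxz, mul_comm]
          · rw [if_neg (fun h => hxz (le_sup_left.trans h)), if_neg hxz, mul_zero]
        · rw [if_neg haz]
          apply Finset.sum_eq_zero
          intro x _
          rw [if_neg (fun h => haz (le_sup_right.trans h))]
    _ = 0 := by
        apply Finset.sum_eq_zero
        intro z _
        by_cases haz : a ≤ z
        · rw [if_pos haz, if_neg, mul_zero]
          rintro rfl
          exact ha (le_bot_iff.mp haz)
        · rw [if_neg haz]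

end Cfsg.Agent.Lib.helper45.SV
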