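import Mathlib
import Cfsg.Agent.Lib.helper24.SfuDefs
import Cfsg.Agent.Lib.helper24.SubfC
import Cfsg.Agent.Lib.helper48.SfuUMONO

/-!
# S5982 piece U2A (racing copy): characteristic two, `x ^ 2` scalar
-/

set_option autoImplicit false

namespace Cfsg.Agent.Lib.helper24

open Module Matrix Cfsg.Geo

/-- U2A (racing copy) -/
theorem h80_sfu_suff_two_char_two {F : Type*} [Field F] [Fintype F] {n : ℕ} (hn : 0 < n) (q₀ : ℕ)
    (hcard : Fintype.card F = q₀ ^ 2) (f : (Fin n → F) → (Fin n → F) → F)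
    (hf : IsUnitaryFormPow q₀ f) (h2 : (2 : F) = 0)
    (x : Matrix (Fin n) (Fin n) F) (hdet : x.det = 1) (z : F)
    (hx : x ^ 2 = z • (1 : Matrix (Fin n) (Fin n) F)) : SfuConj f x := by
  classical
  haveI : NeZero n := ⟨by omega⟩
  rw [pow_two] at hx
  have hz0 : z ≠ 0 := by
    rintro rfl
    rw [zero_smul] at hx
    have h1 : x.det * x.det = 0 := by
      haveI : Nonempty (Fin n) := ⟨0⟩
      rw [← Matrix.det_mul, hx, Matrix.det_zero]
    rw [hdet, one_mul] at h1
    exact one_ne_zero h1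
  obtain ⟨ι, hιf, hιd, b, π, lam, hlam0, hπ, hxb⟩ := subf_basis_char_two h2 x z hz0 hx
  have hne : Nonempty ι := by
    have h1 := Module.finrank_eq_card_basis b
    rw [Module.finrank_fin_fun] at h1
    exact Fintype.card_pos_iff.1 (by omega)
  obtain ⟨i₀⟩ := hne
  exact sfu_mono_conj q₀ hcard f hf x b π hπ lam hlam0 (fun i => by rw [hxb i, one_smul])
    (fun t ht => subf_weights π hπ i₀ t ht
      (Or.inr (FiniteField.isSquare_of_char_two (qe_two_eq_zero_iff.1 h2) t)))

end Cfsg.Agent.Lib.helper24
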