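import Cfsg.Agent.Lib.helper74.TBBasic

/-!
# SP-B (theorem TB) piece HT, hypothesis-passing form

`tb_herbrand_d1_of`: the statement of `tb_herbrand_d1` from the Herbrand quotient statement (HB)
for the lattice `L^K` (given as a hypothesis).
-/

set_option autoImplicit false

namespace Cfsg.Agent.Lib.helper74.TB

open Cfsg.Agent.Lib.helper84

section

variable {G : Type*} [Group G] {L : Type*} [AddCommGroup L]

/-- The stabilizer of a vector. -/
def tbhtStab (ρ : Representation ℤ G L) (v : L) : Subgroup G where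
  carrier := {g | ρ g v = v}
  mul_mem' := by
    intro a b ha hb
    have ha' : ρ a v = v := ha
    have hb' : ρ b v = v := hb
    show ρ (a * b) v = v
    rw [map_mul, Module.End.mul_apply, hb', ha']
  one_mem' := by
    show ρ 1 v = v
    rw [map_one, Module.End.one_apply]
  inv_mem' := by
    intro a ha
    have ha' : ρ a v = v := ha
    show ρ a⁻¹ v = v
    calc ρ a⁻¹ v = ρ a⁻¹ (ρ a v) := by rw [ha']
      _ = v := by
        rw [← Module.End.mul_apply, ← map_mul, inv_mul_cancel, map_one, Module.End.one_apply]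

theorem tbht_fix_zpowers (ρ : Representation ℤ G L) (x₀ : G) (v : L) (h : ρ x₀ v = v) (y : G)
    (hy : y ∈ Subgroup.zpowers x₀) : ρ y v = v := by
  have h1 : Subgroup.zpowers x₀ ≤ tbhtStab ρ v := by
    rw [Subgroup.zpowers_le]
    exact h
  exact h1 hy

end

section setting

variable {G : Type*} [Group G] [Fintype G] (p : ℕ) [Fact p.Prime] (P : Sylow p G)
  (hP : Nat.card P = p) {L : Type*} [AddCommGroup L] (ρ : Representation ℤ G L)

include hP

/-- The restriction of a generator of `P` to `L^K` and its properties. -/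
theorem tbht_gen :
    ∃ x : ↥(d1FixK p ρ (P : Subgroup G)) →ₗ[ℤ] ↥(d1FixK p ρ (P : Subgroup G)),
      x ^ p = 1 ∧
      (LinearMap.ker (x - 1)).map (d1FixK p ρ (P : Subgroup G)).subtype
        = d1FixC ρ (P : Subgroup G) ∧
      (LinearMap.range (∑ i ∈ Finset.range p, x ^ i)).map (d1FixK p ρ (P : Subgroup G)).subtype
        = tbSA p ρ (P : Subgroup G) ∧
      (LinearMap.ker (∑ i ∈ Finset.range p, x ^ i)).map (d1FixK p ρ (P : Subgroup G)).subtype
        = tbB p ρ (P : Subgroup G) ∧
      (LinearMap.range (x - 1)).map (d1FixK p ρ (P : Subgroup G)).subtype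
        = d1Aug p ρ (P : Subgroup G) := by
  classical
  have hp : p.Prime := Fact.out
  obtain ⟨x₀, hx₀, hx₀1, hord, hPx⟩ := Cfsg.Agent.Lib.helper46.d1_sylow_gen p P hP
  obtain ⟨K, hK, -, hPC, hdec⟩ := tb_centralizer_structure p P hP
  obtain ⟨hCK, hTrC, hTrp, -, -, -, hstab, -⟩ := tb_basic p P hP ρ
  let x : ↥(d1FixK p ρ (P : Subgroup G)) →ₗ[ℤ] ↥(d1FixK p ρ (P : Subgroup G)) :=
    (ρ x₀).restrict (fun u hu => hstab x₀ hx₀ u hu)
  have hx_apply : ∀ u : ↥(d1FixK p ρ (P : Subgroup G)),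
      ((x u : ↥(d1FixK p ρ (P : Subgroup G))) : L) = ρ x₀ (u : L) := fun u => rfl
  have hpow : ∀ (k : ℕ) (u : ↥(d1FixK p ρ (P : Subgroup G))),
      (((x ^ k) u : ↥(d1FixK p ρ (P : Subgroup G))) : L) = ρ (x₀ ^ k) (u : L) := by
    intro k
    induction k with
    | zero =>
      intro u
      rw [pow_zero, pow_zero, map_one, Module.End.one_apply, Module.End.one_apply]
    | succ k ih =>
      intro u
      rw [pow_succ, Module.End.mul_apply, ih, hx_apply, pow_succ, map_mul, Module.End.mul_apply]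
  have hxp : x ^ p = 1 := by
    have hx₀p : x₀ ^ p = 1 := hord ▸ pow_orderOf_eq_one x₀
    refine LinearMap.ext (fun u => Subtype.ext ?_)
    rw [hpow, hx₀p, map_one, Module.End.one_apply, Module.End.one_apply]
  have hN : ∀ u : ↥(d1FixK p ρ (P : Subgroup G)),
      (((∑ i ∈ Finset.range p, x ^ i) u : ↥(d1FixK p ρ (P : Subgroup G))) : L)
        = d1Tr ρ (P : Subgroup G) (u : L) := by
    intro u
    rw [LinearMap.sum_apply, AddSubmonoidClass.coe_finsetSum, tbb_tr_apply, ← Finset.sum_filter]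
    have hfilt : (Finset.univ.filter (fun y : G => y ∈ (P : Subgroup G)))
        = (Finset.range p).image (fun i : ℕ => x₀ ^ i) := by
      ext y
      rw [Finset.mem_filter, hPx, mem_zpowers_iff_mem_range_orderOf, hord]
      simp
    rw [hfilt, Finset.sum_image]
    · refine Finset.sum_congr rfl (fun i _ => ?_)
      rw [hpow]
    · intro i hi j hj hij
      have hinj := pow_injOn_Iio_orderOf (x := x₀)
      rw [hord] at hinj
      exact hinj (by simpa using hi) (by simpa using hj) hij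
  have hsub1 : ∀ u : ↥(d1FixK p ρ (P : Subgroup G)),
      (((x - 1) u : ↥(d1FixK p ρ (P : Subgroup G))) : L) = ρ x₀ (u : L) - (u : L) := by
    intro u
    rw [LinearMap.sub_apply, Module.End.one_apply, AddSubgroupClass.coe_sub, hx_apply]
  refine ⟨x, hxp, ?_, ?_, ?_, ?_⟩
  · -- ker (x - 1) is `L^C`
    ext v
    rw [Submodule.mem_map]
    constructor
    · rintro ⟨u, hu, rfl⟩
      rw [LinearMap.mem_ker] at hu
      have hfix : ρ x₀ (u : L) = (u : L) := by
        have h1 := congrArg Subtype.val hu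
        rw [hsub1] at h1
        exact sub_eq_zero.mp h1
      show ∀ c ∈ Subgroup.centralizer (((P : Subgroup G)) : Set G), ρ c (u : L) = (u : L)
      intro c hc
      obtain ⟨y, hy, k, hk, rfl⟩ := hdec c hc
      have hkfix : ρ k (u : L) = (u : L) := u.2 k ((hK k).mp hk).1 ((hK k).mp hk).2
      rw [map_mul, Module.End.mul_apply, hkfix]
      apply tbht_fix_zpowers ρ x₀ _ hfix y
      rw [← hPx]
      exact hy
    · intro hv
      refine ⟨⟨v, hCK hv⟩, ?_, rfl⟩
      rw [LinearMap.mem_ker]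
      apply Subtype.ext
      rw [hsub1]
      show ρ x₀ v - v = 0
      rw [hv x₀ (hPC hx₀), sub_self]
  · -- range N is `σ(L^K)`
    ext v
    rw [Submodule.mem_map, mem_tbSA]
    constructor
    · rintro ⟨u, hu, rfl⟩
      obtain ⟨w, rfl⟩ := LinearMap.mem_range.mp hu
      exact ⟨(w : L), w.2, (hN w).symm⟩
    · rintro ⟨u, hu, rfl⟩
      exact ⟨(∑ i ∈ Finset.range p, x ^ i) ⟨u, hu⟩, LinearMap.mem_range_self _ _, hN ⟨u, hu⟩⟩
  · -- ker N is `B`
    ext v
    rw [Submodule.mem_map, mem_tbB]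
    constructor
    · rintro ⟨u, hu, rfl⟩
      rw [LinearMap.mem_ker] at hu
      refine ⟨u.2, ?_⟩
      have h1 := congrArg Subtype.val hu
      rw [hN] at h1
      exact h1
    · rintro ⟨hv, hv0⟩
      refine ⟨⟨v, hv⟩, ?_, rfl⟩
      rw [LinearMap.mem_ker]
      apply Subtype.ext
      rw [hN]
      exact hv0
  · -- range (x - 1) is the augmentation submodule
    apply le_antisymm
    · rintro v hv
      rw [Submodule.mem_map] at hv
      obtain ⟨u, hu, rfl⟩ := hv
      obtain ⟨w, rfl⟩ := LinearMap.mem_range.mp hu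
      apply Submodule.subset_span
      exact ⟨x₀, hx₀, (w : L), w.2, hsub1 w⟩
    · unfold d1Aug
      rw [Submodule.span_le]
      rintro v ⟨y, hy, u, hu, rfl⟩
      have hy' : y ∈ Subgroup.zpowers x₀ := by
        rw [← hPx]
        exact hy
      rw [mem_zpowers_iff_mem_range_orderOf] at hy'
      obtain ⟨i, -, rfl⟩ := Finset.mem_image.mp hy'
      show ρ (x₀ ^ i) u - u ∈ _
      rw [SetLike.mem_coe, Submodule.mem_map]
      refine ⟨(x - 1) ((∑ j ∈ Finset.range i, x ^ j) ⟨u, hu⟩), LinearMap.mem_range_self _ _, ?_⟩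
      rw [← Module.End.mul_apply, mul_geom_sum]
      show ((((x ^ i - 1) ⟨u, hu⟩ : ↥(d1FixK p ρ (P : Subgroup G)))) : L) = ρ (x₀ ^ i) u - u
      rw [LinearMap.sub_apply, Module.End.one_apply, AddSubgroupClass.coe_sub, hpow]

/-- PIECE HT, from the Herbrand quotient statement (HB) for the lattice `L^K`. -/
theorem tb_herbrand_d1_of
    (hHB : ∀ x : ↥(d1FixK p ρ (P : Subgroup G)) →ₗ[ℤ] ↥(d1FixK p ρ (P : Subgroup G)),
      x ^ p = 1 →
      ∃ d0 d1 : ℕ,
        (LinearMap.range (∑ i ∈ Finset.range p, x ^ i)).toAddSubgroup.relIndex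
          (LinearMap.ker (x - 1)).toAddSubgroup = p ^ d0 ∧
        (LinearMap.range (x - 1)).toAddSubgroup.relIndex
          (LinearMap.ker (∑ i ∈ Finset.range p, x ^ i)).toAddSubgroup = p ^ d1 ∧
        ((p : ℤ) - 1) * ((d0 : ℤ) - d1)
          = p * (Module.finrank ℤ (LinearMap.ker (x - 1)) : ℤ)
            - Module.finrank ℤ ↥(d1FixK p ρ (P : Subgroup G))) :
    ∃ d0 d1 : ℕ, (tbV0 p ρ (P : Subgroup G)).toAddSubgroup.index = p ^ d0 ∧
      (tbV1 p ρ (P : Subgroup G)).toAddSubgroup.index = p ^ d1 ∧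
      ((p : ℤ) - 1) * ((d0 : ℤ) - d1)
        = p * (Module.finrank ℤ (d1FixC ρ (P : Subgroup G)) : ℤ)
          - Module.finrank ℤ (d1FixK p ρ (P : Subgroup G)) := by
  obtain ⟨x, hxp, h1, h2, h3, h4⟩ := tbht_gen p P hP ρ
  obtain ⟨d0, d1, hd0, hd1, hrank⟩ := hHB x hxp
  have hinj : Function.Injective
      ((d1FixK p ρ (P : Subgroup G)).subtype : ↥(d1FixK p ρ (P : Subgroup G)) →+ L) :=
    Subtype.val_injective
  refine ⟨d0, d1, ?_, ?_, ?_⟩
  · have e1 : (tbV0 p ρ (P : Subgroup G)).toAddSubgroup.index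
        = (tbSA p ρ (P : Subgroup G)).toAddSubgroup.relIndex
          (d1FixC ρ (P : Subgroup G)).toAddSubgroup := rfl
    rw [e1, ← h1, ← h2, Submodule.map_toAddSubgroup, Submodule.map_toAddSubgroup,
      AddSubgroup.relIndex_map_map_of_injective _ _ hinj]
    exact hd0
  · have e1 : (tbV1 p ρ (P : Subgroup G)).toAddSubgroup.index
        = (d1Aug p ρ (P : Subgroup G)).toAddSubgroup.relIndex
          (tbB p ρ (P : Subgroup G)).toAddSubgroup := rfl
    rw [e1, ← h3, ← h4, Submodule.map_toAddSubgroup, Submodule.map_toAddSubgroup,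
      AddSubgroup.relIndex_map_map_of_injective _ _ hinj]
    exact hd1
  · rw [hrank]
    have e2 : Module.finrank ℤ ↥(LinearMap.ker (x - 1))
        = Module.finrank ℤ ↥(d1FixC ρ (P : Subgroup G)) := by
      rw [← h1]
      exact (Submodule.equivMapOfInjective (d1FixK p ρ (P : Subgroup G)).subtype
        Subtype.val_injective (LinearMap.ker (x - 1))).finrank_eq
    rw [e2]

end setting

end Cfsg.Agent.Lib.helper74.TB
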