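import Cfsg.Agent.Lib.helper80.CentricNormal
import Cfsg.Agent.Lib.helper80.PairNormalizer
import Cfsg.Agent.S4657

/-!
# The block over a normal `p`-subgroup as a trace (helper80)

For a normal `p`-subgroup `P` of `G` and a Brauer pair `(P, e)` of the block `B`: the idempotent
of `B` is the sum of the distinct conjugates of the idempotent of `e`.
-/

set_option autoImplicit false

open Cfsg

namespace Cfsg.Agent.Lib.helper80

universe u

section Trace

variable {G : Type u} [Group G] [Fintype G] {p : ℕ} [Fact p.Prime] {M : Ideal AlgInt}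

open Cfsg.Agent.Lib.helper20

/-- Summing the conjugates of the idempotent of a block `e` of a normal subgroup `K` over the
group gives `|T|` times the idempotent of the orbit of `e`, where `T` is the stabilizer of `e`. -/
theorem sum_conj_subgroupBlockCoeff (hMp : M.IsPrime) (K : Subgroup G)
    (hK : ∀ x : G, x ∈ Subgroup.normalizer (K : Set G)) {e : Set (IrrCharacter K)}
    (he : IsPBlock M e) (T : Subgroup G) (hT : ∀ x : G, x ∈ T ↔ StabilizesBlock K e x) (g : G) :
    ∑ x : G, subgroupBlockCoeff K e (x⁻¹ * g * x)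
      = (Nat.card T : ℂ) * subgroupBlockCoeff K (orbSet K ⊤ e) g := by
  classical
  have : Fintype K := Fintype.ofFinite K
  have h1 : ∀ x : G, subgroupBlockCoeff K e (x⁻¹ * g * x)
      = subgroupBlockCoeff K (conjSet K x (hK x) e) g := by
    intro x
    have h2 := subgroupBlockCoeff_conjSet K x (hK x) e (x⁻¹ * g * x)
    rw [show x * (x⁻¹ * g * x) * x⁻¹ = g by group] at h2
    exact h2.symm
  simp_rw [h1]
  by_cases hg : g ∈ K
  · simp_rw [subgroupBlockCoeff_of_mem K _ hg, blockCoeff_eq_sum]
    rw [← Finset.mul_sum, Finset.sum_comm, mul_left_comm]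
    congr 1
    rw [Finset.mul_sum]
    apply Finset.sum_congr rfl
    intro ξ _
    by_cases hξ : ξ ∈ orbSet K ⊤ e
    · rw [if_pos hξ]
      obtain ⟨x₀, hn₀, -, hx₀⟩ := hξ
      rw [← Finset.sum_filter, Finset.sum_const, nsmul_eq_mul]
      congr 1
      have hcard : (Finset.univ.filter (fun x : G => ξ ∈ conjSet K x (hK x) e)).card
          = Fintype.card T := by
        rw [← Fintype.card_subtype]
        apply Fintype.card_congr
        have hfwd : ∀ x : G, ξ ∈ conjSet K x (hK x) e → x₀⁻¹ * x ∈ T := by
          intro x hx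
          rw [hT, stabilizesBlock_iff_eq hMp K _ (hK _) he]
          have e1 : conjSet K x (hK x) e = conjSet K x₀ (hK x₀) e := by
            rw [eq_blockOf_of_mem hMp (isPBlock_conjSet K x (hK x) he) hx,
              eq_blockOf_of_mem hMp (isPBlock_conjSet K x₀ (hK x₀) he) hx₀]
          rw [conjSet_mul K x₀⁻¹ x (hK _) (hK _) (hK _), e1,
            ← conjSet_mul K x₀⁻¹ x₀ (hK _) (hK _) (hK _),
            conjSet_congr K (inv_mul_cancel x₀) (hK _) (hK 1), conjSet_one]
        have hbwd : ∀ t : G, t ∈ T → ξ ∈ conjSet K (x₀ * t) (hK _) e := by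
          intro t ht
          rw [conjSet_mul K x₀ t (hK _) (hK _) (hK _),
            (stabilizesBlock_iff_eq hMp K t (hK t) he).mp ((hT t).mp ht)]
          rw [conjSet_congr K rfl (hK x₀) hn₀]
          exact hx₀
        exact
          { toFun := fun x => ⟨x₀⁻¹ * x.1, hfwd x.1 x.2⟩
            invFun := fun t => ⟨x₀ * t.1, hbwd t.1 t.2⟩
            left_inv := fun x => by
              apply Subtype.ext
              show x₀ * (x₀⁻¹ * x.1) = x.1
              group
            right_inv := fun t => by
              apply Subtype.ext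
              show x₀⁻¹ * (x₀ * t.1) = t.1
              group }
      rw [hcard, Nat.card_eq_fintype_card]
    · rw [if_neg hξ, mul_zero]
      apply Finset.sum_eq_zero
      intro x _
      rw [if_neg]
      intro hx
      exact hξ ⟨x, hK x, Subgroup.mem_top x, hx⟩
  · simp_rw [subgroupBlockCoeff_of_not_mem K _ hg]
    simp

/-- The idempotent of `B` is the trace of the idempotent of `e`, for a Brauer pair `(P, e)` of `B`
on a normal `p`-subgroup `P`. -/
theorem blockCoeff_eq_trace (hM : IsPModular p M) (P : Subgroup G) [hPn : P.Normal]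
    {B : Set (IrrCharacter G)} {e : Set (IrrCharacter (Subgroup.centralizer (P : Set G)))}
    (hBe : IsBrauerPairOf p M B P e) (T : Subgroup G)
    (hT : ∀ x : G, x ∈ T ↔ StabilizesBlock (Subgroup.centralizer (P : Set G)) e x) (g : G) :
    blockCoeff B g = (Nat.card T : ℂ)⁻¹ *
      ∑ x : G, subgroupBlockCoeff (Subgroup.centralizer (P : Set G)) e (x⁻¹ * g * x) := by
  classical
  have hMp := isPrime_of_isPModular hM
  have : Fintype (⊤ : Subgroup G) := Fintype.ofFinite _
  have : Fintype (Subgroup.centralizer (P : Set G)) := Fintype.ofFinite _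
  have hP : IsPGroup p P := hBe.1.1
  have he : IsPBlock M e := hBe.1.2
  have hPtop : ∀ x : G, x ∈ Subgroup.normalizer (P : Set G) := fun x => by
    rw [Subgroup.normalizer_eq_top_iff.mpr hPn]
    exact Subgroup.mem_top x
  have hK : ∀ x : G, x ∈ Subgroup.normalizer
      ((Subgroup.centralizer (P : Set G) : Subgroup G) : Set G) :=
    fun x => normalizer_le_normalizer_centralizer P (hPtop x)
  obtain ⟨F₀, hF₀, hcov⟩ := exists_cover hM P ⊤ hP le_top le_top (fun x _ => hPtop x) he
  have hB₁c : ∀ g : G, blockCoeff (blockMap Subgroup.topEquiv F₀) g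
      = subgroupBlockCoeff (Subgroup.centralizer (P : Set G))
          (orbSet (Subgroup.centralizer (P : Set G)) ⊤ e) g := by
    intro g
    rw [blockCoeff_blockMap]
    have h1 := hcov g
    rw [extFun_of_mem ⊤ _ (Subgroup.mem_top g)] at h1
    exact h1
  have hpair : IsBrauerPairOf p M (blockMap Subgroup.topEquiv F₀) P e := by
    refine ⟨hBe.1, isPBlock_blockMap _ hF₀, ?_⟩
    intro ξ hξ
    rw [brauerOmega_congr P (fun x _ => hB₁c x), brauerOmega_eq_om]
    have h1 : om (ξ : Subgroup.centralizer (P : Set G) → ℂ)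
        (fun x : Subgroup.centralizer (P : Set G) =>
          subgroupBlockCoeff (Subgroup.centralizer (P : Set G))
            (orbSet (Subgroup.centralizer (P : Set G)) ⊤ e) x)
        = om (ξ : Subgroup.centralizer (P : Set G) → ℂ)
          (blockCoeff (orbSet (Subgroup.centralizer (P : Set G)) ⊤ e)) :=
      om_congr _ (fun x => subgroupBlockCoeff_of_mem _ _ x.2)
    rw [h1, om_blockCoeff, if_pos (subset_orbSet _ _ e hξ), sub_self]
    exact memLocalIdeal_zero hMp
  obtain ⟨B₀, -, huniq⟩ := Cfsg.Agent.S4657.result p M hM P e hBe.1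
  rw [huniq B hBe, ← huniq _ hpair, hB₁c,
    sum_conj_subgroupBlockCoeff hMp _ hK he T hT g, ← mul_assoc, inv_mul_cancel₀, one_mul]
  have hT1 : (1 : G) ∈ T := Subgroup.one_mem T
  have : Nat.card T ≠ 0 := Nat.card_pos.ne'
  exact_mod_cast this

end Trace

end Cfsg.Agent.Lib.helper80
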